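import Mathlib
import Cfsg.Prelude.Def_Solvable
import Cfsg.Agent.Lib.helper38.RO1

/-!
# S4330, piece R2: cyclic products and the rank-two identity
-/

set_option autoImplicit false
open Pointwise

namespace Cfsg.Agent.Lib.helper38.RO

universe u v

section R2
variable {M : Type v} [CommGroup M]

theorem cycProd_one (c : MulAut M) (k : ℕ) : cycProd c k (1 : M) = 1 := by
  unfold cycProd
  simp

theorem cycProd_mul (c : MulAut M) (k : ℕ) (m m' : M) :
    cycProd c k (m * m') = cycProd c k m * cycProd c k m' := by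
  unfold cycProd
  rw [← Finset.prod_mul_distrib]
  simp

theorem cycProd_pow (c : MulAut M) (k : ℕ) (m : M) (j : ℕ) :
    cycProd c k (m ^ j) = cycProd c k m ^ j := by
  unfold cycProd
  rw [← Finset.prod_pow]
  simp

/-- `c` fixes `∏_{i<p} c^i m` when `c^p = 1`. -/
theorem cycProd_fixed (c : MulAut M) (p : ℕ) (hc : c ^ p = 1) (m : M) :
    c (cycProd c p m) = cycProd c p m := by
  unfold cycProd
  rw [map_prod]
  have h1 : ∀ i : ℕ, c ((c ^ i) m) = (c ^ (i + 1)) m := by
    intro i
    rw [pow_succ']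
    rfl
  simp only [h1]
  cases p with
  | zero => simp
  | succ n =>
    rw [Finset.prod_range_succ (fun i => (c ^ (i + 1)) m),
      Finset.prod_range_succ' (fun i => (c ^ i) m), hc, pow_zero]

theorem cycProd_of_fixed (c : MulAut M) (k : ℕ) (m : M) (h : c m = m) :
    cycProd c k m = m ^ k := by
  have h1 : ∀ i : ℕ, (c ^ i) m = m := by
    intro i
    induction i with
    | zero => rfl
    | succ i ih => rw [pow_succ, MulAut.mul_apply, h, ih]
  unfold cycProd
  simp [h1]

/-- `e (∏ c^i m) = ∏ (e c e⁻¹)^i (e m)`. -/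
theorem cycProd_conj (c e : MulAut M) (k : ℕ) (m : M) :
    e (cycProd c k m) = cycProd (e * c * e⁻¹) k (e m) := by
  unfold cycProd
  rw [map_prod]
  refine Finset.prod_congr rfl (fun i _ => ?_)
  rw [conj_pow]
  simp [MulAut.mul_apply]

theorem cycProd_comm (c e : MulAut M) (h : e * c = c * e) (k : ℕ) (m : M) :
    e (cycProd c k m) = cycProd c k (e m) := by
  rw [cycProd_conj, h, mul_inv_cancel_right]

/-- multiplication by `i` (`0 < i < p`) permutes the residues mod `p` -/
theorem h49_prod_mul_mod (p : ℕ) [Fact p.Prime] (i : ℕ) (hi0 : 0 < i) (hip : i < p)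
    (g : ℕ → M) :
    ∏ k ∈ Finset.range p, g (k * i % p) = ∏ j ∈ Finset.range p, g j := by
  have hp : p.Prime := Fact.out
  have hcop : Nat.Coprime p i :=
    (Nat.Prime.coprime_iff_not_dvd hp).mpr (Nat.not_dvd_of_pos_of_lt hi0 hip)
  have hinj : ∀ x ∈ Finset.range p, ∀ y ∈ Finset.range p,
      x * i % p = y * i % p → x = y := by
    intro x hx y hy hxy
    have h1 : x * i ≡ y * i [MOD p] := hxy
    have h2 : x ≡ y [MOD p] := Nat.ModEq.cancel_right_of_coprime hcop h1
    exact Nat.ModEq.eq_of_lt_of_lt h2 (Finset.mem_range.mp hx) (Finset.mem_range.mp hy)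
  have himg : (Finset.range p).image (fun k => k * i % p) = Finset.range p := by
    apply Finset.eq_of_subset_of_card_le
    · intro j hj
      obtain ⟨k, _, rfl⟩ := Finset.mem_image.mp hj
      exact Finset.mem_range.mpr (Nat.mod_lt _ hp.pos)
    · rw [Finset.card_image_of_injOn (fun x hx y hy h => hinj x hx y hy h)]
  calc ∏ k ∈ Finset.range p, g (k * i % p)
      = ∏ j ∈ (Finset.range p).image (fun k => k * i % p), g j :=
        (Finset.prod_image hinj).symm
    _ = ∏ j ∈ Finset.range p, g j := by rw [himg]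

/-- The rank-two identity. -/
theorem rank_two_identity (p : ℕ) [Fact p.Prime] (a z : MulAut M)
    (hc : a * z = z * a) (ha : a ^ p = 1) (hz : z ^ p = 1) (m : M) :
    m ^ p * ∏ i ∈ Finset.range p, ∏ j ∈ Finset.range p, (a ^ i * z ^ j) m
      = cycProd z p m * ∏ k ∈ Finset.range p, cycProd (a * z ^ k) p m := by
  have hp : p.Prime := Fact.out
  have hcomm : Commute a z := hc
  -- powers of `a * z ^ k`
  have hpow : ∀ k i : ℕ, (a * z ^ k) ^ i = a ^ i * z ^ (k * i % p) := by
    intro k i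
    rw [(hcomm.pow_right k).mul_pow, ← pow_mul, pow_eq_pow_mod (k * i) hz]
  -- the right-hand double product, rows indexed by `i`
  have hR : ∏ k ∈ Finset.range p, cycProd (a * z ^ k) p m
      = ∏ i ∈ Finset.range p, ∏ k ∈ Finset.range p, (a ^ i * z ^ (k * i % p)) m := by
    unfold cycProd
    rw [Finset.prod_comm]
    refine Finset.prod_congr rfl (fun i _ => Finset.prod_congr rfl (fun k _ => ?_))
    rw [hpow]
  rw [hR]
  obtain ⟨n, rfl⟩ : ∃ n, p = n + 1 := ⟨p - 1, (Nat.succ_pred_eq_of_pos hp.pos).symm⟩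
  rw [Finset.prod_range_succ' (fun i => ∏ j ∈ Finset.range (n + 1), (a ^ i * z ^ j) m),
    Finset.prod_range_succ'
      (fun i => ∏ k ∈ Finset.range (n + 1), (a ^ i * z ^ (k * i % (n + 1))) m)]
  have e0 : ∏ j ∈ Finset.range (n + 1), (a ^ 0 * z ^ j) m = cycProd z (n + 1) m := by
    unfold cycProd
    simp
  have e1 : ∏ k ∈ Finset.range (n + 1), (a ^ 0 * z ^ (k * 0 % (n + 1))) m = m ^ (n + 1) := by
    simp
  have e2 : ∀ i ∈ Finset.range n,
      ∏ k ∈ Finset.range (n + 1), (a ^ (i + 1) * z ^ (k * (i + 1) % (n + 1))) m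
        = ∏ j ∈ Finset.range (n + 1), (a ^ (i + 1) * z ^ j) m := by
    intro i hi
    exact h49_prod_mul_mod (n + 1) (i + 1) (Nat.succ_pos i)
      (Nat.succ_lt_succ (Finset.mem_range.mp hi)) (fun j => (a ^ (i + 1) * z ^ j) m)
  rw [e0, e1, Finset.prod_congr rfl e2]
  ac_rfl

/-- If `z` is fixed-point-free: `m^p = ∏_{k<p} ∏_{i<p} (a z^k)^i m`. -/
theorem gen_rank_two (p : ℕ) [Fact p.Prime] (a z : MulAut M)
    (hc : a * z = z * a) (ha : a ^ p = 1) (hz : z ^ p = 1)
    (hfix : ∀ m : M, z m = m → m = 1) (m : M) :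
    m ^ p = ∏ k ∈ Finset.range p, cycProd (a * z ^ k) p m := by
  have h1 := rank_two_identity p a z hc ha hz m
  have h2 : cycProd z p m = 1 := hfix _ (cycProd_fixed z p hz m)
  have h3 : ∏ i ∈ Finset.range p, ∏ j ∈ Finset.range p, (a ^ i * z ^ j) m = 1 := by
    apply Finset.prod_eq_one
    intro i _
    have : ∏ j ∈ Finset.range p, (a ^ i * z ^ j) m = (a ^ i) (cycProd z p m) := by
      unfold cycProd
      rw [map_prod]
      rfl
    rw [this, h2, map_one]
  rw [h2, h3, mul_one, one_mul] at h1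
  exact h1

/-- Corollary: a subgroup containing all fixed points of the `a z^k` is everything. -/
theorem gen_rank_two' (p : ℕ) [Fact p.Prime] [Finite M] (hcop : ¬ p ∣ Nat.card M) (a z : MulAut M)
    (hc : a * z = z * a) (ha : a ^ p = 1) (hz : z ^ p = 1)
    (hfix : ∀ m : M, z m = m → m = 1) (S : Subgroup M)
    (hS : ∀ k < p, ∀ m : M, (a * z ^ k) m = m → m ∈ S) : S = ⊤ := by
  have hp : p.Prime := Fact.out
  have hcomm : Commute a z := hc
  rw [eq_top_iff]
  intro m _
  have h1 : m ^ p ∈ S := by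
    rw [gen_rank_two p a z hc ha hz hfix m]
    apply Subgroup.prod_mem
    intro k hk
    apply hS k (Finset.mem_range.mp hk)
    apply cycProd_fixed
    rw [(hcomm.pow_right k).mul_pow, ha, ← pow_mul, mul_comm, pow_mul, hz, one_pow, one_mul]
  have h2 : Nat.Coprime p (orderOf m) := by
    rw [hp.coprime_iff_not_dvd]
    intro h
    exact hcop (h.trans (orderOf_dvd_natCard m))
  obtain ⟨t, ht⟩ := exists_pow_eq_self_of_coprime h2
  rw [← ht]
  exact S.pow_mem h1 t

end R2

end Cfsg.Agent.Lib.helper38.RO
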