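import Mathlib
import Cfsg.Prelude.Def_Solvable
import Cfsg.Agent.Lib.helper38.RO1
import Cfsg.Agent.Lib.helper49.ROR2

/-!
# S4330, piece GEN: generation by the fixed points of the maximal subgroups
-/

set_option autoImplicit false
open Pointwise

namespace Cfsg.Agent.Lib.helper38.RO

universe u v

/-- a point fixed by `D` and by `c` is fixed by `D ⊔ zpowers c` -/
theorem h49_mem_fixedPts_sup {M : Type v} [CommGroup M] (D : Subgroup (MulAut M)) (c : MulAut M)
    (x : M) (hD : ∀ d ∈ D, d x = x) (hc : c x = x) : x ∈ fixedPts (D ⊔ Subgroup.zpowers c) := by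
  have h1 : D ⊔ Subgroup.zpowers c ≤ MulAction.stabilizer (MulAut M) x := by
    refine sup_le (fun d hd => ?_) ((Subgroup.zpowers_le).mpr ?_)
    · rw [MulAction.mem_stabilizer_iff]; exact hD d hd
    · rw [MulAction.mem_stabilizer_iff]; exact hc
  intro y hy
  have := h1 hy
  rw [MulAction.mem_stabilizer_iff] at this
  exact this

theorem h49_lt_sup_zpowers {Γ : Type*} [Group Γ] (D : Subgroup Γ) (c : Γ) (hc : c ∉ D) :
    D < D ⊔ Subgroup.zpowers c := by
  refine lt_of_le_of_ne le_sup_left (fun h => hc ?_)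
  rw [h]
  exact (le_sup_right : Subgroup.zpowers c ≤ D ⊔ Subgroup.zpowers c) (Subgroup.mem_zpowers c)

theorem gen_max (p : ℕ) [Fact p.Prime] {M : Type v} [CommGroup M] [Finite M]
    (hcop : ¬ p ∣ Nat.card M) (B : Subgroup (MulAut M))
    (hBc : ∀ a ∈ B, ∀ b ∈ B, a * b = b * a) (hBp : ∀ b ∈ B, b ^ p = 1)
    (hBfix : fixedPts B = ⊥) (S : Subgroup M)
    (hS : ∀ D : Subgroup (MulAut M), IsMaxIn B D → fixedPts D ≤ S) : S = ⊤ := by
  classical
  have hp : p.Prime := Fact.out
  have key : ∀ D : Subgroup (MulAut M), D ≤ B → fixedPts D ≤ S := by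
    intro D
    induction D using WellFoundedGT.induction with
    | ind D ih =>
      intro hDB
      by_cases hDB' : D = B
      · rw [hDB', hBfix]; exact bot_le
      have hlt : D < B := lt_of_le_of_ne hDB hDB'
      by_cases hmax : IsMaxIn B D
      · exact hS D hmax
      have hex : ∃ D₁ : Subgroup (MulAut M), D < D₁ ∧ D₁ ≤ B ∧ D₁ ≠ B := by
        by_contra hcon
        push Not at hcon
        exact hmax ⟨hlt, fun D' h1 h2 => hcon D' h1 h2⟩
      obtain ⟨D₁, hDD₁, hD₁B, hD₁ne⟩ := hex
      obtain ⟨z, hzD₁, hzD⟩ := SetLike.exists_of_lt hDD₁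
      obtain ⟨a, haB, haD₁⟩ := SetLike.exists_of_lt (lt_of_le_of_ne hD₁B hD₁ne)
      have hzB : z ∈ B := hD₁B hzD₁
      have haD : a ∉ D := fun h => haD₁ (hDD₁.le h)
      have hc : a * z = z * a := hBc a haB z hzB
      have ha : a ^ p = 1 := hBp a haB
      have hz : z ^ p = 1 := hBp z hzB
      intro m hm
      -- every element of `D` commutes with the elements of `B`
      have hDcomm : ∀ d ∈ D, ∀ c ∈ B, ∀ x : M, d (c x) = c (d x) := by
        intro d hd c hcB x
        have h := hBc d (hDB hd) c hcB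
        have h2 : (d * c) x = (c * d) x := by rw [h]
        exact h2
      -- the three kinds of terms lie in `S`
      have hS1 : ∀ c ∈ B, c ∉ D → c ^ p = 1 → cycProd c p m ∈ S := by
        intro c hcB hcD hcp
        have h1 : D ⊔ Subgroup.zpowers c ≤ B := sup_le hDB ((Subgroup.zpowers_le).mpr hcB)
        refine ih (D ⊔ Subgroup.zpowers c) (h49_lt_sup_zpowers D c hcD) h1
          (h49_mem_fixedPts_sup D c _ (fun d hd => ?_) (cycProd_fixed c p hcp m))
        rw [cycProd_comm c d (hBc d (hDB hd) c hcB), hm d hd]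
      have hcz : cycProd z p m ∈ S := hS1 z hzB hzD hz
      have hck : ∀ k ∈ Finset.range p, cycProd (a * z ^ k) p m ∈ S := by
        intro k _
        have hcomm : Commute a z := hc
        refine hS1 (a * z ^ k) (B.mul_mem haB (B.pow_mem hzB k)) (fun h => haD₁ ?_) ?_
        · have h1 : a * z ^ k ∈ D₁ := hDD₁.le h
          have h2 : a * z ^ k * (z ^ k)⁻¹ ∈ D₁ := D₁.mul_mem h1 (D₁.inv_mem (D₁.pow_mem hzD₁ k))
          rwa [mul_inv_cancel_right] at h2
        · rw [(hcomm.pow_right k).mul_pow, ha, ← pow_mul, mul_comm, pow_mul, hz, one_pow, one_mul]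
      have hF : ∏ i ∈ Finset.range p, ∏ j ∈ Finset.range p, (a ^ i * z ^ j) m ∈ S := by
        have h1 : D ⊔ Subgroup.zpowers a ≤ B := sup_le hDB ((Subgroup.zpowers_le).mpr haB)
        refine ih (D ⊔ Subgroup.zpowers a) (h49_lt_sup_zpowers D a haD) h1
          (h49_mem_fixedPts_sup D a _ (fun d hd => ?_) ?_)
        · rw [map_prod]
          refine Finset.prod_congr rfl (fun i _ => ?_)
          rw [map_prod]
          refine Finset.prod_congr rfl (fun j _ => ?_)
          rw [hDcomm d hd (a ^ i * z ^ j) (B.mul_mem (B.pow_mem haB i) (B.pow_mem hzB j)) m,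
            hm d hd]
        · have e : ∏ i ∈ Finset.range p, ∏ j ∈ Finset.range p, (a ^ i * z ^ j) m
              = ∏ j ∈ Finset.range p, cycProd a p ((z ^ j) m) := by
            rw [Finset.prod_comm]
            rfl
          rw [e, map_prod]
          exact Finset.prod_congr rfl (fun j _ => cycProd_fixed a p ha _)
      have hid := rank_two_identity p a z hc ha hz m
      have hmp : m ^ p ∈ S := by
        have h1 : m ^ p = (cycProd z p m * ∏ k ∈ Finset.range p, cycProd (a * z ^ k) p m)
            * (∏ i ∈ Finset.range p, ∏ j ∈ Finset.range p, (a ^ i * z ^ j) m)⁻¹ := by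
          rw [← hid, mul_inv_cancel_right]
        rw [h1]
        exact S.mul_mem (S.mul_mem hcz (Subgroup.prod_mem S hck)) (S.inv_mem hF)
      have h2 : Nat.Coprime p (orderOf m) := by
        rw [hp.coprime_iff_not_dvd]
        intro h
        exact hcop (h.trans (orderOf_dvd_natCard m))
      obtain ⟨t, ht⟩ := exists_pow_eq_self_of_coprime h2
      rw [← ht]
      exact S.pow_mem hmp t
  have h := key ⊥ bot_le
  rw [eq_top_iff]
  intro m _
  exact h (fun y hy => by rw [Subgroup.mem_bot.mp hy]; rfl)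

end Cfsg.Agent.Lib.helper38.RO
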