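import Mathlib

/-! Definitions for the S2333 split (architect helper49): Siegel elements of `Sp_{2n}(F)`,
the pairing between symmetric matrices and quadratic forms, quadratic-form helpers. -/

set_option autoImplicit false

namespace Cfsg.Agent.Lib.helper49.SPE

open Matrix

/-- symmetric `n × n` matrices, as an additive subgroup -/
def symH (F : Type*) [Field F] (n : ℕ) : AddSubgroup (Matrix (Fin n) (Fin n) F) where
  carrier := {C | ∀ i j, C i j = C j i}
  zero_mem' := by
    intro i j
    rfl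
  add_mem' := by
    intro a b ha hb i j
    simp only [Matrix.add_apply, ha i j, hb i j]
  neg_mem' := by
    intro a ha i j
    simp only [Matrix.neg_apply, ha i j]

theorem mem_symH {F : Type*} [Field F] {n : ℕ} (C : Matrix (Fin n) (Fin n) F) :
    C ∈ symH F n ↔ ∀ i j, C i j = C j i := Iff.rfl

/-- the upper Siegel element `[[1, C], [0, 1]]` -/
def uS {F : Type*} [Field F] {n : ℕ} (C : Matrix (Fin n) (Fin n) F) :
    Matrix (Fin n ⊕ Fin n) (Fin n ⊕ Fin n) F := Matrix.fromBlocks 1 C 0 1

/-- the Levi element `[[B, 0], [0, B'ᵀ]]` (used with `B * B' = 1`) -/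
def lS {F : Type*} [Field F] {n : ℕ} (B B' : Matrix (Fin n) (Fin n) F) :
    Matrix (Fin n ⊕ Fin n) (Fin n ⊕ Fin n) F := Matrix.fromBlocks B 0 0 B'ᵀ

/-- the upper triangular part (diagonal included) -/
def upT {F : Type*} [Field F] {n : ℕ} (y : Matrix (Fin n) (Fin n) F) :
    Matrix (Fin n) (Fin n) F := fun i j => if i ≤ j then y i j else 0

/-- the pairing `∑_{i ≤ j} y i j * a i j` -/
def gam {F : Type*} [Field F] {n : ℕ} (y a : Matrix (Fin n) (Fin n) F) : F :=
  ∑ i, ∑ j, upT y i j * a i j

/-- the quadratic form `∑_{i ≤ j} y i j * x i * x j` -/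
def qfy {F : Type*} [Field F] {n : ℕ} (y : Matrix (Fin n) (Fin n) F) (x : Fin n → F) : F :=
  ∑ i, ∑ j, upT y i j * x i * x j

/-- the symmetric matrix with the same quadratic form as `M` -/
def syM {F : Type*} [Field F] {n : ℕ} (M : Matrix (Fin n) (Fin n) F) :
    Matrix (Fin n) (Fin n) F := fun i j => if i = j then M i i else M i j + M j i

/-- the action on (coefficient matrices of) quadratic forms: `qfy (conjY B y) x = qfy y (B *ᵥ x)` -/
def conjY {F : Type*} [Field F] {n : ℕ} (B y : Matrix (Fin n) (Fin n) F) :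
    Matrix (Fin n) (Fin n) F := syM (Bᵀ * upT y * B)

/-- the symmetric matrix `E₀₁ + E₁₀` -/
def a01 (F : Type*) [Field F] (n : ℕ) : Matrix (Fin n) (Fin n) F :=
  fun i j => if (i.1 = 0 ∧ j.1 = 1) ∨ (i.1 = 1 ∧ j.1 = 0) then 1 else 0

/-- the `j`-th standard basis vector (zero if `n ≤ j`) -/
def ev (F : Type*) [Field F] (n : ℕ) (j : ℕ) : Fin n → F := fun i => if i.1 = j then 1 else 0

/-- the polar form of a function -/
def polar {F : Type*} [Field F] {n : ℕ} (Q : (Fin n → F) → F) (u v : Fin n → F) : F :=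
  Q (u + v) - Q u - Q v

/-- `Q` is a quadratic form -/
def IsQF {F : Type*} [Field F] {n : ℕ} (Q : (Fin n → F) → F) : Prop :=
  ∃ M : Matrix (Fin n) (Fin n) F, ∀ x, Q x = ∑ i, ∑ j, M i j * x i * x j

/-- `u, v` are linearly independent -/
def Indep {F : Type*} [Field F] {n : ℕ} (u v : Fin n → F) : Prop :=
  ∀ s t : F, s • u + t • v = 0 → s = 0 ∧ t = 0

/-- the binary quadratic form `a s² + b s t + c t²` -/
def bq {F : Type*} [Field F] (a b c s t : F) : F := a * s ^ 2 + b * s * t + c * t ^ 2

end Cfsg.Agent.Lib.helper49.SPE
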