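import Mathlib
import Cfsg.Agent.Lib.helper24.SroDefs
import Cfsg.Agent.Lib.helper57.SroEX

/-!
# S5991 piece EXM (helper49): an isometry of determinant one of the elliptic form with
square `-1`, for `d` odd and `q ≡ 3 (mod 4)`
-/

set_option autoImplicit false
set_option linter.unusedSectionVars false
set_option linter.unusedVariables false

namespace Cfsg.Agent.Lib.helper24

open Module Cfsg.Agent.Lib.helper45 Cfsg.Agent.Lib.helper49
open Matrix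

universe u

section minus

variable {F : Type u} [Field F] [Fintype F]

/-- for an anisotropic binary form `x² + a x y + b y²` over a finite field with `q ≡ 3 (4)`,
`4 b - a²` is a nonzero square -/
theorem h49_exm_kappa (hodd : Odd (Fintype.card F)) (a b : F)
    (hab : ∀ x y : F, x ^ 2 + a * x * y + b * y ^ 2 = 0 → x = 0 ∧ y = 0)
    (h3 : Fintype.card F % 4 = 3) : ∃ κ : F, κ ^ 2 * (4 * b - a ^ 2) = 1 := by
  classical
  have hchar : ringChar F ≠ 2 := by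
    intro h
    have := FiniteField.even_card_iff_char_two.mp h
    rcases hodd with ⟨k, hk⟩
    omega
  have h2 : (2 : F) ≠ 0 := Ring.two_ne_zero hchar
  have hns : ¬ IsSquare (a ^ 2 - 4 * b) := by
    rintro ⟨s, hs⟩
    have h1 := hab ((s - a) / 2) 1 (by
      field_simp
      linear_combination (-1 : F) * hs)
    exact one_ne_zero h1.2
  have hm1 : ¬ IsSquare (-1 : F) := by
    rw [FiniteField.isSquare_neg_one_iff]
    omega
  have hne : (4 * b - a ^ 2) ≠ 0 := by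
    intro h0
    apply hns
    refine ⟨0, ?_⟩
    linear_combination (-1 : F) * h0
  have hsq : IsSquare (4 * b - a ^ 2) := by
    rw [← quadraticChar_one_iff_isSquare hne]
    have e : 4 * b - a ^ 2 = (-1) * (a ^ 2 - 4 * b) := by ring
    rw [e, map_mul, quadraticChar_neg_one_iff_not_isSquare.mpr hm1,
      quadraticChar_neg_one_iff_not_isSquare.mpr hns]
    norm_num
  obtain ⟨s, hs⟩ := hsq
  have hs0 : s ≠ 0 := by
    rintro rfl
    apply hne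
    rw [hs, mul_zero]
  refine ⟨s⁻¹, ?_⟩
  rw [hs]
  field_simp

/-- PIECE EXM. An isometry of determinant one of the elliptic form with square `-1`, for `d` odd
and `q ≡ 3 (mod 4)`. -/
theorem sro_sq_neg_minus_exists (hodd : Odd (Fintype.card F)) (d : ℕ) (hd : 1 ≤ d) (a b : F)
    (hab : ∀ x y : F, x ^ 2 + a * x * y + b * y ^ 2 = 0 → x = 0 ∧ y = 0)
    (h : Odd d ∧ Fintype.card F % 4 = 3) :
    ∃ g : ↥(Cfsg.isometryGroup F (Cfsg.quadFormMinus (d - 1) F a b)),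
      ((g : GL ((Fin (d - 1) ⊕ Fin (d - 1)) ⊕ Fin 2) F) :
          Matrix ((Fin (d - 1) ⊕ Fin (d - 1)) ⊕ Fin 2) ((Fin (d - 1) ⊕ Fin (d - 1)) ⊕ Fin 2) F) *
        ((g : GL ((Fin (d - 1) ⊕ Fin (d - 1)) ⊕ Fin 2) F) :
          Matrix ((Fin (d - 1) ⊕ Fin (d - 1)) ⊕ Fin 2) ((Fin (d - 1) ⊕ Fin (d - 1)) ⊕ Fin 2) F) = -1 ∧
      Matrix.det ((g : GL ((Fin (d - 1) ⊕ Fin (d - 1)) ⊕ Fin 2) F) :
          Matrix ((Fin (d - 1) ⊕ Fin (d - 1)) ⊕ Fin 2) ((Fin (d - 1) ⊕ Fin (d - 1)) ⊕ Fin 2) F) = 1 := by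
  obtain ⟨hdodd, h3⟩ := h
  have hev : Even (d - 1) := by
    rcases hdodd with ⟨k, hk⟩
    exact ⟨k, by omega⟩
  obtain ⟨g₁, hg₁sq, hg₁det⟩ := sro_sq_neg_plus_exists hodd (d - 1) (Or.inl hev)
  obtain ⟨M₁, hM₁def⟩ : ∃ M₁ : Matrix (Fin (d - 1) ⊕ Fin (d - 1)) (Fin (d - 1) ⊕ Fin (d - 1)) F,
      M₁ = ((g₁ : GL (Fin (d - 1) ⊕ Fin (d - 1)) F) :
        Matrix (Fin (d - 1) ⊕ Fin (d - 1)) (Fin (d - 1) ⊕ Fin (d - 1)) F) := ⟨_, rfl⟩
  rw [← hM₁def] at hg₁sq hg₁det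
  have hg₁iso : ∀ u : Fin (d - 1) ⊕ Fin (d - 1) → F,
      Cfsg.quadFormPlus (d - 1) F (M₁ *ᵥ u) = Cfsg.quadFormPlus (d - 1) F u := by
    intro u
    rw [hM₁def]
    exact g₁.2 u u
  obtain ⟨κ, hκ⟩ := h49_exm_kappa hodd a b hab h3
  obtain ⟨M₂, hM₂def⟩ : ∃ M₂ : Matrix (Fin 2) (Fin 2) F,
      M₂ = !![κ * a, κ * (2 * b); κ * (-2), κ * (-a)] := ⟨_, rfl⟩
  have hM₂sq : M₂ * M₂ = -1 := by
    rw [hM₂def]
    ext i j
    fin_cases i <;> fin_cases j <;> simp [Matrix.mul_apply, Fin.sum_univ_two] <;>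
      first
        | linear_combination (-1 : F) * hκ
        | linear_combination (1 : F) * hκ
        | ring
  have hM₂det : M₂.det = 1 := by
    rw [hM₂def, Matrix.det_fin_two]
    simp
    linear_combination hκ
  have hM₂iso : ∀ z : Fin 2 → F,
      (M₂ *ᵥ z) 0 ^ 2 + a * (M₂ *ᵥ z) 0 * (M₂ *ᵥ z) 1 + b * (M₂ *ᵥ z) 1 ^ 2 =
        z 0 ^ 2 + a * z 0 * z 1 + b * z 1 ^ 2 := by
    intro z
    rw [hM₂def]
    simp [Matrix.mulVec, dotProduct, Fin.sum_univ_two]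
    linear_combination (z 0 ^ 2 + a * z 0 * z 1 + b * z 1 ^ 2) * hκ
  obtain ⟨M, hMdef⟩ : ∃ M : Matrix ((Fin (d - 1) ⊕ Fin (d - 1)) ⊕ Fin 2)
      ((Fin (d - 1) ⊕ Fin (d - 1)) ⊕ Fin 2) F, M = Matrix.fromBlocks M₁ 0 0 M₂ := ⟨_, rfl⟩
  have hMM : M * M = -1 := by
    rw [hMdef, Matrix.fromBlocks_multiply, hg₁sq, hM₂sq]
    simp only [Matrix.mul_zero, Matrix.zero_mul, add_zero, zero_add]
    ext (i | i) (j | j) <;> simp [Matrix.one_apply]
  let gU : GL ((Fin (d - 1) ⊕ Fin (d - 1)) ⊕ Fin 2) F :=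
    ⟨M, -M, by rw [mul_neg, hMM, neg_neg], by rw [neg_mul, hMM, neg_neg]⟩
  have key : ∀ (x : Fin (d - 1) ⊕ Fin (d - 1) → F) (z : Fin 2 → F),
      Cfsg.quadFormMinus (d - 1) F a b (Sum.elim x z) =
        Cfsg.quadFormPlus (d - 1) F x + (z 0 ^ 2 + a * z 0 * z 1 + b * z 1 ^ 2) :=
    fun x z => rfl
  have hmem : gU ∈ Cfsg.isometryGroup F (Cfsg.quadFormMinus (d - 1) F a b) := by
    intro u v
    show Cfsg.quadFormMinus (d - 1) F a b (M *ᵥ u) = Cfsg.quadFormMinus (d - 1) F a b u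
    have hu : u = Sum.elim (u ∘ Sum.inl) (u ∘ Sum.inr) := (Sum.elim_comp_inl_inr u).symm
    have h1 : M *ᵥ u = Sum.elim (M₁ *ᵥ (u ∘ Sum.inl)) (M₂ *ᵥ (u ∘ Sum.inr)) := by
      rw [hMdef]
      conv_lhs => rw [hu]
      rw [Matrix.fromBlocks_mulVec]
      simp
    rw [h1, key]
    conv_rhs => rw [hu, key]
    rw [hg₁iso, hM₂iso]
  refine ⟨⟨gU, hmem⟩, hMM, ?_⟩
  show M.det = 1
  rw [hMdef, Matrix.det_fromBlocks_zero₂₁, hg₁det, hM₂det, mul_one]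

end minus

end Cfsg.Agent.Lib.helper24
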