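import Mathlib
import Cfsg.Agent.Lib.helper24.SroDefs
import Cfsg.Agent.Lib.helper4.SroSIGN
import Cfsg.Agent.Lib.helper4.SroOMa
import Cfsg.Agent.Lib.helper42.FormsNondeg
import Cfsg.Agent.Lib.helper49.SroEXM

/-!
# S5991 piece OMM (helper49): `Ω⁻_{2d}(q)`, `q` odd, contains an element with square `-1` iff
`d` is odd and `q ≡ 7 (mod 8)`
-/

set_option autoImplicit false
set_option linter.unusedSectionVars false
set_option linter.unusedVariables false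

namespace Cfsg.Agent.Lib.helper49.SroM

/-- powers of odd numbers modulo 8 (residue 7) -/
theorem h49_odd_pow_mod_eight_seven (q d : ℕ) (hq : Odd q) :
    q ^ d % 8 = 7 ↔ (Odd d ∧ q % 8 = 7) := by
  have hq2 : q % 2 = 1 := Nat.odd_iff.mp hq
  have hr : q % 8 = 1 ∨ q % 8 = 3 ∨ q % 8 = 5 ∨ q % 8 = 7 := by omega
  have hsq : q ^ 2 % 8 = 1 := by
    rw [Nat.pow_mod]
    rcases hr with h | h | h | h <;> rw [h]
  rcases Nat.even_or_odd' d with ⟨k, hk | hk⟩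
  · have h1 : q ^ d % 8 = 1 := by
      rw [hk, pow_mul, Nat.pow_mod, hsq, one_pow]
      norm_num
    constructor
    · intro h
      omega
    · rintro ⟨⟨j, hj⟩, -⟩
      omega
  · have h1 : q ^ d % 8 = q % 8 := by
      rw [hk, pow_succ, pow_mul, Nat.mul_mod, Nat.pow_mod (q ^ 2), hsq, one_pow]
      omega
    rw [h1]
    constructor
    · intro h
      exact ⟨⟨k, hk⟩, h⟩
    · rintro ⟨-, h⟩
      exact h

/-- from `q N = q^d (q^d + 1)`: `8 ∣ N` iff `d` odd and `q ≡ 7 (8)` -/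
theorem h49_eight_dvd_level_minus (q d N : ℕ) (hq : Odd q)
    (hN : q * N = q ^ d * (q ^ d + 1)) : 8 ∣ N ↔ (Odd d ∧ q % 8 = 7) := by
  have hcop : Nat.Coprime 8 q := by
    have : Nat.Coprime 2 q :=
      (Nat.Prime.coprime_iff_not_dvd Nat.prime_two).mpr (fun h => by
        have := Nat.odd_iff.mp hq
        omega)
    exact Nat.Coprime.pow_left 3 this
  have hcop' : Nat.Coprime 8 (q ^ d) := Nat.Coprime.pow_right d hcop
  have h1 : 8 ∣ N ↔ 8 ∣ q * N := (Nat.Coprime.dvd_mul_left hcop).symm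
  have h2 : 8 ∣ q ^ d * (q ^ d + 1) ↔ 8 ∣ q ^ d + 1 := Nat.Coprime.dvd_mul_left hcop'
  rw [h1, hN, h2, ← h49_odd_pow_mod_eight_seven q d hq]
  omega

end Cfsg.Agent.Lib.helper49.SroM

namespace Cfsg.Agent.Lib.helper24

open Module Cfsg.Agent.Lib.helper45 Cfsg.Agent.Lib.helper49

universe u

section minus

variable {F : Type u} [Field F] [Fintype F]

/-- the number of vectors of norm one of the standard elliptic form -/
theorem h49_sro_level_minus (d : ℕ) (hd : 1 ≤ d) (a b : F)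
    (hab : ∀ x y : F, x ^ 2 + a * x * y + b * y ^ 2 = 0 → x = 0 ∧ y = 0) :
    Fintype.card F *
        Nat.card {v : (Fin (d - 1) ⊕ Fin (d - 1)) ⊕ Fin 2 → F // minusForm (d - 1) F a b v = 1} =
      Fintype.card F ^ d * (Fintype.card F ^ d + 1) := by
  have h := unif_minus_std (F := F) (d - 1) a b hab (1 : F)
  simp only [one_ne_zero, if_false] at h
  have hd1 : d - 1 + 1 = d := by omega
  rw [hd1] at h
  zify
  rw [h]
  ring

/-- PIECE OMM. `Ω⁻_{2d}(q)`, `q` odd, contains an element with square `-1` iff `d` is odd and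
`q ≡ 7 (mod 8)`. -/
theorem sro_sq_neg_minus (hodd : Odd (Fintype.card F)) (d : ℕ) (hd : 1 ≤ d) (a b : F)
    (hab : ∀ x y : F, x ^ 2 + a * x * y + b * y ^ 2 = 0 → x = 0 ∧ y = 0) :
    (∃ x : GL ((Fin (d - 1) ⊕ Fin (d - 1)) ⊕ Fin 2) F,
      x ∈ Cfsg.Geo.omegaGL (Cfsg.quadFormMinus (d - 1) F a b) ∧
      (x : Matrix ((Fin (d - 1) ⊕ Fin (d - 1)) ⊕ Fin 2) ((Fin (d - 1) ⊕ Fin (d - 1)) ⊕ Fin 2) F) *
        (x : Matrix ((Fin (d - 1) ⊕ Fin (d - 1)) ⊕ Fin 2) ((Fin (d - 1) ⊕ Fin (d - 1)) ⊕ Fin 2) F) = -1) ↔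
    (Odd d ∧ Fintype.card F % 8 = 7) := by
  classical
  have h2 : (2 : F) ≠ 0 := sro_two_ne_zero_of_odd hodd
  have hQ : (QuadraticMap.polarBilin (minusForm (d - 1) F a b)).Nondegenerate :=
    Cfsg.Agent.Lib.helper42.minusForm_nondegenerate (d - 1) a b hab
  have hlev := h49_sro_level_minus (F := F) d hd a b hab
  have h8 := Cfsg.Agent.Lib.helper49.SroM.h49_eight_dvd_level_minus (Fintype.card F) d _ hodd hlev
  have hsign : ∀ g : ↥(Cfsg.isometryGroup F (Cfsg.quadFormMinus (d - 1) F a b)),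
      ((g : GL ((Fin (d - 1) ⊕ Fin (d - 1)) ⊕ Fin 2) F) :
          Matrix ((Fin (d - 1) ⊕ Fin (d - 1)) ⊕ Fin 2) ((Fin (d - 1) ⊕ Fin (d - 1)) ⊕ Fin 2) F) *
        ((g : GL ((Fin (d - 1) ⊕ Fin (d - 1)) ⊕ Fin 2) F) :
          Matrix ((Fin (d - 1) ⊕ Fin (d - 1)) ⊕ Fin 2) ((Fin (d - 1) ⊕ Fin (d - 1)) ⊕ Fin 2) F) = -1 →
      (spinorSign (Cfsg.quadFormMinus (d - 1) F a b) g = 1 ↔
        (Odd d ∧ Fintype.card F % 8 = 7)) := by
    intro g hg
    obtain ⟨h4, hs⟩ := sro_sign_neg h2 (minusForm (d - 1) F a b) g hg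
    have hs' : spinorSign (Cfsg.quadFormMinus (d - 1) F a b) g =
        (-1) ^ (Nat.card {v : (Fin (d - 1) ⊕ Fin (d - 1)) ⊕ Fin 2 → F //
          minusForm (d - 1) F a b v = 1} / 4) := hs
    rw [hs', ← h8]
    have hne : (-1 : ℤˣ) ≠ 1 := by decide
    rw [neg_one_pow_eq_one_iff_even hne]
    obtain ⟨k, hk⟩ := h4
    rw [hk, Nat.mul_div_cancel_left k (by norm_num)]
    constructor
    · rintro ⟨j, hj⟩
      exact ⟨j, by omega⟩
    · rintro ⟨j, hj⟩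
      exact ⟨j, by omega⟩
  have hmem : ∀ g : ↥(Cfsg.isometryGroup F (Cfsg.quadFormMinus (d - 1) F a b)),
      g ∈ Cfsg.Omega F (Cfsg.quadFormMinus (d - 1) F a b) ↔
        detHom (Cfsg.quadFormMinus (d - 1) F a b) g = 1 ∧
          spinorSign (Cfsg.quadFormMinus (d - 1) F a b) g = 1 :=
    fun g => mem_Omega_iff_det_spinor h2 (minusForm (d - 1) F a b) hQ g
  constructor
  · rintro ⟨x, hx, hxx⟩
    obtain ⟨g, hgΩ, rfl⟩ := Subgroup.mem_map.mp hx
    exact (hsign g hxx).mp ((hmem g).mp hgΩ).2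
  · intro h
    have h' : Odd d ∧ Fintype.card F % 4 = 3 := ⟨h.1, by omega⟩
    obtain ⟨g, hgg, hdet⟩ := sro_sq_neg_minus_exists hodd d hd a b hab h'
    refine ⟨(g : GL ((Fin (d - 1) ⊕ Fin (d - 1)) ⊕ Fin 2) F), ?_, hgg⟩
    refine Subgroup.mem_map.mpr ⟨g, ?_, rfl⟩
    rw [hmem g]
    refine ⟨?_, (hsign g hgg).mpr h⟩
    apply Units.ext
    rw [detHom, MonoidHom.comp_apply, Matrix.GeneralLinearGroup.val_det_apply]
    exact hdet

end minus

end Cfsg.Agent.Lib.helper24
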