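/-
Shared lemmas (helper49): the stabiliser of a non-degenerate subspace is a maximal subgroup of `Ω(Q)`
(core theorem: an overgroup containing an element not stabilising the subspace contains `Ω`).
-/
import Mathlib
import Cfsg.Prelude.Def_Classical
import Cfsg.Prelude.Def_ClassicalGeometry
import Cfsg.Prelude.Def_GeometricClasses
import Cfsg.Agent.Lib.helper49.NondegMax
import Cfsg.Agent.Lib.helper7.RootParab

set_option autoImplicit false
set_option linter.unusedSectionVars false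

namespace Cfsg.Agent.Lib.helper49

open Matrix Module
open scoped commutatorElement

section Stab

variable {F : Type*} [Field F] [Fintype F] {ι : Type} [Fintype ι] [DecidableEq ι]

omit [Fintype F] in
/-- Eichler transformations with both parameters in `U` map `U` into itself. -/
theorem eichG_maps (Q : QuadraticForm F (ι → F)) (U : Submodule F (ι → F)) (e w : ι → F) (he : e ∈ U)
    (hw : w ∈ U) (u : ι → F) (hu : u ∈ U) : isoAct (⇑Q) (eichG Q e w) u ∈ U := by
  by_cases h : Q e = 0 ∧ QuadraticMap.polar Q e w = 0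
  · rw [isoAct_eichG Q e w h.1 h.2]
    exact U.sub_mem (U.add_mem hu (U.smul_mem _ he)) (U.smul_mem _ hw)
  · rw [eichG_of_not Q e w h, isoAct_one]
    exact hu

/-- A singular vector of `U` not orthogonal to a given non-zero vector of `U`. -/
theorem OrthSplit.exists_singular_polar_ne {Q : QuadraticForm F (ι → F)} {U U' : Submodule F (ι → F)}
    (h : OrthSplit Q U U') (hQ : (QuadraticMap.polarBilin Q).Nondegenerate) (hU : 7 ≤ finrank F U)
    {x₁ : ι → F} (hx₁ : x₁ ∈ U) (hx₁0 : x₁ ≠ 0) :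
    ∃ e ∈ U, Q e = 0 ∧ QuadraticMap.polar Q e x₁ ≠ 0 := by
  obtain ⟨v, hvU, hv⟩ := h.exists_polar_ne hQ hx₁ hx₁0
  obtain ⟨p, q, hpU, hqU, hp, hq, hpq, -, -, -, -⟩ := h.exists_hyp_pair hQ hU 0 0
  by_cases h1 : QuadraticMap.polar Q p x₁ = 0
  swap
  · exact ⟨p, hpU, hp, h1⟩
  by_cases h2 : QuadraticMap.polar Q q x₁ = 0
  swap
  · exact ⟨q, hqU, hq, h2⟩
  obtain ⟨htp, htq⟩ := polar_hypComp Q p q v hp hq hpq
  set t₀ := v - QuadraticMap.polar Q v q • p - QuadraticMap.polar Q v p • q with ht₀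
  have ht₀U : t₀ ∈ U := U.sub_mem (U.sub_mem hvU (U.smul_mem _ hpU)) (U.smul_mem _ hqU)
  refine ⟨t₀ + q - Q t₀ • p, U.sub_mem (U.add_mem ht₀U hqU) (U.smul_mem _ hpU),
    singular_of_orth_hyp Q p q t₀ hp hq hpq htp htq, ?_⟩
  rw [QuadraticMap.polar_sub_left, QuadraticMap.polar_add_left, QuadraticMap.polar_smul_left, h1, h2, ht₀,
    QuadraticMap.polar_sub_left, QuadraticMap.polar_sub_left, QuadraticMap.polar_smul_left,
    QuadraticMap.polar_smul_left, h1, h2]
  simp only [smul_eq_mul, mul_zero, sub_zero, add_zero]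
  rw [QuadraticMap.polar_comm]
  exact hv

/-- A subspace `X` invariant under the Eichler transformations of `U` and containing a vector with
non-zero `U`-component, contains the part of `U` orthogonal to a singular vector `e` of `U` not
orthogonal to that component. -/
theorem OrthSplit.orth_le_of_invariant {Q : QuadraticForm F (ι → F)} {U U' : Submodule F (ι → F)}
    (h : OrthSplit Q U U') (hQ : (QuadraticMap.polarBilin Q).Nondegenerate) (hU : 7 ≤ finrank F U)
    (X : Submodule F (ι → F))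
    (hX : ∀ e ∈ U, ∀ w ∈ U, Q e = 0 → QuadraticMap.polar Q e w = 0 → ∀ x ∈ X,
      isoAct (⇑Q) (eichG Q e w) x ∈ X)
    (x₁ x₁' : ι → F) (hx₁ : x₁ ∈ U) (hx₁' : x₁' ∈ U') (hx : x₁ + x₁' ∈ X)
    (e : ι → F) (heU : e ∈ U) (he : Q e = 0) (hex : QuadraticMap.polar Q e x₁ ≠ 0) :
    ∀ w ∈ U, QuadraticMap.polar Q e w = 0 → w ∈ X := by
  set φ := QuadraticMap.polar Q e x₁ with hφ
  have hφ' : QuadraticMap.polar Q e (x₁ + x₁') = φ := by
    rw [QuadraticMap.polar_add_right, h.orth e heU x₁' hx₁', add_zero]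
  -- the basic consequence of invariance
  have hy : ∀ w ∈ U, QuadraticMap.polar Q e w = 0 →
      (QuadraticMap.polar Q w x₁ - Q w * φ) • e - φ • w ∈ X := by
    intro w hwU hw
    have h1 := hX e heU w hwU he hw _ hx
    rw [isoAct_eichG Q e w he hw, hφ', QuadraticMap.polar_add_right, h.orth w hwU x₁' hx₁', add_zero] at h1
    have h2 := X.sub_mem h1 hx
    have h3 : x₁ + x₁' + (QuadraticMap.polar Q w x₁ - Q w * φ) • e - φ • w - (x₁ + x₁') =
        (QuadraticMap.polar Q w x₁ - Q w * φ) • e - φ • w := by abel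
    rw [h3] at h2
    exact h2
  obtain ⟨p, q, hpU, hqU, hp, hq, hpq, hep, heq, hxp, hxq⟩ := h.exists_hyp_pair hQ hU e x₁
  have hpX : p ∈ X := by
    have h1 := hy p hpU hep
    rw [hp, zero_mul, sub_zero, QuadraticMap.polar_comm Q p x₁, hxp, zero_smul, zero_sub] at h1
    have h2 := X.smul_mem (-φ⁻¹) h1
    rw [smul_neg, neg_smul, neg_neg, smul_smul, inv_mul_cancel₀ hex, one_smul] at h2
    exact h2
  have hqX : q ∈ X := by
    have h1 := hy q hqU heq
    rw [hq, zero_mul, sub_zero, QuadraticMap.polar_comm Q q x₁, hxq, zero_smul, zero_sub] at h1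
    have h2 := X.smul_mem (-φ⁻¹) h1
    rw [smul_neg, neg_smul, neg_neg, smul_smul, inv_mul_cancel₀ hex, one_smul] at h2
    exact h2
  have heX : e ∈ X := by
    have h1 := hy (p + q) (U.add_mem hpU hqU)
      (by rw [QuadraticMap.polar_add_right, hep, heq, add_zero])
    have hQpq : Q (p + q) = 1 := by
      rw [QuadraticMap.map_add Q, hp, hq, hpq]; ring
    rw [hQpq, one_mul, QuadraticMap.polar_add_left, QuadraticMap.polar_comm Q p x₁, hxp,
      QuadraticMap.polar_comm Q q x₁, hxq, add_zero, zero_sub] at h1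
    have h2 := X.add_mem h1 (X.smul_mem φ (X.add_mem hpX hqX))
    rw [sub_add_cancel] at h2
    have h3 := X.smul_mem (-φ⁻¹) h2
    rw [smul_smul, neg_mul_neg, inv_mul_cancel₀ hex, one_smul] at h3
    exact h3
  intro w hwU hw
  have h1 := hy w hwU hw
  have h2 := X.sub_mem (X.smul_mem (QuadraticMap.polar Q w x₁ - Q w * φ) heX) h1
  rw [sub_sub_cancel] at h2
  have h3 := X.smul_mem (φ⁻¹) h2
  rw [smul_smul, inv_mul_cancel₀ hex, one_smul] at h3
  exact h3


/-- A subspace invariant under the Eichler transformations of `U` which contains a vector with non-zero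
`U`-component contains `U`. -/
theorem OrthSplit.le_of_invariant {Q : QuadraticForm F (ι → F)} {U U' : Submodule F (ι → F)}
    (h : OrthSplit Q U U') (hQ : (QuadraticMap.polarBilin Q).Nondegenerate) (hU : 7 ≤ finrank F U)
    (X : Submodule F (ι → F))
    (hX : ∀ e ∈ U, ∀ w ∈ U, Q e = 0 → QuadraticMap.polar Q e w = 0 → ∀ x ∈ X,
      isoAct (⇑Q) (eichG Q e w) x ∈ X)
    (x₁ x₁' : ι → F) (hx₁ : x₁ ∈ U) (hx₁0 : x₁ ≠ 0) (hx₁' : x₁' ∈ U') (hx : x₁ + x₁' ∈ X) : U ≤ X := by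
  obtain ⟨e, heU, he, hex⟩ := h.exists_singular_polar_ne hQ hU hx₁ hx₁0
  have h1 := h.orth_le_of_invariant hQ hU X hX x₁ x₁' hx₁ hx₁' hx e heU he hex
  obtain ⟨p, q, hpU, hqU, hp, hq, hpq, hep, heq, hxp, hxq⟩ := h.exists_hyp_pair hQ hU e x₁
  have he₂ : Q (e + p) = 0 := by rw [QuadraticMap.map_add Q, he, hp, hep]; ring
  have hex₂ : QuadraticMap.polar Q (e + p) x₁ ≠ 0 := by
    rw [QuadraticMap.polar_add_left, QuadraticMap.polar_comm Q p x₁, hxp, add_zero]; exact hex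
  have h2 := h.orth_le_of_invariant hQ hU X hX x₁ x₁' hx₁ hx₁' hx (e + p) (U.add_mem heU hpU) he₂ hex₂
  have he0 : e ≠ 0 := by
    rintro rfl
    apply hex
    simp
  obtain ⟨y, hyU, hy⟩ := h.exists_polar_ne hQ heU he0
  set u₀ := y - QuadraticMap.polar Q (e + p) y • q with hu₀
  have hu₀U : u₀ ∈ U := U.sub_mem hyU (U.smul_mem _ hqU)
  have hu₀X : u₀ ∈ X := by
    apply h2 u₀ hu₀U
    rw [hu₀, QuadraticMap.polar_sub_right, QuadraticMap.polar_smul_right,
      QuadraticMap.polar_add_left Q e p q, heq, hpq]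
    simp
  have hu₀e : QuadraticMap.polar Q e u₀ = QuadraticMap.polar Q e y := by
    rw [hu₀, QuadraticMap.polar_sub_right, QuadraticMap.polar_smul_right, heq]
    simp
  intro u hu
  have h3 : u = (u - (QuadraticMap.polar Q e u / QuadraticMap.polar Q e y) • u₀) +
      (QuadraticMap.polar Q e u / QuadraticMap.polar Q e y) • u₀ := by abel
  rw [h3]
  refine X.add_mem (h1 _ (U.sub_mem hu (U.smul_mem _ hu₀U)) ?_) (X.smul_mem _ hu₀X)
  rw [QuadraticMap.polar_sub_right, QuadraticMap.polar_smul_right, hu₀e]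
  simp only [smul_eq_mul]
  rw [div_mul_cancel₀ _ hy, sub_self]

/-- Step 1a: an isometry `k` not mapping `U` into itself conjugates some Eichler transformation of `U` to
an element not mapping `U` into itself (provided no isometry maps `U` into `U'`). -/
theorem OrthSplit.exists_conj_not_maps {Q : QuadraticForm F (ι → F)} {U U' : Submodule F (ι → F)}
    (h : OrthSplit Q U U') (hQ : (QuadraticMap.polarBilin Q).Nondegenerate) (hU : 7 ≤ finrank F U)
    (hswap : ∀ g : ↥(Cfsg.isometryGroup F ⇑Q), ¬ ∀ u ∈ U, isoAct (⇑Q) g u ∈ U')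
    (k : ↥(Cfsg.isometryGroup F ⇑Q)) (hk : ¬ ∀ u ∈ U, isoAct (⇑Q) k u ∈ U) :
    ∃ e ∈ U, ∃ w ∈ U, Q e = 0 ∧ QuadraticMap.polar Q e w = 0 ∧
      ¬ ∀ u ∈ U, isoAct (⇑Q) (k * eichG Q e w * k⁻¹) u ∈ U := by
  by_contra hcon
  push Not at hcon
  set X : Submodule F (ι → F) :=
    U.comap (Matrix.mulVecLin ((k : Matrix.GeneralLinearGroup ι F) : Matrix ι ι F)) with hXdef
  have hXmem : ∀ x, x ∈ X ↔ isoAct (⇑Q) k x ∈ U := fun x => Iff.rfl
  have hX : ∀ e ∈ U, ∀ w ∈ U, Q e = 0 → QuadraticMap.polar Q e w = 0 → ∀ x ∈ X,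
      isoAct (⇑Q) (eichG Q e w) x ∈ X := by
    intro e heU w hwU he hw x hx
    rw [hXmem] at hx ⊢
    have := hcon e heU w hwU he hw _ hx
    rw [isoAct_mul, isoAct_mul, isoAct_inv_isoAct] at this
    exact this
  by_cases hc : ∃ x₁ ∈ U, ∃ x₁' ∈ U', x₁ ≠ 0 ∧ x₁ + x₁' ∈ X
  · obtain ⟨x₁, hx₁, x₁', hx₁', hx₁0, hx⟩ := hc
    have := h.le_of_invariant hQ hU X hX x₁ x₁' hx₁ hx₁0 hx₁' hx
    exact hk (fun u hu => (hXmem u).mp (this hu))
  · push Not at hc
    apply hswap k⁻¹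
    intro u hu
    obtain ⟨x₁, hx₁, x₁', hx₁', hx⟩ := h.exists_add (isoAct (⇑Q) k⁻¹ u)
    have hmem : x₁ + x₁' ∈ X := by
      rw [hXmem, ← hx, isoAct_isoAct_inv]
      exact hu
    have h0 : x₁ = 0 := by
      by_contra h0
      exact hc x₁ hx₁ x₁' hx₁' h0 hmem
    rw [hx, h0, zero_add]
    exact hx₁'

/-- Step 1b: from an Eichler element `E(a, b)` of `M` not mapping `U` into itself, an Eichler element
`E(p, w')` of `M` with `p` in a hyperbolic pair of `U` and `0 ≠ w' ∈ U'`. -/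
theorem OrthSplit.exists_eich_out {Q : QuadraticForm F (ι → F)} {U U' : Submodule F (ι → F)}
    (h : OrthSplit Q U U') (hQ : (QuadraticMap.polarBilin Q).Nondegenerate) (hU : 7 ≤ finrank F U)
    (M : Subgroup ↥(Cfsg.isometryGroup F ⇑Q))
    (hE : ∀ e ∈ U, ∀ w ∈ U, eichG Q e w ∈ M)
    (a b : ι → F) (ha : Q a = 0) (hab : QuadraticMap.polar Q a b = 0) (hM : eichG Q a b ∈ M)
    (hnot : ¬ ∀ u ∈ U, isoAct (⇑Q) (eichG Q a b) u ∈ U) :
    ∃ p q, p ∈ U ∧ q ∈ U ∧ Q p = 0 ∧ Q q = 0 ∧ QuadraticMap.polar Q p q = 1 ∧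
      ∃ w', w' ∈ U' ∧ w' ≠ 0 ∧ eichG Q p w' ∈ M := by
  obtain ⟨p, q, hpU, hqU, hp, hq, hpq, hap, haq, hbp, hbq⟩ := h.exists_hyp_pair hQ hU a b
  refine ⟨p, q, hpU, hqU, hp, hq, hpq, ?_⟩
  set h' := eichG Q a b with hh'
  have hfix : ∀ x, QuadraticMap.polar Q a x = 0 → QuadraticMap.polar Q b x = 0 →
      isoAct (⇑Q) h' x = x := by
    intro x hax hbx
    rw [hh', isoAct_eichG Q a b ha hab, hax, hbx]
    simp
  have hfp := hfix p hap hbp
  have hfq := hfix q haq hbq
  obtain ⟨w, hwU, hpw, hw⟩ : ∃ w ∈ U, QuadraticMap.polar Q p w = 0 ∧ isoAct (⇑Q) h' w ∉ U := by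
    by_contra hcon
    push Not at hcon
    apply hnot
    intro u hu
    have h1 : u = (u - QuadraticMap.polar Q p u • q) + QuadraticMap.polar Q p u • q := by abel
    rw [h1, isoAct_add, isoAct_smul, hfq]
    refine U.add_mem (hcon _ (U.sub_mem hu (U.smul_mem _ hqU)) ?_) (U.smul_mem _ hqU)
    rw [QuadraticMap.polar_sub_right, QuadraticMap.polar_smul_right, hpq]
    simp
  have hpw₂ : QuadraticMap.polar Q p (isoAct (⇑Q) h' w) = 0 := by
    have := polar_isoAct Q h' p w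
    rw [hfp] at this
    rw [this]
    exact hpw
  have hEw₂ : eichG Q p (isoAct (⇑Q) h' w) ∈ M := by
    have h1 := eichG_conj Q h' p w
    rw [hfp] at h1
    rw [← h1]
    exact mul_mem (mul_mem hM (hE p hpU w hwU)) (inv_mem hM)
  obtain ⟨u₂, hu₂, w', hw', hdec⟩ := h.exists_add (isoAct (⇑Q) h' w)
  refine ⟨w', hw', ?_, ?_⟩
  · intro hw'0
    apply hw
    rw [hdec, hw'0, add_zero]
    exact hu₂
  · have hpw' : QuadraticMap.polar Q p w' = 0 := h.orth p hpU w' hw'
    have hpu₂ : QuadraticMap.polar Q p u₂ = 0 := by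
      have := hpw₂
      rw [hdec, QuadraticMap.polar_add_right, hpw', add_zero] at this
      exact this
    have h1 : w' = isoAct (⇑Q) h' w + (-u₂) := by rw [hdec]; abel
    have h2 := eichG_mul Q p (isoAct (⇑Q) h' w) (-u₂) hp hpw₂
      (by rw [QuadraticMap.polar_neg_right, hpu₂, neg_zero])
    rw [← h1] at h2
    rw [← h2]
    exact mul_mem hEw₂ (hE p hpU (-u₂) (U.neg_mem hu₂))

/-- An element of `Ω` stabilising `U`, fixing `U'` pointwise, and scaling `p` by `c`. -/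
theorem OrthSplit.exists_scale {Q : QuadraticForm F (ι → F)} {U U' : Submodule F (ι → F)}
    (h : OrthSplit Q U U') (hQ : (QuadraticMap.polarBilin Q).Nondegenerate) (hn : 5 ≤ Fintype.card ι)
    (p q p₂ q₂ : ι → F) (hpU : p ∈ U) (hqU : q ∈ U) (hp₂U : p₂ ∈ U) (hq₂U : q₂ ∈ U)
    (hp : Q p = 0) (hq : Q q = 0) (hpq : QuadraticMap.polar Q p q = 1)
    (hp₂ : Q p₂ = 0) (hq₂ : Q q₂ = 0) (hpq₂ : QuadraticMap.polar Q p₂ q₂ = 1)
    (h1 : QuadraticMap.polar Q p₂ p = 0) (h3 : QuadraticMap.polar Q q₂ p = 0)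
    (c : F) (hc : c ≠ 0) :
    ∃ g ∈ Cfsg.Omega F ⇑Q, (∀ u ∈ U, isoAct (⇑Q) g u ∈ U) ∧ isoAct (⇑Q) g p = c • p ∧
      ∀ w' ∈ U', isoAct (⇑Q) g w' = w' := by
  have hpp : QuadraticMap.polar Q p p = 0 := by rw [QuadraticMap.polar_self, hp, smul_zero]
  have hqq : QuadraticMap.polar Q q q = 0 := by rw [QuadraticMap.polar_self, hq, smul_zero]
  have hqp : QuadraticMap.polar Q q p = 1 := by rw [QuadraticMap.polar_comm]; exact hpq
  have hQ1 : Q (p + (-1 : F) • q) ≠ 0 := by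
    rw [Q_hyp_add_smul Q p q hp hq hpq]
    exact neg_ne_zero.mpr one_ne_zero
  have hQc : Q (p + (-c) • q) ≠ 0 := by
    rw [Q_hyp_add_smul Q p q hp hq hpq]
    exact neg_ne_zero.mpr hc
  have ha1U : p + (-1 : F) • q ∈ U := U.add_mem hpU (U.smul_mem _ hqU)
  have hacU : p + (-c) • q ∈ U := U.add_mem hpU (U.smul_mem _ hqU)
  set ρ := reflG' Q (p + (-1 : F) • q) * reflG' Q (p + (-c) • q) with hρ
  have hρp : isoAct (⇑Q) ρ p = c • p := by
    rw [hρ, isoAct_mul, isoAct_reflG' Q _ hQc, Q_hyp_add_smul Q p q hp hq hpq,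
      QuadraticMap.polar_add_left, QuadraticMap.polar_smul_left, hpp, hqp]
    have e1 : p - ((-c)⁻¹ * (0 + (-c) • (1 : F))) • (p + (-c) • q) = c • q := by
      have : (-c)⁻¹ * (0 + (-c) • (1 : F)) = 1 := by
        rw [zero_add, smul_eq_mul, mul_one, inv_mul_cancel₀ (neg_ne_zero.mpr hc)]
      rw [this, one_smul, neg_smul]
      abel
    rw [e1, isoAct_smul, isoAct_reflG' Q _ hQ1, Q_hyp_add_smul Q p q hp hq hpq,
      QuadraticMap.polar_add_left, QuadraticMap.polar_smul_left, hpq, hqq]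
    have e2 : q - ((-1 : F)⁻¹ * (1 + (-1 : F) • (0 : F))) • (p + (-1 : F) • q) = p := by
      have : (-1 : F)⁻¹ * (1 + (-1 : F) • (0 : F)) = -1 := by
        rw [smul_zero, add_zero, mul_one, inv_neg_one]
      rw [this, neg_one_smul, neg_one_smul]
      abel
    rw [e2]
  have hρU : ∀ u ∈ U, isoAct (⇑Q) ρ u ∈ U := by
    intro u hu
    rw [hρ, isoAct_mul, isoAct_reflG' Q _ hQc, isoAct_reflG' Q _ hQ1]
    exact U.sub_mem (U.sub_mem hu (U.smul_mem _ hacU)) (U.smul_mem _ ha1U)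
  have hρU' : ∀ w' ∈ U', isoAct (⇑Q) ρ w' = w' := by
    intro w' hw'
    rw [hρ, isoAct_mul, isoAct_reflG'_of_orth Q _ w' hQc (h.orth _ hacU w' hw'),
      isoAct_reflG'_of_orth Q _ w' hQ1 (h.orth _ ha1U w' hw')]
  obtain ⟨s, hsΩ, hsfix, hsX⟩ := exists_correction Q hQ hn p₂ q₂ hp₂ hq₂ hpq₂ ρ
  refine ⟨s * ρ, hsΩ, ?_, ?_, ?_⟩
  · intro u hu
    rw [isoAct_mul]
    exact hsX U hp₂U hq₂U _ (hρU u hu)
  · rw [isoAct_mul, hρp, isoAct_smul, hsfix p h1 h3]
  · intro w' hw'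
    rw [isoAct_mul, hρU' w' hw']
    exact hsfix w' (h.orth p₂ hp₂U w' hw') (h.orth q₂ hq₂U w' hw')

/-- An element of `Ω` stabilising `U` and mapping `p` to `q`. -/
theorem OrthSplit.exists_swap {Q : QuadraticForm F (ι → F)} {U U' : Submodule F (ι → F)}
    (h : OrthSplit Q U U') (hQ : (QuadraticMap.polarBilin Q).Nondegenerate) (hn : 5 ≤ Fintype.card ι)
    (p q p₂ q₂ : ι → F) (hpU : p ∈ U) (hqU : q ∈ U) (hp₂U : p₂ ∈ U) (hq₂U : q₂ ∈ U)
    (hp : Q p = 0) (hq : Q q = 0) (hpq : QuadraticMap.polar Q p q = 1)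
    (hp₂ : Q p₂ = 0) (hq₂ : Q q₂ = 0) (hpq₂ : QuadraticMap.polar Q p₂ q₂ = 1)
    (h2 : QuadraticMap.polar Q p₂ q = 0) (h4 : QuadraticMap.polar Q q₂ q = 0) :
    ∃ g ∈ Cfsg.Omega F ⇑Q, (∀ u ∈ U, isoAct (⇑Q) g u ∈ U) ∧ isoAct (⇑Q) g p = q := by
  have hpp : QuadraticMap.polar Q p p = 0 := by rw [QuadraticMap.polar_self, hp, smul_zero]
  have hqp : QuadraticMap.polar Q q p = 1 := by rw [QuadraticMap.polar_comm]; exact hpq
  have hQ1 : Q (p + (-1 : F) • q) ≠ 0 := by
    rw [Q_hyp_add_smul Q p q hp hq hpq]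
    exact neg_ne_zero.mpr one_ne_zero
  have ha1U : p + (-1 : F) • q ∈ U := U.add_mem hpU (U.smul_mem _ hqU)
  set ρ := reflG' Q (p + (-1 : F) • q) with hρ
  have hρp : isoAct (⇑Q) ρ p = q := by
    rw [hρ, isoAct_reflG' Q _ hQ1, Q_hyp_add_smul Q p q hp hq hpq,
      QuadraticMap.polar_add_left, QuadraticMap.polar_smul_left, hpp, hqp]
    have : (-1 : F)⁻¹ * (0 + (-1 : F) • (1 : F)) = 1 := by
      rw [zero_add, smul_eq_mul, mul_one, inv_neg_one]
      ring
    rw [this, one_smul, neg_one_smul]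
    abel
  obtain ⟨s, hsΩ, hsfix, hsX⟩ := exists_correction Q hQ hn p₂ q₂ hp₂ hq₂ hpq₂ ρ
  refine ⟨s * ρ, hsΩ, ?_, ?_⟩
  · intro u hu
    rw [isoAct_mul]
    refine hsX U hp₂U hq₂U _ ?_
    rw [hρ, isoAct_reflG' Q _ hQ1]
    exact U.sub_mem hu (U.smul_mem _ ha1U)
  · rw [isoAct_mul, hρp, hsfix q h2 h4]

/-- Witt extension inside the stabiliser: an element of `Ω` stabilising `U`, fixing `p ∈ U` and mapping
`w` to `w₂`, for non-zero `w, w₂ ∈ U'` with the same value of `Q`. -/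
theorem OrthSplit.exists_move {Q : QuadraticForm F (ι → F)} {U U' : Submodule F (ι → F)}
    (h : OrthSplit Q U U') (hQ : (QuadraticMap.polarBilin Q).Nondegenerate) (hn : 5 ≤ Fintype.card ι)
    (p p₂ q₂ : ι → F) (hpU : p ∈ U) (hp₂U : p₂ ∈ U) (hq₂U : q₂ ∈ U)
    (hp₂ : Q p₂ = 0) (hq₂ : Q q₂ = 0) (hpq₂ : QuadraticMap.polar Q p₂ q₂ = 1)
    (h1 : QuadraticMap.polar Q p₂ p = 0) (h3 : QuadraticMap.polar Q q₂ p = 0)
    (w w₂ : ι → F) (hw : w ∈ U') (hw₂ : w₂ ∈ U') (hw0 : w ≠ 0) (hw₂0 : w₂ ≠ 0) (hQw : Q w₂ = Q w) :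
    ∃ g ∈ Cfsg.Omega F ⇑Q, (∀ u ∈ U, isoAct (⇑Q) g u ∈ U) ∧ isoAct (⇑Q) g p = p ∧
      isoAct (⇑Q) g w = w₂ := by
  classical
  set bU := Module.finBasis F U with hbU
  have hspan : Submodule.span F (Set.range (fun i => (bU i : ι → F))) = U := by
    have e1 : Set.range (fun i => (bU i : ι → F)) = U.subtype '' Set.range bU := by
      rw [← Set.range_comp]
      rfl
    rw [e1, ← Submodule.map_span, bU.span_eq, Submodule.map_subtype_top]
  have hli : LinearIndependent F (fun i => (bU i : ι → F)) :=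
    bU.linearIndependent.map' U.subtype (Submodule.ker_subtype U)
  have hv : LinearIndependent F (Fin.cons w (fun i => (bU i : ι → F)) : Fin (finrank F U + 1) → ι → F) := by
    rw [linearIndependent_finCons]
    refine ⟨hli, ?_⟩
    rw [hspan]
    intro hwU
    exact hw0 (h.eq_zero_of_mem hwU hw)
  have hv' : LinearIndependent F
      (Fin.cons w₂ (fun i => (bU i : ι → F)) : Fin (finrank F U + 1) → ι → F) := by
    rw [linearIndependent_finCons]
    refine ⟨hli, ?_⟩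
    rw [hspan]
    intro hwU
    exact hw₂0 (h.eq_zero_of_mem hwU hw₂)
  have hQ' : ∀ c : Fin (finrank F U + 1) → F,
      Q (∑ i, c i • (Fin.cons w (fun i => (bU i : ι → F)) : Fin (finrank F U + 1) → ι → F) i) =
      Q (∑ i, c i • (Fin.cons w₂ (fun i => (bU i : ι → F)) : Fin (finrank F U + 1) → ι → F) i) := by
    intro c
    rw [Fin.sum_univ_succ, Fin.sum_univ_succ]
    simp only [Fin.cons_zero, Fin.cons_succ]
    have huU : ∑ i : Fin (finrank F U), c i.succ • (bU i : ι → F) ∈ U :=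
      Submodule.sum_mem _ (fun i _ => U.smul_mem _ (bU i).2)
    rw [QuadraticMap.map_add Q, QuadraticMap.map_add Q, QuadraticMap.map_smul, QuadraticMap.map_smul, hQw,
      QuadraticMap.polar_smul_left, QuadraticMap.polar_smul_left, QuadraticMap.polar_comm Q w,
      QuadraticMap.polar_comm Q w₂, h.orth _ huU w hw, h.orth _ huU w₂ hw₂]
  obtain ⟨g₀, hg₀⟩ := exists_isometry_family Q hQ _ _ hv hv' hQ'
  have hg₀w : isoAct (⇑Q) g₀ w = w₂ := by
    have := hg₀ 0
    simpa using this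
  have hg₀b : ∀ i, isoAct (⇑Q) g₀ (bU i : ι → F) = (bU i : ι → F) := by
    intro i
    have := hg₀ i.succ
    simpa using this
  have hg₀U : ∀ u ∈ U, isoAct (⇑Q) g₀ u = u := by
    intro u hu
    rw [← hspan] at hu
    induction hu using Submodule.span_induction with
    | mem x hx =>
      obtain ⟨i, rfl⟩ := hx
      exact hg₀b i
    | zero => exact isoAct_zero _ _
    | add x y _ _ hx hy => rw [isoAct_add, hx, hy]
    | smul c x _ hx => rw [isoAct_smul, hx]
  obtain ⟨s, hsΩ, hsfix, hsX⟩ := exists_correction Q hQ hn p₂ q₂ hp₂ hq₂ hpq₂ g₀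
  refine ⟨s * g₀, hsΩ, ?_, ?_, ?_⟩
  · intro u hu
    rw [isoAct_mul, hg₀U u hu]
    exact hsX U hp₂U hq₂U u hu
  · rw [isoAct_mul, hg₀U p hpU]
    exact hsfix p h1 h3
  · rw [isoAct_mul, hg₀w]
    exact hsfix w₂ (h.orth p₂ hp₂U w₂ hw₂) (h.orth q₂ hq₂U w₂ hw₂)

omit [Fintype F] [DecidableEq ι] in
/-- The span of a hyperbolic pair is two-dimensional. -/
theorem finrank_span_hyp_pair (Q : QuadraticForm F (ι → F)) (a b : ι → F) (ha : Q a = 0)
    (hab : QuadraticMap.polar Q a b = 1) : finrank F (Submodule.span F (Set.range ![a, b])) = 2 := by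
  have haa : QuadraticMap.polar Q a a = 0 := by rw [QuadraticMap.polar_self, ha, smul_zero]
  have hli : LinearIndependent F ![a, b] := by
    rw [LinearIndependent.pair_iff]
    intro s t hst
    have h1 : QuadraticMap.polar Q a (s • a + t • b) = t := by
      rw [QuadraticMap.polar_add_right, QuadraticMap.polar_smul_right, QuadraticMap.polar_smul_right, haa, hab]
      simp
    rw [hst] at h1
    have ht : t = 0 := by rw [← h1]; simp
    rw [ht, zero_smul, add_zero] at hst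
    have h2 : QuadraticMap.polar Q (s • a) b = s := by
      rw [QuadraticMap.polar_smul_left, hab]
      simp
    rw [hst] at h2
    exact ⟨by rw [← h2]; simp, ht⟩
  rw [finrank_span_eq_card hli]
  simp


/-- **Core theorem.** Let `V = U ⊥ U'` with `dim U ≥ 7`, no isometry mapping `U` into `U'`, and `U'` not
a hyperbolic plane over a field with at most three elements.  A subgroup `M` of the isometry group which
contains the stabiliser of `U` in `Ω` and an element not stabilising `U` contains `Ω`. -/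
theorem Omega_le_of_nondeg_stab (Q : QuadraticForm F (ι → F))
    (hQ : (QuadraticMap.polarBilin Q).Nondegenerate) {U U' : Submodule F (ι → F)}
    (h : OrthSplit Q U U') (hU : 7 ≤ finrank F U)
    (hswap : ∀ g : ↥(Cfsg.isometryGroup F ⇑Q), ¬ ∀ u ∈ U, isoAct (⇑Q) g u ∈ U')
    (hex : Fintype.card F ≤ 3 → finrank F U' = 2 → ∀ x ∈ U', Q x = 0 → x = 0)
    (M : Subgroup ↥(Cfsg.isometryGroup F ⇑Q))
    (hS : ∀ g ∈ Cfsg.Omega F ⇑Q, (∀ u ∈ U, isoAct (⇑Q) g u ∈ U) → g ∈ M)
    (k : ↥(Cfsg.isometryGroup F ⇑Q)) (hkM : k ∈ M) (hkU : ¬ ∀ u ∈ U, isoAct (⇑Q) k u ∈ U) :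
    Cfsg.Omega F ⇑Q ≤ M := by
  classical
  have hn7 : 7 ≤ Fintype.card ι := by
    have := h.finrank_add
    omega
  have hE : ∀ e ∈ U, ∀ w ∈ U, eichG Q e w ∈ M := fun e he w hw =>
    hS _ (eichG_mem_Omega Q hQ hn7 e w) (eichG_maps Q U e w he hw)
  obtain ⟨e₀, he₀U, w₀, hw₀U, he₀, hew₀, hnot⟩ := h.exists_conj_not_maps hQ hU hswap k hkU
  rw [eichG_conj] at hnot
  have hM1 : eichG Q (isoAct (⇑Q) k e₀) (isoAct (⇑Q) k w₀) ∈ M := by
    rw [← eichG_conj]
    exact mul_mem (mul_mem hkM (hE e₀ he₀U w₀ hw₀U)) (inv_mem hkM)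
  obtain ⟨p, q, hpU, hqU, hp, hq, hpq, w', hw'U', hw'0, hw'M⟩ := h.exists_eich_out hQ hU M hE _ _
    ((Q_isoAct (⇑Q) k e₀).trans he₀) ((polar_isoAct Q k e₀ w₀).trans hew₀) hM1 hnot
  obtain ⟨p₂, q₂, hp₂U, hq₂U, hp₂, hq₂, hpq₂, hpp₂, hpq₂', hqp₂, hqq₂⟩ := h.exists_hyp_pair hQ hU p q
  have h1 : QuadraticMap.polar Q p₂ p = 0 := by rw [QuadraticMap.polar_comm]; exact hpp₂
  have h2 : QuadraticMap.polar Q p₂ q = 0 := by rw [QuadraticMap.polar_comm]; exact hqp₂
  have h3 : QuadraticMap.polar Q q₂ p = 0 := by rw [QuadraticMap.polar_comm]; exact hpq₂'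
  have h4 : QuadraticMap.polar Q q₂ q = 0 := by rw [QuadraticMap.polar_comm]; exact hqq₂
  -- Step 2: the subspace `B` of all `w ∈ U'` with `E(p, w) ∈ M`
  let B : Submodule F (ι → F) :=
    { carrier := {w | w ∈ U' ∧ eichG Q p w ∈ M}
      zero_mem' := ⟨U'.zero_mem, by rw [eichG_zero]; exact one_mem _⟩
      add_mem' := by
        rintro a b ⟨ha, haM⟩ ⟨hb, hbM⟩
        refine ⟨U'.add_mem ha hb, ?_⟩
        rw [← eichG_mul Q p a b hp (h.orth p hpU a ha) (h.orth p hpU b hb)]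
        exact mul_mem haM hbM
      smul_mem' := by
        rintro c a ⟨ha, haM⟩
        refine ⟨U'.smul_mem c ha, ?_⟩
        by_cases hc : c = 0
        · rw [hc, zero_smul, eichG_zero]
          exact one_mem _
        · obtain ⟨g, hgΩ, hgU, hgp, hgU'⟩ := h.exists_scale hQ (by omega) p q p₂ q₂ hpU hqU hp₂U hq₂U
            hp hq hpq hp₂ hq₂ hpq₂ h1 h3 c hc
          have hgM := hS g hgΩ hgU
          have e1 := eichG_conj Q g p a
          rw [hgp, hgU' a ha, eichG_smul_left Q p a c hp (h.orth p hpU a ha)] at e1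
          rw [← e1]
          exact mul_mem (mul_mem hgM haM) (inv_mem hgM) }
  have hBU : B ≤ U' := fun w hw => hw.1
  have hB0 : B ≠ ⊥ := by
    intro hB
    have hmem : w' ∈ B := ⟨hw'U', hw'M⟩
    rw [hB] at hmem
    exact hw'0 ((Submodule.mem_bot F).mp hmem)
  have hBw : ∀ w ∈ B, w ≠ 0 → ∀ w₂ ∈ U', w₂ ≠ 0 → Q w₂ = Q w → w₂ ∈ B := by
    intro w hw hw0 w₂ hw₂ hw₂0 hQw
    obtain ⟨g, hgΩ, hgU, hgp, hgw⟩ := h.exists_move hQ (by omega) p p₂ q₂ hpU hp₂U hq₂U hp₂ hq₂ hpq₂ h1 h3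
      w w₂ hw.1 hw₂ hw0 hw₂0 hQw
    have hgM := hS g hgΩ hgU
    refine ⟨hw₂, ?_⟩
    have e1 := eichG_conj Q g p w
    rw [hgp, hgw] at e1
    rw [← e1]
    exact mul_mem (mul_mem hgM hw.2) (inv_mem hgM)
  have hexB : ∀ a b, a ∈ U' → b ∈ U' → Q a = 0 → Q b = 0 → QuadraticMap.polar Q a b = 1 →
      (∃ l : F, l ≠ 0 ∧ l * l ≠ 1) ∨
      (∃ t₁ ∈ U', ∃ t₂ ∈ U', QuadraticMap.polar Q t₁ a = 0 ∧ QuadraticMap.polar Q t₁ b = 0 ∧
        QuadraticMap.polar Q t₂ a = 0 ∧ QuadraticMap.polar Q t₂ b = 0 ∧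
        QuadraticMap.polar Q t₁ t₂ ≠ 0) := by
    intro a b ha hb hQa hQb hab
    by_cases hcard : Fintype.card F ≤ 3
    · right
      have ha0 : a ≠ 0 := by
        rintro rfl
        rw [QuadraticMap.polar_zero_left] at hab
        exact zero_ne_one hab
      have hPU : Submodule.span F (Set.range ![a, b]) ≤ U' := by
        apply Submodule.span_le.mpr
        rintro x ⟨i, rfl⟩
        fin_cases i
        · exact ha
        · exact hb
      have hPne : Submodule.span F (Set.range ![a, b]) ≠ U' := by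
        intro hP
        have e1 := finrank_span_hyp_pair Q a b hQa hab
        rw [hP] at e1
        exact ha0 (hex hcard e1 a ha hQa)
      obtain ⟨x, hxU', hxP⟩ := SetLike.exists_of_lt (lt_of_le_of_ne hPU hPne)
      obtain ⟨hta, htb⟩ := polar_hypComp Q a b x hQa hQb hab
      set t₁ := x - QuadraticMap.polar Q x b • a - QuadraticMap.polar Q x a • b with ht₁
      have ht₁U' : t₁ ∈ U' := U'.sub_mem (U'.sub_mem hxU' (U'.smul_mem _ ha)) (U'.smul_mem _ hb)
      have ht₁0 : t₁ ≠ 0 := by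
        intro h0
        apply hxP
        have e1 : x = QuadraticMap.polar Q x b • a + QuadraticMap.polar Q x a • b := by
          have e2 : x = t₁ + (QuadraticMap.polar Q x b • a + QuadraticMap.polar Q x a • b) := by
            rw [ht₁]; abel
          rw [h0, zero_add] at e2
          exact e2
        rw [e1]
        exact Submodule.add_mem _ (Submodule.smul_mem _ _ (Submodule.subset_span ⟨0, rfl⟩))
          (Submodule.smul_mem _ _ (Submodule.subset_span ⟨1, rfl⟩))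
      obtain ⟨y, hyU', hy⟩ := h.symm.exists_polar_ne hQ ht₁U' ht₁0
      obtain ⟨hsa, hsb⟩ := polar_hypComp Q a b y hQa hQb hab
      refine ⟨t₁, ht₁U', y - QuadraticMap.polar Q y b • a - QuadraticMap.polar Q y a • b,
        U'.sub_mem (U'.sub_mem hyU' (U'.smul_mem _ ha)) (U'.smul_mem _ hb), hta, htb, hsa, hsb, ?_⟩
      rw [QuadraticMap.polar_sub_right, QuadraticMap.polar_sub_right, QuadraticMap.polar_smul_right,
        QuadraticMap.polar_smul_right, hta, htb]
      simp only [smul_eq_mul, mul_zero, sub_zero]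
      exact hy
    · left
      by_contra hcon
      push Not at hcon
      apply hcard
      have hsub : (Finset.univ : Finset F) ⊆ {0, 1, -1} := by
        intro l _
        by_cases hl : l = 0
        · simp [hl]
        · have e1 := hcon l hl
          have e2 : (l - 1) * (l + 1) = 0 := by
            have : (l - 1) * (l + 1) = l * l - 1 := by ring
            rw [this, e1, sub_self]
          rcases mul_eq_zero.mp e2 with e3 | e3
          · have : l = 1 := sub_eq_zero.mp e3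
            simp [this]
          · have : l = -1 := eq_neg_of_add_eq_zero_left e3
            simp [this]
      calc Fintype.card F = (Finset.univ : Finset F).card := rfl
        _ ≤ ({0, 1, -1} : Finset F).card := Finset.card_le_card hsub
        _ ≤ 3 := Finset.card_le_three
  have hU'B := irr_of_witt_closed Q hQ h B hBU hB0 hBw hexB
  -- Step 3
  have hMp : ∀ w, QuadraticMap.polar Q p w = 0 → eichG Q p w ∈ M := by
    intro w hw
    obtain ⟨u, hu, u', hu', rfl⟩ := h.exists_add w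
    have e1 : QuadraticMap.polar Q p u' = 0 := h.orth p hpU u' hu'
    have e2 : QuadraticMap.polar Q p u = 0 := by
      rw [QuadraticMap.polar_add_right, e1, add_zero] at hw
      exact hw
    rw [← eichG_mul Q p u u' hp e2 e1]
    exact mul_mem (hE p hpU u hu) (hU'B hu').2
  obtain ⟨s, hsΩ, hsU, hsp⟩ := h.exists_swap hQ (by omega) p q p₂ q₂ hpU hqU hp₂U hq₂U hp hq hpq hp₂ hq₂
    hpq₂ h2 h4
  have hsM := hS s hsΩ hsU
  have hMq : ∀ w, QuadraticMap.polar Q q w = 0 → eichG Q q w ∈ M := by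
    intro w hw
    have e1 := eichG_conj Q s p (isoAct (⇑Q) s⁻¹ w)
    rw [hsp, isoAct_isoAct_inv] at e1
    rw [← e1]
    refine mul_mem (mul_mem hsM (hMp _ ?_)) (inv_mem hsM)
    have e2 := polar_isoAct Q s p (isoAct (⇑Q) s⁻¹ w)
    rw [hsp, isoAct_isoAct_inv] at e2
    rw [← e2]
    exact hw
  exact Omega_le_of_hyp_pair Q hQ (by omega) M p q hp hq (by rw [hpq]; exact one_ne_zero) hMp hMq

end Stab

section Wrapper

variable {F : Type*} [Field F] [Fintype F] {ι : Type} [Fintype ι] [DecidableEq ι]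

omit [Fintype F] in
theorem mem_stab_iff (Q : QuadraticForm F (ι → F)) (U : Submodule F (ι → F))
    (g : ↥(Cfsg.isometryGroup F ⇑Q)) :
    (g : Matrix.GeneralLinearGroup ι F) ∈ Cfsg.Geo.subspaceStabilizer U ↔
      ∀ u ∈ U, isoAct (⇑Q) g u ∈ U := by
  constructor
  · intro hg u hu
    exact (hg u).mp hu
  · intro hg
    exact Cfsg.Agent.Lib.helper7.RootElt.mem_subspaceStabilizer_of_act_mem Q U g hg

omit [Fintype F] in
/-- An isometry stabilising `U` stabilises `U'`. -/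
theorem OrthSplit.stab_of_stab {Q : QuadraticForm F (ι → F)} {U U' : Submodule F (ι → F)}
    (h : OrthSplit Q U U') (hQ : (QuadraticMap.polarBilin Q).Nondegenerate)
    (g : ↥(Cfsg.isometryGroup F ⇑Q))
    (hg : (g : Matrix.GeneralLinearGroup ι F) ∈ Cfsg.Geo.subspaceStabilizer U) :
    (g : Matrix.GeneralLinearGroup ι F) ∈ Cfsg.Geo.subspaceStabilizer U' := by
  rw [mem_stab_iff]
  have hginv : ((g⁻¹ : ↥(Cfsg.isometryGroup F ⇑Q)) : Matrix.GeneralLinearGroup ι F) ∈
      Cfsg.Geo.subspaceStabilizer U := (Cfsg.Geo.subspaceStabilizer U).inv_mem hg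
  rw [mem_stab_iff] at hginv
  intro u' hu'
  apply h.symm.mem_of_orth hQ
  intro u hu
  have e1 := polar_isoAct Q g (isoAct (⇑Q) g⁻¹ u) u'
  rw [isoAct_isoAct_inv] at e1
  rw [e1]
  exact h.orth _ (hginv u hu) u' hu'

omit [Fintype F] in
theorem OrthSplit.stab_inf_eq {Q : QuadraticForm F (ι → F)} {U U' : Submodule F (ι → F)}
    (h : OrthSplit Q U U') (hQ : (QuadraticMap.polarBilin Q).Nondegenerate) :
    Cfsg.Geo.subspaceStabilizer U ⊓ Cfsg.Geo.omegaGL ⇑Q =
      Cfsg.Geo.subspaceStabilizer U' ⊓ Cfsg.Geo.omegaGL ⇑Q := by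
  ext x
  constructor
  · rintro ⟨hx1, hx2⟩
    obtain ⟨g, hg, rfl⟩ := hx2
    exact ⟨h.stab_of_stab hQ g hx1, ⟨g, hg, rfl⟩⟩
  · rintro ⟨hx1, hx2⟩
    obtain ⟨g, hg, rfl⟩ := hx2
    exact ⟨h.symm.stab_of_stab hQ g hx1, ⟨g, hg, rfl⟩⟩

/-- The stabiliser of `U` is maximal in `Ω`, for an orthogonal splitting `V = U ⊥ U'` with `dim U ≥ 7`,
`U' ≠ 0`, no isometry mapping `U` into `U'`, and `U'` not a hyperbolic plane over a field with at most
three elements. -/
theorem isMaximalIn_stab_of_split (Q : QuadraticForm F (ι → F))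
    (hQ : (QuadraticMap.polarBilin Q).Nondegenerate) {U U' : Submodule F (ι → F)}
    (h : OrthSplit Q U U') (hU : 7 ≤ finrank F U) (hU'0 : U' ≠ ⊥)
    (hswap : ∀ g : ↥(Cfsg.isometryGroup F ⇑Q), ¬ ∀ u ∈ U, isoAct (⇑Q) g u ∈ U')
    (hex : Fintype.card F ≤ 3 → finrank F U' = 2 → ∀ x ∈ U', Q x = 0 → x = 0) :
    Cfsg.Geo.IsMaximalIn (Cfsg.Geo.omegaGL ⇑Q)
      (Cfsg.Geo.subspaceStabilizer U ⊓ Cfsg.Geo.omegaGL ⇑Q) := by
  have hn7 : 7 ≤ Fintype.card ι := by
    have := h.finrank_add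
    omega
  constructor
  · refine lt_of_le_of_ne inf_le_right ?_
    intro heq
    obtain ⟨w', hw'U', hw'0⟩ := Submodule.exists_mem_ne_zero_of_ne_bot hU'0
    obtain ⟨p, q, hpU, hqU, hp, hq, hpq, -, -, -, -⟩ := h.exists_hyp_pair hQ hU 0 0
    have hpw' : QuadraticMap.polar Q p w' = 0 := h.orth p hpU w' hw'U'
    have h1 : ((eichG Q p w' : ↥(Cfsg.isometryGroup F ⇑Q)) : Matrix.GeneralLinearGroup ι F) ∈
        Cfsg.Geo.subspaceStabilizer U ⊓ Cfsg.Geo.omegaGL ⇑Q := by
      rw [heq]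
      exact ⟨_, eichG_mem_Omega Q hQ hn7 p w', rfl⟩
    have h2 : isoAct (⇑Q) (eichG Q p w') q ∈ U := (h1.1 q).mp hqU
    rw [isoAct_eichG Q p w' hp hpw', hpq, QuadraticMap.polar_comm Q w' q, h.orth q hqU w' hw'U'] at h2
    apply hw'0
    apply h.eq_zero_of_mem _ hw'U'
    have h3 := U.sub_mem (U.add_mem hqU (U.smul_mem (0 - Q w' * 1) hpU)) h2
    rw [sub_sub_cancel, one_smul] at h3
    exact h3
  · intro M hPM hMG
    by_cases hM : M ≤ Cfsg.Geo.subspaceStabilizer U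
    · left
      exact le_antisymm (le_inf hM hMG) hPM
    · right
      refine le_antisymm hMG ?_
      obtain ⟨k, hkM, hkU⟩ := SetLike.not_le_iff_exists.mp hM
      obtain ⟨k'', hk''Ω, rfl⟩ := hMG hkM
      have key := Omega_le_of_nondeg_stab Q hQ h hU hswap hex
        (M.comap (Cfsg.isometryGroup F ⇑Q).subtype)
        (fun g hg hgU => hPM ⟨(mem_stab_iff Q U g).mpr hgU, ⟨g, hg, rfl⟩⟩)
        k'' hkM (fun hk => hkU ((mem_stab_iff Q U k'').mpr hk))
      rintro _ ⟨g, hg, rfl⟩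
      exact key hg

omit [Fintype F] in
/-- No isometry maps `U` into a subspace of smaller dimension. -/
theorem not_maps_of_finrank_lt (Q : QuadraticForm F (ι → F)) (U U' : Submodule F (ι → F))
    (hlt : finrank F U' < finrank F U) (g : ↥(Cfsg.isometryGroup F ⇑Q)) :
    ¬ ∀ u ∈ U, isoAct (⇑Q) g u ∈ U' := by
  intro hg
  have hinj : Function.Injective
      ((Matrix.mulVecLin ((g : Matrix.GeneralLinearGroup ι F) : Matrix ι ι F)).restrict hg) := by
    intro x y hxy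
    have h1 : isoAct (⇑Q) g x = isoAct (⇑Q) g y := congrArg Subtype.val hxy
    apply Subtype.ext
    have h2 := congrArg (isoAct (⇑Q) g⁻¹) h1
    rwa [isoAct_inv_isoAct, isoAct_inv_isoAct] at h2
  have := LinearMap.finrank_le_finrank_of_injective hinj
  omega

omit [Fintype F] in
/-- An isometry mapping `U` into a subspace `U'` of the same dimension shows they are isometric. -/
theorem areIsometricFor_of_maps (Q : QuadraticForm F (ι → F)) (U U' : Submodule F (ι → F))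
    (hdim : finrank F U = finrank F U') (g : ↥(Cfsg.isometryGroup F ⇑Q))
    (hg : ∀ u ∈ U, isoAct (⇑Q) g u ∈ U') : Cfsg.Geo.AreIsometricFor (⇑Q) U U' := by
  have hinj : Function.Injective
      ((Matrix.mulVecLin ((g : Matrix.GeneralLinearGroup ι F) : Matrix ι ι F)).restrict hg) := by
    intro x y hxy
    have h1 : isoAct (⇑Q) g x = isoAct (⇑Q) g y := congrArg Subtype.val hxy
    apply Subtype.ext
    have h2 := congrArg (isoAct (⇑Q) g⁻¹) h1
    rwa [isoAct_inv_isoAct, isoAct_inv_isoAct] at h2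
  refine ⟨LinearMap.linearEquivOfInjective _ hinj hdim, fun w => ?_⟩
  rw [LinearMap.linearEquivOfInjective_apply]
  exact Q_isoAct (⇑Q) g (w : ι → F)

omit [Fintype F] in
/-- The orthogonal splitting defined by a non-degenerate subspace. -/
theorem orthSplit_of_nondegenerateOn (Q : QuadraticForm F (ι → F))
    (hQ : (QuadraticMap.polarBilin Q).Nondegenerate) (W : Submodule F (ι → F))
    (hW : Cfsg.Geo.IsNondegenerateOn (QuadraticMap.polar ⇑Q) W) :
    OrthSplit Q W (LinearMap.BilinForm.orthogonal (QuadraticMap.polarBilin Q) W) := by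
  have hdisj : Disjoint W (LinearMap.BilinForm.orthogonal (QuadraticMap.polarBilin Q) W) := by
    rw [Submodule.disjoint_def]
    intro x hxW hx
    by_contra hx0
    obtain ⟨y, hyW, hy⟩ := (hW x hxW hx0).1
    exact hy (hx y hyW)
  refine ⟨fun u hu u' hu' => hu' u hu, ⟨hdisj, ?_⟩⟩
  rw [codisjoint_iff]
  apply Submodule.eq_top_of_disjoint _ _ _ hdisj
  rw [LinearMap.BilinForm.finrank_orthogonal hQ W]
  have := Submodule.finrank_le W
  omega

/-- Maximality of the stabiliser of a non-degenerate subspace whose dimension differs from that of its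
orthogonal complement, in dimension at least `13`. -/
theorem isMaximalIn_stab_nondeg (Q : QuadraticForm F (ι → F))
    (hQ : (QuadraticMap.polarBilin Q).Nondegenerate) (hn : 13 ≤ Fintype.card ι)
    {W W' : Submodule F (ι → F)} (h : OrthSplit Q W W') (hW0 : W ≠ ⊥) (hW'0 : W' ≠ ⊥)
    (hdim : finrank F W ≠ finrank F W')
    (hexW : Fintype.card F ≤ 3 → finrank F W = 2 → ∀ x ∈ W, Q x = 0 → x = 0)
    (hexW' : Fintype.card F ≤ 3 → finrank F W' = 2 → ∀ x ∈ W', Q x = 0 → x = 0) :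
    Cfsg.Geo.IsMaximalIn (Cfsg.Geo.omegaGL ⇑Q)
      (Cfsg.Geo.subspaceStabilizer W ⊓ Cfsg.Geo.omegaGL ⇑Q) := by
  have hadd := h.finrank_add
  rcases lt_or_gt_of_ne hdim with hlt | hlt
  · rw [h.stab_inf_eq hQ]
    exact isMaximalIn_stab_of_split Q hQ h.symm (by omega) hW0
      (not_maps_of_finrank_lt Q W' W hlt) hexW
  · exact isMaximalIn_stab_of_split Q hQ h (by omega) hW'0
      (not_maps_of_finrank_lt Q W W' hlt) hexW'

omit [Fintype F] [DecidableEq ι] in
/-- A two-dimensional subspace containing a non-zero singular vector is of plus type. -/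
theorem isPlusTypeOn_of_singular (Q : QuadraticForm F (ι → F)) (P : Submodule F (ι → F))
    (hfr : finrank F P = 2) (x : ι → F) (hxP : x ∈ P) (hx0 : x ≠ 0) (hQx : Q x = 0) :
    Cfsg.Geo.IsPlusTypeOn (⇑Q) P := by
  refine ⟨Submodule.span F {x}, ?_, ?_, ?_⟩
  · rw [Submodule.span_singleton_le_iff_mem]
    exact hxP
  · intro w hw
    obtain ⟨c, rfl⟩ := Submodule.mem_span_singleton.mp hw
    rw [QuadraticMap.map_smul, hQx, smul_zero]
  · rw [finrank_span_singleton hx0, hfr]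

omit [Fintype F] in
/-- The polar form is non-degenerate on each summand of an orthogonal splitting. -/
theorem OrthSplit.isNondegenerateOn {Q : QuadraticForm F (ι → F)} {U U' : Submodule F (ι → F)}
    (h : OrthSplit Q U U') (hQ : (QuadraticMap.polarBilin Q).Nondegenerate) :
    Cfsg.Geo.IsNondegenerateOn (QuadraticMap.polar ⇑Q) U := by
  intro w hw hw0
  obtain ⟨v, hv, hwv⟩ := h.exists_polar_ne hQ hw hw0
  exact ⟨⟨v, hv, by rw [QuadraticMap.polar_comm]; exact hwv⟩, ⟨v, hv, hwv⟩⟩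

end Wrapper

end Cfsg.Agent.Lib.helper49
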