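import Mathlib
import Cfsg.Agent.Lib.helper75.PQDefs
import Cfsg.Agent.Lib.helper66.S3B

/-!
# S4306 piece B1 (helper49): `exists_wt_ne_one`
-/

set_option autoImplicit false

namespace Cfsg.Agent.Lib.helper75.PQ

open Cfsg.Agent.Lib.helper66 (WtV Fx cw)
open scoped commutatorElement

section B
variable {Γ : Type*} [Group Γ] [Finite Γ] {F : Type*} [Field F] [IsAlgClosed F]
  {W : Type*} [AddCommGroup W] [Module F W] [FiniteDimensional F W]
  {ρ : Γ →* Module.End F W} {K H S R : Subgroup Γ} {p q s r : ℕ}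

/-- B1 (WT1): an element of an abelian subgroup acting nontrivially on an invariant subspace
has a weight vector there with nontrivial weight value. -/
theorem exists_wt_ne_one (ρ : Γ →* Module.End F W) (M : Submodule F W) (B : Subgroup Γ)
    (hBM : ∀ b ∈ B, ∀ w ∈ M, ρ b w ∈ M) (hab : ∀ b ∈ B, ∀ b' ∈ B, b * b' = b' * b)
    (g : Γ) (hg : g ∈ B) (m : ℕ) (hm : g ^ m = 1) (hmF : (m : F) ≠ 0)
    (hne : ∃ w ∈ M, ρ g w ≠ w) :
    ∃ (μ : Γ → F) (w : W), WtV ρ M B μ w ∧ μ g ≠ 1 := by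
  classical
  -- the restriction of `ρ g` to `M`
  let A : Module.End F M := (ρ g).restrict (hBM g hg)
  have hA_apply : ∀ w : M, ((A w : M) : W) = ρ g (w : W) := fun w => rfl
  have hApow : ∀ (k : ℕ) (w : M), (((A ^ k) w : M) : W) = ρ (g ^ k) (w : W) := by
    intro k
    induction k with
    | zero =>
      intro w
      simp
    | succ k ih =>
      intro w
      rw [pow_succ, Module.End.mul_apply, ih, hA_apply, pow_succ,
        Cfsg.Agent.Lib.helper66.rho_mul]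
  have hAm : A ^ m = 1 := by
    apply LinearMap.ext
    intro w
    apply Subtype.ext
    rw [hApow, hm, map_one]
    rfl
  have hA1 : A ≠ 1 := by
    intro h
    obtain ⟨w, hwM, hw⟩ := hne
    apply hw
    have h1 := hA_apply ⟨w, hwM⟩
    rw [h] at h1
    exact h1.symm
  obtain ⟨ζ, hζ1, -, hζ⟩ := Cfsg.Agent.Lib.helper66.exists_eigen_ne_one A m hmF hAm hA1
  obtain ⟨v, hv, hv0⟩ := (Submodule.ne_bot_iff _).mp hζ
  have hveig : A v = ζ • v := Module.End.mem_eigenspace_iff.mp hv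
  -- the eigenspace inside `M`
  let E : Submodule F W := M ⊓ (ρ g).eigenspace ζ
  have hE : ∀ w, w ∈ E ↔ w ∈ M ∧ ρ g w = ζ • w := by
    intro w
    show w ∈ M ∧ w ∈ (ρ g).eigenspace ζ ↔ _
    rw [Module.End.mem_eigenspace_iff]
  have hEne : E ≠ ⊥ := by
    intro h
    have h1 : (v : W) ∈ E := by
      rw [hE]
      refine ⟨v.2, ?_⟩
      have h2 := congrArg Subtype.val hveig
      rw [hA_apply] at h2
      exact h2
    rw [h, Submodule.mem_bot] at h1
    exact hv0 (Subtype.ext h1)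
  have hEB : ∀ z ∈ B, ∀ w ∈ E, ρ z w ∈ E := by
    intro z hz w hw
    rw [hE] at hw ⊢
    refine ⟨hBM z hz w hw.1, ?_⟩
    rw [← Cfsg.Agent.Lib.helper66.rho_mul, hab g hg z hz, Cfsg.Agent.Lib.helper66.rho_mul,
      hw.2, map_smul]
  have hcomm : ∀ z ∈ B, ∀ z' ∈ B, ∀ w ∈ E, ρ (z * z') w = ρ (z' * z) w := by
    intro z hz z' hz' w _
    rw [hab z hz z' hz']
  obtain ⟨lam, w₀, hw₀E, hw₀0, hw₀⟩ :=
    Cfsg.Agent.Lib.helper66.exists_joint_eigen' ρ E B hEB hcomm hEne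
  refine ⟨lam, w₀, ⟨((hE w₀).mp hw₀E).1, hw₀0, hw₀⟩, ?_⟩
  intro h1
  have h2 := hw₀ g hg
  rw [h1, one_smul, ((hE w₀).mp hw₀E).2] at h2
  have h3 : (ζ - 1) • w₀ = 0 := by rw [sub_smul, one_smul, h2, sub_self]
  rcases smul_eq_zero.mp h3 with h | h
  · exact hζ1 (sub_eq_zero.mp h)
  · exact hw₀0 h

end B

end Cfsg.Agent.Lib.helper75.PQ
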