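import Mathlib
import Cfsg.Agent.Lib.helper75.PQDefs
import Cfsg.Agent.Lib.helper66.S3B

/-!
# S4306: auxiliary lemmas for the weight pieces B1, B2, B3 (helper49)
-/

set_option autoImplicit false

namespace Cfsg.Agent.Lib.helper49.PQ

open Cfsg.Agent.Lib.helper75.PQ
open Cfsg.Agent.Lib.helper66 (WtV Fx cw)

variable {Γ : Type*} [Group Γ]

/-- A subgroup of prime order consists of the powers of any of its nontrivial elements. -/
theorem h49_mem_powers [Finite Γ] (X : Subgroup Γ) (hX : (Nat.card X).Prime) (a : Γ) (ha : a ∈ X)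
    (ha1 : a ≠ 1) : ∀ x ∈ X, ∃ n : ℕ, x = a ^ n := by
  have h1 : orderOf a ∣ Nat.card X := Subgroup.orderOf_dvd_natCard X ha
  have h2 : orderOf a = Nat.card X := by
    rcases (Nat.dvd_prime hX).mp h1 with h | h
    · exact absurd (orderOf_eq_one_iff.mp h) ha1
    · exact h
  have h3 : Subgroup.zpowers a = X := by
    apply Subgroup.eq_of_le_of_card_ge
    · rw [Subgroup.zpowers_le]
      exact ha
    · rw [Nat.card_zpowers, h2]
  intro x hx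
  rw [← h3] at hx
  obtain ⟨n, hn⟩ := (Submonoid.mem_powers_iff x a).mp (mem_powers_iff_mem_zpowers.mpr hx)
  exact ⟨n, hn.symm⟩

variable {K H : Subgroup Γ} {p q : ℕ}

/-- A1: nontrivial elements of `H` centralize no nontrivial element of `K`. -/
theorem h49_fpf_K [Finite Γ] (hF : FrobPQ K H p q) :
    ∀ h ∈ H, h ≠ 1 → ∀ k ∈ K, h * k = k * h → k = 1 := by
  intro h hh hh1 k hk hcomm
  by_contra hk1
  apply hF.nab
  intro k' hk' h' hh'
  obtain ⟨n, rfl⟩ := h49_mem_powers K (hF.cardK ▸ hF.hp) k hk hk1 k' hk'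
  obtain ⟨m, rfl⟩ := h49_mem_powers H (hF.cardH ▸ hF.hq) h hh hh1 h' hh'
  have hc : Commute k h := hcomm.symm
  exact (hc.pow_pow n m)

/-- A3: the join of `K` and `H` is the product set `K H`. -/
theorem h49_mem_KH (hF : FrobPQ K H p q) :
    ∀ a ∈ K ⊔ H, ∃ k ∈ K, ∃ h ∈ H, a = k * h := by
  let S : Subgroup Γ :=
    { carrier := {a | ∃ k ∈ K, ∃ h ∈ H, a = k * h}
      one_mem' := ⟨1, K.one_mem, 1, H.one_mem, (mul_one 1).symm⟩
      mul_mem' := by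
        rintro a b ⟨k, hk, h, hh, rfl⟩ ⟨k', hk', h', hh', rfl⟩
        refine ⟨k * (h * k' * h⁻¹), K.mul_mem hk ?_, h * h', H.mul_mem hh hh', by group⟩
        exact (Subgroup.mem_normalizer_iff.mp (hF.HK hh) k').mp hk'
      inv_mem' := by
        rintro a ⟨k, hk, h, hh, rfl⟩
        refine ⟨h⁻¹ * k⁻¹ * h⁻¹⁻¹, ?_, h⁻¹, H.inv_mem hh, by group⟩
        exact (Subgroup.mem_normalizer_iff.mp (hF.HK (H.inv_mem hh)) k⁻¹).mp (K.inv_mem hk) }
  have hle : K ⊔ H ≤ S := by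
    apply sup_le
    · intro k hk
      exact ⟨k, hk, 1, H.one_mem, (mul_one k).symm⟩
    · intro h hh
      exact ⟨1, K.one_mem, h, hh, (one_mul h).symm⟩
  intro a ha
  exact hle ha

/-- A4: an element of `K H` outside `K` lies in a `K`-conjugate of `H`. -/
theorem h49_conj_of_not_mem [Finite Γ] (hF : FrobPQ K H p q) :
    ∀ a ∈ K ⊔ H, a ∉ K → ∃ k ∈ K, ∃ h ∈ H, h ≠ 1 ∧ a = k * h * k⁻¹ := by
  intro a ha haK
  obtain ⟨k₁, hk₁, h, hh, rfl⟩ := h49_mem_KH hF a ha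
  have hh1 : h ≠ 1 := by
    rintro rfl
    apply haK
    rw [mul_one]
    exact hk₁
  have hmem : ∀ k : K, (k : Γ) * h * (k : Γ)⁻¹ * h⁻¹ ∈ K := by
    intro k
    have h1 : h * (k : Γ)⁻¹ * h⁻¹ ∈ K :=
      (Subgroup.mem_normalizer_iff.mp (hF.HK hh) (k : Γ)⁻¹).mp (K.inv_mem k.2)
    have h2 : (k : Γ) * h * (k : Γ)⁻¹ * h⁻¹ = (k : Γ) * (h * (k : Γ)⁻¹ * h⁻¹) := by group
    rw [h2]
    exact K.mul_mem k.2 h1
  let c : K → K := fun k => ⟨(k : Γ) * h * (k : Γ)⁻¹ * h⁻¹, hmem k⟩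
  have hinj : Function.Injective c := by
    intro k k' hkk'
    have h1 : (k : Γ) * h * (k : Γ)⁻¹ * h⁻¹ = (k' : Γ) * h * (k' : Γ)⁻¹ * h⁻¹ :=
      congrArg Subtype.val hkk'
    have h2 : h * ((k' : Γ)⁻¹ * k) = ((k' : Γ)⁻¹ * k) * h := by
      have h3 : (k : Γ) * h * (k : Γ)⁻¹ = (k' : Γ) * h * (k' : Γ)⁻¹ := mul_right_cancel h1
      calc h * ((k' : Γ)⁻¹ * k) = (k' : Γ)⁻¹ * ((k' : Γ) * h * (k' : Γ)⁻¹) * k := by group
        _ = (k' : Γ)⁻¹ * ((k : Γ) * h * (k : Γ)⁻¹) * k := by rw [h3]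
        _ = ((k' : Γ)⁻¹ * k) * h := by group
    have h4 := h49_fpf_K hF h hh hh1 ((k' : Γ)⁻¹ * k) (K.mul_mem (K.inv_mem k'.2) k.2) h2
    apply Subtype.ext
    exact (inv_mul_eq_one.mp h4).symm
  obtain ⟨k, hk⟩ := (Finite.injective_iff_surjective.mp hinj) ⟨k₁, hk₁⟩
  have hk' : (k : Γ) * h * (k : Γ)⁻¹ * h⁻¹ = k₁ := congrArg Subtype.val hk
  refine ⟨k, k.2, h, hh, hh1, ?_⟩
  rw [← hk']
  group

end Cfsg.Agent.Lib.helper49.PQ
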