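import Mathlib
import Cfsg.Agent.Lib.helper75.PQDefs
import Cfsg.Agent.Lib.helper66.S3B
import Cfsg.Agent.Lib.helper49.PQ_Baux

/-!
# S4306 piece B2 (helper49): `Tower.wt_stab`
-/

set_option autoImplicit false

namespace Cfsg.Agent.Lib.helper75.PQ

open Cfsg.Agent.Lib.helper66 (WtV Fx cw)
open scoped commutatorElement

section B
variable {Γ : Type*} [Group Γ] [Finite Γ] {F : Type*} [Field F] [IsAlgClosed F]
  {W : Type*} [AddCommGroup W] [Module F W] [FiniteDimensional F W]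
  {ρ : Γ →* Module.End F W} {K H S R : Subgroup Γ} {p q s r : ℕ}

/-- B2 (P1'): the stabilizer in `K H` of a weight of an invariant subgroup is nontrivial:
it contains `K`, or a `K`-conjugate of the weight is fixed by `H`. -/
theorem Tower.wt_stab (T : Tower ρ K H S R p q s r) (B : Subgroup Γ)
    (hKB : K ≤ Subgroup.normalizer (B : Set Γ)) (hHB : H ≤ Subgroup.normalizer (B : Set Γ))
    (μ : Γ → F) (w : W) (hw : WtV ρ ⊤ B μ w) :
    (∀ k ∈ K, Fx B k μ) ∨ (∃ k ∈ K, ∀ h ∈ H, Fx B h (cw μ k)) := by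
  classical
  haveI : Fintype ↥(K ⊔ H) := Fintype.ofFinite _
  have hF := T.frob
  have hKp : (Nat.card K).Prime := by rw [T.cardK]; exact T.hp
  have hHq : (Nat.card H).Prime := by rw [T.cardH]; exact T.hq
  have hsum0 : ∑ a : ↥(K ⊔ H), ρ (a : Γ) w = 0 := by
    apply T.fpfW
    · intro k hk
      exact Cfsg.Agent.Lib.helper66.orbit_sum_fixed ρ (K ⊔ H) k
        ((le_sup_left : K ≤ K ⊔ H) hk) w
    · intro h hh
      exact Cfsg.Agent.Lib.helper66.orbit_sum_fixed ρ (K ⊔ H) h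
        ((le_sup_right : H ≤ K ⊔ H) hh) w
  have hex : ∃ a ∈ K ⊔ H, a ≠ 1 ∧ Fx B a μ := by
    by_contra hcon
    push Not at hcon
    exact Cfsg.Agent.Lib.helper66.orbit_sum_ne_zero ρ ⊤ B (K ⊔ H) (sup_le hKB hHB) μ w hw
      hcon hsum0
  obtain ⟨a, ha, ha1, hfx⟩ := hex
  by_cases haK : a ∈ K
  · left
    intro k hk
    obtain ⟨n, rfl⟩ := Cfsg.Agent.Lib.helper49.PQ.h49_mem_powers K hKp a haK ha1 k hk
    exact Cfsg.Agent.Lib.helper66.Fx_pow B μ a (hKB haK) hfx n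
  · right
    obtain ⟨k, hk, h, hh, hh1, rfl⟩ :=
      Cfsg.Agent.Lib.helper49.PQ.h49_conj_of_not_mem hF a ha haK
    refine ⟨k⁻¹, K.inv_mem hk, ?_⟩
    have h1 : Fx B h (cw μ k⁻¹) := by
      rw [Cfsg.Agent.Lib.helper66.Fx_cw B μ h k⁻¹ (inv_mem (hKB hk)), inv_inv]
      exact hfx
    intro h' hh'
    obtain ⟨n, rfl⟩ := Cfsg.Agent.Lib.helper49.PQ.h49_mem_powers H hHq h hh hh1 h' hh'
    exact Cfsg.Agent.Lib.helper66.Fx_pow B (cw μ k⁻¹) h (hHB hh) h1 n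

end B

end Cfsg.Agent.Lib.helper75.PQ
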