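import Mathlib
import Cfsg.Agent.Lib.helper75.PQDefs
import Cfsg.Agent.Lib.helper66.S3B

/-!
# S4306 piece B3 (helper49): `Tower.wt_trivial_of_fixed`
-/

set_option autoImplicit false

namespace Cfsg.Agent.Lib.helper75.PQ

open Cfsg.Agent.Lib.helper66 (WtV Fx cw)
open scoped commutatorElement

section B
variable {Γ : Type*} [Group Γ] [Finite Γ] {F : Type*} [Field F] [IsAlgClosed F]
  {W : Type*} [AddCommGroup W] [Module F W] [FiniteDimensional F W]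
  {ρ : Γ →* Module.End F W} {K H S R : Subgroup Γ} {p q s r : ℕ}

/-- B3 (N0): a weight of an abelian invariant subgroup of `R` fixed by `K` and `H` is
trivial. -/
theorem Tower.wt_trivial_of_fixed (T : Tower ρ K H S R p q s r) (B : Subgroup Γ) (hBR : B ≤ R)
    (hab : ∀ b ∈ B, ∀ b' ∈ B, b * b' = b' * b)
    (hKB : K ≤ Subgroup.normalizer (B : Set Γ)) (hHB : H ≤ Subgroup.normalizer (B : Set Γ))
    (μ : Γ → F) (w : W) (hw : WtV ρ ⊤ B μ w)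
    (hK : ∀ k ∈ K, Fx B k μ) (hH : ∀ h ∈ H, Fx B h μ) : ∀ b ∈ B, μ b = 1 := by
  classical
  intro b hb
  letI : CommGroup ↥B :=
    { (inferInstance : Group ↥B) with mul_comm := fun x y => Subtype.ext (hab x x.2 y y.2) }
  haveI : Fintype ↥K := Fintype.ofFinite _
  haveI : Fintype ↥H := Fintype.ofFinite _
  have hnorm : ∀ x : ↥K × ↥H, (x.1 : Γ) * (x.2 : Γ) ∈ Subgroup.normalizer (B : Set Γ) :=
    fun x => mul_mem (hKB x.1.2) (hHB x.2.2)
  have hmem : ∀ x : ↥K × ↥H,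
      ((x.1 : Γ) * (x.2 : Γ)) * b * ((x.1 : Γ) * (x.2 : Γ))⁻¹ ∈ B := fun x =>
    Cfsg.Agent.Lib.helper66.conj_mem_of_normalizer B _ (hnorm x) b hb
  let f : ↥K × ↥H → ↥B := fun x =>
    ⟨((x.1 : Γ) * (x.2 : Γ)) * b * ((x.1 : Γ) * (x.2 : Γ))⁻¹, hmem x⟩
  have hconj : ∀ (g : Γ) (hg : g ∈ Subgroup.normalizer (B : Set Γ)) (e : ↥K × ↥H ≃ ↥K × ↥H),
      (∀ x, g * (f x : Γ) * g⁻¹ = (f (e x) : Γ)) →
      g * ((∏ x : ↥K × ↥H, f x : ↥B) : Γ) * g⁻¹ = ((∏ x : ↥K × ↥H, f x : ↥B) : Γ) := by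
    intro g hg e he
    have h1 : (Cfsg.Agent.Lib.helper66.conjAut B g hg) (∏ x : ↥K × ↥H, f x) =
        ∏ x : ↥K × ↥H, (Cfsg.Agent.Lib.helper66.conjAut B g hg) (f x) :=
      map_prod (Cfsg.Agent.Lib.helper66.conjAut B g hg) f Finset.univ
    have h2 : ∏ x : ↥K × ↥H, (Cfsg.Agent.Lib.helper66.conjAut B g hg) (f x) =
        ∏ x : ↥K × ↥H, f x := by
      apply Fintype.prod_equiv e
      intro x
      apply Subtype.ext
      rw [Cfsg.Agent.Lib.helper66.conjAut_apply]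
      exact he x
    have h3 := congrArg Subtype.val (h1.trans h2)
    rw [Cfsg.Agent.Lib.helper66.conjAut_apply] at h3
    exact h3
  have hN1 : ((∏ x : ↥K × ↥H, f x : ↥B) : Γ) = 1 := by
    apply T.fpfR _ (hBR (∏ x : ↥K × ↥H, f x : ↥B).2)
    · intro g hg
      have h1 := hconj g (hKB hg)
        (Equiv.prodCongr (Equiv.mulLeft (⟨g, hg⟩ : ↥K)) (Equiv.refl ↥H)) (by
          intro x
          show g * (((x.1 : Γ) * (x.2 : Γ)) * b * ((x.1 : Γ) * (x.2 : Γ))⁻¹) * g⁻¹ =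
            ((g * (x.1 : Γ)) * (x.2 : Γ)) * b * ((g * (x.1 : Γ)) * (x.2 : Γ))⁻¹
          group)
      exact mul_inv_eq_iff_eq_mul.mp h1
    · intro g hg
      have h1 := hconj g (hHB hg)
        (Equiv.prodCongr (Cfsg.Agent.Lib.helper66.conjAut K g (T.HK hg)).toEquiv
          (Equiv.mulLeft (⟨g, hg⟩ : ↥H))) (by
          intro x
          show g * (((x.1 : Γ) * (x.2 : Γ)) * b * ((x.1 : Γ) * (x.2 : Γ))⁻¹) * g⁻¹ =
            ((g * (x.1 : Γ) * g⁻¹) * (g * (x.2 : Γ))) * b *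
              ((g * (x.1 : Γ) * g⁻¹) * (g * (x.2 : Γ)))⁻¹
          group)
      exact mul_inv_eq_iff_eq_mul.mp h1
  let φ : ↥B →* F :=
    { toFun := fun x => μ (x : Γ)
      map_one' := Cfsg.Agent.Lib.helper66.wt_one ρ ⊤ B μ w hw
      map_mul' := fun x y => Cfsg.Agent.Lib.helper66.wt_mul ρ ⊤ B μ w hw x y x.2 y.2 }
  have hφ : φ (∏ x : ↥K × ↥H, f x) = ∏ x : ↥K × ↥H, φ (f x) := map_prod φ f Finset.univ
  have hφ1 : φ (∏ x : ↥K × ↥H, f x) = 1 := by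
    show μ ((∏ x : ↥K × ↥H, f x : ↥B) : Γ) = 1
    rw [hN1]
    exact Cfsg.Agent.Lib.helper66.wt_one ρ ⊤ B μ w hw
  have hφ2 : ∀ x : ↥K × ↥H, φ (f x) = μ b := by
    intro x
    show μ (((x.1 : Γ) * (x.2 : Γ)) * b * ((x.1 : Γ) * (x.2 : Γ))⁻¹) = μ b
    exact Cfsg.Agent.Lib.helper66.Fx_conj B μ _ (hnorm x)
      (Cfsg.Agent.Lib.helper66.Fx_mul B μ _ _ (hKB x.1.2) (hK _ x.1.2) (hH _ x.2.2)) b hb
  have hpow : μ b ^ (p * q) = 1 := by
    rw [← hφ1, hφ, Finset.prod_congr rfl (fun x _ => hφ2 x), Finset.prod_const,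
      Finset.card_univ, Fintype.card_prod, ← Nat.card_eq_fintype_card,
      ← Nat.card_eq_fintype_card, T.cardK, T.cardH]
  obtain ⟨n, hn⟩ := T.Rgrp ⟨b, hBR hb⟩
  have hbn : b ^ r ^ n = 1 := by
    have := congrArg Subtype.val hn
    simpa using this
  have hcop : (p * q).Coprime (r ^ n) :=
    Nat.Coprime.pow_right n (Nat.Coprime.mul_left
      ((Nat.coprime_primes T.hp T.hr).mpr (Ne.symm T.hrp))
      ((Nat.coprime_primes T.hq T.hr).mpr (Ne.symm T.hrq)))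
  exact Cfsg.Agent.Lib.helper66.wt_eq_one_of_pow ρ ⊤ B μ w hw b hb (p * q) (r ^ n) hpow hbn hcop

end B

end Cfsg.Agent.Lib.helper75.PQ
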