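import Mathlib
import Cfsg.Agent.Lib.helper49.SPEDefs

/-! S2333 split, piece PBIL: the polar form of a quadratic form is bilinear, symmetric; homogeneity. -/

set_option autoImplicit false

namespace Cfsg.Agent.Lib.helper49.SPE

open Matrix

/-- PBIL (M) -/
theorem polar_bilin {F : Type*} [Field F] {n : ℕ} (Q : (Fin n → F) → F) (hQ : IsQF Q) :
    (∀ u u' v, polar Q (u + u') v = polar Q u v + polar Q u' v) ∧
    (∀ (c : F) u v, polar Q (c • u) v = c * polar Q u v) ∧
    (∀ u v, polar Q u v = polar Q v u) ∧
    (∀ (c : F) u, Q (c • u) = c ^ 2 * Q u) ∧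
    (∀ u, polar Q u u = 2 * Q u) := by
  obtain ⟨M, hM⟩ := hQ
  have hpol : ∀ u v : Fin n → F,
      polar Q u v = ∑ i, ∑ j, M i j * (u i * v j + v i * u j) := by
    intro u v
    unfold polar
    rw [hM, hM, hM, ← Finset.sum_sub_distrib, ← Finset.sum_sub_distrib]
    apply Finset.sum_congr rfl
    intro i _
    rw [← Finset.sum_sub_distrib, ← Finset.sum_sub_distrib]
    apply Finset.sum_congr rfl
    intro j _
    simp only [Pi.add_apply]
    ring
  have hhom : ∀ (c : F) (u : Fin n → F), Q (c • u) = c ^ 2 * Q u := by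
    intro c u
    rw [hM, hM, Finset.mul_sum]
    apply Finset.sum_congr rfl
    intro i _
    rw [Finset.mul_sum]
    apply Finset.sum_congr rfl
    intro j _
    simp only [Pi.smul_apply, smul_eq_mul]
    ring
  refine ⟨?_, ?_, ?_, hhom, ?_⟩
  · intro u u' v
    rw [hpol, hpol, hpol, ← Finset.sum_add_distrib]
    apply Finset.sum_congr rfl
    intro i _
    rw [← Finset.sum_add_distrib]
    apply Finset.sum_congr rfl
    intro j _
    simp only [Pi.add_apply]
    ring
  · intro c u v
    rw [hpol, hpol, Finset.mul_sum]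
    apply Finset.sum_congr rfl
    intro i _
    rw [Finset.mul_sum]
    apply Finset.sum_congr rfl
    intro j _
    simp only [Pi.smul_apply, smul_eq_mul]
    ring
  · intro u v
    rw [hpol, hpol]
    apply Finset.sum_congr rfl
    intro i _
    apply Finset.sum_congr rfl
    intro j _
    ring
  · intro u
    have h2u : u + u = (2 : F) • u := by
      rw [two_smul]
    unfold polar
    rw [h2u, hhom]
    ring

end Cfsg.Agent.Lib.helper49.SPE
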