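import Mathlib
import Cfsg.Agent.Lib.helper24.SroReal

/-!
helper49: S5988 piece NEGM (`sre_neg_minus`): if `-1` is a nonsquare, a nondegenerate subspace of
dimension `2e` invariant under an isometry `T` with `T² = -1` is an orthogonal sum of `e`
anisotropic invariant planes `⟨v, T v⟩`.
-/

set_option autoImplicit false
set_option linter.unusedSectionVars false
set_option linter.unusedVariables false

namespace Cfsg.Agent.Lib.helper49

open Module Cfsg.Agent.Lib.helper24 Cfsg.Agent.Lib.helper45

universe u

section srenegm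

variable {F : Type u} [Field F] [Fintype F]

/-- the zero subspace has type `+1` -/
theorem h49_sre_ty_bot {V : Type u} [AddCommGroup V] [Module F V] [FiniteDimensional F V]
    (Q : QuadraticForm F V) : SrTy Q (⊥ : Submodule F V) 1 := by
  unfold SrTy
  rw [finrank_bot]
  have h := unif_trivial (F := F) (Q.comp (⊥ : Submodule F V).subtype)
  have e1 : (1 : ℤ) * (Fintype.card F : ℤ) ^ (0 / 2) = 1 := by norm_num
  rw [e1]
  exact h

/-- the invariant anisotropic plane `⟨v, T v⟩` -/
theorem h49_sre_plane {V : Type u} [AddCommGroup V] [Module F V] [FiniteDimensional F V]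
    (Q : QuadraticForm F V) (h2 : (2 : F) ≠ 0) (T : Module.End F V) (hT : ∀ v, Q (T v) = Q v)
    (hT2 : T * T = -1) (hns : ∀ a : F, a * a ≠ -1) (v : V) (hv : Q v ≠ 0) :
    SpNd (QuadraticMap.polarBilin Q) (Submodule.span F {v, T v}) ∧
      finrank F (Submodule.span F {v, T v}) = 2 ∧
      (∀ w ∈ Submodule.span F {v, T v}, T w ∈ Submodule.span F {v, T v}) ∧
      SrTy Q (Submodule.span F {v, T v}) (-1) := by
  have hTT : ∀ x, T (T x) = -x := by
    intro x
    have h1 := congrArg (fun S : Module.End F V => S x) hT2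
    simpa using h1
  have hvT : QuadraticMap.polar Q v (T v) = 0 := by
    have h1 := sr_iso_polar Q T hT v (T v)
    rw [hTT, QuadraticMap.polar_neg_right, QuadraticMap.polar_comm] at h1
    have h3 : (2 : F) * QuadraticMap.polar Q v (T v) = 0 := by linear_combination -h1
    exact (mul_eq_zero.mp h3).resolve_left h2
  have hD : QuadraticMap.polar Q v v * QuadraticMap.polar Q (T v) (T v)
      - QuadraticMap.polar Q v (T v) * QuadraticMap.polar Q v (T v) ≠ 0 := by
    rw [sr_polar_self, sr_polar_self, hT, hvT, mul_zero, sub_zero]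
    exact mul_ne_zero (mul_ne_zero h2 hv) (mul_ne_zero h2 hv)
  obtain ⟨hPnd, hPdim⟩ := sr_pair Q v (T v) hD
  refine ⟨hPnd, hPdim, ?_, ?_⟩
  · intro w hw
    obtain ⟨a, b, rfl⟩ := Submodule.mem_span_pair.mp hw
    rw [map_add, map_smul, map_smul, hTT]
    apply Submodule.mem_span_pair.mpr
    refine ⟨-b, a, ?_⟩
    rw [neg_smul, smul_neg]
    abel
  · have han : ∀ x : ↥(Submodule.span F {v, T v}),
        (Q.comp (Submodule.span F {v, T v}).subtype) x = 0 → x = 0 := by
      intro x hx
      rw [QuadraticMap.comp_apply] at hx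
      obtain ⟨α, β, hαβ⟩ := Submodule.mem_span_pair.mp x.2
      have h1 : Q (α • v + β • T v) = Q v * (α * α + β * β) := by
        rw [QuadraticMap.map_add (⇑Q), QuadraticMap.map_smul, QuadraticMap.map_smul,
          QuadraticMap.polar_smul_left, QuadraticMap.polar_smul_right, hvT, hT, smul_eq_mul,
          smul_eq_mul, smul_eq_mul, smul_eq_mul]
        ring
      have h3 : Q v * (α * α + β * β) = 0 := by
        rw [← h1, hαβ]
        exact hx
      have h4 : α * α + β * β = 0 := (mul_eq_zero.mp h3).resolve_left hv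
      have hβ : β = 0 := by
        by_contra hβ
        apply hns (α / β)
        field_simp
        linear_combination h4
      rw [hβ] at h4
      have hα : α = 0 := by
        have h5 : α * α = 0 := by linear_combination h4
        exact mul_self_eq_zero.mp h5
      apply Subtype.ext
      rw [← hαβ, hα, hβ, zero_smul, zero_smul, add_zero]
      rfl
    have h5 := unif_aniso_plane (Q.comp (Submodule.span F {v, T v}).subtype)
      (sr_restr_nd Q _ hPnd) han hPdim
    unfold SrTy
    rw [hPdim]
    have e1 : (-1 : ℤ) * (Fintype.card F : ℤ) ^ (2 / 2) = -(Fintype.card F : ℤ) := by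
      norm_num
    rw [e1]
    exact h5

/-- NEGM: if `-1` is a nonsquare, a nondegenerate subspace `X` of dimension `2e` invariant
under an isometry `T` with `T² = -1` is an orthogonal sum of `e` anisotropic invariant planes
`⟨v, T v⟩`: it has type `(-1) ^ e` and contains invariant nondegenerate subspaces of every
even dimension. -/
theorem sre_neg_minus {V : Type u} [AddCommGroup V] [Module F V] [FiniteDimensional F V]
    (Q : QuadraticForm F V) (h2 : (2 : F) ≠ 0) (T : Module.End F V) (hT : ∀ v, Q (T v) = Q v)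
    (hT2 : T * T = -1) (hns : ∀ a : F, a * a ≠ -1) (X : Submodule F V)
    (hX : SpNd (QuadraticMap.polarBilin Q) X) (hXinv : ∀ x ∈ X, T x ∈ X) (e : ℕ)
    (hdim : finrank F X = 2 * e) :
    SrTy Q X ((-1) ^ e) ∧ ∀ e' ≤ e, ∃ W : Submodule F V, W ≤ X ∧
      SpNd (QuadraticMap.polarBilin Q) W ∧ (∀ w ∈ W, T w ∈ W) ∧ finrank F W = 2 * e' := by
  have hTT : ∀ x, T (T x) = -x := by
    intro x
    have h1 := congrArg (fun S : Module.End F V => S x) hT2
    simpa using h1
  induction e generalizing X with
  | zero =>
    have hXbot : X = ⊥ := Submodule.finrank_eq_zero.mp (by rw [hdim])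
    subst hXbot
    refine ⟨?_, ?_⟩
    · rw [pow_zero]; exact h49_sre_ty_bot Q
    · intro e' he'
      have he0 : e' = 0 := by omega
      subst he0
      exact ⟨⊥, le_refl _, hX, hXinv, by rw [finrank_bot]⟩
  | succ e ih =>
    have hXne : X ≠ ⊥ := by
      intro h
      rw [h, finrank_bot] at hdim
      omega
    obtain ⟨v, hvX, hv⟩ := sr_exists_nonsing Q X hX hXne
    obtain ⟨hPnd, hPdim, hPinv, hPty⟩ := h49_sre_plane Q h2 T hT hT2 hns v hv
    have hPX : Submodule.span F {v, T v} ≤ X := by
      rw [Submodule.span_le]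
      intro x hx
      rcases hx with rfl | rfl
      · exact hvX
      · exact hXinv _ hvX
    obtain ⟨hX'nd, hsup, hinf, hdim'⟩ :=
      so_rel (QuadraticMap.polarBilin Q) (sr_sym Q) X _ hX hPnd hPX
    have hX'dim : finrank F ↥(spPerp (QuadraticMap.polarBilin Q) (Submodule.span F {v, T v}) ⊓ X)
        = 2 * e := by omega
    have hX'inv : ∀ x ∈ spPerp (QuadraticMap.polarBilin Q) (Submodule.span F {v, T v}) ⊓ X,
        T x ∈ spPerp (QuadraticMap.polarBilin Q) (Submodule.span F {v, T v}) ⊓ X := by
      intro x hx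
      rw [Submodule.mem_inf] at hx ⊢
      refine ⟨?_, hXinv x hx.2⟩
      intro u hu
      have hu' : -(T u) ∈ Submodule.span F {v, T v} := Submodule.neg_mem _ (hPinv u hu)
      have h1 := hx.1 _ hu'
      have h3 := sr_iso_bilin Q T hT (-(T u)) x
      rw [map_neg, hTT, neg_neg] at h3
      rw [h3]
      exact h1
    obtain ⟨ihty, ihex⟩ := ih _ hX'nd hX'inv hX'dim
    refine ⟨?_, ?_⟩
    · have horth : ∀ u ∈ Submodule.span F {v, T v},
          ∀ w ∈ spPerp (QuadraticMap.polarBilin Q) (Submodule.span F {v, T v}) ⊓ X,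
          QuadraticMap.polar Q u w = 0 := by
        intro u hu w hw
        have := (Submodule.mem_inf.mp hw).1 u hu
        rwa [QuadraticMap.polarBilin_apply_apply] at this
      have hsum := sr_ty_sum Q _ _ horth hinf (-1) ((-1) ^ e) hPty ihty
        (by rw [hPdim]; exact even_two) (by rw [hX'dim]; exact even_two_mul e)
      rw [hsup] at hsum
      have e2 : ((-1 : ℤ)) ^ (e + 1) = (-1) * (-1) ^ e := by rw [pow_succ]; ring
      rw [e2]
      exact hsum
    · intro e' he'
      by_cases h : e' ≤ e
      · obtain ⟨W, hWX', hWnd, hWinv, hWdim⟩ := ihex e' h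
        exact ⟨W, hWX'.trans inf_le_right, hWnd, hWinv, hWdim⟩
      · have he1 : e' = e + 1 := by omega
        subst he1
        exact ⟨X, le_refl _, hX, hXinv, hdim⟩

end srenegm

end Cfsg.Agent.Lib.helper49
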