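import Mathlib
import Cfsg.Agent.Lib.helper24.SroReal
import Cfsg.Agent.Lib.helper24.SqA

/-!
helper49: S5988 piece NEGP (`sre_neg_plus`): if `-1 = ι₀²` is a square, every nondegenerate
subspace invariant under an isometry `T` with `T² = -1` is of plus type: the two eigenspaces of
`T` on it are totally singular and complementary.
-/

set_option autoImplicit false
set_option linter.unusedSectionVars false
set_option linter.unusedVariables false

namespace Cfsg.Agent.Lib.helper49

open Module Cfsg.Agent.Lib.helper24 Cfsg.Agent.Lib.helper45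

universe u

section srenegp

variable {F : Type u} [Field F] [Fintype F]

/-- NEGP: if `-1` is a square, every nondegenerate subspace invariant under an isometry `T`
with `T² = -1` is of plus type (the two eigenspaces of `T` on it are totally singular). -/
theorem sre_neg_plus {V : Type u} [AddCommGroup V] [Module F V] [FiniteDimensional F V]
    (Q : QuadraticForm F V) (h2 : (2 : F) ≠ 0) (T : Module.End F V) (hT : ∀ v, Q (T v) = Q v)
    (hT2 : T * T = -1) (ι₀ : F) (hι₀ : ι₀ * ι₀ = -1) (W : Submodule F V)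
    (hW : SpNd (QuadraticMap.polarBilin Q) W) (hWinv : ∀ w ∈ W, T w ∈ W) : SrPlus Q W := by
  have hTT : ∀ x, T (T x) = -x := by
    intro x
    have h1 := congrArg (fun S : Module.End F V => S x) hT2
    simpa using h1
  have hι0 : ι₀ ≠ 0 := by
    rintro rfl
    rw [mul_zero] at hι₀
    exact one_ne_zero (neg_eq_zero.mp hι₀.symm)
  obtain ⟨Wp, hWp⟩ : ∃ Wp : Submodule F V,
      Wp = W ⊓ LinearMap.ker (T - ι₀ • (1 : Module.End F V)) := ⟨_, rfl⟩
  obtain ⟨Wm, hWm⟩ : ∃ Wm : Submodule F V,
      Wm = W ⊓ LinearMap.ker (T + ι₀ • (1 : Module.End F V)) := ⟨_, rfl⟩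
  have hpW : Wp ≤ W := by rw [hWp]; exact inf_le_left
  have hmW : Wm ≤ W := by rw [hWm]; exact inf_le_left
  have hp : ∀ w ∈ Wp, T w = ι₀ • w := by
    intro w hw
    rw [hWp] at hw
    have := (Submodule.mem_inf.mp hw).2
    rw [LinearMap.mem_ker, LinearMap.sub_apply, LinearMap.smul_apply, Module.End.one_apply,
      sub_eq_zero] at this
    exact this
  have hm : ∀ w ∈ Wm, T w = -(ι₀ • w) := by
    intro w hw
    rw [hWm] at hw
    have := (Submodule.mem_inf.mp hw).2
    rw [LinearMap.mem_ker, LinearMap.add_apply, LinearMap.smul_apply, Module.End.one_apply] at this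
    exact eq_neg_of_add_eq_zero_left this
  have hQp : ∀ w ∈ Wp, Q w = 0 := by
    intro w hw
    have h1 := hT w
    rw [hp w hw, QuadraticMap.map_smul, hι₀, smul_eq_mul] at h1
    have h3 : (2 : F) * Q w = 0 := by linear_combination -h1
    exact (mul_eq_zero.mp h3).resolve_left h2
  have hQm : ∀ w ∈ Wm, Q w = 0 := by
    intro w hw
    have h1 := hT w
    rw [hm w hw, QuadraticMap.map_neg, QuadraticMap.map_smul, hι₀, smul_eq_mul] at h1
    have h3 : (2 : F) * Q w = 0 := by linear_combination -h1
    exact (mul_eq_zero.mp h3).resolve_left h2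
  have hinf : Wp ⊓ Wm = ⊥ := by
    rw [eq_bot_iff]
    intro w hw
    obtain ⟨hw1, hw2⟩ := Submodule.mem_inf.mp hw
    have h1 := hp w hw1
    have h3 := hm w hw2
    have h4 : ((2 : F) * ι₀) • w = 0 := by
      rw [mul_smul, two_smul]
      have h5 : ι₀ • w = -(ι₀ • w) := h1.symm.trans h3
      calc ι₀ • w + ι₀ • w = -(ι₀ • w) + ι₀ • w := by rw [← h5]
        _ = 0 := neg_add_cancel _
    rw [Submodule.mem_bot]
    exact (smul_eq_zero.mp h4).resolve_left (mul_ne_zero h2 hι0)
  have hsup : Wp ⊔ Wm = W := by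
    apply le_antisymm
    · exact sup_le hpW hmW
    · intro w hw
      have hTw := hWinv w hw
      have e : w = (2 : F)⁻¹ • (w - ι₀ • T w) + (2 : F)⁻¹ • (w + ι₀ • T w) := by
        rw [← smul_add]
        have h5 : w - ι₀ • T w + (w + ι₀ • T w) = (2 : F) • w := by rw [two_smul]; abel
        rw [h5, smul_smul, inv_mul_cancel₀ h2, one_smul]
      rw [e]
      apply Submodule.add_mem_sup
      · apply Submodule.smul_mem
        rw [hWp]
        refine Submodule.mem_inf.mpr ⟨W.sub_mem hw (W.smul_mem _ hTw), ?_⟩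
        rw [LinearMap.mem_ker, LinearMap.sub_apply, LinearMap.smul_apply, Module.End.one_apply,
          map_sub, map_smul, hTT, smul_sub, smul_smul, hι₀]
        simp only [smul_neg, neg_smul, one_smul, sub_neg_eq_add]
        abel
      · apply Submodule.smul_mem
        rw [hWm]
        refine Submodule.mem_inf.mpr ⟨W.add_mem hw (W.smul_mem _ hTw), ?_⟩
        rw [LinearMap.mem_ker, LinearMap.add_apply, LinearMap.smul_apply, Module.End.one_apply,
          map_add, map_smul, hTT, smul_add, smul_smul, hι₀]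
        simp only [smul_neg, neg_smul, one_smul]
        abel
  have hdim := Submodule.finrank_sup_add_finrank_inf_eq Wp Wm
  rw [hsup, hinf, finrank_bot, add_zero] at hdim
  have hts : ∀ (U : Submodule F V), (∀ u ∈ U, Q u = 0) →
      ∀ u ∈ U, ∀ v ∈ U, QuadraticMap.polarBilin Q u v = 0 := by
    intro U hU u hu v hv
    rw [QuadraticMap.polarBilin_apply_apply]
    unfold QuadraticMap.polar
    rw [hU u hu, hU v hv, hU (u + v) (U.add_mem hu hv)]
    ring
  have h1 := sq_ti_le (QuadraticMap.polarBilin Q) W Wp hW hpW (hts Wp hQp)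
  have h3 := sq_ti_le (QuadraticMap.polarBilin Q) W Wm hW hmW (hts Wm hQm)
  exact ⟨Wp, hpW, hQp, by omega⟩

end srenegp

end Cfsg.Agent.Lib.helper49
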