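import Mathlib

/-!
helper49: S2202 piece NOIDX (`no_odd_index`), Mathlib only.
A pure permutation-group lemma: `X` acts transitively on `2^a + 1` points with kernel `K`,
`|X| = (q+1) q (q-1) |K|`, only elements of `K` fix three points.  Then no subgroup `Y` of odd
order has `|Y| ≥ (q+1)(q-1)|Y ∩ K|`.
-/

set_option autoImplicit false
set_option linter.style.haveILetI false

namespace Cfsg.Agent.Lib.helper49.AIC

open scoped BigOperators

/-- orbit–stabilizer for a subgroup, everything stated inside the big group -/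
theorem h49_orbit_stab {X : Type*} {Λ : Type*} [Group X] [Finite X] [MulAction X Λ]
    (Y : Subgroup X) (l : Λ) :
    (MulAction.orbit ↥Y l).ncard * Nat.card ↥(Y ⊓ MulAction.stabilizer X l) = Nat.card Y := by
  have h1 := MulAction.index_stabilizer ↥Y l
  have h2 := Subgroup.index_mul_card (MulAction.stabilizer ↥Y l)
  have h3 : Nat.card (MulAction.stabilizer ↥Y l) = Nat.card ↥(Y ⊓ MulAction.stabilizer X l) := by
    refine Nat.card_congr
      { toFun := fun g => ⟨g.1.1, ⟨g.1.2, ?_⟩⟩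
        invFun := fun x => ⟨⟨x.1, x.2.1⟩, ?_⟩
        left_inv := fun g => rfl
        right_inv := fun x => rfl }
    · have := g.2
      rw [MulAction.mem_stabilizer_iff] at this
      exact this
    · show (⟨x.1, x.2.1⟩ : ↥Y) • l = l
      exact x.2.2
  rw [← h1, ← h3, h2]

/-- cardinality of a subgroup as a sum of indicators -/
theorem h49_card_sum {X : Type*} [Group X] [Fintype X] (S : Subgroup X) [DecidablePred (· ∈ S)]
    (c : ℕ) : (∑ x : X, if x ∈ S then c else 0) = Nat.card S * c := by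
  rw [← Finset.sum_filter, Finset.sum_const, smul_eq_mul, Nat.card_eq_fintype_card,
    Fintype.card_subtype]

/-- Step 1 : every point stabilizer of `Y` has order `(q-1)|Y ∩ K|` and `Y` is transitive. -/
theorem h49_noidx_step1 {X : Type*} {Λ : Type*} [Group X] [Finite X] [MulAction X Λ] [Finite Λ]
    (K : Subgroup X) (hKfix : ∀ k ∈ K, ∀ x : Λ, k • x = x)
    (a : ℕ) (ha : 2 ≤ a) (hΛ : Nat.card Λ = 2 ^ a + 1)
    (hX : Nat.card X = (2 ^ a + 1) * 2 ^ a * (2 ^ a - 1) * Nat.card K)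
    (htr : MulAction.IsPretransitive X Λ)
    (h3 : ∀ g : X, ∀ x y z : Λ, x ≠ y → x ≠ z → y ≠ z → g • x = x → g • y = y → g • z = z → g ∈ K)
    (Y : Subgroup X) (hYodd : Odd (Nat.card Y))
    (hY : (2 ^ a + 1) * (2 ^ a - 1) * Nat.card ↥(Y ⊓ K) ≤ Nat.card Y) (l : Λ) :
    Nat.card ↥(Y ⊓ MulAction.stabilizer X l) = (2 ^ a - 1) * Nat.card ↥(Y ⊓ K) ∧
      ∀ m : Λ, ∃ y ∈ Y, y • l = m := by
  classical
  have h4 : 4 ≤ 2 ^ a := by
    calc 4 = 2 ^ 2 := by norm_num
      _ ≤ 2 ^ a := Nat.pow_le_pow_right (by norm_num) ha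
  -- three distinct points
  have h3pts : ∃ x y z : Λ, x ≠ y ∧ x ≠ z ∧ y ≠ z := by
    haveI := Fintype.ofFinite Λ
    have : 2 < Fintype.card Λ := by rw [← Nat.card_eq_fintype_card, hΛ]; omega
    exact Fintype.two_lt_card_iff.mp this
  obtain ⟨p1, p2, p3, h12, h13, h23⟩ := h3pts
  have hKmem : ∀ g : X, (∀ x : Λ, g • x = x) → g ∈ K := fun g hg =>
    h3 g p1 p2 p3 h12 h13 h23 (hg _) (hg _) (hg _)
  haveI hKn : K.Normal := by
    refine ⟨fun k hk g => hKmem _ fun x => ?_⟩
    rw [mul_smul, mul_smul, hKfix k hk, smul_inv_smul]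
  set S := MulAction.stabilizer X l with hSdef
  have hKS : K ≤ S := fun k hk => by
    rw [hSdef, MulAction.mem_stabilizer_iff]; exact hKfix k hk l
  have hKpos : 0 < Nat.card K := Nat.card_pos
  have hkpos : 0 < Nat.card ↥(Y ⊓ K) := Nat.card_pos
  -- |S| = q (q-1) |K|
  have hScard : Nat.card S = 2 ^ a * (2 ^ a - 1) * Nat.card K := by
    have e1 := MulAction.index_stabilizer_of_transitive X l
    have e2 := Subgroup.index_mul_card S
    rw [e1, hΛ, hX] at e2
    have : (2 ^ a + 1) * Nat.card S = (2 ^ a + 1) * (2 ^ a * (2 ^ a - 1) * Nat.card K) := by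
      rw [e2]; ring
    exact Nat.eq_of_mul_eq_mul_left (by positivity) this
  have hKrel : K.relIndex S = 2 ^ a * (2 ^ a - 1) := by
    have e := Subgroup.relIndex_mul_relIndex ⊥ K S bot_le hKS
    rw [Subgroup.relIndex_bot_left, Subgroup.relIndex_bot_left, hScard] at e
    have : Nat.card K * K.relIndex S = Nat.card K * (2 ^ a * (2 ^ a - 1)) := by
      rw [e]; ring
    exact Nat.eq_of_mul_eq_mul_left hKpos this
  set Yl := Y ⊓ S with hYl
  set m := K.relIndex Yl with hm
  have hm_dvd : m ∣ 2 ^ a * (2 ^ a - 1) := by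
    have e1 : K.relIndex (Yl ⊔ K) = m := Subgroup.relIndex_sup_right Yl K
    have e2 := Subgroup.relIndex_mul_relIndex K (Yl ⊔ K) S le_sup_right
      (sup_le inf_le_right hKS)
    rw [e1, hKrel] at e2
    exact Dvd.intro _ e2
  have hinf : Yl ⊓ K = Y ⊓ K := by
    rw [hYl, inf_assoc, inf_eq_right.mpr hKS]
  have hle : Y ⊓ K ≤ Yl := by rw [← hinf]; exact inf_le_left
  have hYlcard : Nat.card ↥(Y ⊓ K) * m = Nat.card Yl := by
    have e := Subgroup.relIndex_mul_relIndex ⊥ (Y ⊓ K) Yl bot_le hle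
    rw [Subgroup.relIndex_bot_left, Subgroup.relIndex_bot_left] at e
    rw [← e, hm, ← Subgroup.inf_relIndex_left Yl K, hinf]
  have hm_odd : Odd m := by
    have d1 : m ∣ Nat.card Yl := Dvd.intro_left _ hYlcard
    have d2 : Nat.card Yl ∣ Nat.card Y := Subgroup.card_dvd_of_le inf_le_left
    exact Odd.of_dvd_nat hYodd (d1.trans d2)
  have hm_dvd' : m ∣ 2 ^ a - 1 := by
    have hc : Nat.Coprime m (2 ^ a) := by
      apply Nat.Coprime.pow_right
      exact Nat.coprime_two_right.mpr hm_odd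
    exact hc.dvd_of_dvd_mul_left hm_dvd
  have hm_le : m ≤ 2 ^ a - 1 := Nat.le_of_dvd (by omega) hm_dvd'
  have hn := h49_orbit_stab Y l
  set n := (MulAction.orbit ↥Y l).ncard with hndef
  have hn_le : n ≤ 2 ^ a + 1 := by
    rw [← hΛ]; exact Set.ncard_le_card _
  rw [← hYlcard] at hn
  rw [← hn] at hY
  -- (q+1)(q-1) k ≤ n (k m)
  have hnm : (2 ^ a + 1) * (2 ^ a - 1) ≤ n * m := by
    have : (2 ^ a + 1) * (2 ^ a - 1) * Nat.card ↥(Y ⊓ K) ≤ n * m * Nat.card ↥(Y ⊓ K) := by
      calc (2 ^ a + 1) * (2 ^ a - 1) * Nat.card ↥(Y ⊓ K)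
          ≤ n * (Nat.card ↥(Y ⊓ K) * m) := hY
        _ = n * m * Nat.card ↥(Y ⊓ K) := by ring
    exact Nat.le_of_mul_le_mul_right this hkpos
  have hn_eq : n = 2 ^ a + 1 := by
    by_contra hne
    have hlt : n ≤ 2 ^ a := by omega
    have : n * m ≤ 2 ^ a * (2 ^ a - 1) := Nat.mul_le_mul hlt hm_le
    have h5 : 2 ^ a * (2 ^ a - 1) < (2 ^ a + 1) * (2 ^ a - 1) :=
      Nat.mul_lt_mul_of_pos_right (by omega) (by omega)
    omega
  have hm_eq : m = 2 ^ a - 1 := by
    rw [hn_eq] at hnm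
    have := Nat.le_of_mul_le_mul_left hnm (by positivity)
    omega
  refine ⟨?_, ?_⟩
  · rw [← hYlcard, hm_eq, mul_comm]
  · intro μ
    have huniv : MulAction.orbit ↥Y l = Set.univ := by
      rw [Set.eq_univ_iff_ncard, ← hndef, hn_eq, hΛ]
    have : μ ∈ MulAction.orbit ↥Y l := by rw [huniv]; trivial
    obtain ⟨y, hy⟩ := this
    exact ⟨y.1, y.2, hy⟩

/-- Step 2 : the stabilizer `H` of `l` in `Y` fixes a second point. -/
theorem h49_noidx_step2 {X : Type*} {Λ : Type*} [Group X] [Finite X] [MulAction X Λ] [Finite Λ]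
    (K : Subgroup X) (hKfix : ∀ k ∈ K, ∀ x : Λ, k • x = x)
    (a : ℕ) (ha : 2 ≤ a) (hΛ : Nat.card Λ = 2 ^ a + 1)
    (h3 : ∀ g : X, ∀ x y z : Λ, x ≠ y → x ≠ z → y ≠ z → g • x = x → g • y = y → g • z = z → g ∈ K)
    (Y : Subgroup X) (l : Λ)
    (hH : Nat.card ↥(Y ⊓ MulAction.stabilizer X l) = (2 ^ a - 1) * Nat.card ↥(Y ⊓ K)) :
    ∃ l' : Λ, l' ≠ l ∧ ∀ h ∈ Y ⊓ MulAction.stabilizer X l, h • l' = l' := by
  classical
  haveI := Fintype.ofFinite X
  haveI := Fintype.ofFinite Λ
  have h4 : 4 ≤ 2 ^ a := by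
    calc 4 = 2 ^ 2 := by norm_num
      _ ≤ 2 ^ a := Nat.pow_le_pow_right (by norm_num) ha
  set H := Y ⊓ MulAction.stabilizer X l with hHdef
  set k := Nat.card ↥(Y ⊓ K) with hk
  have hkpos : 0 < k := Nat.card_pos
  have hKH : Y ⊓ K ≤ H := le_inf inf_le_left
    (fun x hx => by rw [MulAction.mem_stabilizer_iff]; exact hKfix x hx.2 l)
  by_contra hno
  push Not at hno
  have hsub : ∀ μ : Λ, Y ⊓ K ≤ H ⊓ MulAction.stabilizer X μ := fun μ => le_inf hKH
    (fun x hx => by rw [MulAction.mem_stabilizer_iff]; exact hKfix x hx.2 μ)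
  have hdvd : ∀ μ : Λ, k ∣ Nat.card ↥(H ⊓ MulAction.stabilizer X μ) := fun μ =>
    Subgroup.card_dvd_of_le (hsub μ)
  by_cases hcase : ∃ μ : Λ, μ ≠ l ∧ Nat.card ↥(H ⊓ MulAction.stabilizer X μ) < 2 * k
  · -- Case A : a regular orbit of size `q - 1`, so the remaining point is fixed
    obtain ⟨μ, hμl, hlt⟩ := hcase
    have hpos : 0 < Nat.card ↥(H ⊓ MulAction.stabilizer X μ) := Nat.card_pos
    have heq : Nat.card ↥(H ⊓ MulAction.stabilizer X μ) = k := by
      obtain ⟨j, hj⟩ := hdvd μ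
      rw [hj] at hlt hpos ⊢
      have hj1 : j < 2 := by
        by_contra h
        push Not at h
        have := Nat.mul_le_mul_left k h
        omega
      have hj0 : 0 < j := Nat.pos_of_mul_pos_left hpos
      have : j = 1 := by omega
      rw [this, mul_one]
    have horb := h49_orbit_stab H μ
    rw [heq, hH] at horb
    have hncard : (MulAction.orbit ↥H μ).ncard = 2 ^ a - 1 :=
      Nat.eq_of_mul_eq_mul_right hkpos horb
    have hl_not : l ∉ MulAction.orbit ↥H μ := by
      rintro ⟨h, hh⟩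
      apply hμl
      have hfix : (h : X) • l = l := MulAction.mem_stabilizer_iff.mp h.2.2
      have h2 : (h : X) • μ = l := hh
      rw [← hfix] at h2
      exact smul_left_cancel _ h2
    set O := MulAction.orbit ↥H μ with hO
    have hins : (insert l O).ncard = 2 ^ a := by
      rw [Set.ncard_insert_of_notMem hl_not, hncard]; omega
    have hcompl : (insert l O)ᶜ.ncard = 1 := by
      have := Set.ncard_add_ncard_compl (insert l O)
      rw [hins, hΛ] at this
      omega
    obtain ⟨ν, hν⟩ := Set.ncard_eq_one.mp hcompl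
    have hνmem : ν ∈ (insert l O)ᶜ := by rw [hν]; rfl
    have hνl : ν ≠ l := fun h => hνmem (by rw [h]; exact Set.mem_insert _ _)
    have hνO : ν ∉ O := fun h => hνmem (Set.mem_insert_of_mem _ h)
    obtain ⟨h, hhH, hhν⟩ := hno ν hνl
    apply hhν
    have hmem2 : h • ν ∈ (insert l O)ᶜ := by
      intro hmem
      rcases hmem with hl | hOm
      · apply hνl
        have hfix : h • l = l := MulAction.mem_stabilizer_iff.mp hhH.2
        rw [← hfix] at hl
        exact smul_left_cancel _ hl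
      · apply hνO
        obtain ⟨h', hh'⟩ := hOm
        refine ⟨(⟨h, hhH⟩ : ↥H)⁻¹ * h', ?_⟩
        have hh'' : h' • μ = h • ν := hh'
        show ((⟨h, hhH⟩ : ↥H)⁻¹ * h') • μ = ν
        rw [mul_smul, hh'']
        exact inv_smul_smul (⟨h, hhH⟩ : ↥H) ν
    rw [hν] at hmem2
    exact hmem2
  · -- Case B : counting fixed points
    push Not at hcase
    set T := ∑ μ : Λ, ∑ x : X, (if x ∈ H ∧ x • μ = μ then 1 else 0) with hT
    have hinner : ∀ μ : Λ, (∑ x : X, if x ∈ H ∧ x • μ = μ then 1 else 0) =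
        Nat.card ↥(H ⊓ MulAction.stabilizer X μ) := by
      intro μ
      have := h49_card_sum (H ⊓ MulAction.stabilizer X μ) 1
      rw [mul_one] at this
      rw [← this]
      refine Finset.sum_congr rfl fun x _ => ?_
      simp only [Subgroup.mem_inf, MulAction.mem_stabilizer_iff]
    have hlow : (2 ^ a - 1) * k + 2 ^ a * (2 * k) ≤ T := by
      rw [hT, Finset.sum_congr rfl (fun μ _ => hinner μ),
        ← Finset.add_sum_erase Finset.univ _ (Finset.mem_univ l)]
      have h1 : Nat.card ↥(H ⊓ MulAction.stabilizer X l) = (2 ^ a - 1) * k := by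
        rw [inf_eq_left.mpr (inf_le_right : H ≤ MulAction.stabilizer X l), hH]
      have h2 : 2 ^ a * (2 * k) ≤
          ∑ μ ∈ Finset.univ.erase l, Nat.card ↥(H ⊓ MulAction.stabilizer X μ) := by
        have hc : (Finset.univ.erase l : Finset Λ).card = 2 ^ a := by
          rw [Finset.card_erase_of_mem (Finset.mem_univ l), Finset.card_univ,
            ← Nat.card_eq_fintype_card, hΛ]
          omega
        calc 2 ^ a * (2 * k) = (Finset.univ.erase l : Finset Λ).card • (2 * k) := by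
              rw [hc, smul_eq_mul]
          _ ≤ _ := Finset.card_nsmul_le_sum _ _ _
              (fun μ hμ => hcase μ (Finset.ne_of_mem_erase hμ))
      omega
    have hup : T ≤ 2 * ((2 ^ a - 1) * k) + (2 ^ a - 1) * k := by
      rw [hT, Finset.sum_comm]
      have hbound : ∀ x : X, (∑ μ : Λ, if x ∈ H ∧ x • μ = μ then 1 else 0) ≤
          (if x ∈ H then 2 else 0) + (if x ∈ Y ⊓ K then (2 ^ a - 1) else 0) := by
        intro x
        by_cases hxH : x ∈ H
        · by_cases hxK : x ∈ K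
          · have hxYK : x ∈ Y ⊓ K := ⟨hxH.1, hxK⟩
            rw [if_pos hxH, if_pos hxYK]
            calc (∑ μ : Λ, if x ∈ H ∧ x • μ = μ then 1 else 0)
                ≤ ∑ μ : Λ, 1 := Finset.sum_le_sum (fun μ _ => by split_ifs <;> simp)
              _ = 2 ^ a + 1 := by
                rw [Finset.sum_const, Finset.card_univ, ← Nat.card_eq_fintype_card, hΛ]; simp
              _ = 2 + (2 ^ a - 1) := by omega
          · have hxYK : x ∉ Y ⊓ K := fun h => hxK h.2
            rw [if_pos hxH, if_neg hxYK, add_zero]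
            by_contra hgt
            push Not at hgt
            have hcardeq : (∑ μ : Λ, if x ∈ H ∧ x • μ = μ then 1 else 0) =
                (Finset.univ.filter (fun μ : Λ => x • μ = μ)).card := by
              rw [Finset.card_filter]
              refine Finset.sum_congr rfl fun μ _ => ?_
              simp [hxH]
            rw [hcardeq, Finset.two_lt_card_iff] at hgt
            obtain ⟨p, q, r, hp, hq, hr, hpq, hpr, hqr⟩ := hgt
            simp only [Finset.mem_filter, Finset.mem_univ, true_and] at hp hq hr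
            exact hxK (h3 x p q r hpq hpr hqr hp hq hr)
        · rw [if_neg hxH]
          have hxYK : x ∉ Y ⊓ K := fun h => hxH (hKH h)
          rw [if_neg hxYK]
          simp [hxH]
      calc (∑ x : X, ∑ μ : Λ, if x ∈ H ∧ x • μ = μ then 1 else 0)
          ≤ ∑ x : X, ((if x ∈ H then 2 else 0) + (if x ∈ Y ⊓ K then (2 ^ a - 1) else 0)) :=
            Finset.sum_le_sum (fun x _ => hbound x)
        _ = Nat.card H * 2 + Nat.card ↥(Y ⊓ K) * (2 ^ a - 1) := by
            rw [Finset.sum_add_distrib, h49_card_sum, h49_card_sum]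
        _ = 2 * ((2 ^ a - 1) * k) + (2 ^ a - 1) * k := by rw [hH]; ring
    have hfin : (2 ^ a - 1) * k + 2 ^ a * (2 * k) ≤ 2 * ((2 ^ a - 1) * k) + (2 ^ a - 1) * k :=
      hlow.trans hup
    have h5 : (2 ^ a - 1) * k < 2 ^ a * k := Nat.mul_lt_mul_of_pos_right (by omega) hkpos
    have h6 : 2 ^ a * (2 * k) = 2 * (2 ^ a * k) := by ring
    rw [h6] at hfin
    omega

/-- NOIDX : pure permutation-group lemma (Mathlib only) -/
theorem no_odd_index {X : Type*} {Λ : Type*} [Group X] [Finite X] [MulAction X Λ] [Finite Λ]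
    (K : Subgroup X) (hKfix : ∀ k ∈ K, ∀ x : Λ, k • x = x)
    (a : ℕ) (ha : 2 ≤ a) (hΛ : Nat.card Λ = 2 ^ a + 1)
    (hX : Nat.card X = (2 ^ a + 1) * 2 ^ a * (2 ^ a - 1) * Nat.card K)
    (htr : MulAction.IsPretransitive X Λ)
    (h3 : ∀ g : X, ∀ x y z : Λ, x ≠ y → x ≠ z → y ≠ z → g • x = x → g • y = y → g • z = z → g ∈ K)
    (Y : Subgroup X) (hYodd : Odd (Nat.card Y))
    (hY : (2 ^ a + 1) * (2 ^ a - 1) * Nat.card ↥(Y ⊓ K) ≤ Nat.card Y) : False := by
  classical
  have h4 : 4 ≤ 2 ^ a := by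
    calc 4 = 2 ^ 2 := by norm_num
      _ ≤ 2 ^ a := Nat.pow_le_pow_right (by norm_num) ha
  have hne : Nonempty Λ := by
    by_contra h
    rw [not_nonempty_iff] at h
    rw [Nat.card_of_isEmpty] at hΛ
    omega
  obtain ⟨l⟩ := hne
  have s1 := h49_noidx_step1 K hKfix a ha hΛ hX htr h3 Y hYodd hY
  obtain ⟨hHl, htrl⟩ := s1 l
  obtain ⟨l', hl'ne, hl'fix⟩ := h49_noidx_step2 K hKfix a ha hΛ h3 Y l hHl
  obtain ⟨hHl', -⟩ := s1 l'
  set H := Y ⊓ MulAction.stabilizer X l with hHdef
  have hkpos : 0 < Nat.card ↥(Y ⊓ K) := Nat.card_pos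
  have hHH' : H = Y ⊓ MulAction.stabilizer X l' := by
    apply Subgroup.eq_of_le_of_card_ge
    · exact le_inf inf_le_left
        (fun h hh => by rw [MulAction.mem_stabilizer_iff]; exact hl'fix h hh)
    · rw [hHl', hHl]
  obtain ⟨g, hgY, hgl⟩ := htrl l'
  have hfix1 : ∀ h ∈ H, h • (g • l') = g • l' := by
    intro h hh
    have hmem : g⁻¹ * h * g ∈ H := by
      refine ⟨Y.mul_mem (Y.mul_mem (Y.inv_mem hgY) hh.1) hgY, ?_⟩
      show (g⁻¹ * h * g) • l = l
      rw [mul_smul, mul_smul, hgl, hl'fix h hh, ← hgl, inv_smul_smul]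
    have h2 := hl'fix _ hmem
    rw [mul_smul, mul_smul, inv_smul_eq_iff] at h2
    exact h2
  have hfix2 : ∀ ν : Λ, (∀ h ∈ H, h • ν = ν) → ν = l ∨ ν = l' := by
    intro ν hν
    by_contra hcon
    push Not at hcon
    have hle : H ≤ Y ⊓ K := fun h hh => ⟨hh.1, h3 h l l' ν (Ne.symm hl'ne) (Ne.symm hcon.1)
      (Ne.symm hcon.2) (MulAction.mem_stabilizer_iff.mp hh.2) (hl'fix h hh) (hν h hh)⟩
    have h5 := Subgroup.card_le_of_le hle
    rw [hHl] at h5
    have h6 : 2 * Nat.card ↥(Y ⊓ K) ≤ (2 ^ a - 1) * Nat.card ↥(Y ⊓ K) :=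
      Nat.mul_le_mul_right _ (by omega)
    omega
  rcases hfix2 _ hfix1 with h | h
  · have hgg : (g * g) • l = l := by rw [mul_smul, hgl, h]
    have hodd : Odd (orderOf g) := by
      have hd : orderOf g ∣ Nat.card Y := by
        have := orderOf_dvd_natCard (⟨g, hgY⟩ : ↥Y)
        rwa [Subgroup.orderOf_mk] at this
      exact Odd.of_dvd_nat hYodd hd
    obtain ⟨j, hj⟩ := hodd
    have hpow : (g * g) ^ (j + 1) = g := by
      rw [← pow_two, ← pow_mul]
      have : 2 * (j + 1) = orderOf g + 1 := by omega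
      rw [this, pow_succ, pow_orderOf_eq_one, one_mul]
    have hmem : (g * g) ^ (j + 1) ∈ MulAction.stabilizer X l :=
      Subgroup.pow_mem _ (MulAction.mem_stabilizer_iff.mpr hgg) _
    rw [hpow, MulAction.mem_stabilizer_iff, hgl] at hmem
    exact hl'ne hmem
  · exact hl'ne (smul_left_cancel g (h.trans hgl.symm))

end Cfsg.Agent.Lib.helper49.AIC
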