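import Mathlib

/-!
helper49: S2202 piece CYC (`cyclic_of_regular`), Mathlib only.
An abelian group of automorphisms of a finite abelian group `V` which is transitive on the
non-identity elements of `V` is cyclic: together with `0` it is a finite commutative domain
inside the endomorphism ring of `Additive V`.
-/

set_option autoImplicit false
set_option linter.style.haveILetI false
set_option linter.deprecated false

namespace Cfsg.Agent.Lib.helper49.AIC

/-- an automorphism as an additive endomorphism -/
def h49_toE (V : Type*) [CommGroup V] : MulAut V →* AddMonoid.End (Additive V) where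
  toFun a := MonoidHom.toAdditive a.toMonoidHom
  map_one' := rfl
  map_mul' _ _ := rfl

theorem h49_toE_apply {V : Type*} [CommGroup V] (a : MulAut V) (x : Additive V) :
    h49_toE V a x = Additive.ofMul (a (Additive.toMul x)) := rfl

/-- CYC : an abelian group of automorphisms transitive on the non-identity elements is cyclic
(Mathlib only; `A ∪ {0}` is a finite field inside `End V`) -/
theorem cyclic_of_regular {V : Type*} [CommGroup V] [Finite V] (A : Subgroup (MulAut V))
    (hA : ∀ a ∈ A, ∀ b ∈ A, a * b = b * a)
    (htr : ∀ v w : V, v ≠ 1 → w ≠ 1 → ∃ a ∈ A, a v = w) : IsCyclic A := by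
  classical
  by_cases hV : Subsingleton V
  · have : Subsingleton (MulAut V) := ⟨fun a b => by ext x; exact Subsingleton.elim _ _⟩
    have : Subsingleton A := inferInstance
    exact isCyclic_of_subsingleton
  rw [not_subsingleton_iff_nontrivial] at hV
  obtain ⟨v₀, hv₀⟩ := exists_ne (1 : V)
  set S : Subring (AddMonoid.End (Additive V)) :=
    Subring.centralizer ((h49_toE V) '' (A : Set (MulAut V))) with hS
  have hmemS : ∀ a ∈ A, h49_toE V a ∈ S := by
    intro a ha
    rw [hS, Subring.mem_centralizer_iff]
    rintro _ ⟨b, hb, rfl⟩
    rw [← map_mul, ← map_mul, hA b hb a ha]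
  have key : ∀ s ∈ S, s = 0 ∨ ∃ c ∈ A, s = h49_toE V c := by
    intro s hs
    rw [hS, Subring.mem_centralizer_iff] at hs
    have hcomm : ∀ a ∈ A, ∀ x : Additive V, s (h49_toE V a x) = h49_toE V a (s x) := by
      intro a ha x
      have := hs (h49_toE V a) ⟨a, ha, rfl⟩
      exact (DFunLike.congr_fun this x).symm
    by_cases h0 : s (Additive.ofMul v₀) = 0
    · left
      refine DFunLike.ext _ _ fun x => ?_
      rw [AddMonoid.End.zero_apply]
      by_cases hx : x = 0
      · subst hx; exact map_zero s
      · have hx' : Additive.toMul x ≠ 1 := fun h => hx (by simpa using h)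
        obtain ⟨a, ha, hav⟩ := htr v₀ (Additive.toMul x) hv₀ hx'
        have hx2 : x = h49_toE V a (Additive.ofMul v₀) := by
          rw [h49_toE_apply]; simp [hav]
        rw [hx2, hcomm a ha, h0]; exact map_zero _
    · right
      have hw : Additive.toMul (s (Additive.ofMul v₀)) ≠ 1 := fun h => h0 (by simpa using h)
      obtain ⟨c, hc, hcv⟩ := htr v₀ _ hv₀ hw
      refine ⟨c, hc, DFunLike.ext _ _ fun x => ?_⟩
      by_cases hx : x = 0
      · subst hx; rw [map_zero, map_zero]
      · have hx' : Additive.toMul x ≠ 1 := fun h => hx (by simpa using h)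
        obtain ⟨a, ha, hav⟩ := htr v₀ (Additive.toMul x) hv₀ hx'
        have hx2 : x = h49_toE V a (Additive.ofMul v₀) := by
          rw [h49_toE_apply]; simp [hav]
        have hs0 : s (Additive.ofMul v₀) = h49_toE V c (Additive.ofMul v₀) := by
          rw [h49_toE_apply]; simp [hcv]
        rw [hx2, hcomm a ha, hs0]
        have := hA a ha c hc
        have h2 : h49_toE V a * h49_toE V c = h49_toE V c * h49_toE V a := by
          rw [← map_mul, ← map_mul, this]
        exact DFunLike.congr_fun h2 (Additive.ofMul v₀)
  have hScomm : ∀ s t : S, s * t = t * s := by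
    intro s t
    rcases key s.1 s.2 with h | ⟨c, hc, h⟩
    · have : s = 0 := Subtype.ext h
      rw [this]; simp
    rcases key t.1 t.2 with h' | ⟨d, hd, h'⟩
    · have : t = 0 := Subtype.ext h'
      rw [this]; simp
    apply Subtype.ext
    show s.1 * t.1 = t.1 * s.1
    rw [h, h', ← map_mul, ← map_mul, hA c hc d hd]
  letI : CommRing S := { (inferInstance : Ring S) with mul_comm := hScomm }
  have hne : (1 : AddMonoid.End (Additive V)) ≠ 0 := by
    intro h
    have := DFunLike.congr_fun h (Additive.ofMul v₀)
    exact hv₀ (by simpa using this)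
  haveI : Nontrivial S := ⟨⟨1, 0, fun h => hne (congrArg Subtype.val h)⟩⟩
  haveI : NoZeroDivisors S := by
    refine ⟨fun {s t} hst => ?_⟩
    rcases key s.1 s.2 with h | ⟨c, hc, h⟩
    · left; exact Subtype.ext h
    · right
      apply Subtype.ext
      have h1 : s.1 * t.1 = 0 := congrArg Subtype.val hst
      have h2 : h49_toE V c⁻¹ * (s.1 * t.1) = t.1 := by
        rw [← mul_assoc, h, ← map_mul, inv_mul_cancel, map_one, one_mul]
      rw [h1, mul_zero] at h2
      exact h2.symm
  haveI : IsDomain S := NoZeroDivisors.to_isDomain S
  let f : A →* S :=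
    { toFun := fun a => ⟨h49_toE V a.1, hmemS a.1 a.2⟩
      map_one' := by apply Subtype.ext; simp
      map_mul' := fun a b => by apply Subtype.ext; simp }
  have hf : Function.Injective f := by
    intro a b hab
    have h1 : h49_toE V a.1 = h49_toE V b.1 := congrArg Subtype.val hab
    apply Subtype.ext
    ext x
    have := DFunLike.congr_fun h1 (Additive.ofMul x)
    rw [h49_toE_apply, h49_toE_apply] at this
    simpa using this
  exact isCyclic_of_subgroup_isDomain f hf

end Cfsg.Agent.Lib.helper49.AIC
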