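/-
Shared lemmas (helper49): automorphisms of `PΩ(Q)`, part 1.
Root groups `U_a = {E(a, w) : w ⊥ a}` inside the isometry group: fixed vectors, the centraliser of `U_a`,
maximality of the stabiliser of a singular point, irreducibility of the stabiliser on `U_a`.
-/
import Mathlib
import Cfsg.Agent.Lib.helper49.NondegMax
import Cfsg.Agent.Lib.helper42.AutImage2

set_option autoImplicit false
set_option linter.unusedSectionVars false

namespace Cfsg.Agent.Lib.helper49.AutOm

open Matrix Module QuadraticMap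
open Cfsg.Agent.Lib.helper49

section Basic

variable {F : Type*} [Field F] {ι : Type} [Fintype ι] [DecidableEq ι]

theorem eichG_apply_self (Q : QuadraticForm F (ι → F)) (a w : ι → F) (ha : Q a = 0)
    (hw : polar Q a w = 0) : isoAct (⇑Q) (eichG Q a w) a = a := by
  rw [isoAct_eichG Q a w ha hw, polar_self, ha, polar_comm Q w a, hw]
  simp

theorem eichG_apply_orth (Q : QuadraticForm F (ι → F)) (a w x : ι → F) (ha : Q a = 0)
    (hw : polar Q a w = 0) (hx : polar Q a x = 0) :
    isoAct (⇑Q) (eichG Q a w) x = x + polar Q w x • a := by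
  rw [isoAct_eichG Q a w ha hw, hx]
  simp

theorem exists_polar_ne_zero (Q : QuadraticForm F (ι → F)) (hQ : (polarBilin Q).Nondegenerate)
    (a : ι → F) (ha : a ≠ 0) : ∃ x, polar Q a x ≠ 0 := by
  by_contra hcon
  push Not at hcon
  exact ha (hQ.1 a hcon)

theorem exists_polar_eq_one (Q : QuadraticForm F (ι → F)) (hQ : (polarBilin Q).Nondegenerate)
    (a : ι → F) (ha : a ≠ 0) : ∃ x, polar Q a x = 1 := by
  obtain ⟨x, hx⟩ := exists_polar_ne_zero Q hQ a ha
  refine ⟨(polar Q a x)⁻¹ • x, ?_⟩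
  rw [polar_smul_right, smul_eq_mul, inv_mul_cancel₀ hx]

theorem neg_eq_self_of_two (h2 : (2 : F) = 0) (v : ι → F) : -v = v := by
  funext i
  show -v i = v i
  linear_combination (-(v i)) * h2

/-- `E(a, w) = 1` forces `w ∈ F a`. -/
theorem eichG_eq_one_imp (Q : QuadraticForm F (ι → F)) (hQ : (polarBilin Q).Nondegenerate)
    (a w : ι → F) (ha0 : a ≠ 0) (ha : Q a = 0) (hw : polar Q a w = 0) (h : eichG Q a w = 1) :
    ∃ t : F, w = t • a := by
  obtain ⟨x, hx⟩ := exists_polar_eq_one Q hQ a ha0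
  have h1 := congrArg (fun g => isoAct (⇑Q) g x) h
  simp only [isoAct_one] at h1
  rw [isoAct_eichG Q a w ha hw, hx] at h1
  refine ⟨polar Q w x - Q w * 1, ?_⟩
  funext i
  have := congrFun h1 i
  simp only [Pi.add_apply, Pi.sub_apply, Pi.smul_apply, smul_eq_mul] at this ⊢
  linear_combination -this

theorem eichG_eq_imp (Q : QuadraticForm F (ι → F)) (hQ : (polarBilin Q).Nondegenerate)
    (a w w' : ι → F) (ha0 : a ≠ 0) (ha : Q a = 0) (hw : polar Q a w = 0) (hw' : polar Q a w' = 0)
    (h : eichG Q a w = eichG Q a w') : ∃ t : F, w - w' = t • a := by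
  apply eichG_eq_one_imp Q hQ a (w - w') ha0 ha (by rw [polar_sub_right, hw, hw', sub_zero])
  rw [sub_eq_add_neg, ← eichG_mul Q a w (-w') ha hw (by rw [polar_neg_right, hw', neg_zero]),
    ← eichG_inv Q a w' ha hw', h, mul_inv_cancel]

/-- `E(a, w) x = -x` forces `x = 0` in odd characteristic. -/
theorem neg_fixed_eichG (Q : QuadraticForm F (ι → F)) (h2 : (2 : F) ≠ 0) (a w x : ι → F) (ha : Q a = 0)
    (hw : polar Q a w = 0) (h : isoAct (⇑Q) (eichG Q a w) x = -x) : x = 0 := by
  have h1 : polar Q a x = 0 := by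
    have e := polar_isoAct Q (eichG Q a w) a x
    rw [eichG_apply_self Q a w ha hw, h, polar_neg_right] at e
    have e2 : (2 : F) * polar Q a x = 0 := by linear_combination -e
    rcases mul_eq_zero.mp e2 with h' | h'
    · exact absurd h' h2
    · exact h'
  have h0 := h
  rw [eichG_apply_orth Q a w x ha hw h1] at h
  have hx : x = (2⁻¹ * -(polar Q w x)) • a := by
    funext i
    have := congrFun h i
    simp only [Pi.add_apply, Pi.smul_apply, Pi.neg_apply, smul_eq_mul] at this ⊢
    field_simp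
    linear_combination this
  have e2 : isoAct (⇑Q) (eichG Q a w) x = x := by
    rw [hx, isoAct_smul, eichG_apply_self Q a w ha hw]
  rw [e2] at h0
  funext i
  have := congrFun h0 i
  simp only [Pi.neg_apply, Pi.zero_apply] at this ⊢
  have e3 : (2 : F) * x i = 0 := by linear_combination this
  rcases mul_eq_zero.mp e3 with h' | h'
  · exact absurd h' h2
  · exact h'

/-- `g = ± h` as isometries. -/
def PM (Q : (ι → F) → F) (g h : ↥(Cfsg.isometryGroup F Q)) : Prop :=
  g = h ∨ ∀ y, isoAct Q g y = -isoAct Q h y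

theorem PM.symm' {Q : (ι → F) → F} {g h : ↥(Cfsg.isometryGroup F Q)} (hgh : PM Q g h) : PM Q h g := by
  rcases hgh with h1 | h1
  · exact Or.inl h1.symm
  · exact Or.inr (fun y => by rw [h1 y, neg_neg])

/-- Two root elements which agree up to sign are equal. -/
theorem eq_of_PM_eichG (Q : QuadraticForm F (ι → F)) (a' w' a w : ι → F) (ha'0 : a' ≠ 0)
    (ha' : Q a' = 0) (hw' : polar Q a' w' = 0) (ha : Q a = 0) (hw : polar Q a w = 0)
    (h : PM (⇑Q) (eichG Q a' w') (eichG Q a w)) : eichG Q a' w' = eichG Q a w := by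
  rcases h with h | h
  · exact h
  · by_cases h2 : (2 : F) = 0
    · apply isoAct_ext
      intro y
      rw [h y]
      exact neg_eq_self_of_two h2 _
    · exfalso
      have h1 := h a'
      rw [eichG_apply_self Q a' w' ha' hw'] at h1
      have h3 : isoAct (⇑Q) (eichG Q a w) a' = -a' := neg_eq_iff_eq_neg.mp h1.symm
      exact ha'0 (neg_fixed_eichG Q h2 a w a' ha hw h3)

theorem isoAct_negOne (Q : QuadraticForm F (ι → F)) (x : ι → F) :
    isoAct (⇑Q) (Cfsg.Agent.Lib.helper42.negOneIsom Q) x = -x := by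
  show (-1 : Matrix ι ι F) *ᵥ x = -x
  rw [Matrix.neg_mulVec, Matrix.one_mulVec]

/-- An isometry fixing `a` and acting trivially on `a^⊥ / a` is a root element. -/
theorem eq_eichG_of_trivial (Q : QuadraticForm F (ι → F)) (hQ : (polarBilin Q).Nondegenerate)
    (a : ι → F) (ha0 : a ≠ 0) (ha : Q a = 0) (s : ↥(Cfsg.isometryGroup F ⇑Q))
    (hsa : isoAct (⇑Q) s a = a)
    (hs : ∀ w, polar Q a w = 0 → ∃ t : F, isoAct (⇑Q) s w = w + t • a) :
    ∃ w₁, polar Q a w₁ = 0 ∧ s = eichG Q a w₁ := by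
  obtain ⟨b, hb, hab⟩ := exists_hyp_partner Q hQ a ha0 ha
  obtain ⟨u, hu⟩ : ∃ u, u = isoAct (⇑Q) s b - b := ⟨_, rfl⟩
  have hsb : isoAct (⇑Q) s b = u + b := by rw [hu]; abel
  have hau : polar Q a u = 0 := by
    have h1 := polar_isoAct Q s a b
    rw [hsa, hsb, polar_add_right, hab] at h1
    linear_combination h1
  have hQu : Q u + polar Q u b = 0 := by
    have h1 : Q (isoAct (⇑Q) s b) = 0 := by rw [Q_isoAct (⇑Q), hb]
    rw [hsb, QuadraticMap.map_add Q, hb, add_zero] at h1
    exact h1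
  refine ⟨-u, by rw [polar_neg_right, hau, neg_zero], ?_⟩
  obtain ⟨g, hg⟩ : ∃ g, g = eichG Q a u * s := ⟨_, rfl⟩
  have hga : isoAct (⇑Q) g a = a := by
    rw [hg, isoAct_mul, hsa, eichG_apply_self Q a u ha hau]
  have hgb : isoAct (⇑Q) g b = b := by
    rw [hg, isoAct_mul, hsb, isoAct_eichG Q a u ha hau]
    simp only [polar_add_right, polar_self, hab, hau]
    funext i
    simp only [Pi.add_apply, Pi.sub_apply, Pi.smul_apply, smul_eq_mul, nsmul_eq_mul, Nat.cast_ofNat]
    linear_combination (a i) * hQu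
  have hgz : ∀ z, polar Q a z = 0 → polar Q b z = 0 → isoAct (⇑Q) g z = z := by
    intro z haz hbz
    obtain ⟨t, ht⟩ := hs z haz
    have h1 : isoAct (⇑Q) g z = z + (t + polar Q u z) • a := by
      rw [hg, isoAct_mul, ht, eichG_apply_orth Q a u _ ha hau (by
        rw [polar_add_right, polar_smul_right, haz, polar_self, ha]; simp),
        polar_add_right, polar_smul_right, polar_comm Q u a, hau]
      funext i
      simp only [Pi.add_apply, Pi.smul_apply, smul_eq_mul]
      ring
    have h2 := polar_isoAct Q g z b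
    rw [hgb, h1, polar_add_left, polar_smul_left, hab, polar_comm Q z b, hbz] at h2
    have h3 : t + polar Q u z = 0 := by
      simp only [smul_eq_mul, mul_one, zero_add] at h2
      exact h2
    rw [h1, h3, zero_smul, add_zero]
  have hg1 : g = 1 := by
    apply isoAct_ext
    intro x
    rw [isoAct_one]
    obtain ⟨h1, h2⟩ := polar_hypComp Q a b x ha hb hab
    have e : x = (x - polar Q x b • a - polar Q x a • b) + polar Q x b • a + polar Q x a • b := by abel
    conv_lhs => rw [e]
    rw [isoAct_add, isoAct_add, isoAct_smul, isoAct_smul, hga, hgb,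
      hgz _ (by rw [polar_comm Q a]; exact h1) (by rw [polar_comm Q b]; exact h2)]
    exact e.symm
  rw [hg] at hg1
  rw [← eichG_inv Q a u ha hau]
  exact eq_inv_of_mul_eq_one_right hg1

end Basic

section Fin

variable {F : Type*} [Field F] [Fintype F] {ι : Type} [Fintype ι] [DecidableEq ι]

/-- The vectors fixed by the whole root group `U_a` are the multiples of `a`. -/
theorem fixed_of_eichG (Q : QuadraticForm F (ι → F)) (hQ : (polarBilin Q).Nondegenerate)
    (hn : 5 ≤ Fintype.card ι) (a x : ι → F) (ha0 : a ≠ 0) (ha : Q a = 0)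
    (h : ∀ w, polar Q a w = 0 → isoAct (⇑Q) (eichG Q a w) x = x) : ∃ t : F, x = t • a := by
  obtain ⟨p', q', hp', hq', hpq', hap, haq⟩ := exists_hyp_pair_orth₁ Q hQ hn a
  have h1 : polar Q a x = 0 := by
    by_contra hne
    have h2 := h p' hap
    rw [isoAct_eichG Q a p' ha hap, hp'] at h2
    have h3 : polar Q a x • p' = (polar Q p' x) • a := by
      funext i
      have := congrFun h2 i
      simp only [Pi.add_apply, Pi.sub_apply, Pi.smul_apply, smul_eq_mul] at this ⊢
      linear_combination -this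
    have h4 := congrArg (fun v => polar Q v q') h3
    simp only [polar_smul_left, hpq', haq, smul_eq_mul, mul_one, mul_zero] at h4
    exact hne h4
  by_contra hcon
  have hx : x ∉ Submodule.span F {a} := fun hmem => hcon (by
    obtain ⟨t, ht⟩ := Submodule.mem_span_singleton.mp hmem
    exact ⟨t, ht.symm⟩)
  obtain ⟨t, htU, htx⟩ := exists_orth_polar_ne Q hQ (Submodule.span F {a}) x hx
  have hat : polar Q a t = 0 := htU a (Submodule.mem_span_singleton_self a)
  have h2 := h t hat
  rw [eichG_apply_orth Q a t x ha hat h1] at h2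
  have h3 : polar Q t x • a = 0 := by
    funext i
    have := congrFun h2 i
    simp only [Pi.add_apply, Pi.smul_apply, smul_eq_mul, Pi.zero_apply] at this ⊢
    linear_combination this
  rcases smul_eq_zero.mp h3 with h4 | h4
  · exact htx h4
  · exact ha0 h4

/-- The centraliser of the root group `U_a` modulo sign: such an isometry is `± E(a, w₁)`. -/
theorem centralizer_root (Q : QuadraticForm F (ι → F)) (hQ : (polarBilin Q).Nondegenerate)
    (hn : 5 ≤ Fintype.card ι) (a : ι → F) (ha0 : a ≠ 0) (ha : Q a = 0)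
    (s : ↥(Cfsg.isometryGroup F ⇑Q))
    (hs : ∀ w, polar Q a w = 0 → PM (⇑Q) (s * eichG Q a w * s⁻¹) (eichG Q a w)) :
    ∃ w₁, polar Q a w₁ = 0 ∧ PM (⇑Q) s (eichG Q a w₁) := by
  have hsa0 : isoAct (⇑Q) s a ≠ 0 := fun h => ha0 ((isoAct_eq_zero_iff (⇑Q) s a).mp h)
  have hQsa : Q (isoAct (⇑Q) s a) = 0 := by rw [Q_isoAct (⇑Q)]; exact ha
  have key : ∀ w, polar Q a w = 0 →
      eichG Q (isoAct (⇑Q) s a) (isoAct (⇑Q) s w) = eichG Q a w := by
    intro w hw
    have h1 := hs w hw
    rw [eichG_conj] at h1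
    exact eq_of_PM_eichG Q _ _ a w hsa0 hQsa (by rw [polar_isoAct]; exact hw) ha hw h1
  obtain ⟨l, hl⟩ : ∃ l : F, isoAct (⇑Q) s a = l • a := by
    apply fixed_of_eichG Q hQ hn a _ ha0 ha
    intro w hw
    rw [← key w hw]
    exact eichG_apply_self Q _ _ hQsa (by rw [polar_isoAct]; exact hw)
  have hl0 : l ≠ 0 := by
    rintro rfl
    rw [zero_smul] at hl
    exact hsa0 hl
  have hc : ∀ w, polar Q a w = 0 → ∃ t : F, l • isoAct (⇑Q) s w = w + t • a := by
    intro w hw
    have h1 := key w hw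
    have hsw : polar Q a (isoAct (⇑Q) s w) = 0 := by
      have h3 := polar_isoAct Q s a w
      rw [hl, polar_smul_left, hw, smul_eq_mul] at h3
      rcases mul_eq_zero.mp h3 with h | h
      · exact absurd h hl0
      · exact h
    rw [hl, eichG_smul_left Q a _ l ha hsw] at h1
    obtain ⟨t, ht⟩ := eichG_eq_imp Q hQ a _ w ha0 ha (by rw [polar_smul_right, hsw, smul_zero]) hw h1
    exact ⟨t, by rw [← ht]; abel⟩
  obtain ⟨p', q', hp', hq', hpq', hap, haq⟩ := exists_hyp_pair_orth₁ Q hQ hn a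
  have hll : l * l = 1 := by
    obtain ⟨t₁, ht₁⟩ := hc p' hap
    obtain ⟨t₂, ht₂⟩ := hc q' haq
    have h1 : polar Q (l • isoAct (⇑Q) s p') (l • isoAct (⇑Q) s q') = l * l := by
      rw [polar_smul_left, polar_smul_right, polar_isoAct, hpq']
      simp only [smul_eq_mul]
      ring
    rw [ht₁, ht₂, polar_add_left, polar_add_right, polar_add_right, polar_smul_left, polar_smul_right,
      polar_smul_right, polar_smul_left, hpq', polar_comm Q p' a, hap, haq, polar_self, ha] at h1
    simp only [smul_eq_mul, mul_zero, add_zero, smul_zero] at h1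
    exact h1.symm
  rcases mul_self_eq_one_iff.mp hll with h1 | h1
  · subst h1
    rw [one_smul] at hl
    obtain ⟨w₁, hw₁, hs1⟩ := eq_eichG_of_trivial Q hQ a ha0 ha s hl (fun w hw => by
      obtain ⟨t, ht⟩ := hc w hw
      rw [one_smul] at ht
      exact ⟨t, ht⟩)
    exact ⟨w₁, hw₁, Or.inl hs1⟩
  · subst h1
    have hneg : ∀ x, isoAct (⇑Q) (Cfsg.Agent.Lib.helper42.negOneIsom Q * s) x = -isoAct (⇑Q) s x := by
      intro x
      rw [isoAct_mul, isoAct_negOne]
    obtain ⟨w₁, hw₁, hs1⟩ := eq_eichG_of_trivial Q hQ a ha0 ha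
      (Cfsg.Agent.Lib.helper42.negOneIsom Q * s) (by rw [hneg, hl]; simp) (fun w hw => by
        obtain ⟨t, ht⟩ := hc w hw
        refine ⟨t, ?_⟩
        rw [hneg, ← ht]
        simp)
    refine ⟨w₁, hw₁, Or.inr (fun y => ?_)⟩
    rw [← hs1, hneg, neg_neg]

theorem polar_eichG_self (Q : QuadraticForm F (ι → F)) (d e x : ι → F) (hd : Q d = 0)
    (he : polar Q d e = 0) (hx : Q x = 0) :
    polar Q x (isoAct (⇑Q) (eichG Q d e) x) = -(Q e * polar Q d x * polar Q d x) := by
  rw [isoAct_eichG Q d e hd he, polar_sub_right, polar_add_right, polar_smul_right, polar_smul_right,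
    polar_self, hx, polar_comm Q x d, polar_comm Q x e]
  simp only [smul_eq_mul, smul_zero]
  ring

theorem eichG_mem_of_conj (Q : QuadraticForm F (ι → F)) (M : Subgroup ↥(Cfsg.isometryGroup F ⇑Q))
    (m : ↥(Cfsg.isometryGroup F ⇑Q)) (hm : m ∈ M) (a : ι → F)
    (hMa : ∀ w, polar Q a w = 0 → eichG Q a w ∈ M) :
    ∀ w, polar Q (isoAct (⇑Q) m a) w = 0 → eichG Q (isoAct (⇑Q) m a) w ∈ M := by
  intro w hw
  have h1 := eichG_conj Q m a (isoAct (⇑Q) m⁻¹ w)
  rw [isoAct_isoAct_inv] at h1
  rw [← h1]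
  refine mul_mem (mul_mem hm (hMa _ ?_)) (inv_mem hm)
  have h2 := polar_isoAct Q m a (isoAct (⇑Q) m⁻¹ w)
  rw [isoAct_isoAct_inv] at h2
  rw [← h2]
  exact hw

/-- The stabiliser in `Ω` of a singular point is a maximal subgroup: a subgroup containing it and an
element moving the point contains `Ω`. -/
theorem Omega_le_of_parabolic (Q : QuadraticForm F (ι → F)) (hQ : (polarBilin Q).Nondegenerate)
    (hn : 7 ≤ Fintype.card ι) (M : Subgroup ↥(Cfsg.isometryGroup F ⇑Q)) (a : ι → F) (ha : Q a = 0)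
    (hM : ∀ g ∈ Cfsg.Omega F ⇑Q, (∃ t : F, isoAct (⇑Q) g a = t • a) → g ∈ M)
    (m : ↥(Cfsg.isometryGroup F ⇑Q)) (hm : m ∈ M) (hma : ¬ ∃ t : F, isoAct (⇑Q) m a = t • a) :
    Cfsg.Omega F ⇑Q ≤ M := by
  have hMa : ∀ w, polar Q a w = 0 → eichG Q a w ∈ M := fun w hw =>
    hM _ (eichG_mem_Omega Q hQ hn a w) ⟨1, by rw [eichG_apply_self Q a w ha hw, one_smul]⟩
  obtain ⟨c, hc⟩ : ∃ c, c = isoAct (⇑Q) m a := ⟨_, rfl⟩
  have hQc : Q c = 0 := by rw [hc, Q_isoAct (⇑Q)]; exact ha
  have hMc : ∀ w, polar Q c w = 0 → eichG Q c w ∈ M := by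
    rw [hc]
    exact eichG_mem_of_conj Q M m hm a hMa
  by_cases hac : polar Q a c = 0
  · have hcs : c ∉ Submodule.span F {a} := fun hmem => hma (by
      obtain ⟨t, ht⟩ := Submodule.mem_span_singleton.mp hmem
      exact ⟨t, by rw [← hc]; exact ht.symm⟩)
    obtain ⟨d, hd, had, hdc⟩ := exists_singular_orth_polar_ne Q hQ (by omega) a c hcs
    obtain ⟨p', q', hp', hq', hpq', hap, haq, hdp, hdq⟩ := exists_hyp_pair_orth₂ Q hQ hn a d
    obtain ⟨e, he⟩ : ∃ e, e = p' + q' := ⟨_, rfl⟩
    have hQe : Q e = 1 := by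
      have := Q_hyp_add_smul Q p' q' hp' hq' hpq' 1
      rwa [one_smul, ← he] at this
    have hde : polar Q d e = 0 := by rw [he, polar_add_right, hdp, hdq, add_zero]
    have hae : polar Q a e = 0 := by rw [he, polar_add_right, hap, haq, add_zero]
    have hgM : eichG Q d e ∈ M := hM _ (eichG_mem_Omega Q hQ hn d e) ⟨1, by
      rw [one_smul, isoAct_eichG Q d e hd hde, polar_comm Q e a, hae, polar_comm Q d a, had]
      simp⟩
    obtain ⟨c', hc'⟩ : ∃ c', c' = isoAct (⇑Q) (eichG Q d e) c := ⟨_, rfl⟩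
    have hQc' : Q c' = 0 := by rw [hc', Q_isoAct (⇑Q)]; exact hQc
    have hcc' : polar Q c c' ≠ 0 := by
      rw [hc', polar_eichG_self Q d e c hd hde hQc, hQe]
      simp only [one_mul, ne_eq, neg_eq_zero, mul_self_eq_zero]
      exact hdc
    have hMc' : ∀ w, polar Q c' w = 0 → eichG Q c' w ∈ M := by
      rw [hc']
      exact eichG_mem_of_conj Q M _ hgM c hMc
    exact Omega_le_of_hyp_pair Q hQ (by omega) M c c' hQc hQc' hcc' hMc hMc'
  · exact Omega_le_of_hyp_pair Q hQ (by omega) M a c ha hQc hac hMa hMc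

/-- One step of the irreducibility argument. -/
theorem irr_step (Q : QuadraticForm F (ι → F)) (hQ : (polarBilin Q).Nondegenerate)
    (hn : 7 ≤ Fintype.card ι) (a : ι → F) (Y : AddSubgroup (ι → F))
    (hY : ∀ c d, Q c = 0 → polar Q a c = 0 → polar Q a d = 0 → polar Q c d = 0 →
      ∀ y ∈ Y, isoAct (⇑Q) (eichG Q c d) y ∈ Y)
    (y : ι → F) (hy : y ∈ Y) (c : ι → F) (hc : Q c = 0) (hac : polar Q a c = 0)
    (hcy : polar Q c y ≠ 0) :
    ∀ d, polar Q a d = 0 → polar Q c d = 0 → d ∈ Y := by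
  have hv : ∀ d, polar Q a d = 0 → polar Q c d = 0 →
      (polar Q d y - Q d * polar Q c y) • c - polar Q c y • d ∈ Y := by
    intro d had hcd
    have h1 := Y.sub_mem (hY c d hc hac had hcd y hy) hy
    rw [isoAct_eichG Q c d hc hcd] at h1
    have e : y + (polar Q d y - Q d * polar Q c y) • c - polar Q c y • d - y
        = (polar Q d y - Q d * polar Q c y) • c - polar Q c y • d := by abel
    rw [e] at h1
    exact h1
  obtain ⟨p', q', hp', hq', hpq', hap, haq, hcp, hcq⟩ := exists_hyp_pair_orth₂ Q hQ hn a c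
  have hFc : ∀ t : F, t • c ∈ Y := by
    intro t
    obtain ⟨t', ht'⟩ : ∃ t' : F, t = -(t' * polar Q c y) := ⟨-(t / polar Q c y), by field_simp⟩
    have h1 := hv p' hap hcp
    have h2 := hv (t' • q') (by rw [polar_smul_right, haq, smul_zero])
      (by rw [polar_smul_right, hcq, smul_zero])
    have h3 := hv (p' + t' • q')
      (by rw [polar_add_right, polar_smul_right, hap, haq, smul_zero, add_zero])
      (by rw [polar_add_right, polar_smul_right, hcp, hcq, smul_zero, add_zero])
    have h4 := Y.sub_mem (Y.sub_mem h3 h1) h2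
    have e : (polar Q (p' + t' • q') y - Q (p' + t' • q') * polar Q c y) • c
          - polar Q c y • (p' + t' • q')
          - ((polar Q p' y - Q p' * polar Q c y) • c - polar Q c y • p')
          - ((polar Q (t' • q') y - Q (t' • q') * polar Q c y) • c - polar Q c y • (t' • q'))
        = t • c := by
      funext i
      simp only [Pi.sub_apply, Pi.add_apply, Pi.smul_apply, smul_eq_mul, polar_add_left,
        polar_smul_left, QuadraticMap.map_add Q, QuadraticMap.map_smul, polar_smul_right, hp', hq',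
        hpq', mul_zero, zero_mul, add_zero, zero_add, sub_zero, mul_one]
      rw [ht']
      ring
    rw [e] at h4
    exact h4
  intro d had hcd
  have h1 := hv ((polar Q c y)⁻¹ • d) (by rw [polar_smul_right, had, smul_zero])
    (by rw [polar_smul_right, hcd, smul_zero])
  have e : polar Q c y • ((polar Q c y)⁻¹ • d) = d := by
    rw [smul_smul, mul_inv_cancel₀ hcy, one_smul]
  rw [e] at h1
  have h2 := Y.sub_mem
    (hFc (polar Q ((polar Q c y)⁻¹ • d) y - Q ((polar Q c y)⁻¹ • d) * polar Q c y)) h1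
  rwa [sub_sub_cancel] at h2

/-- Irreducibility: an additive subgroup of `a^⊥`, invariant under the root elements fixing `a` and not
inside `F a`, is all of `a^⊥`. -/
theorem irr (Q : QuadraticForm F (ι → F)) (hQ : (polarBilin Q).Nondegenerate)
    (hn : 7 ≤ Fintype.card ι) (a : ι → F) (Y : AddSubgroup (ι → F))
    (hY : ∀ c d, Q c = 0 → polar Q a c = 0 → polar Q a d = 0 → polar Q c d = 0 →
      ∀ y ∈ Y, isoAct (⇑Q) (eichG Q c d) y ∈ Y)
    (y : ι → F) (hy : y ∈ Y) (hay : polar Q a y = 0) (hya : ¬ ∃ t : F, y = t • a) :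
    ∀ x, polar Q a x = 0 → x ∈ Y := by
  have hys : y ∉ Submodule.span F {a} := fun hmem => hya (by
    obtain ⟨t, ht⟩ := Submodule.mem_span_singleton.mp hmem
    exact ⟨t, ht.symm⟩)
  obtain ⟨c, hc, hac, hcy⟩ := exists_singular_orth_polar_ne Q hQ (by omega) a y hys
  have h1 := irr_step Q hQ hn a Y hY y hy c hc hac hcy
  have hcc : polar Q c c = 0 := by rw [polar_self, hc, smul_zero]
  have hcY : c ∈ Y := h1 c hac hcc
  have hcs : c ∉ Submodule.span F {a} := by
    intro hmem
    obtain ⟨t, ht⟩ := Submodule.mem_span_singleton.mp hmem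
    apply hcy
    rw [← ht, polar_smul_left, hay, smul_zero]
  obtain ⟨c₂, hc₂, hac₂, hc₂c⟩ := exists_singular_orth_polar_ne Q hQ (by omega) a c hcs
  have h2 := irr_step Q hQ hn a Y hY c hcY c₂ hc₂ hac₂ hc₂c
  intro x hax
  obtain ⟨k, hk⟩ : ∃ k : F, k = polar Q c₂ x / polar Q c₂ c := ⟨_, rfl⟩
  have hx2 : k • c ∈ Y := h1 (k • c) (by rw [polar_smul_right, hac, smul_zero])
    (by rw [polar_smul_right, hcc, smul_zero])
  have hx1 : x - k • c ∈ Y := h2 (x - k • c)
    (by rw [polar_sub_right, polar_smul_right, hax, hac, smul_zero, sub_zero])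
    (by
      rw [polar_sub_right, polar_smul_right, smul_eq_mul, hk]
      field_simp
      ring)
  have h3 := Y.add_mem hx1 hx2
  rwa [sub_add_cancel] at h3

end Fin

end Cfsg.Agent.Lib.helper49.AutOm
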