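/-
Shared lemmas (helper49): automorphisms of `PΩ(Q)`, part 2.
A subgroup of the isometry group normalising a `p`-subgroup (`p` the characteristic) with at least three
elements stabilises a non-zero totally singular subspace.
-/
import Mathlib
import Cfsg.Agent.Lib.helper49.AutOmega1

set_option autoImplicit false
set_option linter.unusedSectionVars false

namespace Cfsg.Agent.Lib.helper49.AutOm

open Matrix Module QuadraticMap
open Cfsg.Agent.Lib.helper49

section FixedPoints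

variable {F : Type*} [Field F] [Fintype F] {ι : Type} [Fintype ι] [DecidableEq ι]

/-- A `p`-group acting on a non-zero subspace of a finite space of characteristic `p`, fixing `0`, fixes a
non-zero vector. -/
theorem exists_fixed_ne_zero {G : Type*} [Group G] (p : ℕ) [Fact p.Prime] [CharP F p]
    (hG : IsPGroup p G) (K : Submodule F (ι → F)) [MulAction G ↥K] (hK : K ≠ ⊥)
    (h0 : ∀ g : G, g • (0 : ↥K) = 0) : ∃ c : ↥K, c ≠ 0 ∧ ∀ g : G, g • c = c := by
  have hcard : p ∣ Nat.card ↥K := by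
    rw [Module.natCard_eq_pow_finrank (K := F) (V := ↥K)]
    have hpF : p ∣ Nat.card F := by
      rw [Nat.card_eq_fintype_card]
      exact (CharP.cast_eq_zero_iff F p _).mp (FiniteField.cast_card_eq_zero F)
    obtain ⟨x, hx, hx0⟩ := Submodule.exists_mem_ne_zero_of_ne_bot hK
    have hpos : 0 < finrank F ↥K := by
      haveI : Nontrivial ↥K := ⟨⟨⟨x, hx⟩, 0, fun h => hx0 (congrArg Subtype.val h)⟩⟩
      exact Module.finrank_pos
    exact dvd_pow hpF (Nat.pos_iff_ne_zero.mp hpos)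
  obtain ⟨b, hb, hne⟩ := hG.exists_fixed_point_of_prime_dvd_card_of_fixed_point (α := ↥K) hcard
    (a := 0) (by rw [MulAction.mem_fixedPoints]; exact h0)
  exact ⟨b, fun h => hne h.symm, MulAction.mem_fixedPoints.mp hb⟩

variable (Q : QuadraticForm F (ι → F))

/-- Fixed vector of a `p`-group of isometries in an invariant subspace. -/
theorem exists_fixed_in {H : Type*} [Group H] (f : H →* ↥(Cfsg.isometryGroup F ⇑Q)) (R : Subgroup H)
    (p : ℕ) [Fact p.Prime] [CharP F p] (hR : IsPGroup p R) (E : Submodule F (ι → F)) (hE : E ≠ ⊥)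
    (hinv : ∀ r ∈ R, ∀ x ∈ E, isoAct (⇑Q) (f r) x ∈ E) :
    ∃ v ∈ E, v ≠ 0 ∧ ∀ r ∈ R, isoAct (⇑Q) (f r) v = v := by
  letI : MulAction ↥R ↥E :=
    { smul := fun r x => ⟨isoAct (⇑Q) (f r.1) x.1, hinv r.1 r.2 x.1 x.2⟩
      one_smul := fun x => Subtype.ext (by
        show isoAct (⇑Q) (f (1 : ↥R).1) x.1 = x.1
        rw [Subgroup.coe_one, map_one, isoAct_one])
      mul_smul := fun r s x => Subtype.ext (by
        show isoAct (⇑Q) (f (r * s).1) x.1 = isoAct (⇑Q) (f r.1) (isoAct (⇑Q) (f s.1) x.1)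
        rw [Subgroup.coe_mul, map_mul, isoAct_mul]) }
  obtain ⟨c, hc, hfix⟩ := exists_fixed_ne_zero p hR E hE
    (fun g => Subtype.ext (isoAct_zero (⇑Q) (f g.1)))
  refine ⟨c.1, c.2, fun h => hc (Subtype.ext h), fun r hr => ?_⟩
  exact congrArg Subtype.val (hfix ⟨r, hr⟩)

/-- The subspace of vectors fixed by `R`. -/
def fixSub {H : Type*} [Group H] (f : H →* ↥(Cfsg.isometryGroup F ⇑Q)) (R : Subgroup H) :
    Submodule F (ι → F) where
  carrier := {x | ∀ r ∈ R, isoAct (⇑Q) (f r) x = x}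
  add_mem' := by
    intro x y hx hy r hr
    rw [isoAct_add, hx r hr, hy r hr]
  zero_mem' := by
    intro r _
    exact isoAct_zero _ _
  smul_mem' := by
    intro c x hx r hr
    rw [isoAct_smul, hx r hr]

/-- The orthogonal complement of a subspace, spelled out. -/
def orthSub (U : Submodule F (ι → F)) : Submodule F (ι → F) where
  carrier := {x | ∀ y ∈ U, polar Q y x = 0}
  add_mem' := by
    intro x y hx hy z hz
    rw [polar_add_right, hx z hz, hy z hz, add_zero]
  zero_mem' := by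
    intro z _
    exact polar_zero_right Q z
  smul_mem' := by
    intro c x hx z hz
    rw [polar_smul_right, hx z hz, smul_zero]

theorem mem_fixSub {H : Type*} [Group H] (f : H →* ↥(Cfsg.isometryGroup F ⇑Q)) (R : Subgroup H)
    (x : ι → F) : x ∈ fixSub Q f R ↔ ∀ r ∈ R, isoAct (⇑Q) (f r) x = x := Iff.rfl

theorem mem_orthSub (U : Submodule F (ι → F)) (x : ι → F) :
    x ∈ orthSub Q U ↔ ∀ y ∈ U, polar Q y x = 0 := Iff.rfl

/-- Conjugation invariance of the fixed space. -/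
theorem fixSub_invariant {H : Type*} [Group H] (f : H →* ↥(Cfsg.isometryGroup F ⇑Q)) (P R : Subgroup H)
    (hnorm : ∀ g ∈ P, ∀ r ∈ R, g * r * g⁻¹ ∈ R) (g : H) (hg : g ∈ P) (x : ι → F)
    (hx : x ∈ fixSub Q f R) : isoAct (⇑Q) (f g) x ∈ fixSub Q f R := by
  intro r hr
  have h1 : g⁻¹ * r * g ∈ R := by
    have := hnorm g⁻¹ (P.inv_mem hg) r hr
    rwa [inv_inv] at this
  have h2 : r * g = g * (g⁻¹ * r * g) := by group
  rw [← isoAct_mul, ← map_mul, h2, map_mul, isoAct_mul, hx _ h1]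

theorem orthSub_invariant {H : Type*} [Group H] (f : H →* ↥(Cfsg.isometryGroup F ⇑Q)) (P R : Subgroup H)
    (hnorm : ∀ g ∈ P, ∀ r ∈ R, g * r * g⁻¹ ∈ R) (g : H) (hg : g ∈ P) (x : ι → F)
    (hx : x ∈ orthSub Q (fixSub Q f R)) : isoAct (⇑Q) (f g) x ∈ orthSub Q (fixSub Q f R) := by
  intro y hy
  have h1 := fixSub_invariant Q f P R hnorm g⁻¹ (P.inv_mem hg) y hy
  have h2 := polar_isoAct Q (f g) (isoAct (⇑Q) (f g⁻¹) y) x
  rw [map_inv, isoAct_isoAct_inv] at h2
  rw [h2]
  rw [map_inv] at h1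
  exact hx _ h1

theorem orthSub_invariant_self {H : Type*} [Group H] (f : H →* ↥(Cfsg.isometryGroup F ⇑Q))
    (R : Subgroup H) (r : H) (hr : r ∈ R) (x : ι → F)
    (hx : x ∈ orthSub Q (fixSub Q f R)) : isoAct (⇑Q) (f r) x ∈ orthSub Q (fixSub Q f R) := by
  intro y hy
  have h2 := polar_isoAct Q (f r) y x
  rw [hy r hr] at h2
  rw [h2]
  exact hx y hy

/-- A non-zero fixed vector orthogonal to all fixed vectors. -/
theorem exists_rad_vector (hQ : (polarBilin Q).Nondegenerate) {H : Type*} [Group H]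
    (f : H →* ↥(Cfsg.isometryGroup F ⇑Q)) (R : Subgroup H) (p : ℕ) [Fact p.Prime] [CharP F p]
    (hR : IsPGroup p R) (r₁ : H) (hr₁ : r₁ ∈ R) (h1 : f r₁ ≠ 1) :
    ∃ v, v ≠ 0 ∧ v ∈ fixSub Q f R ∧ v ∈ orthSub Q (fixSub Q f R) := by
  have hE : orthSub Q (fixSub Q f R) ≠ ⊥ := by
    intro hbot
    apply h1
    apply isoAct_ext
    intro x
    rw [isoAct_one]
    by_contra hx
    have hxF : x ∉ fixSub Q f R := fun hmem => hx (hmem r₁ hr₁)
    obtain ⟨t, htU, htx⟩ := exists_orth_polar_ne Q hQ (fixSub Q f R) x hxF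
    have ht : t ∈ orthSub Q (fixSub Q f R) := htU
    rw [hbot, Submodule.mem_bot] at ht
    rw [ht, polar_zero_left] at htx
    exact htx rfl
  obtain ⟨v, hvE, hv0, hvfix⟩ := exists_fixed_in Q f R p hR _ hE
    (fun r hr x hx => orthSub_invariant_self Q f R r hr x hx)
  exact ⟨v, hv0, hvfix, hvE⟩

/-- The singular vectors in the radical of the fixed space. -/
def singRad {H : Type*} [Group H] (f : H →* ↥(Cfsg.isometryGroup F ⇑Q)) (R : Subgroup H) :
    Submodule F (ι → F) where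
  carrier := {x | x ∈ fixSub Q f R ∧ x ∈ orthSub Q (fixSub Q f R) ∧ Q x = 0}
  add_mem' := by
    rintro x y ⟨hx1, hx2, hx3⟩ ⟨hy1, hy2, hy3⟩
    refine ⟨Submodule.add_mem _ hx1 hy1, Submodule.add_mem _ hx2 hy2, ?_⟩
    rw [QuadraticMap.map_add Q, hx3, hy3, hy2 x hx1]
    simp
  zero_mem' := ⟨Submodule.zero_mem _, Submodule.zero_mem _, map_zero Q⟩
  smul_mem' := by
    rintro c x ⟨hx1, hx2, hx3⟩
    refine ⟨Submodule.smul_mem _ c hx1, Submodule.smul_mem _ c hx2, ?_⟩
    rw [QuadraticMap.map_smul, hx3, smul_zero]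

theorem singRad_invariant {H : Type*} [Group H] (f : H →* ↥(Cfsg.isometryGroup F ⇑Q)) (P R : Subgroup H)
    (hnorm : ∀ g ∈ P, ∀ r ∈ R, g * r * g⁻¹ ∈ R) (g : H) (hg : g ∈ P) (x : ι → F)
    (hx : x ∈ singRad Q f R) : isoAct (⇑Q) (f g) x ∈ singRad Q f R :=
  ⟨fixSub_invariant Q f P R hnorm g hg x hx.1, orthSub_invariant Q f P R hnorm g hg x hx.2.1, by
    rw [Q_isoAct (⇑Q)]; exact hx.2.2⟩

/-- In the bad case (no singular vector in the radical), the orthogonal of the fixed space is the line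
spanned by the non-singular radical vector. -/
theorem orth_le_line (hQ : (polarBilin Q).Nondegenerate) {H : Type*} [Group H]
    (f : H →* ↥(Cfsg.isometryGroup F ⇑Q)) (R : Subgroup H) (p : ℕ) [Fact p.Prime] [CharP F p]
    (hR : IsPGroup p R) (hS : singRad Q f R = ⊥) (v : ι → F) (hv0 : v ≠ 0) (hvF : v ∈ fixSub Q f R)
    (hvE : v ∈ orthSub Q (fixSub Q f R)) (h2 : (2 : F) = 0) :
    ∀ x ∈ orthSub Q (fixSub Q f R), ∃ t : F, x = t • v := by
  have hQv : Q v ≠ 0 := by
    intro h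
    have : v ∈ singRad Q f R := ⟨hvF, hvE, h⟩
    rw [hS, Submodule.mem_bot] at this
    exact hv0 this
  obtain ⟨u, hu⟩ := exists_polar_eq_one Q hQ v hv0
  by_contra hcon
  push Not at hcon
  obtain ⟨c₀, hc₀E, hc₀⟩ := hcon
  -- the complement `K` of `F v` in the orthogonal of the fixed space
  let K : Submodule F (ι → F) :=
    { carrier := {x | x ∈ orthSub Q (fixSub Q f R) ∧ polar Q x u = 0}
      add_mem' := by
        rintro x y ⟨hx1, hx2⟩ ⟨hy1, hy2⟩
        exact ⟨Submodule.add_mem _ hx1 hy1, by rw [polar_add_left, hx2, hy2, add_zero]⟩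
      zero_mem' := ⟨Submodule.zero_mem _, polar_zero_left Q u⟩
      smul_mem' := by
        rintro c x ⟨hx1, hx2⟩
        exact ⟨Submodule.smul_mem _ c hx1, by rw [polar_smul_left, hx2, smul_zero]⟩ }
  have hKmem : ∀ x, x ∈ K ↔ (x ∈ orthSub Q (fixSub Q f R) ∧ polar Q x u = 0) := fun x => Iff.rfl
  have hK : K ≠ ⊥ := by
    intro hbot
    have hmem : c₀ - polar Q c₀ u • v ∈ K := by
      rw [hKmem]
      refine ⟨Submodule.sub_mem _ hc₀E (Submodule.smul_mem _ _ hvE), ?_⟩
      rw [polar_sub_left, polar_smul_left, hu, smul_eq_mul, mul_one, sub_self]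
    rw [hbot, Submodule.mem_bot, sub_eq_zero] at hmem
    exact hc₀ _ hmem
  have hact : ∀ r ∈ R, ∀ x ∈ K, isoAct (⇑Q) (f r) x - polar Q (isoAct (⇑Q) (f r) x) u • v ∈ K := by
    intro r hr x hx
    rw [hKmem] at hx ⊢
    refine ⟨Submodule.sub_mem _ (orthSub_invariant_self Q f R r hr x hx.1)
      (Submodule.smul_mem _ _ hvE), ?_⟩
    rw [polar_sub_left, polar_smul_left, hu, smul_eq_mul, mul_one, sub_self]
  letI : MulAction ↥R ↥K :=
    { smul := fun r x => ⟨isoAct (⇑Q) (f r.1) x.1 - polar Q (isoAct (⇑Q) (f r.1) x.1) u • v,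
        hact r.1 r.2 x.1 x.2⟩
      one_smul := fun x => Subtype.ext (by
        show isoAct (⇑Q) (f (1 : ↥R).1) x.1 - polar Q (isoAct (⇑Q) (f (1 : ↥R).1) x.1) u • v = x.1
        rw [Subgroup.coe_one, map_one, isoAct_one, ((hKmem x.1).mp x.2).2, zero_smul, sub_zero])
      mul_smul := fun r s x => Subtype.ext (by
        show isoAct (⇑Q) (f (r * s).1) x.1 - polar Q (isoAct (⇑Q) (f (r * s).1) x.1) u • v
          = isoAct (⇑Q) (f r.1) (isoAct (⇑Q) (f s.1) x.1 - polar Q (isoAct (⇑Q) (f s.1) x.1) u • v)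
            - polar Q (isoAct (⇑Q) (f r.1)
              (isoAct (⇑Q) (f s.1) x.1 - polar Q (isoAct (⇑Q) (f s.1) x.1) u • v)) u • v
        rw [Subgroup.coe_mul, map_mul, isoAct_mul, isoAct_sub, isoAct_smul, hvF r.1 r.2,
          polar_sub_left, polar_smul_left, hu]
        funext i
        simp only [Pi.sub_apply, Pi.smul_apply, smul_eq_mul]
        ring) }
  obtain ⟨c, hc, hfix⟩ := exists_fixed_ne_zero p hR K hK (fun g => Subtype.ext (by
    show isoAct (⇑Q) (f g.1) 0 - polar Q (isoAct (⇑Q) (f g.1) 0) u • v = 0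
    rw [isoAct_zero, polar_zero_left, zero_smul, sub_zero]))
  have hcK := (hKmem c.1).mp c.2
  have hvc : polar Q v c.1 = 0 := hcK.1 v hvF
  -- `c` is fixed by `R`
  have hcfix : c.1 ∈ fixSub Q f R := by
    intro r hr
    have h1 : isoAct (⇑Q) (f r) c.1 - polar Q (isoAct (⇑Q) (f r) c.1) u • v = c.1 :=
      congrArg Subtype.val (hfix ⟨r, hr⟩)
    obtain ⟨t, ht⟩ : ∃ t : F, t = polar Q (isoAct (⇑Q) (f r) c.1) u := ⟨_, rfl⟩
    rw [← ht] at h1
    have h3 : isoAct (⇑Q) (f r) c.1 = c.1 + t • v := sub_eq_iff_eq_add.mp h1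
    have h4 : Q (isoAct (⇑Q) (f r) c.1) = Q c.1 := Q_isoAct (⇑Q) _ _
    rw [h3, QuadraticMap.map_add Q, QuadraticMap.map_smul, polar_smul_right, polar_comm Q c.1 v, hvc] at h4
    have h5 : t * t * Q v = 0 := by
      simp only [smul_eq_mul, mul_zero, add_zero] at h4
      linear_combination h4
    have h6 : t = 0 := by
      rcases mul_eq_zero.mp h5 with h | h
      · exact mul_self_eq_zero.mp h
      · exact absurd h hQv
    rw [h3, h6, zero_smul, add_zero]
  obtain ⟨s, hs⟩ := exists_mul_self_of_two_eq_zero h2 (Q c.1 / Q v)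
  have hmem : c.1 + s • v ∈ singRad Q f R := by
    refine ⟨Submodule.add_mem _ hcfix (Submodule.smul_mem _ _ hvF),
      Submodule.add_mem _ hcK.1 (Submodule.smul_mem _ _ hvE), ?_⟩
    rw [QuadraticMap.map_add Q, QuadraticMap.map_smul, polar_smul_right, polar_comm Q c.1 v, hvc,
      smul_eq_mul, hs, smul_zero, add_zero]
    field_simp
    linear_combination (Q c.1) * h2
  rw [hS, Submodule.mem_bot] at hmem
  have h7 : polar Q (c.1 + s • v) u = 0 := by rw [hmem, polar_zero_left]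
  rw [polar_add_left, polar_smul_left, hu, hcK.2, zero_add, smul_eq_mul, mul_one] at h7
  rw [h7, zero_smul, add_zero] at hmem
  exact hc (Subtype.ext hmem)

/-- The main result of this file. -/
theorem exists_invariant_singular (hQ : (polarBilin Q).Nondegenerate) {H : Type*} [Group H]
    (f : H →* ↥(Cfsg.isometryGroup F ⇑Q)) (P R : Subgroup H) (p : ℕ) [Fact p.Prime] [CharP F p]
    (hR : IsPGroup p R) (hnorm : ∀ g ∈ P, ∀ r ∈ R, g * r * g⁻¹ ∈ R)
    (r₁ r₂ : H) (hr₁ : r₁ ∈ R) (hr₂ : r₂ ∈ R) (h1 : f r₁ ≠ 1) (h2 : f r₂ ≠ 1) (h12 : f r₁ ≠ f r₂) :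
    ∃ S : Submodule F (ι → F), S ≠ ⊥ ∧ (∀ s ∈ S, Q s = 0) ∧
      ∀ g ∈ P, ∀ s ∈ S, isoAct (⇑Q) (f g) s ∈ S := by
  by_cases hS : singRad Q f R = ⊥
  swap
  · exact ⟨singRad Q f R, hS, fun s hs => hs.2.2,
      fun g hg s hs => singRad_invariant Q f P R hnorm g hg s hs⟩
  exfalso
  obtain ⟨v, hv0, hvF, hvE⟩ := exists_rad_vector Q hQ f R p hR r₁ hr₁ h1
  have hQv : Q v ≠ 0 := by
    intro h
    have : v ∈ singRad Q f R := ⟨hvF, hvE, h⟩
    rw [hS, Submodule.mem_bot] at this
    exact hv0 this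
  have hvv : polar Q v v = 0 := hvE v hvF
  have h2F : (2 : F) = 0 := by
    rw [polar_self] at hvv
    have : (2 : F) * Q v = 0 := by rw [← hvv]; simp
    rcases mul_eq_zero.mp this with h | h
    · exact h
    · exact absurd h hQv
  have hline := orth_le_line Q hQ f R p hR hS v hv0 hvF hvE h2F
  -- every vector orthogonal to `v` is fixed
  have hfixall : ∀ x, polar Q v x = 0 → x ∈ fixSub Q f R := by
    intro x hx
    by_contra hxF
    obtain ⟨t, htU, htx⟩ := exists_orth_polar_ne Q hQ (fixSub Q f R) x hxF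
    obtain ⟨k, hk⟩ := hline t htU
    rw [hk, polar_smul_left, hx, smul_zero] at htx
    exact htx rfl
  obtain ⟨u, hu⟩ := exists_polar_eq_one Q hQ v hv0
  -- the action of `r ∈ R` on `u`
  have hru : ∀ r ∈ R, ∃ t : F, isoAct (⇑Q) (f r) u = u + t • v := by
    intro r hr
    by_contra hcon
    have hmem : isoAct (⇑Q) (f r) u - u ∉ Submodule.span F {v} := by
      intro hmem
      obtain ⟨t, ht⟩ := Submodule.mem_span_singleton.mp hmem
      exact hcon ⟨t, by rw [ht]; abel⟩
    obtain ⟨y, hyU, hy⟩ := exists_orth_polar_ne Q hQ (Submodule.span F {v}) _ hmem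
    have hvy : polar Q v y = 0 := hyU v (Submodule.mem_span_singleton_self v)
    have hyfix := hfixall y hvy r hr
    have h3 := polar_isoAct Q (f r) y u
    rw [hyfix] at h3
    rw [polar_sub_right, h3, sub_self] at hy
    exact hy rfl
  have hdet : ∀ r ∈ R, ∀ t : F, isoAct (⇑Q) (f r) u = u + t • v →
      ∀ x, isoAct (⇑Q) (f r) x = x + (polar Q v x * t) • v := by
    intro r hr t ht x
    have hx1 : x - polar Q v x • u ∈ fixSub Q f R := by
      apply hfixall
      rw [polar_sub_right, polar_smul_right, hu, smul_eq_mul, mul_one, sub_self]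
    have e : x = (x - polar Q v x • u) + polar Q v x • u := by abel
    conv_lhs => rw [e]
    rw [isoAct_add, isoAct_smul, hx1 r hr, ht]
    funext i
    simp only [Pi.add_apply, Pi.sub_apply, Pi.smul_apply, smul_eq_mul]
    ring
  have hval : ∀ r ∈ R, f r ≠ 1 → isoAct (⇑Q) (f r) u = u + (Q v)⁻¹ • v := by
    intro r hr hne
    obtain ⟨t, ht⟩ := hru r hr
    have h4 : Q (isoAct (⇑Q) (f r) u) = Q u := Q_isoAct (⇑Q) _ _
    rw [ht, QuadraticMap.map_add Q, QuadraticMap.map_smul, polar_smul_right, polar_comm Q u v, hu] at h4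
    have h5 : t * (t * Q v + 1) = 0 := by
      simp only [smul_eq_mul, mul_one] at h4
      linear_combination h4
    rcases mul_eq_zero.mp h5 with h | h
    · exfalso
      apply hne
      apply isoAct_ext
      intro x
      rw [hdet r hr t ht x, h, mul_zero, zero_smul, add_zero, isoAct_one]
    · have : t = (Q v)⁻¹ := by
        field_simp
        linear_combination h - h2F
      rw [ht, this]
  apply h12
  apply isoAct_ext
  intro x
  rw [hdet r₁ hr₁ _ (hval r₁ hr₁ h1) x, hdet r₂ hr₂ _ (hval r₂ hr₂ h2) x]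

end FixedPoints

end Cfsg.Agent.Lib.helper49.AutOm
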