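/-
Shared lemmas (helper49): automorphisms of `PΩ(Q)`, part 3.
Root elements in `Ω` and their classes in `PΩ`; the centre; a non-central abelian normal subgroup of
the stabiliser of a singular point is the root group.
-/
import Mathlib
import Cfsg.Agent.Lib.helper49.AutOmega2
import Cfsg.Agent.Lib.helper42.OmegaCenter

set_option autoImplicit false
set_option linter.unusedSectionVars false
set_option linter.style.haveILetI false

namespace Cfsg.Agent.Lib.helper49.AutOm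

open Matrix Module QuadraticMap
open Cfsg.Agent.Lib.helper49 Cfsg.Agent.Lib.helper42

section Quot

variable {F : Type*} [Field F] [Fintype F] {ι : Type} [Fintype ι] [DecidableEq ι]
variable (Q : QuadraticForm F (ι → F)) (hQ : (polarBilin Q).Nondegenerate)
  (hn : 7 ≤ Fintype.card ι)

/-- The root element `E(a, w)` as an element of `Ω`. -/
noncomputable def rhoO (a w : ι → F) : ↥(Cfsg.Omega F ⇑Q) :=
  ⟨eichG Q a w, eichG_mem_Omega Q hQ hn a w⟩

/-- The class of an element of `Ω` in `PΩ`. -/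
def qm : ↥(Cfsg.Omega F ⇑Q) →* Cfsg.POmega F ⇑Q :=
  QuotientGroup.mk' (Subgroup.center ↥(Cfsg.Omega F ⇑Q))

theorem qm_surj (y : Cfsg.POmega F ⇑Q) : ∃ x, qm Q x = y :=
  QuotientGroup.mk'_surjective _ y

theorem qm_eq_one_iff (x : ↥(Cfsg.Omega F ⇑Q)) :
    qm Q x = 1 ↔ x ∈ Subgroup.center ↥(Cfsg.Omega F ⇑Q) :=
  QuotientGroup.eq_one_iff x

theorem rhoO_val (a w : ι → F) : (rhoO Q hQ hn a w).1 = eichG Q a w := rfl

theorem rhoO_mul (a w w' : ι → F) (ha : Q a = 0) (hw : polar Q a w = 0) (hw' : polar Q a w' = 0) :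
    rhoO Q hQ hn a w * rhoO Q hQ hn a w' = rhoO Q hQ hn a (w + w') :=
  Subtype.ext (eichG_mul Q a w w' ha hw hw')

theorem rhoO_zero (a : ι → F) : rhoO Q hQ hn a 0 = 1 :=
  Subtype.ext (eichG_zero Q a)

theorem rhoO_inv (a w : ι → F) (ha : Q a = 0) (hw : polar Q a w = 0) :
    (rhoO Q hQ hn a w)⁻¹ = rhoO Q hQ hn a (-w) :=
  Subtype.ext (eichG_inv Q a w ha hw)

theorem rhoO_conj (g : ↥(Cfsg.Omega F ⇑Q)) (a w : ι → F) :
    g * rhoO Q hQ hn a w * g⁻¹ = rhoO Q hQ hn (isoAct (⇑Q) g.1 a) (isoAct (⇑Q) g.1 w) :=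
  Subtype.ext (eichG_conj Q g.1 a w)

theorem rhoO_smul_left (a w : ι → F) (c : F) (ha : Q a = 0) (hw : polar Q a w = 0) :
    rhoO Q hQ hn (c • a) w = rhoO Q hQ hn a (c • w) :=
  Subtype.ext (eichG_smul_left Q a w c ha hw)

theorem rhoO_add_smul (a w : ι → F) (c : F) (ha : Q a = 0) (hw : polar Q a w = 0) :
    rhoO Q hQ hn a (w + c • a) = rhoO Q hQ hn a w :=
  Subtype.ext (eichG_add_smul Q a w c ha hw)

theorem rhoO_smul_self (a : ι → F) (c : F) (ha : Q a = 0) : rhoO Q hQ hn a (c • a) = 1 := by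
  have h := rhoO_add_smul Q hQ hn a 0 c ha (polar_zero_right Q a)
  rw [zero_add] at h
  rw [h, rhoO_zero]

theorem rhoO_pow (a w : ι → F) (ha : Q a = 0) (hw : polar Q a w = 0) (k : ℕ) :
    (rhoO Q hQ hn a w) ^ k = rhoO Q hQ hn a ((k : F) • w) := by
  induction k with
  | zero => rw [pow_zero, Nat.cast_zero, zero_smul, rhoO_zero]
  | succ k ih =>
    rw [pow_succ, ih, rhoO_mul Q hQ hn a _ w ha (by rw [polar_smul_right, hw, smul_zero]) hw,
      Nat.cast_succ, add_smul, one_smul]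

/-- The stabiliser of `F a` is closed under inverses. -/
theorem stab_inv (a : ι → F) (g : ↥(Cfsg.isometryGroup F ⇑Q)) (h : ∃ t : F, isoAct (⇑Q) g a = t • a) :
    ∃ t : F, isoAct (⇑Q) g⁻¹ a = t • a := by
  obtain ⟨t, ht⟩ := h
  by_cases ha : a = 0
  · exact ⟨0, by rw [ha, isoAct_zero, smul_zero]⟩
  · have ht0 : t ≠ 0 := by
      rintro rfl
      rw [zero_smul] at ht
      exact ha ((isoAct_eq_zero_iff (⇑Q) g a).mp ht)
    refine ⟨t⁻¹, ?_⟩
    have h1 := congrArg (fun v => isoAct (⇑Q) g⁻¹ v) ht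
    simp only [isoAct_inv_isoAct, isoAct_smul] at h1
    have h2 : t⁻¹ • a = isoAct (⇑Q) g⁻¹ a := by
      conv_lhs => rw [h1]
      rw [smul_smul, inv_mul_cancel₀ ht0, one_smul]
    exact h2.symm

/-- Stabiliser in `Ω` of a subspace. -/
def stabO (S : Submodule F (ι → F)) : Subgroup ↥(Cfsg.Omega F ⇑Q) where
  carrier := {g | (∀ s ∈ S, isoAct (⇑Q) g.1 s ∈ S) ∧ (∀ s ∈ S, isoAct (⇑Q) g.1⁻¹ s ∈ S)}
  mul_mem' := by
    rintro g h ⟨hg1, hg2⟩ ⟨hh1, hh2⟩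
    refine ⟨fun s hs => ?_, fun s hs => ?_⟩
    · show isoAct (⇑Q) (g.1 * h.1) s ∈ S
      rw [isoAct_mul]
      exact hg1 _ (hh1 s hs)
    · show isoAct (⇑Q) (g.1 * h.1)⁻¹ s ∈ S
      rw [_root_.mul_inv_rev, isoAct_mul]
      exact hh2 _ (hg2 s hs)
  one_mem' := by
    refine ⟨fun s hs => ?_, fun s hs => ?_⟩
    · show isoAct (⇑Q) 1 s ∈ S
      rw [isoAct_one]
      exact hs
    · show isoAct (⇑Q) (1 : ↥(Cfsg.isometryGroup F ⇑Q))⁻¹ s ∈ S
      rw [inv_one, isoAct_one]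
      exact hs
  inv_mem' := by
    rintro g ⟨hg1, hg2⟩
    refine ⟨fun s hs => hg2 s hs, fun s hs => ?_⟩
    show isoAct (⇑Q) (g.1⁻¹)⁻¹ s ∈ S
    rw [inv_inv]
    exact hg1 s hs

theorem mem_stabO_of_forall (S : Submodule F (ι → F)) (g : ↥(Cfsg.Omega F ⇑Q))
    (h : ∀ s ∈ S, isoAct (⇑Q) g.1 s ∈ S) : g ∈ stabO Q S := by
  refine ⟨h, fun s hs => ?_⟩
  have h1 := map_eq_of_forall_mem (⇑Q) S g.1 h
  rw [← h1] at hs
  obtain ⟨s', hs', rfl⟩ := Submodule.mem_map.mp hs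
  have h2 : isoAct (⇑Q) g.1⁻¹ (isoAct (⇑Q) g.1 s') = s' := isoAct_inv_isoAct (⇑Q) g.1 s'
  have h3 : isoAct (⇑Q) g.1⁻¹ (Matrix.mulVecLin _ s') = s' := h2
  rw [h3]
  exact hs'

theorem mem_stabO_span_iff (a : ι → F) (g : ↥(Cfsg.Omega F ⇑Q)) :
    g ∈ stabO Q (Submodule.span F {a}) ↔ ∃ t : F, isoAct (⇑Q) g.1 a = t • a := by
  constructor
  · intro h
    obtain ⟨t, ht⟩ := Submodule.mem_span_singleton.mp (h.1 a (Submodule.mem_span_singleton_self a))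
    exact ⟨t, ht.symm⟩
  · rintro ⟨t, ht⟩
    apply mem_stabO_of_forall
    intro s hs
    obtain ⟨k, rfl⟩ := Submodule.mem_span_singleton.mp hs
    rw [isoAct_smul, ht, smul_smul]
    exact Submodule.mem_span_singleton.mpr ⟨k * t, rfl⟩

/-- The full preimage in `Ω` of the image under `β` of the projective image of `N`. -/
def imgSub (β : MulAut (Cfsg.POmega F ⇑Q)) (N : Subgroup ↥(Cfsg.Omega F ⇑Q)) :
    Subgroup ↥(Cfsg.Omega F ⇑Q) where
  carrier := {x | ∃ g ∈ N, qm Q x = β (qm Q g)}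
  mul_mem' := by
    rintro x y ⟨g, hg, hx⟩ ⟨g', hg', hy⟩
    exact ⟨g * g', N.mul_mem hg hg', by rw [map_mul, map_mul, map_mul, hx, hy]⟩
  one_mem' := ⟨1, N.one_mem, by rw [map_one, map_one]⟩
  inv_mem' := by
    rintro x ⟨g, hg, hx⟩
    exact ⟨g⁻¹, N.inv_mem hg, by rw [map_inv, map_inv, map_inv, hx]⟩

theorem mem_imgSub (β : MulAut (Cfsg.POmega F ⇑Q)) (N : Subgroup ↥(Cfsg.Omega F ⇑Q))
    (x : ↥(Cfsg.Omega F ⇑Q)) : x ∈ imgSub Q β N ↔ ∃ g ∈ N, qm Q x = β (qm Q g) := Iff.rfl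

theorem center_le_imgSub (β : MulAut (Cfsg.POmega F ⇑Q)) (N : Subgroup ↥(Cfsg.Omega F ⇑Q)) :
    Subgroup.center ↥(Cfsg.Omega F ⇑Q) ≤ imgSub Q β N := by
  intro x hx
  exact ⟨1, N.one_mem, by rw [map_one, map_one]; exact (qm_eq_one_iff Q x).mpr hx⟩

/-- The root group of `a` in `Ω`. -/
def rootSub (a : ι → F) (ha : Q a = 0) : Subgroup ↥(Cfsg.Omega F ⇑Q) where
  carrier := {x | ∃ w, polar Q a w = 0 ∧ x = rhoO Q hQ hn a w}
  mul_mem' := by
    rintro x y ⟨w, hw, rfl⟩ ⟨w', hw', rfl⟩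
    exact ⟨w + w', by rw [polar_add_right, hw, hw', add_zero], rhoO_mul Q hQ hn a w w' ha hw hw'⟩
  one_mem' := ⟨0, polar_zero_right Q a, (rhoO_zero Q hQ hn a).symm⟩
  inv_mem' := by
    rintro x ⟨w, hw, rfl⟩
    exact ⟨-w, by rw [polar_neg_right, hw, neg_zero], rhoO_inv Q hQ hn a w ha hw⟩

theorem mem_rootSub (a : ι → F) (ha : Q a = 0) (x : ↥(Cfsg.Omega F ⇑Q)) :
    x ∈ rootSub Q hQ hn a ha ↔ ∃ w, polar Q a w = 0 ∧ x = rhoO Q hQ hn a w := Iff.rfl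

theorem rootSub_le_stab (a : ι → F) (ha : Q a = 0) :
    rootSub Q hQ hn a ha ≤ stabO Q (Submodule.span F {a}) := by
  rintro x ⟨w, hw, rfl⟩
  rw [mem_stabO_span_iff]
  exact ⟨1, by rw [rhoO_val, eichG_apply_self Q a w ha hw, one_smul]⟩

/-- The stabiliser of `F a` normalises the root group. -/
theorem rootSub_normal (a : ι → F) (ha0 : a ≠ 0) (ha : Q a = 0) (g : ↥(Cfsg.Omega F ⇑Q))
    (hg : ∃ t : F, isoAct (⇑Q) g.1 a = t • a) (x : ↥(Cfsg.Omega F ⇑Q))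
    (hx : x ∈ rootSub Q hQ hn a ha) : g * x * g⁻¹ ∈ rootSub Q hQ hn a ha := by
  obtain ⟨w, hw, rfl⟩ := hx
  obtain ⟨t, ht⟩ := hg
  have ht0 : t ≠ 0 := by
    rintro rfl
    rw [zero_smul] at ht
    exact ha0 ((isoAct_eq_zero_iff (⇑Q) g.1 a).mp ht)
  have hgw : polar Q a (isoAct (⇑Q) g.1 w) = 0 := by
    have h3 := polar_isoAct Q g.1 a w
    rw [ht, polar_smul_left, hw, smul_eq_mul] at h3
    rcases mul_eq_zero.mp h3 with h | h
    · exact absurd h ht0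
    · exact h
  refine ⟨t • isoAct (⇑Q) g.1 w, by rw [polar_smul_right, hgw, smul_zero], ?_⟩
  rw [rhoO_conj, ht, rhoO_smul_left Q hQ hn a _ t ha hgw]

end Quot

section Center

variable {F : Type*} [Field F] [Fintype F] {ι : Type} [Fintype ι] [DecidableEq ι]
variable (Q : QuadraticForm F (ι → F)) (hQ : (polarBilin Q).Nondegenerate)
  (hn : 7 ≤ Fintype.card ι) (fr : HypFrame3 Q)

include hQ fr in
/-- Two elements of `Ω` with the same class in `PΩ` agree up to sign. -/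
theorem PM_of_qm_eq (s s' : ↥(Cfsg.Omega F ⇑Q)) (h : qm Q s = qm Q s') : PM (⇑Q) s.1 s'.1 := by
  have h1 : s⁻¹ * s' ∈ Subgroup.center ↥(Cfsg.Omega F ⇑Q) := QuotientGroup.eq.mp h
  rcases center_Omega_pm Q hQ fr _ h1 with h2 | h2
  · left
    have h3 : (s⁻¹ * s').1 = 1 := isometry_ext (by rw [h2]; rfl)
    have h4 : s⁻¹ * s' = 1 := Subtype.ext h3
    have h5 : s' = s := by rw [← mul_one s, ← h4, mul_inv_cancel_left]
    rw [h5]
  · right
    intro y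
    have h3 : isoAct (⇑Q) (s⁻¹ * s').1 (isoAct (⇑Q) s'.1⁻¹ (isoAct (⇑Q) s.1 y))
        = -(isoAct (⇑Q) s'.1⁻¹ (isoAct (⇑Q) s.1 y)) := by
      show ((((s⁻¹ * s' : ↥(Cfsg.Omega F ⇑Q)) : ↥(Cfsg.isometryGroup F ⇑Q)) :
        Matrix.GeneralLinearGroup ι F) : Matrix ι ι F) *ᵥ _ = _
      rw [h2, Matrix.neg_mulVec, Matrix.one_mulVec]
    have h4 : isoAct (⇑Q) (s⁻¹ * s').1 (isoAct (⇑Q) s'.1⁻¹ (isoAct (⇑Q) s.1 y)) = y := by
      show isoAct (⇑Q) (s.1⁻¹ * s'.1) (isoAct (⇑Q) s'.1⁻¹ (isoAct (⇑Q) s.1 y)) = y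
      rw [isoAct_mul, isoAct_isoAct_inv, isoAct_inv_isoAct]
    rw [h4] at h3
    have h5 := congrArg (fun v => isoAct (⇑Q) s'.1 v) h3
    simp only [isoAct_neg, isoAct_isoAct_inv] at h5
    rw [h5, neg_neg]

/-- Two elements of `Ω` agreeing up to sign have the same class in `PΩ`. -/
theorem qm_eq_of_PM (s s' : ↥(Cfsg.Omega F ⇑Q)) (h : PM (⇑Q) s.1 s'.1) : qm Q s = qm Q s' := by
  rcases h with h | h
  · rw [Subtype.ext h]
  · apply QuotientGroup.eq.mpr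
    rw [Subgroup.mem_center_iff]
    intro t
    apply Subtype.ext
    apply isoAct_ext
    intro y
    have hz : ∀ v, isoAct (⇑Q) (s⁻¹ * s').1 v = -v := by
      intro v
      show isoAct (⇑Q) (s.1⁻¹ * s'.1) v = -v
      have h1 : isoAct (⇑Q) s'.1 v = -isoAct (⇑Q) s.1 v := by rw [h v, neg_neg]
      rw [isoAct_mul, h1, isoAct_neg, isoAct_inv_isoAct]
    show isoAct (⇑Q) (t.1 * (s⁻¹ * s').1) y = isoAct (⇑Q) ((s⁻¹ * s').1 * t.1) y
    rw [isoAct_mul, isoAct_mul, hz, hz, isoAct_neg]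

include hQ fr in
/-- Root elements with the same class in `PΩ` are equal. -/
theorem rho_eq_of_qm_eq (a' w' a w : ι → F) (ha'0 : a' ≠ 0) (ha' : Q a' = 0)
    (hw' : polar Q a' w' = 0) (ha : Q a = 0) (hw : polar Q a w = 0)
    (h : qm Q (rhoO Q hQ hn a' w') = qm Q (rhoO Q hQ hn a w)) : eichG Q a' w' = eichG Q a w :=
  eq_of_PM_eichG Q a' w' a w ha'0 ha' hw' ha hw (PM_of_qm_eq Q hQ fr _ _ h)

include hQ fr in
/-- A root element with trivial class in `PΩ` is trivial. -/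
theorem smul_of_qm_eq_one (a w : ι → F) (ha0 : a ≠ 0) (ha : Q a = 0) (hw : polar Q a w = 0)
    (h : qm Q (rhoO Q hQ hn a w) = 1) : ∃ t : F, w = t • a := by
  have h1 : qm Q (rhoO Q hQ hn a w) = qm Q (rhoO Q hQ hn a 0) := by
    rw [h, rhoO_zero, map_one]
  have h2 := rho_eq_of_qm_eq Q hQ hn fr a w a 0 ha0 ha hw ha (polar_zero_right Q a) h1
  rw [eichG_zero] at h2
  exact eichG_eq_one_imp Q hQ a w ha0 ha hw h2

include hQ fr in
/-- A non-central abelian (modulo the centre) subgroup of the stabiliser of the singular point `F a`,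
normalised by that stabiliser and containing the centre, is the root group times the centre. -/
theorem uniq_root (a : ι → F) (ha0 : a ≠ 0) (ha : Q a = 0) (N : Subgroup ↥(Cfsg.Omega F ⇑Q))
    (hZ : Subgroup.center ↥(Cfsg.Omega F ⇑Q) ≤ N)
    (hNP : ∀ x ∈ N, ∃ t : F, isoAct (⇑Q) x.1 a = t • a)
    (hnorm : ∀ g : ↥(Cfsg.Omega F ⇑Q), (∃ t : F, isoAct (⇑Q) g.1 a = t • a) →
      ∀ x ∈ N, g * x * g⁻¹ ∈ N)
    (hab : ∀ x ∈ N, ∀ y ∈ N, qm Q (x * y) = qm Q (y * x))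
    (hnt : ∃ x ∈ N, x ∉ Subgroup.center ↥(Cfsg.Omega F ⇑Q)) :
    (∀ w, polar Q a w = 0 → rhoO Q hQ hn a w ∈ N) ∧
    (∀ x ∈ N, ∃ w, polar Q a w = 0 ∧ qm Q x = qm Q (rhoO Q hQ hn a w)) := by
  have hfix : ∀ w, polar Q a w = 0 → ∃ t : F, isoAct (⇑Q) (rhoO Q hQ hn a w).1 a = t • a :=
    fun w hw => ⟨1, by rw [rhoO_val, eichG_apply_self Q a w ha hw, one_smul]⟩
  -- step 1: a non-trivial root element in `N`
  have step1 : ∃ w, polar Q a w = 0 ∧ (¬ ∃ t : F, w = t • a) ∧ rhoO Q hQ hn a w ∈ N := by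
    by_contra hcon
    have hcon' : ∀ w, polar Q a w = 0 → rhoO Q hQ hn a w ∈ N → ∃ t : F, w = t • a := by
      intro w hw hwN
      by_contra hne
      exact hcon ⟨w, hw, hne, hwN⟩
    obtain ⟨x, hxN, hxZ⟩ := hnt
    obtain ⟨t, hxa⟩ := hNP x hxN
    have ht0 : t ≠ 0 := by
      rintro rfl
      rw [zero_smul] at hxa
      exact ha0 ((isoAct_eq_zero_iff (⇑Q) x.1 a).mp hxa)
    have hclaim : ∀ w, polar Q a w = 0 → x.1 * eichG Q a w * x.1⁻¹ = eichG Q a w := by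
      intro w hw
      have hxw : polar Q a (isoAct (⇑Q) x.1 w) = 0 := by
        have h3 := polar_isoAct Q x.1 a w
        rw [hxa, polar_smul_left, hw, smul_eq_mul] at h3
        rcases mul_eq_zero.mp h3 with h | h
        · exact absurd h ht0
        · exact h
      have hxw' : polar Q a (t • isoAct (⇑Q) x.1 w) = 0 := by rw [polar_smul_right, hxw, smul_zero]
      have h1 : x * rhoO Q hQ hn a w * x⁻¹ = rhoO Q hQ hn a (t • isoAct (⇑Q) x.1 w) := by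
        rw [rhoO_conj, hxa, rhoO_smul_left Q hQ hn a _ t ha hxw]
      have h2 : x * rhoO Q hQ hn a w * x⁻¹ * (rhoO Q hQ hn a w)⁻¹ ∈ N := by
        have h3 : rhoO Q hQ hn a w * x⁻¹ * (rhoO Q hQ hn a w)⁻¹ ∈ N :=
          hnorm _ (hfix w hw) x⁻¹ (N.inv_mem hxN)
        have h4 := N.mul_mem hxN h3
        have e : x * (rhoO Q hQ hn a w * x⁻¹ * (rhoO Q hQ hn a w)⁻¹)
            = x * rhoO Q hQ hn a w * x⁻¹ * (rhoO Q hQ hn a w)⁻¹ := by group
        rw [e] at h4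
        exact h4
      rw [h1, rhoO_inv Q hQ hn a w ha hw, rhoO_mul Q hQ hn a _ _ ha hxw'
        (by rw [polar_neg_right, hw, neg_zero])] at h2
      obtain ⟨t', ht'⟩ := hcon' _ (by rw [polar_add_right, hxw', polar_neg_right, hw, neg_zero,
        add_zero]) h2
      have h5 := congrArg Subtype.val h1
      rw [rhoO_val] at h5
      have e2 : t • isoAct (⇑Q) x.1 w = w + t' • a := by rw [← ht']; abel
      rw [e2, eichG_add_smul Q a w t' ha hw] at h5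
      exact h5
    obtain ⟨w₁, hw₁, hpm⟩ := centralizer_root Q hQ (by omega) a ha0 ha x.1
      (fun w hw => Or.inl (hclaim w hw))
    have h6 : qm Q x = qm Q (rhoO Q hQ hn a w₁) := qm_eq_of_PM Q x _ hpm
    have h7 : x⁻¹ * rhoO Q hQ hn a w₁ ∈ N := hZ (QuotientGroup.eq.mp h6)
    have h8 : rhoO Q hQ hn a w₁ ∈ N := by
      have := N.mul_mem hxN h7
      rwa [mul_inv_cancel_left] at this
    obtain ⟨t₁, ht₁⟩ := hcon' w₁ hw₁ h8
    rw [ht₁, rhoO_smul_self Q hQ hn a t₁ ha, map_one] at h6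
    exact hxZ ((qm_eq_one_iff Q x).mp h6)
  obtain ⟨y₀, hay₀, hy₀a, hy₀N⟩ := step1
  -- step 2: the whole root group lies in `N`
  let Y : AddSubgroup (ι → F) :=
    { carrier := {w | polar Q a w = 0 ∧ rhoO Q hQ hn a w ∈ N}
      add_mem' := by
        rintro w w' ⟨hw, hwN⟩ ⟨hw', hwN'⟩
        refine ⟨by rw [polar_add_right, hw, hw', add_zero], ?_⟩
        rw [← rhoO_mul Q hQ hn a w w' ha hw hw']
        exact N.mul_mem hwN hwN'
      zero_mem' := ⟨polar_zero_right Q a, by rw [rhoO_zero]; exact N.one_mem⟩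
      neg_mem' := by
        rintro w ⟨hw, hwN⟩
        refine ⟨by rw [polar_neg_right, hw, neg_zero], ?_⟩
        rw [← rhoO_inv Q hQ hn a w ha hw]
        exact N.inv_mem hwN }
  have hYmem : ∀ w, w ∈ Y ↔ (polar Q a w = 0 ∧ rhoO Q hQ hn a w ∈ N) := fun w => Iff.rfl
  have hY : ∀ c d, Q c = 0 → polar Q a c = 0 → polar Q a d = 0 → polar Q c d = 0 →
      ∀ y ∈ Y, isoAct (⇑Q) (eichG Q c d) y ∈ Y := by
    intro c d hc hac had hcd y hy
    rw [hYmem] at hy ⊢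
    have hga : isoAct (⇑Q) (eichG Q c d) a = a := by
      rw [isoAct_eichG Q c d hc hcd, polar_comm Q d a, had, polar_comm Q c a, hac]
      simp
    refine ⟨?_, ?_⟩
    · have h3 := polar_isoAct Q (eichG Q c d) a y
      rw [hga] at h3
      rw [h3]
      exact hy.1
    · have h4 := hnorm (rhoO Q hQ hn c d) ⟨1, by rw [rhoO_val, hga, one_smul]⟩ _ hy.2
      rw [rhoO_conj, rhoO_val, hga] at h4
      exact h4
  have hall := irr Q hQ hn a Y hY y₀ ((hYmem y₀).mpr ⟨hay₀, hy₀N⟩) hay₀ hy₀a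
  have hU : ∀ w, polar Q a w = 0 → rhoO Q hQ hn a w ∈ N := fun w hw => ((hYmem w).mp (hall w hw)).2
  refine ⟨hU, ?_⟩
  -- step 3
  intro x hxN
  have hpm : ∀ w, polar Q a w = 0 → PM (⇑Q) (x.1 * eichG Q a w * x.1⁻¹) (eichG Q a w) := by
    intro w hw
    have h1 := hab x hxN _ (hU w hw)
    have h2 : qm Q (x * rhoO Q hQ hn a w * x⁻¹) = qm Q (rhoO Q hQ hn a w) := by
      rw [map_mul, h1, map_mul, map_inv, mul_inv_cancel_right]
    exact PM_of_qm_eq Q hQ fr _ _ h2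
  obtain ⟨w₁, hw₁, hpm₁⟩ := centralizer_root Q hQ (by omega) a ha0 ha x.1 hpm
  exact ⟨w₁, hw₁, qm_eq_of_PM Q x _ hpm₁⟩

end Center

end Cfsg.Agent.Lib.helper49.AutOm
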