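/-
Shared lemmas (helper49): automorphisms of `PΩ(Q)`, part 4.
The image under an automorphism of the stabiliser of a singular point is the stabiliser of a totally
singular subspace; the case of a point.
-/
import Mathlib
import Cfsg.Agent.Lib.helper49.AutOmega3

set_option autoImplicit false
set_option linter.unusedSectionVars false
set_option linter.style.haveILetI false

namespace Cfsg.Agent.Lib.helper49.AutOm

open Matrix Module QuadraticMap
open Cfsg.Agent.Lib.helper49 Cfsg.Agent.Lib.helper42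

section Generic

/-- Self-centralising subsets. -/
def PropSC {G : Type*} [Group G] (T : Set G) : Prop :=
  ∀ y : G, (∀ u ∈ T, y * u = u * y) → y ∈ T

/-- A property of the root groups which fails for the other candidates. -/
def PropII {G : Type*} [Group G] (T : Set G) : Prop :=
  ∀ g x y : G, x ∈ T → y ∈ T → g * x * g⁻¹ ∈ T → g * y * g⁻¹ ∈ T → x ≠ 1 → y ≠ 1 →
    (∃ k ∈ T, g * k * g⁻¹ ∉ T) → ∀ c : G, c * x = x * c → c * y = y * c

theorem PropSC.transport {G : Type*} [Group G] (β : MulAut G) {T T' : Set G}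
    (h1 : ∀ u ∈ T, β u ∈ T') (h2 : ∀ u' ∈ T', ∃ u ∈ T, β u = u') (h : PropSC T) : PropSC T' := by
  intro y hy
  have h3 : β⁻¹ y ∈ T := h _ (fun u hu => by
    have h4 := hy (β u) (h1 u hu)
    apply β.injective
    rw [map_mul, map_mul, MulAut.apply_inv_self]
    exact h4)
  have h5 := h1 _ h3
  rwa [MulAut.apply_inv_self] at h5

theorem PropII.transport {G : Type*} [Group G] (β : MulAut G) {T T' : Set G}
    (h1 : ∀ u ∈ T, β u ∈ T') (h2 : ∀ u' ∈ T', ∃ u ∈ T, β u = u') (h : PropII T) : PropII T' := by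
  intro g x y hx hy hgx hgy hx1 hy1 hk c hcx
  obtain ⟨x₀, hx₀, rfl⟩ := h2 x hx
  obtain ⟨y₀, hy₀, rfl⟩ := h2 y hy
  have hpull : ∀ v, β v ∈ T' → v ∈ T := by
    intro v hv
    obtain ⟨u, hu, hβ⟩ := h2 _ hv
    rw [← β.injective hβ]
    exact hu
  have e : ∀ v, β (β⁻¹ g * v * (β⁻¹ g)⁻¹) = g * β v * g⁻¹ := by
    intro v
    rw [map_mul, map_mul, map_inv, MulAut.apply_inv_self]
  have hc := h (β⁻¹ g) x₀ y₀ hx₀ hy₀ (hpull _ (by rw [e]; exact hgx)) (hpull _ (by rw [e]; exact hgy))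
    (fun h0 => hx1 (by rw [h0, map_one])) (fun h0 => hy1 (by rw [h0, map_one]))
    (by
      obtain ⟨k, hk, hgk⟩ := hk
      obtain ⟨k₀, hk₀, rfl⟩ := h2 k hk
      refine ⟨k₀, hk₀, fun hmem => hgk ?_⟩
      have h3 := h1 _ hmem
      rwa [e] at h3)
    (β⁻¹ c) (by
      apply β.injective
      rw [map_mul, map_mul, MulAut.apply_inv_self]
      exact hcx)
  have h4 := congrArg β hc
  rwa [map_mul, map_mul, MulAut.apply_inv_self] at h4

end Generic

section ThmK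

variable {F : Type*} [Field F] [Fintype F] {ι : Type} [Fintype ι] [DecidableEq ι]
variable (Q : QuadraticForm F (ι → F)) (hQ : (polarBilin Q).Nondegenerate)
  (hn : 7 ≤ Fintype.card ι) (fr : HypFrame3 Q) (p : ℕ) [Fact p.Prime] [CharP F p]

include hQ hn fr p

theorem comm_root (a w w' : ι → F) (ha : Q a = 0) (hw : polar Q a w = 0) (hw' : polar Q a w' = 0) :
    rhoO Q hQ hn a w * rhoO Q hQ hn a w' = rhoO Q hQ hn a w' * rhoO Q hQ hn a w := by
  rw [rhoO_mul Q hQ hn a w w' ha hw hw', rhoO_mul Q hQ hn a w' w ha hw' hw, add_comm]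

theorem exists_orth_not_smul (a : ι → F) (hn5 : 5 ≤ Fintype.card ι) :
    ∃ w₁ w₂, polar Q a w₁ = 0 ∧ polar Q a w₂ = 0 ∧ (¬ ∃ t : F, w₁ = t • a) ∧ (¬ ∃ t : F, w₂ = t • a) ∧
      ¬ ∃ t : F, w₁ - w₂ = t • a := by
  obtain ⟨e', f', he', hf', hef', hae, haf⟩ := exists_hyp_pair_orth₁ Q hQ hn5 a
  refine ⟨e', f', hae, haf, ?_, ?_, ?_⟩
  · rintro ⟨t, ht⟩
    rw [ht, polar_smul_left, haf, smul_zero] at hef'
    exact zero_ne_one hef'
  · rintro ⟨t, ht⟩
    rw [ht, polar_smul_right, polar_comm Q e' a, hae, smul_zero] at hef'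
    exact zero_ne_one hef'
  · rintro ⟨t, ht⟩
    have h1 : polar Q (e' - f') f' = 1 := by
      rw [polar_sub_left, hef', polar_self, hf']
      simp
    rw [ht, polar_smul_left, haf, smul_zero] at h1
    exact zero_ne_one h1

/-- The lifted image of the root group is abelian. -/
theorem liftA_comm (β : MulAut (Cfsg.POmega F ⇑Q)) (a : ι → F) (ha0 : a ≠ 0) (ha : Q a = 0)
    (x y : ↥(Cfsg.Omega F ⇑Q)) (hx : x ∈ imgSub Q β (rootSub Q hQ hn a ha))
    (hy : y ∈ imgSub Q β (rootSub Q hQ hn a ha)) : x * y = y * x := by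
  obtain ⟨g, ⟨w, hw, rfl⟩, hxq⟩ := hx
  obtain ⟨g', ⟨w', hw', rfl⟩, hyq⟩ := hy
  have hq : qm Q (x * y) = qm Q (y * x) := by
    rw [map_mul, map_mul, hxq, hyq, ← map_mul β, ← map_mul β, ← map_mul (qm Q), ← map_mul (qm Q),
      comm_root Q hQ hn fr p a w w' ha hw hw']
  rcases PM_of_qm_eq Q hQ fr _ _ hq with h | h
  · exact Subtype.ext h
  · by_cases h2 : (2 : F) = 0
    · apply Subtype.ext
      apply isoAct_ext
      intro v
      rw [h v]
      exact neg_eq_self_of_two h2 _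
    · exfalso
      have hyp : y ^ p ∈ Subgroup.center ↥(Cfsg.Omega F ⇑Q) := by
        rw [← qm_eq_one_iff, map_pow, hyq, ← map_pow, ← map_pow, rhoO_pow Q hQ hn a w' ha hw',
          CharP.cast_eq_zero, zero_smul, rhoO_zero, map_one, map_one]
      have hcomm : x * y ^ p = y ^ p * x := Subgroup.mem_center_iff.mp hyp x
      have hind : ∀ k : ℕ, ∀ v, isoAct (⇑Q) (x * y ^ k).1 v
          = ((-1 : F) ^ k) • isoAct (⇑Q) (y ^ k * x).1 v := by
        intro k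
        induction k with
        | zero =>
          intro v
          simp
        | succ k ih =>
          intro v
          have s1 : isoAct (⇑Q) (x * y ^ (k + 1)).1 v
              = isoAct (⇑Q) (x * y ^ k).1 (isoAct (⇑Q) y.1 v) := by
            rw [pow_succ, ← mul_assoc]
            show isoAct (⇑Q) ((x * y ^ k).1 * y.1) v = _
            rw [isoAct_mul]
          have s2 : isoAct (⇑Q) (y ^ k * x).1 (isoAct (⇑Q) y.1 v)
              = isoAct (⇑Q) (y ^ k).1 (isoAct (⇑Q) (x * y).1 v) := by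
            show isoAct (⇑Q) ((y ^ k).1 * x.1) (isoAct (⇑Q) y.1 v)
              = isoAct (⇑Q) (y ^ k).1 (isoAct (⇑Q) (x.1 * y.1) v)
            rw [isoAct_mul, isoAct_mul]
          have s3 : isoAct (⇑Q) (y ^ (k + 1) * x).1 v
              = isoAct (⇑Q) (y ^ k).1 (isoAct (⇑Q) (y * x).1 v) := by
            rw [pow_succ, mul_assoc]
            show isoAct (⇑Q) ((y ^ k).1 * (y * x).1) v = _
            rw [isoAct_mul]
          rw [s1, ih (isoAct (⇑Q) y.1 v), s2, h v, isoAct_neg, s3, pow_succ, mul_neg_one, neg_smul,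
            smul_neg]
      have h3 := hind p a
      rw [hcomm] at h3
      have hodd : Odd p := (Fact.out : p.Prime).eq_two_or_odd'.resolve_left (by
        rintro rfl
        exact h2 (by exact_mod_cast CharP.cast_eq_zero F 2))
      rw [hodd.neg_one_pow, neg_one_smul] at h3
      have h4 : isoAct (⇑Q) (y ^ p * x).1 a = 0 := by
        funext i
        have h5 := congrFun h3 i
        simp only [Pi.neg_apply, Pi.zero_apply] at h5 ⊢
        have e : (2 : F) * isoAct (⇑Q) (y ^ p * x).1 a i = 0 := by linear_combination h5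
        rcases mul_eq_zero.mp e with h' | h'
        · exact absurd h' h2
        · exact h'
      exact ha0 ((isoAct_eq_zero_iff (⇑Q) _ a).mp h4)

/-- The elements of order dividing `p` in the lifted image of the root group. -/
def pPart (β : MulAut (Cfsg.POmega F ⇑Q)) (a : ι → F) (ha0 : a ≠ 0) (ha : Q a = 0) :
    Subgroup ↥(Cfsg.Omega F ⇑Q) where
  carrier := {x | x ∈ imgSub Q β (rootSub Q hQ hn a ha) ∧ x ^ p = 1}
  mul_mem' := by
    rintro x y ⟨hx, hxp⟩ ⟨hy, hyp⟩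
    refine ⟨Subgroup.mul_mem _ hx hy, ?_⟩
    have hc : Commute x y := liftA_comm Q hQ hn fr p β a ha0 ha x y hx hy
    rw [hc.mul_pow, hxp, hyp, one_mul]
  one_mem' := ⟨Subgroup.one_mem _, one_pow p⟩
  inv_mem' := by
    rintro x ⟨hx, hxp⟩
    exact ⟨Subgroup.inv_mem _ hx, by rw [inv_pow, hxp, inv_one]⟩

theorem isPGroup_pPart (β : MulAut (Cfsg.POmega F ⇑Q)) (a : ι → F) (ha0 : a ≠ 0) (ha : Q a = 0) :
    IsPGroup p ↥(pPart Q hQ hn fr p β a ha0 ha) := by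
  intro g
  refine ⟨1, ?_⟩
  rw [pow_one]
  apply Subtype.ext
  rw [Subgroup.coe_pow]
  exact g.2.2

/-- The lifted stabiliser normalises the lifted root group. -/
theorem liftA_normal (β : MulAut (Cfsg.POmega F ⇑Q)) (a : ι → F) (ha0 : a ≠ 0) (ha : Q a = 0)
    (g : ↥(Cfsg.Omega F ⇑Q)) (hg : g ∈ imgSub Q β (stabO Q (Submodule.span F {a})))
    (x : ↥(Cfsg.Omega F ⇑Q)) (hx : x ∈ imgSub Q β (rootSub Q hQ hn a ha)) :
    g * x * g⁻¹ ∈ imgSub Q β (rootSub Q hQ hn a ha) := by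
  obtain ⟨g₀, hg₀, hgq⟩ := hg
  obtain ⟨u, hu, hxq⟩ := hx
  refine ⟨g₀ * u * g₀⁻¹,
    rootSub_normal Q hQ hn a ha0 ha g₀ ((mem_stabO_span_iff Q a g₀).mp hg₀) u hu, ?_⟩
  simp only [map_mul, map_inv, hgq, hxq]

theorem pPart_normal (β : MulAut (Cfsg.POmega F ⇑Q)) (a : ι → F) (ha0 : a ≠ 0) (ha : Q a = 0)
    (g : ↥(Cfsg.Omega F ⇑Q)) (hg : g ∈ imgSub Q β (stabO Q (Submodule.span F {a})))
    (x : ↥(Cfsg.Omega F ⇑Q)) (hx : x ∈ pPart Q hQ hn fr p β a ha0 ha) :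
    g * x * g⁻¹ ∈ pPart Q hQ hn fr p β a ha0 ha :=
  ⟨liftA_normal Q hQ hn fr p β a ha0 ha g hg x hx.1, by rw [conj_pow, hx.2, mul_one, mul_inv_cancel]⟩

/-- A central element raised to the power `p + 1` is trivial. -/
theorem center_pow_succ (z : ↥(Cfsg.Omega F ⇑Q)) (hz : z ∈ Subgroup.center ↥(Cfsg.Omega F ⇑Q)) :
    z ^ (p + 1) = 1 := by
  rcases center_Omega_pm Q hQ fr z hz with h2 | h2
  · have h3 : z.1 = 1 := isometry_ext (by rw [h2]; rfl)
    have h4 : z = 1 := Subtype.ext h3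
    rw [h4, one_pow]
  · have hzv : ∀ v, isoAct (⇑Q) z.1 v = -v := by
      intro v
      show (((z : ↥(Cfsg.isometryGroup F ⇑Q)) : Matrix.GeneralLinearGroup ι F) : Matrix ι ι F) *ᵥ v = -v
      rw [h2, Matrix.neg_mulVec, Matrix.one_mulVec]
    by_cases h2F : (2 : F) = 0
    · have h4 : z = 1 := by
        apply Subtype.ext
        apply isoAct_ext
        intro v
        show isoAct (⇑Q) z.1 v = isoAct (⇑Q) 1 v
        rw [hzv, isoAct_one]
        exact neg_eq_self_of_two h2F v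
      rw [h4, one_pow]
    · have hodd : Odd p := (Fact.out : p.Prime).eq_two_or_odd'.resolve_left (by
        rintro rfl
        exact h2F (by exact_mod_cast CharP.cast_eq_zero F 2))
      have hzz : z ^ 2 = 1 := by
        apply Subtype.ext
        apply isoAct_ext
        intro v
        rw [pow_two]
        show isoAct (⇑Q) (z.1 * z.1) v = isoAct (⇑Q) 1 v
        rw [isoAct_mul, hzv, hzv, neg_neg, isoAct_one]
      obtain ⟨k, hk⟩ := hodd
      have e : p + 1 = 2 * (k + 1) := by omega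
      rw [e, pow_mul, hzz, one_pow]

/-- Lifts of order dividing `p`. -/
theorem exists_pPart_lift (β : MulAut (Cfsg.POmega F ⇑Q)) (a : ι → F) (ha0 : a ≠ 0) (ha : Q a = 0)
    (w : ι → F) (hw : polar Q a w = 0) :
    ∃ r ∈ pPart Q hQ hn fr p β a ha0 ha, qm Q r = β (qm Q (rhoO Q hQ hn a w)) := by
  obtain ⟨x, hx⟩ := qm_surj Q (β (qm Q (rhoO Q hQ hn a w)))
  have hz : x ^ p ∈ Subgroup.center ↥(Cfsg.Omega F ⇑Q) := by
    rw [← qm_eq_one_iff, map_pow, hx, ← map_pow, ← map_pow, rhoO_pow Q hQ hn a w ha hw,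
      CharP.cast_eq_zero, zero_smul, rhoO_zero, map_one, map_one]
  have hq : qm Q (x ^ (p + 1)) = β (qm Q (rhoO Q hQ hn a w)) := by
    rw [pow_succ, map_mul, (qm_eq_one_iff Q _).mpr hz, one_mul, hx]
  refine ⟨x ^ (p + 1), ⟨⟨rhoO Q hQ hn a w, ⟨w, hw, rfl⟩, hq⟩, ?_⟩, hq⟩
  rw [← pow_mul, mul_comm, pow_mul]
  exact center_pow_succ Q hQ hn fr p _ hz

theorem exists_pPart_elts (β : MulAut (Cfsg.POmega F ⇑Q)) (a : ι → F) (ha0 : a ≠ 0) (ha : Q a = 0) :
    ∃ r₁ ∈ pPart Q hQ hn fr p β a ha0 ha, ∃ r₂ ∈ pPart Q hQ hn fr p β a ha0 ha,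
      r₁ ≠ 1 ∧ r₂ ≠ 1 ∧ r₁ ≠ r₂ := by
  obtain ⟨w₁, w₂, hw₁, hw₂, hn₁, hn₂, hn₁₂⟩ := exists_orth_not_smul Q hQ hn fr p a (by omega)
  obtain ⟨r₁, hr₁, hq₁⟩ := exists_pPart_lift Q hQ hn fr p β a ha0 ha w₁ hw₁
  obtain ⟨r₂, hr₂, hq₂⟩ := exists_pPart_lift Q hQ hn fr p β a ha0 ha w₂ hw₂
  refine ⟨r₁, hr₁, r₂, hr₂, ?_, ?_, ?_⟩
  · intro h
    rw [h, map_one] at hq₁
    have h1 : qm Q (rhoO Q hQ hn a w₁) = 1 := by
      apply β.injective
      rw [← hq₁, map_one]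
    exact hn₁ (smul_of_qm_eq_one Q hQ hn fr a w₁ ha0 ha hw₁ h1)
  · intro h
    rw [h, map_one] at hq₂
    have h1 : qm Q (rhoO Q hQ hn a w₂) = 1 := by
      apply β.injective
      rw [← hq₂, map_one]
    exact hn₂ (smul_of_qm_eq_one Q hQ hn fr a w₂ ha0 ha hw₂ h1)
  · intro h
    rw [h, hq₂] at hq₁
    have h1 := β.injective hq₁
    have h2 := rho_eq_of_qm_eq Q hQ hn fr a w₂ a w₁ ha0 ha hw₂ ha hw₁ h1
    exact hn₁₂ (eichG_eq_imp Q hQ a w₁ w₂ ha0 ha hw₁ hw₂ h2.symm)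

/-- The lifted stabiliser is contained in the stabiliser of a non-zero totally singular subspace. -/
theorem exists_ts_invariant (β : MulAut (Cfsg.POmega F ⇑Q)) (a : ι → F) (ha0 : a ≠ 0) (ha : Q a = 0) :
    ∃ S : Submodule F (ι → F), S ≠ ⊥ ∧ (∀ s ∈ S, Q s = 0) ∧
      ∀ g ∈ imgSub Q β (stabO Q (Submodule.span F {a})), g ∈ stabO Q S := by
  obtain ⟨r₁, hr₁, r₂, hr₂, h1, h2, h12⟩ := exists_pPart_elts Q hQ hn fr p β a ha0 ha
  obtain ⟨S, hS0, hSs, hSinv⟩ := exists_invariant_singular Q hQ (Subgroup.subtype (Cfsg.Omega F ⇑Q))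
    (imgSub Q β (stabO Q (Submodule.span F {a}))) (pPart Q hQ hn fr p β a ha0 ha) p
    (isPGroup_pPart Q hQ hn fr p β a ha0 ha)
    (fun g hg r hr => pPart_normal Q hQ hn fr p β a ha0 ha g hg r hr) r₁ r₂ hr₁ hr₂
    (fun h => h1 (Subtype.ext h)) (fun h => h2 (Subtype.ext h)) (fun h => h12 (Subtype.ext h))
  exact ⟨S, hS0, hSs, fun g hg => mem_stabO_of_forall Q S g (fun s hs => hSinv g hg s hs)⟩

/-- Maximality: the lifted stabiliser is the whole stabiliser of `S`. -/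
theorem stab_le_liftP (β : MulAut (Cfsg.POmega F ⇑Q)) (a : ι → F) (ha : Q a = 0)
    (S : Submodule F (ι → F)) (hS0 : S ≠ ⊥) (hSs : ∀ s ∈ S, Q s = 0)
    (hP : ∀ g ∈ imgSub Q β (stabO Q (Submodule.span F {a})), g ∈ stabO Q S) :
    ∀ x ∈ stabO Q S, x ∈ imgSub Q β (stabO Q (Submodule.span F {a})) := by
  have hPM : ∀ g₀ ∈ stabO Q (Submodule.span F {a}), g₀ ∈ imgSub Q β⁻¹ (stabO Q S) := by
    intro g₀ hg₀
    obtain ⟨x, hx⟩ := qm_surj Q (β (qm Q g₀))
    exact ⟨x, hP x ⟨g₀, hg₀, hx⟩, by rw [hx, MulAut.inv_apply_self]⟩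
  by_cases hall : ∀ m ∈ imgSub Q β⁻¹ (stabO Q S), ∃ t : F, isoAct (⇑Q) m.1 a = t • a
  · intro x hx
    obtain ⟨s, hs⟩ := qm_surj Q (β⁻¹ (qm Q x))
    have hsM : s ∈ imgSub Q β⁻¹ (stabO Q S) := ⟨x, hx, hs⟩
    exact ⟨s, (mem_stabO_span_iff Q a s).mpr (hall s hsM), by rw [hs, MulAut.apply_inv_self]⟩
  · exfalso
    push Not at hall
    obtain ⟨m, hmM, hma⟩ := hall
    have hle := Omega_le_of_parabolic Q hQ hn
      ((imgSub Q β⁻¹ (stabO Q S)).map (Subgroup.subtype (Cfsg.Omega F ⇑Q))) a ha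
      (fun g hg hga => Subgroup.mem_map.mpr ⟨⟨g, hg⟩,
        hPM _ ((mem_stabO_span_iff Q a ⟨g, hg⟩).mpr hga), rfl⟩)
      m.1 (Subgroup.mem_map.mpr ⟨m, hmM, rfl⟩) (fun ⟨t, ht⟩ => hma t ht)
    have hallM : ∀ y : ↥(Cfsg.Omega F ⇑Q), y ∈ imgSub Q β⁻¹ (stabO Q S) := by
      intro y
      obtain ⟨y', hy', hyy⟩ := Subgroup.mem_map.mp (hle y.2)
      have : y' = y := Subtype.ext hyy
      rw [← this]
      exact hy'
    have hallS : ∀ y : ↥(Cfsg.Omega F ⇑Q), ∀ s ∈ S, isoAct (⇑Q) y.1 s ∈ S := by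
      intro y s₀ hs₀
      obtain ⟨s, hs⟩ := qm_surj Q (β⁻¹ (qm Q y))
      obtain ⟨g, hg, hsg⟩ := hallM s
      rw [hs] at hsg
      have hyg : qm Q y = qm Q g := (β⁻¹).injective hsg
      rcases PM_of_qm_eq Q hQ fr _ _ hyg with h | h
      · rw [h]
        exact hg.1 s₀ hs₀
      · rw [h s₀]
        exact S.neg_mem (hg.1 s₀ hs₀)
    obtain ⟨s₀, hs₀, hs₀0⟩ := Submodule.exists_mem_ne_zero_of_ne_bot hS0
    have hs₀s : s₀ ∉ Submodule.span F {(0 : ι → F)} := by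
      rw [Submodule.span_zero_singleton, Submodule.mem_bot]
      exact hs₀0
    obtain ⟨c, hc, -, hcs⟩ := exists_singular_orth_polar_ne Q hQ (by omega) 0 s₀ hs₀s
    obtain ⟨p', q', hp', hq', hpq', hcp, hcq⟩ := exists_hyp_pair_orth₁ Q hQ (by omega) c
    have hQd : Q (p' + q') = 1 := by
      have := Q_hyp_add_smul Q p' q' hp' hq' hpq' 1
      rwa [one_smul] at this
    have hcd : polar Q c (p' + q') = 0 := by rw [polar_add_right, hcp, hcq, add_zero]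
    have h1 := hallS (rhoO Q hQ hn c (p' + q')) s₀ hs₀
    have h2 := polar_eq_zero_of_forall_eq_zero Q hSs hs₀ h1
    rw [rhoO_val, polar_eichG_self Q c (p' + q') s₀ hc hcd (hSs s₀ hs₀), hQd] at h2
    simp only [one_mul, neg_eq_zero, mul_self_eq_zero] at h2
    exact hcs h2

/-- The case where the invariant subspace is a point. -/
theorem root_image_of_line (β : MulAut (Cfsg.POmega F ⇑Q)) (a : ι → F) (ha0 : a ≠ 0) (ha : Q a = 0)
    (a' : ι → F) (ha'0 : a' ≠ 0) (ha' : Q a' = 0)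
    (hP : ∀ x, x ∈ imgSub Q β (stabO Q (Submodule.span F {a})) ↔
      x ∈ stabO Q (Submodule.span F {a'})) :
    (∀ w, polar Q a w = 0 → ∃ w', polar Q a' w' = 0 ∧
      β (qm Q (rhoO Q hQ hn a w)) = qm Q (rhoO Q hQ hn a' w')) ∧
    (∀ w', polar Q a' w' = 0 → ∃ w, polar Q a w = 0 ∧
      β (qm Q (rhoO Q hQ hn a w)) = qm Q (rhoO Q hQ hn a' w')) := by
  have hsub : ∀ x ∈ imgSub Q β (rootSub Q hQ hn a ha),
      x ∈ imgSub Q β (stabO Q (Submodule.span F {a})) := by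
    rintro x ⟨g, hg, hx⟩
    exact ⟨g, rootSub_le_stab Q hQ hn a ha hg, hx⟩
  obtain ⟨h1, h2⟩ := uniq_root Q hQ hn fr a' ha'0 ha' (imgSub Q β (rootSub Q hQ hn a ha))
    (center_le_imgSub Q β _)
    (fun x hx => (mem_stabO_span_iff Q a' x).mp ((hP x).mp (hsub x hx)))
    (fun g hg x hx => liftA_normal Q hQ hn fr p β a ha0 ha g
      ((hP g).mpr ((mem_stabO_span_iff Q a' g).mpr hg)) x hx)
    (fun x hx y hy => by rw [liftA_comm Q hQ hn fr p β a ha0 ha x y hx hy])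
    (by
      obtain ⟨w₁, w₂, hw₁, hw₂, hn₁, hn₂, hn₁₂⟩ := exists_orth_not_smul Q hQ hn fr p a (by omega)
      obtain ⟨x, hx⟩ := qm_surj Q (β (qm Q (rhoO Q hQ hn a w₁)))
      refine ⟨x, ⟨rhoO Q hQ hn a w₁, ⟨w₁, hw₁, rfl⟩, hx⟩, fun hxc => ?_⟩
      rw [(qm_eq_one_iff Q x).mpr hxc] at hx
      have h1 : qm Q (rhoO Q hQ hn a w₁) = 1 := by
        apply β.injective
        rw [← hx, map_one]
      exact hn₁ (smul_of_qm_eq_one Q hQ hn fr a w₁ ha0 ha hw₁ h1))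
  constructor
  · intro w hw
    obtain ⟨x, hx⟩ := qm_surj Q (β (qm Q (rhoO Q hQ hn a w)))
    obtain ⟨w', hw', hxw⟩ := h2 x ⟨rhoO Q hQ hn a w, ⟨w, hw, rfl⟩, hx⟩
    exact ⟨w', hw', by rw [← hx, hxw]⟩
  · intro w' hw'
    obtain ⟨g, ⟨w, hw, rfl⟩, hx⟩ := h1 w' hw'
    exact ⟨w, hw, hx.symm⟩

end ThmK

end Cfsg.Agent.Lib.helper49.AutOm
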