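/-
Shared lemmas (helper49): automorphisms of `PΩ(Q)`, part 5.
Every automorphism of `PΩ(Q)` permutes the projective root groups `{E(a, w) : w ⊥ a}`.
-/
import Mathlib
import Cfsg.Agent.Lib.helper49.AutOmega4

set_option autoImplicit false
set_option linter.unusedSectionVars false
set_option linter.style.haveILetI false

namespace Cfsg.Agent.Lib.helper49.AutOm

open Matrix Module QuadraticMap
open Cfsg.Agent.Lib.helper49 Cfsg.Agent.Lib.helper42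

section ThmK

variable {F : Type*} [Field F] [Fintype F] {ι : Type} [Fintype ι] [DecidableEq ι]
variable (Q : QuadraticForm F (ι → F)) (hQ : (polarBilin Q).Nondegenerate)
  (hn : 7 ≤ Fintype.card ι) (fr : HypFrame3 Q) (p : ℕ) [Fact p.Prime] [CharP F p]

/-- The projective root group as a set. -/
def rootSet (a : ι → F) : Set (Cfsg.POmega F ⇑Q) :=
  {u | ∃ w, polar Q a w = 0 ∧ u = qm Q (rhoO Q hQ hn a w)}

/-- Generators of the candidate group attached to a totally singular subspace `S`. -/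
def gensK (S : Submodule F (ι → F)) : Set ↥(Cfsg.Omega F ⇑Q) :=
  {x | ∃ s ∈ S, ∃ s' ∈ S, x = rhoO Q hQ hn s s'}

/-- The candidate group attached to a totally singular subspace `S`. -/
def K0 (S : Submodule F (ι → F)) : Subgroup ↥(Cfsg.Omega F ⇑Q) :=
  Subgroup.closure (gensK Q hQ hn S)

include hQ hn fr p

theorem propSC_root (a : ι → F) (ha0 : a ≠ 0) (ha : Q a = 0) : PropSC (rootSet Q hQ hn a) := by
  intro y hy
  obtain ⟨s, rfl⟩ := qm_surj Q y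
  have hpm : ∀ w, polar Q a w = 0 → PM (⇑Q) (s.1 * eichG Q a w * s.1⁻¹) (eichG Q a w) := by
    intro w hw
    have h1 := hy _ ⟨w, hw, rfl⟩
    have h2 : qm Q (s * rhoO Q hQ hn a w * s⁻¹) = qm Q (rhoO Q hQ hn a w) := by
      rw [map_mul, map_mul, h1, map_inv, mul_inv_cancel_right]
    exact PM_of_qm_eq Q hQ fr _ _ h2
  obtain ⟨w₁, hw₁, hpm₁⟩ := centralizer_root Q hQ (by omega) a ha0 ha s.1 hpm
  exact ⟨w₁, hw₁, qm_eq_of_PM Q s _ hpm₁⟩

/-- Two root groups of distinct points meet in at most a long root group. -/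
theorem root_inter (a b v w' : ι → F) (ha0 : a ≠ 0) (ha : Q a = 0) (hb : Q b = 0)
    (hba : ¬ ∃ t : F, b = t • a) (hv : polar Q b v = 0) (hw' : polar Q a w' = 0)
    (heq : eichG Q b v = eichG Q a w') (hne : eichG Q a w' ≠ 1) :
    polar Q a b = 0 ∧ ∃ α t : F, w' = α • a + t • b := by
  have hab : polar Q a b = 0 := by
    by_contra hab
    have h1 : isoAct (⇑Q) (eichG Q a w') b = b := by
      rw [← heq]
      exact eichG_apply_self Q b v hb hv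
    rw [isoAct_eichG Q a w' ha hw'] at h1
    apply hne
    have h2 : w' = ((polar Q a b)⁻¹ * (polar Q w' b - Q w' * polar Q a b)) • a := by
      funext i
      have h3 := congrFun h1 i
      simp only [Pi.add_apply, Pi.sub_apply, Pi.smul_apply, smul_eq_mul] at h3 ⊢
      field_simp
      linear_combination -h3
    rw [h2]
    have h4 := eichG_add_smul Q a 0 ((polar Q a b)⁻¹ * (polar Q w' b - Q w' * polar Q a b)) ha
      (polar_zero_right Q a)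
    rw [zero_add, eichG_zero] at h4
    exact h4
  refine ⟨hab, ?_⟩
  have hab' : a ∉ Submodule.span F {b} := by
    intro hmem
    obtain ⟨t, ht⟩ := Submodule.mem_span_singleton.mp hmem
    have ht0 : t ≠ 0 := by
      rintro rfl
      rw [zero_smul] at ht
      exact ha0 ht.symm
    exact hba ⟨t⁻¹, by rw [← ht, smul_smul, inv_mul_cancel₀ ht0, one_smul]⟩
  obtain ⟨t₀, ht₀U, ht₀a⟩ := exists_orth_polar_ne Q hQ (Submodule.span F {b}) a hab'
  have hbt : polar Q b t₀ = 0 := ht₀U b (Submodule.mem_span_singleton_self b)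
  obtain ⟨x₀, hx₀⟩ : ∃ x₀, x₀ = (polar Q a t₀)⁻¹ • t₀ := ⟨_, rfl⟩
  have hax : polar Q a x₀ = 1 := by
    rw [hx₀, polar_smul_right, smul_eq_mul, inv_mul_cancel₀ (by rw [polar_comm Q a t₀]; exact ht₀a)]
  have hbx : polar Q b x₀ = 0 := by rw [hx₀, polar_smul_right, hbt, smul_zero]
  have h1 := congrArg (fun g => isoAct (⇑Q) g x₀) heq
  beta_reduce at h1
  rw [eichG_apply_orth Q b v x₀ hb hv hbx, isoAct_eichG Q a w' ha hw', hax] at h1
  refine ⟨polar Q w' x₀ - Q w' * 1, -(polar Q v x₀), ?_⟩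
  funext i
  have h3 := congrFun h1 i
  simp only [Pi.add_apply, Pi.sub_apply, Pi.smul_apply, smul_eq_mul] at h3 ⊢
  linear_combination h3

/-- Long root elements: equality for one non-zero parameter gives equality for all parameters. -/
theorem root_line_eq (a b a' b' : ι → F) (ha : Q a = 0) (hb : Q b = 0) (hab : polar Q a b = 0)
    (ha' : Q a' = 0) (hb' : Q b' = 0) (hab' : polar Q a' b' = 0) (t : F) (ht : t ≠ 0)
    (h : eichG Q a' (t • b') = eichG Q a (t • b)) (t' : F) :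
    eichG Q a' (t' • b') = eichG Q a (t' • b) := by
  have hf : ∀ (a b : ι → F), Q a = 0 → Q b = 0 → polar Q a b = 0 → ∀ (s : F) (x : ι → F),
      isoAct (⇑Q) (eichG Q a (s • b)) x = x + s • (polar Q b x • a - polar Q a x • b) := by
    intro a b ha hb hab s x
    rw [isoAct_eichG Q a (s • b) ha (by rw [polar_smul_right, hab, smul_zero]), QuadraticMap.map_smul,
      hb, polar_smul_left]
    funext i
    simp only [Pi.add_apply, Pi.sub_apply, Pi.smul_apply, smul_eq_mul, mul_zero, zero_mul, sub_zero]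
    ring
  apply isoAct_ext
  intro x
  have h1 := congrArg (fun g => isoAct (⇑Q) g x) h
  beta_reduce at h1
  rw [hf a' b' ha' hb' hab' t x, hf a b ha hb hab t x] at h1
  rw [hf a' b' ha' hb' hab' t' x, hf a b ha hb hab t' x]
  have h2 : polar Q b' x • a' - polar Q a' x • b' = polar Q b x • a - polar Q a x • b :=
    smul_right_injective _ ht (add_left_cancel h1)
  rw [h2]

theorem propII_root (a : ι → F) (ha0 : a ≠ 0) (ha : Q a = 0) : PropII (rootSet Q hQ hn a) := by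
  intro g x y hx hy hgx hgy hx1 hy1 hk c hcx
  obtain ⟨ĝ, rfl⟩ := qm_surj Q g
  obtain ⟨ĉ, rfl⟩ := qm_surj Q c
  obtain ⟨w₁, hw₁, rfl⟩ := hx
  obtain ⟨w₂, hw₂, rfl⟩ := hy
  obtain ⟨b, hbdef⟩ : ∃ b, b = isoAct (⇑Q) ĝ.1⁻¹ a := ⟨_, rfl⟩
  have hb : Q b = 0 := by rw [hbdef, Q_isoAct (⇑Q)]; exact ha
  have hb0 : b ≠ 0 := by
    rw [hbdef]
    exact fun h => ha0 ((isoAct_eq_zero_iff (⇑Q) _ a).mp h)
  have hba : ¬ ∃ t : F, b = t • a := by
    rintro ⟨t, ht⟩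
    have h1 : ∃ t' : F, isoAct (⇑Q) ĝ.1 a = t' • a := by
      have h2 := stab_inv Q a ĝ.1⁻¹ ⟨t, by rw [← hbdef]; exact ht⟩
      rwa [inv_inv] at h2
    obtain ⟨k, ⟨w₃, hw₃, rfl⟩, hgk⟩ := hk
    apply hgk
    obtain ⟨w₄, hw₄, e⟩ := rootSub_normal Q hQ hn a ha0 ha ĝ h1 (rhoO Q hQ hn a w₃) ⟨w₃, hw₃, rfl⟩
    exact ⟨w₄, hw₄, by rw [← e, map_mul, map_mul, map_inv]⟩
  have key : ∀ w, polar Q a w = 0 →
      qm Q ĝ * qm Q (rhoO Q hQ hn a w) * (qm Q ĝ)⁻¹ ∈ rootSet Q hQ hn a →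
      qm Q (rhoO Q hQ hn a w) ≠ 1 → polar Q a b = 0 ∧ ∃ α t : F, w = α • a + t • b := by
    intro w hw hmem hne
    obtain ⟨w', hw', e⟩ := hmem
    have e3 : rhoO Q hQ hn b (isoAct (⇑Q) ĝ.1⁻¹ w') = ĝ⁻¹ * rhoO Q hQ hn a w' * ĝ := by
      have h2 := rhoO_conj Q hQ hn ĝ⁻¹ a w'
      rw [inv_inv] at h2
      rw [h2, hbdef]
      rfl
    have e2 : qm Q (rhoO Q hQ hn b (isoAct (⇑Q) ĝ.1⁻¹ w')) = qm Q (rhoO Q hQ hn a w) := by
      rw [e3, map_mul, map_mul, map_inv, ← e]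
      group
    have hv : polar Q b (isoAct (⇑Q) ĝ.1⁻¹ w') = 0 := by
      rw [hbdef, polar_isoAct]
      exact hw'
    have h3 := rho_eq_of_qm_eq Q hQ hn fr b _ a w hb0 hb hv ha hw e2
    have hne' : eichG Q a w ≠ 1 := by
      intro h
      apply hne
      have h4 : rhoO Q hQ hn a w = 1 := Subtype.ext h
      rw [h4, map_one]
    exact root_inter Q hQ hn fr p a b _ w ha0 ha hb hba hv hw h3 hne'
  obtain ⟨hab, α₁, t₁, e₁⟩ := key w₁ hw₁ hgx hx1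
  obtain ⟨-, α₂, t₂, e₂⟩ := key w₂ hw₂ hgy hy1
  have ht₁ : t₁ ≠ 0 := by
    rintro rfl
    apply hx1
    rw [e₁, zero_smul, add_zero, rhoO_smul_self Q hQ hn a α₁ ha, map_one]
  have r : ∀ (α t : F), eichG Q a (α • a + t • b) = eichG Q a (t • b) := by
    intro α t
    rw [add_comm, eichG_add_smul Q a _ α ha (by rw [polar_smul_right, hab, smul_zero])]
  obtain ⟨a', ha'def⟩ : ∃ a', a' = isoAct (⇑Q) ĉ.1 a := ⟨_, rfl⟩
  obtain ⟨b', hb'def⟩ : ∃ b', b' = isoAct (⇑Q) ĉ.1 b := ⟨_, rfl⟩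
  have ha' : Q a' = 0 := by rw [ha'def, Q_isoAct (⇑Q)]; exact ha
  have hb' : Q b' = 0 := by rw [hb'def, Q_isoAct (⇑Q)]; exact hb
  have hab' : polar Q a' b' = 0 := by rw [ha'def, hb'def, polar_isoAct]; exact hab
  have ha'0 : a' ≠ 0 := by
    rw [ha'def]
    exact fun h => ha0 ((isoAct_eq_zero_iff (⇑Q) _ a).mp h)
  have r' : ∀ (α t : F), eichG Q a' (isoAct (⇑Q) ĉ.1 (α • a + t • b)) = eichG Q a' (t • b') := by
    intro α t
    rw [isoAct_add, isoAct_smul, isoAct_smul, ← ha'def, ← hb'def, add_comm,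
      eichG_add_smul Q a' _ α ha' (by rw [polar_smul_right, hab', smul_zero])]
  have hc1 : eichG Q a' (t₁ • b') = eichG Q a (t₁ • b) := by
    have h4 : qm Q (ĉ * rhoO Q hQ hn a w₁ * ĉ⁻¹) = qm Q (rhoO Q hQ hn a w₁) := by
      rw [map_mul, map_mul, hcx, map_inv, mul_inv_cancel_right]
    rw [rhoO_conj, ← ha'def] at h4
    have h5 := rho_eq_of_qm_eq Q hQ hn fr a' _ a w₁ ha'0 ha'
      (by rw [ha'def, polar_isoAct]; exact hw₁) ha hw₁ h4
    rw [e₁, r', r] at h5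
    exact h5
  have hc2 := root_line_eq Q hQ hn fr p a b a' b' ha hb hab ha' hb' hab' t₁ ht₁ hc1 t₂
  have h6 : ĉ.1 * eichG Q a w₂ * ĉ.1⁻¹ = eichG Q a w₂ := by
    rw [eichG_conj, ← ha'def, e₂, r', r]
    exact hc2
  have h7 : ĉ * rhoO Q hQ hn a w₂ * ĉ⁻¹ = rhoO Q hQ hn a w₂ := Subtype.ext h6
  rw [← map_mul, ← map_mul, mul_inv_eq_iff_eq_mul.mp h7]

theorem K0_fix (S : Submodule F (ι → F)) (hSs : ∀ s ∈ S, Q s = 0) (k : ↥(Cfsg.Omega F ⇑Q))
    (hk : k ∈ K0 Q hQ hn S) (x : ι → F) (hx : ∀ s ∈ S, polar Q s x = 0) :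
    isoAct (⇑Q) k.1 x = x := by
  unfold K0 at hk
  induction hk using Subgroup.closure_induction with
  | mem k hk =>
    obtain ⟨s, hs, s', hs', rfl⟩ := hk
    rw [rhoO_val, isoAct_eichG Q s s' (hSs s hs) (polar_eq_zero_of_forall_eq_zero Q hSs hs hs'),
      hx s hs, hx s' hs']
    simp
  | one => exact isoAct_one _ x
  | mul k k' _ _ ih ih' =>
    show isoAct (⇑Q) (k.1 * k'.1) x = x
    rw [isoAct_mul, ih', ih]
  | inv k _ ih =>
    show isoAct (⇑Q) k.1⁻¹ x = x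
    have h1 := isoAct_inv_isoAct (⇑Q) k.1 x
    rw [ih] at h1
    exact h1

theorem K0_fix_S (S : Submodule F (ι → F)) (hSs : ∀ s ∈ S, Q s = 0) (k : ↥(Cfsg.Omega F ⇑Q))
    (hk : k ∈ K0 Q hQ hn S) (s₀ : ι → F) (hs₀ : s₀ ∈ S) : isoAct (⇑Q) k.1 s₀ = s₀ :=
  K0_fix Q hQ hn fr p S hSs k hk s₀ (fun _ hs => polar_eq_zero_of_forall_eq_zero Q hSs hs hs₀)

theorem K0_le_stab (S : Submodule F (ι → F)) (hSs : ∀ s ∈ S, Q s = 0) (k : ↥(Cfsg.Omega F ⇑Q))
    (hk : k ∈ K0 Q hQ hn S) : k ∈ stabO Q S := by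
  apply mem_stabO_of_forall
  intro s hs
  rw [K0_fix_S Q hQ hn fr p S hSs k hk s hs]
  exact hs

theorem K0_comm (S : Submodule F (ι → F)) (hSs : ∀ s ∈ S, Q s = 0) (k k' : ↥(Cfsg.Omega F ⇑Q))
    (hk : k ∈ K0 Q hQ hn S) (hk' : k' ∈ K0 Q hQ hn S) : k * k' = k' * k := by
  unfold K0 at hk'
  induction hk' using Subgroup.closure_induction with
  | mem x hx =>
    obtain ⟨s, hs, s', hs', rfl⟩ := hx
    have h1 := rhoO_conj Q hQ hn k s s'
    rw [K0_fix_S Q hQ hn fr p S hSs k hk s hs, K0_fix_S Q hQ hn fr p S hSs k hk s' hs'] at h1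
    exact mul_inv_eq_iff_eq_mul.mp h1
  | one => rw [mul_one, one_mul]
  | mul x y _ _ ihx ihy => rw [← mul_assoc, ihx, mul_assoc, ihy, mul_assoc]
  | inv x _ ih => exact (Commute.inv_right (show Commute k x from ih)).eq

theorem K0_norm (S : Submodule F (ι → F)) (g : ↥(Cfsg.Omega F ⇑Q)) (hg : g ∈ stabO Q S)
    (k : ↥(Cfsg.Omega F ⇑Q)) (hk : k ∈ K0 Q hQ hn S) : g * k * g⁻¹ ∈ K0 Q hQ hn S := by
  unfold K0 at hk ⊢
  induction hk using Subgroup.closure_induction with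
  | mem x hx =>
    obtain ⟨s, hs, s', hs', rfl⟩ := hx
    rw [rhoO_conj]
    exact Subgroup.subset_closure ⟨_, hg.1 s hs, _, hg.1 s' hs', rfl⟩
  | one =>
    rw [mul_one, mul_inv_cancel]
    exact Subgroup.one_mem _
  | mul x y _ _ ihx ihy =>
    have e : g * (x * y) * g⁻¹ = (g * x * g⁻¹) * (g * y * g⁻¹) := by group
    rw [e]
    exact Subgroup.mul_mem _ ihx ihy
  | inv x _ ih =>
    have e : g * x⁻¹ * g⁻¹ = (g * x * g⁻¹)⁻¹ := by group
    rw [e]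
    exact Subgroup.inv_mem _ ih

/-- If the invariant subspace is not a point, the image of the projective root group is the image of
the candidate group `K0`. -/
theorem image_eq_K0 (β : MulAut (Cfsg.POmega F ⇑Q)) (a : ι → F) (ha0 : a ≠ 0) (ha : Q a = 0)
    (S : Submodule F (ι → F)) (hSs : ∀ s ∈ S, Q s = 0)
    (hP : ∀ x, x ∈ imgSub Q β (stabO Q (Submodule.span F {a})) ↔ x ∈ stabO Q S)
    (s₁ s₂ : ι → F) (hs₁ : s₁ ∈ S) (hs₁0 : s₁ ≠ 0) (hs₂ : s₂ ∈ S) (hs₂1 : ¬ ∃ t : F, s₂ = t • s₁) :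
    (∀ w, polar Q a w = 0 → ∃ k ∈ K0 Q hQ hn S, β (qm Q (rhoO Q hQ hn a w)) = qm Q k) ∧
    (∀ k ∈ K0 Q hQ hn S, ∃ w, polar Q a w = 0 ∧ β (qm Q (rhoO Q hQ hn a w)) = qm Q k) := by
  obtain ⟨h1, h2⟩ := uniq_root Q hQ hn fr a ha0 ha (imgSub Q β⁻¹ (K0 Q hQ hn S))
    (center_le_imgSub Q β⁻¹ _)
    (by
      rintro x ⟨k, hk, hx⟩
      obtain ⟨g, hg, hkg⟩ := (hP k).mpr (K0_le_stab Q hQ hn fr p S hSs k hk)
      rw [hkg, MulAut.inv_apply_self] at hx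
      obtain ⟨t, ht⟩ := (mem_stabO_span_iff Q a g).mp hg
      rcases PM_of_qm_eq Q hQ fr _ _ hx with h | h
      · exact ⟨t, by rw [h]; exact ht⟩
      · exact ⟨-t, by rw [h a, ht, neg_smul]⟩)
    (by
      rintro g hg x ⟨k, hk, hx⟩
      obtain ⟨ĝ, hĝ⟩ := qm_surj Q (β (qm Q g))
      have hĝS : ĝ ∈ stabO Q S := (hP ĝ).mp ⟨g, (mem_stabO_span_iff Q a g).mpr hg, hĝ⟩
      refine ⟨ĝ * k * ĝ⁻¹, K0_norm Q hQ hn fr p S ĝ hĝS k hk, ?_⟩
      simp only [map_mul, map_inv, hĝ, hx, MulAut.inv_apply_self])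
    (by
      rintro x ⟨k, hk, hx⟩ y ⟨k', hk', hy⟩
      rw [map_mul, map_mul, hx, hy, ← map_mul β⁻¹, ← map_mul β⁻¹, ← map_mul (qm Q), ← map_mul (qm Q),
        K0_comm Q hQ hn fr p S hSs k k' hk hk'])
    (by
      obtain ⟨x, hx⟩ := qm_surj Q (β⁻¹ (qm Q (rhoO Q hQ hn s₁ s₂)))
      refine ⟨x, ⟨rhoO Q hQ hn s₁ s₂, Subgroup.subset_closure ⟨s₁, hs₁, s₂, hs₂, rfl⟩, hx⟩,
        fun hxc => ?_⟩
      rw [(qm_eq_one_iff Q x).mpr hxc] at hx
      have h1 : qm Q (rhoO Q hQ hn s₁ s₂) = 1 := by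
        apply (β⁻¹).injective
        rw [← hx, map_one]
      exact hs₂1 (smul_of_qm_eq_one Q hQ hn fr s₁ s₂ hs₁0 (hSs s₁ hs₁)
        (polar_eq_zero_of_forall_eq_zero Q hSs hs₁ hs₂) h1))
  constructor
  · intro w hw
    obtain ⟨k, hk, e⟩ := h1 w hw
    exact ⟨k, hk, by rw [e, MulAut.apply_inv_self]⟩
  · intro k hk
    obtain ⟨x, hx⟩ := qm_surj Q (β⁻¹ (qm Q k))
    obtain ⟨w, hw, e⟩ := h2 x ⟨k, hk, hx⟩
    exact ⟨w, hw, by rw [← e, hx, MulAut.apply_inv_self]⟩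

theorem exists_dual_singular (U : Submodule F (ι → F)) (x : ι → F) (hx : Q x = 0)
    (hxU : ∀ u ∈ U, polar Q u x = 0) (hnot : x ∉ U) :
    ∃ f, Q f = 0 ∧ (∀ u ∈ U, polar Q u f = 0) ∧ polar Q f x = 1 := by
  obtain ⟨t, htU, htx⟩ := exists_orth_polar_ne Q hQ U x hnot
  obtain ⟨t', ht'⟩ : ∃ t', t' = (polar Q t x)⁻¹ • t := ⟨_, rfl⟩
  have h1 : polar Q t' x = 1 := by rw [ht', polar_smul_left, smul_eq_mul, inv_mul_cancel₀ htx]
  have h2 : ∀ u ∈ U, polar Q u t' = 0 := fun u hu => by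
    rw [ht', polar_smul_right, htU u hu, smul_zero]
  refine ⟨t' - Q t' • x, ?_, ?_, ?_⟩
  · rw [sub_eq_add_neg, ← neg_smul, QuadraticMap.map_add Q, QuadraticMap.map_smul, hx,
      polar_smul_right, h1]
    simp
  · intro u hu
    rw [polar_sub_right, polar_smul_right, h2 u hu, hxU u hu]
    simp
  · rw [polar_sub_left, polar_smul_left, h1, polar_self, hx]
    simp

/-- The case where the orthogonal of `S` is not totally isotropic. -/
theorem caseB1 (S : Submodule F (ι → F)) (hSs : ∀ s ∈ S, Q s = 0) (s₁ : ι → F) (hs₁ : s₁ ∈ S)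
    (hs₁0 : s₁ ≠ 0)
    (hSC : PropSC {u : Cfsg.POmega F ⇑Q | ∃ k ∈ K0 Q hQ hn S, u = qm Q k})
    (w x : ι → F) (hw : ∀ s ∈ S, polar Q s w = 0) (hx : ∀ s ∈ S, polar Q s x = 0)
    (hwx : polar Q w x ≠ 0) : False := by
  have hs₁w : polar Q s₁ w = 0 := hw s₁ hs₁
  have hfix : ∀ s ∈ S, isoAct (⇑Q) (eichG Q s₁ w) s = s := by
    intro s hs
    rw [eichG_apply_orth Q s₁ w s (hSs s₁ hs₁) hs₁w (polar_eq_zero_of_forall_eq_zero Q hSs hs₁ hs),
      polar_comm Q w s, hw s hs, zero_smul, add_zero]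
  have hcomm : ∀ k ∈ K0 Q hQ hn S, rhoO Q hQ hn s₁ w * k = k * rhoO Q hQ hn s₁ w := by
    intro k hk
    unfold K0 at hk
    induction hk using Subgroup.closure_induction with
    | mem k hk =>
      obtain ⟨s, hs, s', hs', rfl⟩ := hk
      have h1 := rhoO_conj Q hQ hn (rhoO Q hQ hn s₁ w) s s'
      rw [rhoO_val, hfix s hs, hfix s' hs'] at h1
      exact mul_inv_eq_iff_eq_mul.mp h1
    | one => rw [mul_one, one_mul]
    | mul k k' _ _ ih ih' => rw [← mul_assoc, ih, mul_assoc, ih', mul_assoc]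
    | inv k _ ih => exact (Commute.inv_right (show Commute (rhoO Q hQ hn s₁ w) k from ih)).eq
  obtain ⟨k, hk, e⟩ := hSC (qm Q (rhoO Q hQ hn s₁ w)) (by
    rintro u ⟨k, hk, rfl⟩
    rw [← map_mul, ← map_mul, hcomm k hk])
  have hkx := K0_fix Q hQ hn fr p S hSs k hk x hx
  have hρx : isoAct (⇑Q) (eichG Q s₁ w) x = x + polar Q w x • s₁ :=
    eichG_apply_orth Q s₁ w x (hSs s₁ hs₁) hs₁w (hx s₁ hs₁)
  have hfin : x + polar Q w x • s₁ = x → False := by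
    intro h1
    have h2 : polar Q w x • s₁ = 0 := by
      funext i
      have h3 := congrFun h1 i
      simp only [Pi.add_apply, Pi.smul_apply, smul_eq_mul, Pi.zero_apply] at h3 ⊢
      linear_combination h3
    rcases smul_eq_zero.mp h2 with h3 | h3
    · exact hwx h3
    · exact hs₁0 h3
  rcases PM_of_qm_eq Q hQ fr _ _ e with h | h
  · have h1 := congrArg (fun g => isoAct (⇑Q) g x) h
    simp only [rhoO_val] at h1
    rw [hρx, hkx] at h1
    exact hfin h1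
  · have h1 := h x
    rw [rhoO_val, hρx, hkx] at h1
    have h2 := congrArg (fun v => polar Q v w) h1
    simp only [polar_add_left, polar_smul_left, polar_neg_left, hs₁w, smul_zero, add_zero] at h2
    have h3 : (2 : F) * polar Q w x = 0 := by
      rw [polar_comm Q w x]
      linear_combination h2
    rcases mul_eq_zero.mp h3 with h4 | h4
    · rw [neg_eq_self_of_two h4 x] at h1
      exact hfin h1
    · exact hwx h4

/-- The case of a totally singular subspace of dimension at least five. -/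
theorem caseB2 (S : Submodule F (ι → F)) (hSs : ∀ s ∈ S, Q s = 0) (s₁ s₂ s₃ s₄ s₅ : ι → F)
    (hs₁ : s₁ ∈ S) (hs₂ : s₂ ∈ S) (hs₃ : s₃ ∈ S) (hs₄ : s₄ ∈ S) (hs₅ : s₅ ∈ S)
    (h1 : s₁ ≠ 0) (h2 : ¬ ∃ t : F, s₂ = t • s₁)
    (h3 : s₃ ∉ Submodule.span F (Set.range ![s₁, s₂]))
    (h4 : s₄ ∉ Submodule.span F (Set.range ![s₁, s₂, s₃]))
    (h5 : s₅ ∉ Submodule.span F (Set.range ![s₁, s₂, s₃, s₄]))
    (hII : PropII {u : Cfsg.POmega F ⇑Q | ∃ k ∈ K0 Q hQ hn S, u = qm Q k}) : False := by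
  have hpol : ∀ {x y : ι → F}, x ∈ S → y ∈ S → polar Q x y = 0 :=
    fun hx hy => polar_eq_zero_of_forall_eq_zero Q hSs hx hy
  have hU2 : Submodule.span F (Set.range ![s₁, s₂]) ≤ S := by
    rw [Submodule.span_le]
    rintro _ ⟨i, rfl⟩
    fin_cases i
    · exact hs₁
    · exact hs₂
  have hU4 : Submodule.span F (Set.range ![s₁, s₂, s₃, s₄]) ≤ S := by
    rw [Submodule.span_le]
    rintro _ ⟨i, rfl⟩
    fin_cases i
    · exact hs₁
    · exact hs₂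
    · exact hs₃
    · exact hs₄
  obtain ⟨f₃, hf₃, hf₃U, hf₃s⟩ := exists_dual_singular Q hQ hn fr p
    (Submodule.span F (Set.range ![s₁, s₂])) s₃ (hSs s₃ hs₃) (fun u hu => hpol (hU2 hu) hs₃) h3
  obtain ⟨f₅, hf₅, hf₅U, hf₅s⟩ := exists_dual_singular Q hQ hn fr p
    (Submodule.span F (Set.range ![s₁, s₂, s₃, s₄])) s₅ (hSs s₅ hs₅)
    (fun u hu => hpol (hU4 hu) hs₅) h5
  have m1 : s₁ ∈ Submodule.span F (Set.range ![s₁, s₂, s₃, s₄]) := Submodule.subset_span ⟨0, rfl⟩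
  have m2 : s₂ ∈ Submodule.span F (Set.range ![s₁, s₂, s₃, s₄]) := Submodule.subset_span ⟨1, rfl⟩
  have m3 : s₃ ∈ Submodule.span F (Set.range ![s₁, s₂, s₃, s₄]) := Submodule.subset_span ⟨2, rfl⟩
  have m4 : s₄ ∈ Submodule.span F (Set.range ![s₁, s₂, s₃, s₄]) := Submodule.subset_span ⟨3, rfl⟩
  have hf₅1 : polar Q s₁ f₅ = 0 := hf₅U s₁ m1
  have hf₅2 : polar Q s₂ f₅ = 0 := hf₅U s₂ m2
  have hf₅3 : polar Q s₃ f₅ = 0 := hf₅U s₃ m3
  have hf₅4 : polar Q s₄ f₅ = 0 := hf₅U s₄ m4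
  have h4' : s₄ ∉ Submodule.span F (Set.range ![s₁, s₂, s₃, f₅]) := by
    intro hmem
    obtain ⟨c, hc⟩ := (Submodule.mem_span_range_iff_exists_fun F).mp hmem
    rw [Fin.sum_univ_four] at hc
    change c 0 • s₁ + c 1 • s₂ + c 2 • s₃ + c 3 • f₅ = s₄ at hc
    have hc3 : c 3 = 0 := by
      have h6 := congrArg (fun v => polar Q v s₅) hc
      simp only [polar_add_left, polar_smul_left, hpol hs₁ hs₅, hpol hs₂ hs₅, hpol hs₃ hs₅,
        hpol hs₄ hs₅, hf₅s, smul_eq_mul, mul_zero, zero_add, mul_one] at h6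
      exact h6
    apply h4
    rw [hc3, zero_smul, add_zero] at hc
    rw [← hc]
    exact Submodule.add_mem _ (Submodule.add_mem _
      (Submodule.smul_mem _ _ (Submodule.subset_span ⟨0, rfl⟩))
      (Submodule.smul_mem _ _ (Submodule.subset_span ⟨1, rfl⟩)))
      (Submodule.smul_mem _ _ (Submodule.subset_span ⟨2, rfl⟩))
  have hxU4 : ∀ u ∈ Submodule.span F (Set.range ![s₁, s₂, s₃, f₅]), polar Q u s₄ = 0 := by
    intro u hu
    obtain ⟨c, hc⟩ := (Submodule.mem_span_range_iff_exists_fun F).mp hu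
    rw [Fin.sum_univ_four] at hc
    change c 0 • s₁ + c 1 • s₂ + c 2 • s₃ + c 3 • f₅ = u at hc
    rw [← hc]
    simp only [polar_add_left, polar_smul_left, hpol hs₁ hs₄, hpol hs₂ hs₄, hpol hs₃ hs₄,
      polar_comm Q f₅ s₄, hf₅4, smul_zero, add_zero]
  obtain ⟨f₄, hf₄, hf₄U, hf₄s⟩ := exists_dual_singular Q hQ hn fr p
    (Submodule.span F (Set.range ![s₁, s₂, s₃, f₅])) s₄ (hSs s₄ hs₄) hxU4 h4'
  have hf₄1 : polar Q s₁ f₄ = 0 := hf₄U s₁ (Submodule.subset_span ⟨0, rfl⟩)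
  have hf₄2 : polar Q s₂ f₄ = 0 := hf₄U s₂ (Submodule.subset_span ⟨1, rfl⟩)
  have hf₄3 : polar Q s₃ f₄ = 0 := hf₄U s₃ (Submodule.subset_span ⟨2, rfl⟩)
  have hf₅₄ : polar Q f₅ f₄ = 0 := hf₄U f₅ (Submodule.subset_span ⟨3, rfl⟩)
  have hf₃1 : polar Q s₁ f₃ = 0 := hf₃U s₁ (Submodule.subset_span ⟨0, rfl⟩)
  have hf₃2 : polar Q s₂ f₃ = 0 := hf₃U s₂ (Submodule.subset_span ⟨1, rfl⟩)
  -- the action of `E(f₅, f₄)`
  have hg123 : ∀ s, polar Q s f₅ = 0 → polar Q s f₄ = 0 →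
      isoAct (⇑Q) (eichG Q f₅ f₄) s = s := by
    intro s h5s h4s
    rw [eichG_apply_orth Q f₅ f₄ s hf₅ hf₅₄ (by rw [polar_comm Q f₅ s]; exact h5s),
      polar_comm Q f₄ s, h4s, zero_smul, add_zero]
  have hg4 : isoAct (⇑Q) (eichG Q f₅ f₄) s₄ = s₄ + f₅ := by
    rw [eichG_apply_orth Q f₅ f₄ s₄ hf₅ hf₅₄ (by rw [polar_comm Q f₅ s₄]; exact hf₅4), hf₄s,
      one_smul]
  -- the action of `E(f₃, s₂)`
  have hf₃s₂ : polar Q f₃ s₂ = 0 := by rw [polar_comm Q f₃ s₂]; exact hf₃2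
  have hc1 : isoAct (⇑Q) (eichG Q f₃ s₂) s₁ = s₁ := by
    rw [eichG_apply_orth Q f₃ s₂ s₁ hf₃ hf₃s₂ (by rw [polar_comm Q f₃ s₁]; exact hf₃1),
      hpol hs₂ hs₁, zero_smul, add_zero]
  have hc2 : isoAct (⇑Q) (eichG Q f₃ s₂) s₂ = s₂ := by
    rw [eichG_apply_orth Q f₃ s₂ s₂ hf₃ hf₃s₂ hf₃s₂, hpol hs₂ hs₂, zero_smul, add_zero]
  have hc3 : isoAct (⇑Q) (eichG Q f₃ s₂) s₃ = s₃ - s₂ := by
    rw [isoAct_eichG Q f₃ s₂ hf₃ hf₃s₂, hpol hs₂ hs₃, hSs s₂ hs₂, hf₃s]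
    simp
  have hxT : qm Q (rhoO Q hQ hn s₁ s₂) ∈ {u : Cfsg.POmega F ⇑Q | ∃ k ∈ K0 Q hQ hn S, u = qm Q k} :=
    ⟨_, Subgroup.subset_closure ⟨s₁, hs₁, s₂, hs₂, rfl⟩, rfl⟩
  have hyT : qm Q (rhoO Q hQ hn s₁ s₃) ∈ {u : Cfsg.POmega F ⇑Q | ∃ k ∈ K0 Q hQ hn S, u = qm Q k} :=
    ⟨_, Subgroup.subset_closure ⟨s₁, hs₁, s₃, hs₃, rfl⟩, rfl⟩
  have hconj : ∀ s s' : ι → F, qm Q (rhoO Q hQ hn f₅ f₄) * qm Q (rhoO Q hQ hn s s')
      * (qm Q (rhoO Q hQ hn f₅ f₄))⁻¹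
      = qm Q (rhoO Q hQ hn (isoAct (⇑Q) (eichG Q f₅ f₄) s) (isoAct (⇑Q) (eichG Q f₅ f₄) s')) := by
    intro s s'
    rw [← map_inv, ← map_mul, ← map_mul, rhoO_conj, rhoO_val]
  have hcy := hII (qm Q (rhoO Q hQ hn f₅ f₄)) (qm Q (rhoO Q hQ hn s₁ s₂))
    (qm Q (rhoO Q hQ hn s₁ s₃)) hxT hyT
    (by rw [hconj, hg123 s₁ hf₅1 hf₄1, hg123 s₂ hf₅2 hf₄2]; exact hxT)
    (by rw [hconj, hg123 s₁ hf₅1 hf₄1, hg123 s₃ hf₅3 hf₄3]; exact hyT)
    (fun h => h2 (smul_of_qm_eq_one Q hQ hn fr s₁ s₂ h1 (hSs s₁ hs₁) (hpol hs₁ hs₂) h))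
    (fun h => by
      obtain ⟨t, ht⟩ := smul_of_qm_eq_one Q hQ hn fr s₁ s₃ h1 (hSs s₁ hs₁) (hpol hs₁ hs₃) h
      apply h3
      rw [ht]
      exact Submodule.smul_mem _ _ (Submodule.subset_span ⟨0, rfl⟩))
    (by
      refine ⟨qm Q (rhoO Q hQ hn s₄ s₁), ⟨_, Subgroup.subset_closure ⟨s₄, hs₄, s₁, hs₁, rfl⟩, rfl⟩,
        fun hmem => ?_⟩
      obtain ⟨k', hk', e⟩ := hmem
      rw [hconj, hg4, hg123 s₁ hf₅1 hf₄1] at e
      have hQ45 : Q (s₄ + f₅) = 0 := by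
        rw [QuadraticMap.map_add Q, hSs s₄ hs₄, hf₅, hf₅4]
        simp
      have hp45 : polar Q (s₄ + f₅) s₁ = 0 := by
        rw [polar_add_left, hpol hs₄ hs₁, polar_comm Q f₅ s₁, hf₅1, add_zero]
      have hk5 := K0_fix_S Q hQ hn fr p S hSs k' hk' s₅ hs₅
      have hρ5 : isoAct (⇑Q) (eichG Q (s₄ + f₅) s₁) s₅ = s₅ - s₁ := by
        rw [isoAct_eichG Q (s₄ + f₅) s₁ hQ45 hp45, hpol hs₁ hs₅, hSs s₁ hs₁, polar_add_left,
          hpol hs₄ hs₅, hf₅s]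
        simp
      rcases PM_of_qm_eq Q hQ fr _ _ e with h | h
      · have h6 := congrArg (fun g => isoAct (⇑Q) g s₅) h
        simp only [rhoO_val] at h6
        rw [hρ5, hk5] at h6
        exact h1 (by
          funext i
          have h7 := congrFun h6 i
          simp only [Pi.sub_apply, Pi.zero_apply] at h7 ⊢
          linear_combination -h7)
      · have h6 := h s₅
        rw [rhoO_val, hρ5, hk5] at h6
        by_cases h2F : (2 : F) = 0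
        · rw [neg_eq_self_of_two h2F s₅] at h6
          exact h1 (by
            funext i
            have h7 := congrFun h6 i
            simp only [Pi.sub_apply, Pi.zero_apply] at h7 ⊢
            linear_combination -h7)
        · apply h5
          have h8 : s₅ = (2 : F)⁻¹ • s₁ := by
            funext i
            have h7 := congrFun h6 i
            simp only [Pi.sub_apply, Pi.neg_apply, Pi.smul_apply, smul_eq_mul] at h7 ⊢
            field_simp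
            linear_combination h7
          rw [h8]
          exact Submodule.smul_mem _ _ m1)
    (qm Q (rhoO Q hQ hn f₃ s₂)) (by
      have h6 := rhoO_conj Q hQ hn (rhoO Q hQ hn f₃ s₂) s₁ s₂
      rw [rhoO_val, hc1, hc2] at h6
      rw [← map_mul, ← map_mul, mul_inv_eq_iff_eq_mul.mp h6])
  have h6 : qm Q (rhoO Q hQ hn f₃ s₂ * rhoO Q hQ hn s₁ s₃ * (rhoO Q hQ hn f₃ s₂)⁻¹)
      = qm Q (rhoO Q hQ hn s₁ s₃) := by
    rw [map_mul, map_mul, hcy, map_inv, mul_inv_cancel_right]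
  rw [rhoO_conj, rhoO_val, hc1, hc3] at h6
  have h7 := rho_eq_of_qm_eq Q hQ hn fr s₁ (s₃ - s₂) s₁ s₃ h1 (hSs s₁ hs₁)
    (by rw [polar_sub_right, hpol hs₁ hs₃, hpol hs₁ hs₂, sub_zero]) (hSs s₁ hs₁) (hpol hs₁ hs₃) h6
  obtain ⟨t, ht⟩ := eichG_eq_imp Q hQ s₁ (s₃ - s₂) s₃ h1 (hSs s₁ hs₁)
    (by rw [polar_sub_right, hpol hs₁ hs₃, hpol hs₁ hs₂, sub_zero]) (hpol hs₁ hs₃) h7
  exact h2 ⟨-t, by rw [neg_smul, ← ht]; abel⟩

/-- **Root groups are permuted**: every automorphism of `PΩ(Q)` maps the projective root group of a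
singular point onto the projective root group of a singular point. -/
theorem root_image (h5 : ∀ S : Submodule F (ι → F), (∀ s ∈ S, Q s = 0) →
      (∀ x, (∀ s ∈ S, polar Q s x = 0) → x ∈ S) → 5 ≤ finrank F S)
    (β : MulAut (Cfsg.POmega F ⇑Q)) (a : ι → F) (ha0 : a ≠ 0) (ha : Q a = 0) :
    ∃ a', a' ≠ 0 ∧ Q a' = 0 ∧
      (∀ w, polar Q a w = 0 → ∃ w', polar Q a' w' = 0 ∧
        β (qm Q (rhoO Q hQ hn a w)) = qm Q (rhoO Q hQ hn a' w')) ∧
      (∀ w', polar Q a' w' = 0 → ∃ w, polar Q a w = 0 ∧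
        β (qm Q (rhoO Q hQ hn a w)) = qm Q (rhoO Q hQ hn a' w')) := by
  obtain ⟨S, hS0, hSs, hPS⟩ := exists_ts_invariant Q hQ hn fr p β a ha0 ha
  have hP : ∀ x, x ∈ imgSub Q β (stabO Q (Submodule.span F {a})) ↔ x ∈ stabO Q S :=
    fun x => ⟨hPS x, stab_le_liftP Q hQ hn fr p β a ha S hS0 hSs hPS x⟩
  obtain ⟨s₁, hs₁, hs₁0⟩ := Submodule.exists_mem_ne_zero_of_ne_bot hS0
  by_cases hline : ∀ s ∈ S, ∃ t : F, s = t • s₁
  · have hSeq : S = Submodule.span F {s₁} := by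
      apply le_antisymm
      · intro s hs
        obtain ⟨t, ht⟩ := hline s hs
        exact Submodule.mem_span_singleton.mpr ⟨t, ht.symm⟩
      · rw [Submodule.span_singleton_le_iff_mem]
        exact hs₁
    rw [hSeq] at hP
    exact ⟨s₁, hs₁0, hSs s₁ hs₁, root_image_of_line Q hQ hn fr p β a ha0 ha s₁ hs₁0 (hSs s₁ hs₁) hP⟩
  · exfalso
    push Not at hline
    obtain ⟨s₂, hs₂, hs₂1⟩ := hline
    obtain ⟨hm1, hm2⟩ := image_eq_K0 Q hQ hn fr p β a ha0 ha S hSs hP s₁ s₂ hs₁ hs₁0 hs₂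
      (fun ⟨t, ht⟩ => hs₂1 t ht)
    have ht1 : ∀ u ∈ rootSet Q hQ hn a,
        β u ∈ {u : Cfsg.POmega F ⇑Q | ∃ k ∈ K0 Q hQ hn S, u = qm Q k} := by
      rintro u ⟨w, hw, rfl⟩
      exact hm1 w hw
    have ht2 : ∀ u' ∈ {u : Cfsg.POmega F ⇑Q | ∃ k ∈ K0 Q hQ hn S, u = qm Q k},
        ∃ u ∈ rootSet Q hQ hn a, β u = u' := by
      rintro u' ⟨k, hk, rfl⟩
      obtain ⟨w, hw, e⟩ := hm2 k hk
      exact ⟨_, ⟨w, hw, rfl⟩, e⟩
    have hSC := (propSC_root Q hQ hn fr p a ha0 ha).transport β ht1 ht2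
    have hII := (propII_root Q hQ hn fr p a ha0 ha).transport β ht1 ht2
    by_cases hB : ∃ w x, (∀ s ∈ S, polar Q s w = 0) ∧ (∀ s ∈ S, polar Q s x = 0) ∧ polar Q w x ≠ 0
    · obtain ⟨w, x, hw, hx, hwx⟩ := hB
      exact caseB1 Q hQ hn fr p S hSs s₁ hs₁ hs₁0 hSC w x hw hx hwx
    · push Not at hB
      have hperp : ∀ x, (∀ s ∈ S, polar Q s x = 0) → x ∈ S := by
        intro x hx
        by_contra hxS
        obtain ⟨t, htU, htx⟩ := exists_orth_polar_ne Q hQ S x hxS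
        exact htx (hB t x htU hx)
      have hfin := h5 S hSs hperp
      have hex : ∀ U : Submodule F (ι → F), finrank F U < 5 → ∃ s ∈ S, s ∉ U := by
        intro U hU
        by_contra hcon
        push Not at hcon
        have hle : S ≤ U := hcon
        have := Submodule.finrank_mono hle
        omega
      have c2 : finrank F (Submodule.span F (Set.range ![s₁, s₂])) < 5 := by
        have := finrank_range_le_card (R := F) ![s₁, s₂]
        rw [Fintype.card_fin] at this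
        exact lt_of_le_of_lt this (by norm_num)
      obtain ⟨s₃, hs₃, h3⟩ := hex _ c2
      have c3 : finrank F (Submodule.span F (Set.range ![s₁, s₂, s₃])) < 5 := by
        have := finrank_range_le_card (R := F) ![s₁, s₂, s₃]
        rw [Fintype.card_fin] at this
        exact lt_of_le_of_lt this (by norm_num)
      obtain ⟨s₄, hs₄, h4⟩ := hex _ c3
      have c4 : finrank F (Submodule.span F (Set.range ![s₁, s₂, s₃, s₄])) < 5 := by
        have := finrank_range_le_card (R := F) ![s₁, s₂, s₃, s₄]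
        rw [Fintype.card_fin] at this
        exact lt_of_le_of_lt this (by norm_num)
      obtain ⟨s₅, hs₅, h5'⟩ := hex _ c4
      exact caseB2 Q hQ hn fr p S hSs s₁ s₂ s₃ s₄ s₅ hs₁ hs₂ hs₃ hs₄ hs₅ hs₁0
        (fun ⟨t, ht⟩ => hs₂1 t ht) h3 h4 h5' hII

end ThmK

end Cfsg.Agent.Lib.helper49.AutOm
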