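/-
Shared lemmas (helper49): automorphisms of `PΩ(Q)`, part 6.
An additive bijection of the orthogonal complement `W` of a hyperbolic pair which maps singular lines to
singular lines is semilinear and multiplies the quadratic form by a constant (up to the field
automorphism).
-/
import Mathlib
import Cfsg.Agent.Lib.helper49.AutOmega5

set_option autoImplicit false
set_option linter.unusedSectionVars false
set_option linter.style.haveILetI false

namespace Cfsg.Agent.Lib.helper49.AutOm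

open Matrix Module QuadraticMap
open Cfsg.Agent.Lib.helper49 Cfsg.Agent.Lib.helper42

section Semi

variable {F : Type*} [Field F] [Fintype F] {ι : Type} [Fintype ι] [DecidableEq ι]
variable (Q : QuadraticForm F (ι → F))

/-- Membership in the orthogonal complement of `p, q`. -/
def InW (p q x : ι → F) : Prop := polar Q p x = 0 ∧ polar Q q x = 0

variable {Q}

theorem InW.add {p q x y : ι → F} (hx : InW Q p q x) (hy : InW Q p q y) : InW Q p q (x + y) :=
  ⟨by rw [polar_add_right, hx.1, hy.1, add_zero], by rw [polar_add_right, hx.2, hy.2, add_zero]⟩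

theorem InW.sub {p q x y : ι → F} (hx : InW Q p q x) (hy : InW Q p q y) : InW Q p q (x - y) :=
  ⟨by rw [polar_sub_right, hx.1, hy.1, sub_zero], by rw [polar_sub_right, hx.2, hy.2, sub_zero]⟩

theorem InW.smul {p q x : ι → F} (hx : InW Q p q x) (t : F) : InW Q p q (t • x) :=
  ⟨by rw [polar_smul_right, hx.1, smul_zero], by rw [polar_smul_right, hx.2, smul_zero]⟩

theorem InW.zero {p q : ι → F} : InW Q p q 0 := ⟨polar_zero_right Q p, polar_zero_right Q q⟩

variable (Q)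

/-- Two orthogonal hyperbolic pairs inside `W`. -/
structure WFrame (p q e₁ f₁ e₂ f₂ : ι → F) : Prop where
  he₁ : InW Q p q e₁
  hf₁ : InW Q p q f₁
  he₂ : InW Q p q e₂
  hf₂ : InW Q p q f₂
  Qe₁ : Q e₁ = 0
  Qf₁ : Q f₁ = 0
  Qe₂ : Q e₂ = 0
  Qf₂ : Q f₂ = 0
  e₁f₁ : polar Q e₁ f₁ = 1
  e₂f₂ : polar Q e₂ f₂ = 1
  e₁e₂ : polar Q e₁ e₂ = 0
  e₁f₂ : polar Q e₁ f₂ = 0
  f₁e₂ : polar Q f₁ e₂ = 0
  f₁f₂ : polar Q f₁ f₂ = 0

/-- An additive bijection of `W` mapping singular lines into singular lines. -/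
structure LineMap (p q : ι → F) (φ : (ι → F) → (ι → F)) : Prop where
  add : ∀ x y, φ (x + y) = φ x + φ y
  mem : ∀ x, InW Q p q (φ x)
  inj : ∀ x, InW Q p q x → φ x = 0 → x = 0
  surj : ∀ w, InW Q p q w → ∃ x, InW Q p q x ∧ φ x = w
  line : ∀ b, InW Q p q b → Q b = 0 → Q (φ b) = 0 ∧ ∀ t : F, ∃ t' : F, φ (t • b) = t' • φ b

variable {Q}

theorem smul_cancel_of_ne {v : ι → F} (hv : v ≠ 0) {a b : F} (h : a • v = b • v) : a = b := by
  have h3 : (a - b) • v = 0 := by rw [sub_smul, h, sub_self]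
  rcases smul_eq_zero.mp h3 with h4 | h4
  · exact sub_eq_zero.mp h4
  · exact absurd h4 hv

namespace LineMap

variable {p q : ι → F} {φ : (ι → F) → (ι → F)}

theorem zero (h : LineMap Q p q φ) : φ 0 = 0 := by
  have h1 := h.add 0 0
  rw [add_zero] at h1
  have h2 : φ 0 + 0 = φ 0 + φ 0 := by rw [add_zero]; exact h1
  exact (add_left_cancel h2).symm

theorem neg (h : LineMap Q p q φ) (x : ι → F) : φ (-x) = -φ x := by
  have h1 := h.add x (-x)
  rw [add_neg_cancel, h.zero] at h1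
  exact eq_neg_of_add_eq_zero_right h1.symm

theorem sub (h : LineMap Q p q φ) (x y : ι → F) : φ (x - y) = φ x - φ y := by
  rw [sub_eq_add_neg, h.add, h.neg, ← sub_eq_add_neg]

theorem inj' (h : LineMap Q p q φ) (x y : ι → F) (hx : InW Q p q x) (hy : InW Q p q y)
    (hxy : φ x = φ y) : x = y := by
  have h1 : φ (x - y) = 0 := by rw [h.sub, hxy, sub_self]
  exact sub_eq_zero.mp (h.inj _ (hx.sub hy) h1)

theorem ne_zero (h : LineMap Q p q φ) (b : ι → F) (hb : InW Q p q b) (hb0 : b ≠ 0) : φ b ≠ 0 :=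
  fun h0 => hb0 (h.inj b hb h0)

theorem sigma_inj (h : LineMap Q p q φ) (b : ι → F) (hb : InW Q p q b) (hb0 : b ≠ 0) (σ : F → F)
    (hσ : ∀ t, φ (t • b) = σ t • φ b) : Function.Injective σ := by
  intro s t hst
  have h1 : φ (s • b) = φ (t • b) := by rw [hσ, hσ, hst]
  exact smul_cancel_of_ne hb0 (h.inj' _ _ (hb.smul s) (hb.smul t) h1)

/-- Propagation of the scalar function along orthogonal singular vectors. -/
theorem factA (h : LineMap Q p q φ) (b b' : ι → F) (hb : InW Q p q b) (hb' : InW Q p q b')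
    (hQb : Q b = 0) (hQb' : Q b' = 0) (hbb' : polar Q b b' = 0) (hb0 : b ≠ 0)
    (hind : ¬ ∃ t : F, b' = t • b) (σ : F → F) (hσ : ∀ t, φ (t • b) = σ t • φ b) :
    (∀ t, φ (t • b') = σ t • φ b') ∧ (∀ t, φ (t • (b + b')) = σ t • φ (b + b')) := by
  have hφb : φ b ≠ 0 := h.ne_zero b hb hb0
  have hσsurj : Function.Surjective σ :=
    Finite.injective_iff_surjective.mp (h.sigma_inj b hb hb0 σ hσ)
  have hind' : ∀ κ : F, φ b' ≠ κ • φ b := by
    intro κ hκ
    obtain ⟨t₀, ht₀⟩ := hσsurj κ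
    rw [← ht₀, ← hσ] at hκ
    exact hind ⟨t₀, h.inj' _ _ hb' (hb.smul t₀) hκ⟩
  have hQbb : Q (b + b') = 0 := by
    rw [QuadraticMap.map_add Q, hQb, hQb', hbb']
    simp
  have key : ∀ t, φ (t • b') = σ t • φ b' ∧ φ (t • (b + b')) = σ t • φ (b + b') := by
    intro t
    obtain ⟨τ', hτ'⟩ := (h.line (b + b') (hb.add hb') hQbb).2 t
    obtain ⟨τ'', hτ''⟩ := (h.line b' hb' hQb').2 t
    have e : (τ' - σ t) • φ b + (τ' - τ'') • φ b' = 0 := by
      have h1 : φ (t • (b + b')) = τ' • (φ b + φ b') := by rw [hτ', h.add]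
      have h2 : φ (t • (b + b')) = σ t • φ b + τ'' • φ b' := by rw [smul_add, h.add, hσ, hτ'']
      rw [h1] at h2
      funext i
      have h3 := congrFun h2 i
      simp only [Pi.add_apply, Pi.smul_apply, smul_eq_mul, Pi.zero_apply] at h3 ⊢
      linear_combination h3
    by_cases hd : τ' - τ'' = 0
    · rw [hd, zero_smul, add_zero] at e
      have h4 : τ' - σ t = 0 := (smul_eq_zero.mp e).resolve_right hφb
      have e1 : τ' = σ t := sub_eq_zero.mp h4
      have e2 : τ'' = σ t := by rw [← e1]; exact (sub_eq_zero.mp hd).symm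
      exact ⟨by rw [hτ'', e2], by rw [hτ', e1]⟩
    · exfalso
      have hd' : τ' - τ'' ≠ 0 := hd
      apply hind' (-(τ' - σ t) / (τ' - τ''))
      funext i
      have h3 := congrFun e i
      simp only [Pi.add_apply, Pi.smul_apply, smul_eq_mul, Pi.zero_apply] at h3 ⊢
      field_simp
      linear_combination h3
  exact ⟨fun t => (key t).1, fun t => (key t).2⟩

end LineMap

/-- The main result of this file. -/
theorem semilinear_of_lines (p q e₁ f₁ e₂ f₂ : ι → F) (fw : WFrame Q p q e₁ f₁ e₂ f₂)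
    (φ : (ι → F) → (ι → F)) (h : LineMap Q p q φ) :
    ∃ (σ : F ≃+* F) (c : F), c ≠ 0 ∧
      (∀ x, InW Q p q x → ∀ t : F, φ (t • x) = σ t • φ x) ∧
      (∀ x, InW Q p q x → Q (φ x) = c * σ (Q x)) := by
  have he₁0 : e₁ ≠ 0 := by
    rintro rfl
    have h1 := fw.e₁f₁
    rw [polar_zero_left] at h1
    exact zero_ne_one h1
  have he₂0 : e₂ ≠ 0 := by
    rintro rfl
    have h1 := fw.e₂f₂
    rw [polar_zero_left] at h1
    exact zero_ne_one h1
  have hf₁e₁ : polar Q f₁ e₁ = 1 := by rw [polar_comm Q f₁ e₁]; exact fw.e₁f₁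
  have hf₂e₂ : polar Q f₂ e₂ = 1 := by rw [polar_comm Q f₂ e₂]; exact fw.e₂f₂
  have he₂e₁ : polar Q e₂ e₁ = 0 := by rw [polar_comm Q e₂ e₁]; exact fw.e₁e₂
  have he₂f₁ : polar Q e₂ f₁ = 0 := by rw [polar_comm Q e₂ f₁]; exact fw.f₁e₂
  have hf₂e₁ : polar Q f₂ e₁ = 0 := by rw [polar_comm Q f₂ e₁]; exact fw.e₁f₂
  have hf₂f₁ : polar Q f₂ f₁ = 0 := by rw [polar_comm Q f₂ f₁]; exact fw.f₁f₂
  have he₁e₁ : polar Q e₁ e₁ = 0 := by rw [polar_self, fw.Qe₁, smul_zero]
  have he₂e₂ : polar Q e₂ e₂ = 0 := by rw [polar_self, fw.Qe₂, smul_zero]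
  have hf₁f₁ : polar Q f₁ f₁ = 0 := by rw [polar_self, fw.Qf₁, smul_zero]
  have hf₂f₂ : polar Q f₂ f₂ = 0 := by rw [polar_self, fw.Qf₂, smul_zero]
  choose σ hσ using (h.line e₁ fw.he₁ fw.Qe₁).2
  have hQsm : ∀ (v : ι → F) (t : F), Q v = 0 → Q (t • v) = 0 := by
    intro v t hv
    rw [QuadraticMap.map_smul, hv, smul_zero]
  -- the span of `e₁, e₂`
  have P_e₂ : ∀ t, φ (t • e₂) = σ t • φ e₂ :=
    (h.factA e₁ e₂ fw.he₁ fw.he₂ fw.Qe₁ fw.Qe₂ fw.e₁e₂ he₁0 (by
      rintro ⟨t, ht⟩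
      have h1 := fw.e₂f₂
      rw [ht, polar_smul_left, fw.e₁f₂, smul_zero] at h1
      exact zero_ne_one h1) σ hσ).1
  have PE : ∀ (l m : F), (l ≠ 0 ∨ m ≠ 0) →
      ∀ t, φ (t • (l • e₁ + m • e₂)) = σ t • φ (l • e₁ + m • e₂) := by
    intro l m hlm
    by_cases hl : l = 0
    · subst hl
      have hm : m ≠ 0 := by
        rcases hlm with h1 | h1
        · exact absurd rfl h1
        · exact h1
      rw [zero_smul, zero_add]
      exact (h.factA e₁ (m • e₂) fw.he₁ (fw.he₂.smul m) fw.Qe₁ (hQsm e₂ m fw.Qe₂)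
        (by rw [polar_smul_right, fw.e₁e₂, smul_zero]) he₁0 (by
          rintro ⟨t, ht⟩
          have h1 := congrArg (fun v => polar Q v f₂) ht
          simp only [polar_smul_left, fw.e₂f₂, fw.e₁f₂, smul_eq_mul, mul_one, mul_zero] at h1
          exact hm h1) σ hσ).1
    · have Pl : ∀ t, φ (t • (l • e₁)) = σ t • φ (l • e₁) :=
        (h.factA e₂ (l • e₁) fw.he₂ (fw.he₁.smul l) fw.Qe₂ (hQsm e₁ l fw.Qe₁)
          (by rw [polar_smul_right, he₂e₁, smul_zero]) he₂0 (by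
            rintro ⟨t, ht⟩
            have h1 := congrArg (fun v => polar Q v f₁) ht
            simp only [polar_smul_left, fw.e₁f₁, he₂f₁, smul_eq_mul, mul_one, mul_zero] at h1
            exact hl h1) σ P_e₂).1
      by_cases hm : m = 0
      · subst hm
        rw [zero_smul, add_zero]
        exact Pl
      · exact (h.factA (l • e₁) (m • e₂) (fw.he₁.smul l) (fw.he₂.smul m) (hQsm e₁ l fw.Qe₁)
          (hQsm e₂ m fw.Qe₂)
          (by rw [polar_smul_left, polar_smul_right, fw.e₁e₂, smul_zero, smul_zero])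
          (by
            intro h0
            rcases smul_eq_zero.mp h0 with h1 | h1
            · exact hl h1
            · exact he₁0 h1)
          (by
            rintro ⟨t, ht⟩
            have h1 := congrArg (fun v => polar Q v f₂) ht
            simp only [polar_smul_left, fw.e₂f₂, fw.e₁f₂, smul_eq_mul, mul_one, mul_zero] at h1
            exact hm h1) σ Pl).2
  -- all singular vectors of `W`
  have PS : ∀ b, InW Q p q b → Q b = 0 → ∀ t, φ (t • b) = σ t • φ b := by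
    intro b hb hQb
    by_cases hb0 : b = 0
    · subst hb0
      intro t
      rw [smul_zero, h.zero, smul_zero]
    by_cases hbE : ∃ l m : F, b = l • e₁ + m • e₂
    · obtain ⟨l, m, rfl⟩ := hbE
      apply PE
      by_contra hcon
      push Not at hcon
      apply hb0
      rw [hcon.1, hcon.2]
      simp
    · obtain ⟨l, m, hlm, hc⟩ : ∃ l m : F, (l ≠ 0 ∨ m ≠ 0) ∧ polar Q (l • e₁ + m • e₂) b = 0 := by
        by_cases h1 : polar Q e₁ b = 0
        · exact ⟨1, 0, Or.inl one_ne_zero, by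
            rw [polar_add_left, polar_smul_left, polar_smul_left, h1]
            simp⟩
        · exact ⟨polar Q e₂ b, -polar Q e₁ b, Or.inr (neg_ne_zero.mpr h1), by
            rw [polar_add_left, polar_smul_left, polar_smul_left]
            simp only [smul_eq_mul]
            ring⟩
      have hc0 : l • e₁ + m • e₂ ≠ 0 := by
        intro h0
        have h1 := congrArg (fun v => polar Q v f₁) h0
        have h2 := congrArg (fun v => polar Q v f₂) h0
        simp only [polar_add_left, polar_smul_left, fw.e₁f₁, he₂f₁, smul_eq_mul, mul_one, mul_zero,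
          add_zero, polar_zero_left] at h1
        simp only [polar_add_left, polar_smul_left, fw.e₂f₂, fw.e₁f₂, smul_eq_mul, mul_one, mul_zero,
          zero_add, polar_zero_left] at h2
        rcases hlm with h3 | h3
        · exact h3 h1
        · exact h3 h2
      have hQc : Q (l • e₁ + m • e₂) = 0 := by
        rw [QuadraticMap.map_add Q, hQsm e₁ l fw.Qe₁, hQsm e₂ m fw.Qe₂, polar_smul_left,
          polar_smul_right, fw.e₁e₂]
        simp
      exact (h.factA (l • e₁ + m • e₂) b ((fw.he₁.smul l).add (fw.he₂.smul m)) hb hQc hQb hc hc0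
        (fun ⟨t, ht⟩ => hbE ⟨t * l, t * m, by rw [ht, smul_add, smul_smul, smul_smul]⟩) σ
        (PE l m hlm)).1
  -- `σ` is a field automorphism
  have hφe₁ : φ e₁ ≠ 0 := h.ne_zero e₁ fw.he₁ he₁0
  have σ1 : σ 1 = 1 := by
    have h1 := hσ 1
    rw [one_smul] at h1
    have h2 : σ 1 • φ e₁ = (1 : F) • φ e₁ := by rw [one_smul]; exact h1.symm
    exact smul_cancel_of_ne hφe₁ h2
  have σadd : ∀ s t, σ (s + t) = σ s + σ t := by
    intro s t
    apply smul_cancel_of_ne hφe₁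
    rw [← hσ, add_smul, h.add, hσ, hσ, add_smul]
  have σmul : ∀ s t, σ (s * t) = σ s * σ t := by
    intro s t
    apply smul_cancel_of_ne hφe₁
    rw [← hσ, mul_smul, PS (t • e₁) (fw.he₁.smul t) (hQsm e₁ t fw.Qe₁) s, hσ, smul_smul]
  have σ0 : σ 0 = 0 := by
    have h1 := σadd 0 0
    rw [add_zero] at h1
    have h2 : σ 0 + 0 = σ 0 + σ 0 := by rw [add_zero]; exact h1
    exact (add_left_cancel h2).symm
  have σinj : Function.Injective σ := h.sigma_inj e₁ fw.he₁ he₁0 σ hσ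
  have σsurj : Function.Surjective σ := Finite.injective_iff_surjective.mp σinj
  let σ' : F →+* F :=
    { toFun := σ, map_one' := σ1, map_mul' := σmul, map_zero' := σ0, map_add' := σadd }
  let σe : F ≃+* F := RingEquiv.ofBijective σ' ⟨σinj, σsurj⟩
  have hσe : ∀ t, σe t = σ t := fun t => rfl
  -- semilinearity on `W`
  have S2 : ∀ x, InW Q p q x → ∀ t : F, φ (t • x) = σ t • φ x := by
    intro x hx t
    obtain ⟨hz1, hz2⟩ := polar_hypComp Q e₁ f₁ x fw.Qe₁ fw.Qf₁ fw.e₁f₁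
    obtain ⟨z, hz⟩ : ∃ z, z = x - polar Q x f₁ • e₁ - polar Q x e₁ • f₁ := ⟨_, rfl⟩
    rw [← hz] at hz1 hz2
    have hzW : InW Q p q z := by
      rw [hz]
      exact (hx.sub (fw.he₁.smul _)).sub (fw.hf₁.smul _)
    have hs₁ : Q (z + f₁ - Q z • e₁) = 0 :=
      singular_of_orth_hyp Q e₁ f₁ z fw.Qe₁ fw.Qf₁ fw.e₁f₁ hz1 hz2
    have hs₁W : InW Q p q (z + f₁ - Q z • e₁) := (hzW.add fw.hf₁).sub (fw.he₁.smul _)
    have ex : x = (z + f₁ - Q z • e₁) + (polar Q x f₁ + Q z) • e₁ + (polar Q x e₁ - 1) • f₁ := by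
      rw [hz]
      funext i
      simp only [Pi.add_apply, Pi.sub_apply, Pi.smul_apply, smul_eq_mul]
      ring
    have r1 := PS _ hs₁W hs₁ t
    have r2 := PS _ (fw.he₁.smul (polar Q x f₁ + Q z)) (hQsm e₁ _ fw.Qe₁) t
    have r3 := PS _ (fw.hf₁.smul (polar Q x e₁ - 1)) (hQsm f₁ _ fw.Qf₁) t
    have r4 : φ (t • x) = σ t • φ (z + f₁ - Q z • e₁) + σ t • φ ((polar Q x f₁ + Q z) • e₁)
        + σ t • φ ((polar Q x e₁ - 1) • f₁) := by
      conv_lhs => rw [ex]
      rw [smul_add, smul_add, h.add, h.add, r1, r2, r3]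
    have r5 : φ x = φ (z + f₁ - Q z • e₁) + φ ((polar Q x f₁ + Q z) • e₁)
        + φ ((polar Q x e₁ - 1) • f₁) := by
      conv_lhs => rw [ex]
      rw [h.add, h.add]
    rw [r4, r5, smul_add, smul_add]
  -- the form
  have hQφ : ∀ b, InW Q p q b → Q b = 0 → Q (φ b) = 0 := fun b hb hQb => (h.line b hb hQb).1
  have Q1 : ∀ z, InW Q p q z → Q z = 0 → polar Q z e₁ = 0 → polar Q z f₁ = 0 →
      polar Q (φ z) (φ e₁) = 0 ∧ polar Q (φ z) (φ f₁) = 0 := by
    intro z hzW hQz hze hzf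
    constructor
    · have h1 : Q (z + e₁) = 0 := by
        rw [QuadraticMap.map_add Q, hQz, fw.Qe₁, hze]
        simp
      have h2 := hQφ _ (hzW.add fw.he₁) h1
      rw [h.add, QuadraticMap.map_add Q, hQφ z hzW hQz, hQφ e₁ fw.he₁ fw.Qe₁] at h2
      simpa using h2
    · have h1 : Q (z + f₁) = 0 := by
        rw [QuadraticMap.map_add Q, hQz, fw.Qf₁, hzf]
        simp
      have h2 := hQφ _ (hzW.add fw.hf₁) h1
      rw [h.add, QuadraticMap.map_add Q, hQφ z hzW hQz, hQφ f₁ fw.hf₁ fw.Qf₁] at h2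
      simpa using h2
  have Q2 : ∀ z, InW Q p q z → polar Q z e₁ = 0 → polar Q z f₁ = 0 →
      polar Q (φ z) (φ e₁) = 0 ∧ polar Q (φ z) (φ f₁) = 0 := by
    intro z hzW hze hzf
    obtain ⟨hy1, hy2⟩ := polar_hypComp Q e₂ f₂ z fw.Qe₂ fw.Qf₂ fw.e₂f₂
    obtain ⟨y, hy⟩ : ∃ y, y = z - polar Q z f₂ • e₂ - polar Q z e₂ • f₂ := ⟨_, rfl⟩
    rw [← hy] at hy1 hy2
    have hyW : InW Q p q y := by
      rw [hy]
      exact (hzW.sub (fw.he₂.smul _)).sub (fw.hf₂.smul _)
    have hye : polar Q y e₁ = 0 := by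
      rw [hy, polar_sub_left, polar_sub_left, polar_smul_left, polar_smul_left, hze, he₂e₁, hf₂e₁]
      simp
    have hyf : polar Q y f₁ = 0 := by
      rw [hy, polar_sub_left, polar_sub_left, polar_smul_left, polar_smul_left, hzf, he₂f₁, hf₂f₁]
      simp
    have hs₁ : Q (y + f₂ - Q y • e₂) = 0 :=
      singular_of_orth_hyp Q e₂ f₂ y fw.Qe₂ fw.Qf₂ fw.e₂f₂ hy1 hy2
    have hs₁W : InW Q p q (y + f₂ - Q y • e₂) := (hyW.add fw.hf₂).sub (fw.he₂.smul _)
    have ex : z = (y + f₂ - Q y • e₂) + (polar Q z f₂ + Q y) • e₂ + (polar Q z e₂ - 1) • f₂ := by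
      rw [hy]
      funext i
      simp only [Pi.add_apply, Pi.sub_apply, Pi.smul_apply, smul_eq_mul]
      ring
    have a1 := Q1 (y + f₂ - Q y • e₂) hs₁W hs₁
      (by rw [polar_sub_left, polar_add_left, polar_smul_left, hye, hf₂e₁, he₂e₁]; simp)
      (by rw [polar_sub_left, polar_add_left, polar_smul_left, hyf, hf₂f₁, he₂f₁]; simp)
    have a2 := Q1 ((polar Q z f₂ + Q y) • e₂) (fw.he₂.smul _) (hQsm e₂ _ fw.Qe₂)
      (by rw [polar_smul_left, he₂e₁, smul_zero]) (by rw [polar_smul_left, he₂f₁, smul_zero])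
    have a3 := Q1 ((polar Q z e₂ - 1) • f₂) (fw.hf₂.smul _) (hQsm f₂ _ fw.Qf₂)
      (by rw [polar_smul_left, hf₂e₁, smul_zero]) (by rw [polar_smul_left, hf₂f₁, smul_zero])
    have r5 : φ z = φ (y + f₂ - Q y • e₂) + φ ((polar Q z f₂ + Q y) • e₂)
        + φ ((polar Q z e₂ - 1) • f₂) := by
      conv_lhs => rw [ex]
      rw [h.add, h.add]
    rw [r5]
    constructor
    · rw [polar_add_left, polar_add_left, a1.1, a2.1, a3.1]
      simp
    · rw [polar_add_left, polar_add_left, a1.2, a2.2, a3.2]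
      simp
  obtain ⟨c, hc⟩ : ∃ c : F, c = polar Q (φ e₁) (φ f₁) := ⟨_, rfl⟩
  have Q3 : ∀ z, InW Q p q z → polar Q z e₁ = 0 → polar Q z f₁ = 0 → Q (φ z) = c * σ (Q z) := by
    intro z hzW hze hzf
    have hs : Q (z + f₁ - Q z • e₁) = 0 :=
      singular_of_orth_hyp Q e₁ f₁ z fw.Qe₁ fw.Qf₁ fw.e₁f₁ hze hzf
    have hsW : InW Q p q (z + f₁ - Q z • e₁) := (hzW.add fw.hf₁).sub (fw.he₁.smul _)
    have h1 := hQφ _ hsW hs
    obtain ⟨b1, b2⟩ := Q2 z hzW hze hzf
    have e1 : φ (z + f₁ - Q z • e₁) = φ z + (φ f₁ + (-σ (Q z)) • φ e₁) := by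
      rw [h.sub, h.add, hσ, neg_smul]
      abel
    rw [e1, QuadraticMap.map_add Q, QuadraticMap.map_add Q, QuadraticMap.map_smul,
      hQφ f₁ fw.hf₁ fw.Qf₁, hQφ e₁ fw.he₁ fw.Qe₁, polar_add_right, polar_smul_right,
      polar_smul_right, b1, b2, polar_comm Q (φ f₁) (φ e₁), ← hc] at h1
    simp only [smul_eq_mul, mul_zero, add_zero, zero_add] at h1
    linear_combination h1
  have Q4 : ∀ x, InW Q p q x → Q (φ x) = c * σ (Q x) := by
    intro x hx
    obtain ⟨hz1, hz2⟩ := polar_hypComp Q e₁ f₁ x fw.Qe₁ fw.Qf₁ fw.e₁f₁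
    obtain ⟨z, hz⟩ : ∃ z, z = x - polar Q x f₁ • e₁ - polar Q x e₁ • f₁ := ⟨_, rfl⟩
    rw [← hz] at hz1 hz2
    have hzW : InW Q p q z := by
      rw [hz]
      exact (hx.sub (fw.he₁.smul _)).sub (fw.hf₁.smul _)
    obtain ⟨b1, b2⟩ := Q2 z hzW hz1 hz2
    have ex : x = z + (polar Q x f₁ • e₁ + polar Q x e₁ • f₁) := by
      rw [hz]
      abel
    have e1 : φ x = φ z + (σ (polar Q x f₁) • φ e₁ + σ (polar Q x e₁) • φ f₁) := by
      conv_lhs => rw [ex]
      rw [h.add, h.add, hσ, PS f₁ fw.hf₁ fw.Qf₁]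
    have e2 : Q x = Q z + polar Q x f₁ * polar Q x e₁ := by
      conv_lhs => rw [ex]
      rw [QuadraticMap.map_add Q, QuadraticMap.map_add Q, QuadraticMap.map_smul,
        QuadraticMap.map_smul, fw.Qe₁, fw.Qf₁, polar_smul_left, polar_smul_right, fw.e₁f₁,
        polar_add_right, polar_smul_right, polar_smul_right, hz1, hz2]
      simp
    rw [e1, QuadraticMap.map_add Q, QuadraticMap.map_add Q, QuadraticMap.map_smul,
      QuadraticMap.map_smul, hQφ f₁ fw.hf₁ fw.Qf₁, hQφ e₁ fw.he₁ fw.Qe₁, polar_add_right,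
      polar_smul_right, polar_smul_right, polar_smul_left, polar_smul_right, b1, b2, ← hc,
      Q3 z hzW hz1 hz2, e2, σadd, σmul]
    simp only [smul_eq_mul, mul_zero, add_zero, zero_add]
    ring
  have hc0 : c ≠ 0 := by
    intro h0
    obtain ⟨x, hx, hφx⟩ := h.surj (e₁ + f₁) (fw.he₁.add fw.hf₁)
    have h1 := Q4 x hx
    rw [hφx, h0, zero_mul, QuadraticMap.map_add Q, fw.Qe₁, fw.Qf₁, fw.e₁f₁] at h1
    simp at h1
  exact ⟨σe, c, hc0, fun x hx t => by rw [hσe]; exact S2 x hx t,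
    fun x hx => by rw [hσe]; exact Q4 x hx⟩

end Semi

end Cfsg.Agent.Lib.helper49.AutOm
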