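/-
Automorphisms of `PΩ(Q)`, part 7: the additive maps `φ`, `ψ` attached to an automorphism fixing
the two root groups of a hyperbolic pair, and their relations.
-/
import Mathlib
import Cfsg.Agent.Lib.helper49.AutOmega6

set_option autoImplicit false

namespace Cfsg.Agent.Lib.helper49.AutOm

open Matrix Module QuadraticMap
open Cfsg.Agent.Lib.helper49 Cfsg.Agent.Lib.helper42

section Recon

variable {F : Type*} [Field F] [Fintype F] {ι : Type} [Fintype ι] [DecidableEq ι]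
variable (Q : QuadraticForm F (ι → F))

theorem eichG_swap (a b : ι → F) (ha : Q a = 0) (hb : Q b = 0) (hab : polar Q a b = 0) :
    eichG Q a b = eichG Q b (-a) := by
  have hba : polar Q b a = 0 := by rw [polar_comm]; exact hab
  have hba' : polar Q b (-a) = 0 := by rw [polar_neg_right, hba, neg_zero]
  apply isoAct_ext
  intro x
  rw [isoAct_eichG Q a b ha hab, isoAct_eichG Q b (-a) hb hba', hb, zero_mul, sub_zero,
    polar_neg_left, QuadraticMap.map_neg, ha, zero_mul, sub_zero]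
  module

/-- The projection to the orthogonal complement of a hyperbolic pair. -/
def prW (e f x : ι → F) : ι → F := x - polar Q x f • e - polar Q x e • f

variable {Q}

theorem prW_mem {e f : ι → F} (he : Q e = 0) (hf : Q f = 0) (hef : polar Q e f = 1) (x : ι → F) :
    InW Q e f (prW Q e f x) := by
  have hee : polar Q e e = 0 := by rw [polar_self, he, smul_zero]
  have hff : polar Q f f = 0 := by rw [polar_self, hf, smul_zero]
  have hfe : polar Q f e = 1 := by rw [polar_comm]; exact hef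
  constructor
  · unfold prW
    rw [polar_sub_right, polar_sub_right, polar_smul_right, polar_smul_right, hee, hef,
      polar_comm Q e x]
    simp
  · unfold prW
    rw [polar_sub_right, polar_sub_right, polar_smul_right, polar_smul_right, hff, hfe,
      polar_comm Q f x]
    simp

theorem prW_of_mem {e f x : ι → F} (hx : InW Q e f x) : prW Q e f x = x := by
  unfold prW
  rw [polar_comm Q x f, hx.2, polar_comm Q x e, hx.1, zero_smul, zero_smul, sub_zero, sub_zero]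

theorem prW_add (e f x y : ι → F) : prW Q e f (x + y) = prW Q e f x + prW Q e f y := by
  unfold prW
  rw [polar_add_left, polar_add_left, add_smul, add_smul]
  abel

theorem prW_smul (e f : ι → F) (t : F) (x : ι → F) : prW Q e f (t • x) = t • prW Q e f x := by
  unfold prW
  rw [polar_smul_left, polar_smul_left, smul_sub, smul_sub, smul_eq_mul, smul_eq_mul, mul_smul,
    mul_smul]

theorem prW_swap (e f x : ι → F) : prW Q f e x = prW Q e f x := by
  unfold prW
  abel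

theorem self_eq_prW_add (e f x : ι → F) :
    x = polar Q x f • e + polar Q x e • f + prW Q e f x := by
  unfold prW
  abel

theorem exists_nonsing_orth {e f e₁ f₁ e₂ f₂ : ι → F} (fw : WFrame Q e f e₁ f₁ e₂ f₂) (u : ι → F) :
    ∃ y, InW Q e f y ∧ Q y ≠ 0 ∧ polar Q u y = 0 := by
  have hQ11 : Q (e₁ + f₁) = 1 := by
    rw [QuadraticMap.map_add (⇑Q), fw.Qe₁, fw.Qf₁, fw.e₁f₁]; simp
  by_cases h1 : polar Q u e₂ = 0
  · by_cases h2 : polar Q u f₂ = 0
    · refine ⟨e₂ + f₂, fw.he₂.add fw.hf₂, ?_, ?_⟩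
      · rw [QuadraticMap.map_add (⇑Q), fw.Qe₂, fw.Qf₂, fw.e₂f₂]; simp
      · rw [polar_add_right, h1, h2, add_zero]
    · refine ⟨e₁ + f₁ + (-(polar Q u e₁ + polar Q u f₁) / polar Q u f₂) • f₂,
        (fw.he₁.add fw.hf₁).add (fw.hf₂.smul _), ?_, ?_⟩
      · rw [QuadraticMap.map_add (⇑Q), hQ11, QuadraticMap.map_smul, fw.Qf₂, polar_smul_right,
          polar_add_left, fw.e₁f₂, fw.f₁f₂]
        simp
      · rw [polar_add_right, polar_add_right, polar_smul_right, smul_eq_mul]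
        field_simp
        ring
  · refine ⟨e₁ + f₁ + (-(polar Q u e₁ + polar Q u f₁) / polar Q u e₂) • e₂,
      (fw.he₁.add fw.hf₁).add (fw.he₂.smul _), ?_, ?_⟩
    · rw [QuadraticMap.map_add (⇑Q), hQ11, QuadraticMap.map_smul, fw.Qe₂, polar_smul_right,
        polar_add_left, fw.e₁e₂, fw.f₁e₂]
      simp
    · rw [polar_add_right, polar_add_right, polar_smul_right, smul_eq_mul]
      field_simp
      ring

theorem psi_eq {e f e₁ f₁ e₂ f₂ : ι → F} (fw : WFrame Q e f e₁ f₁ e₂ f₂)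
    (φ ψ : (ι → F) → (ι → F))
    (hφadd : ∀ x y, φ (x + y) = φ x + φ y) (hψadd : ∀ x y, ψ (x + y) = ψ x + ψ y)
    (σ : F ≃+* F) (c : F)
    (hφσ : ∀ x, InW Q e f x → ∀ t : F, φ (t • x) = σ t • φ x)
    (hφQ : ∀ x, InW Q e f x → Q (φ x) = c * σ (Q x))
    (hN : ∀ w, InW Q e f w → Q w ≠ 0 → ψ ((Q w)⁻¹ • w) = (Q (φ w))⁻¹ • φ w) :
    ∀ u, InW Q e f u → ψ u = c⁻¹ • φ u := by
  have key : ∀ u, InW Q e f u → Q u ≠ 0 → ψ u = c⁻¹ • φ u := by
    intro u hu hQu
    have hw : InW Q e f ((Q u)⁻¹ • u) := hu.smul _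
    have hQw : Q ((Q u)⁻¹ • u) = (Q u)⁻¹ := by
      rw [QuadraticMap.map_smul, smul_eq_mul, mul_assoc, inv_mul_cancel₀ hQu, mul_one]
    have h1 := hN _ hw (by rw [hQw]; exact inv_ne_zero hQu)
    rw [hQw, inv_inv, smul_smul, mul_inv_cancel₀ hQu, one_smul, hφQ _ hw, hQw, hφσ u hu] at h1
    have hs : σ ((Q u)⁻¹) ≠ 0 := (RingEquiv.map_ne_zero_iff σ).mpr (inv_ne_zero hQu)
    rw [h1, smul_smul, mul_inv, mul_assoc, inv_mul_cancel₀ hs, mul_one]
  intro u hu
  by_cases hQu : Q u = 0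
  · obtain ⟨y, hy, hQy, huy⟩ := exists_nonsing_orth fw u
    have h1 : Q (u + y) ≠ 0 := by
      rw [QuadraticMap.map_add (⇑Q), hQu, huy, zero_add, add_zero]; exact hQy
    have h2 := key (u + y) (hu.add hy) h1
    have h3 := key y hy hQy
    rw [hψadd, hφadd, h3, smul_add] at h2
    exact add_right_cancel h2
  · exact key u hu hQu

theorem N_apply {e f w u : ι → F} (he : Q e = 0) (hf : Q f = 0) (hef : polar Q e f = 1)
    (hw : InW Q e f w) (hu : InW Q e f u) :
    isoAct (⇑Q) (eichG Q e w * eichG Q f u * eichG Q e w) e =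
      (1 + Q u * Q w - polar Q w u) • e - Q u • f + (Q u • w - u) := by
  have hfe : polar Q f e = 1 := by rw [polar_comm]; exact hef
  have h1 : polar Q u e = 0 := by rw [polar_comm]; exact hu.1
  have h2 : polar Q w f = 0 := by rw [polar_comm]; exact hw.2
  rw [isoAct_mul, isoAct_mul, eichG_apply_self Q e w he hw.1, isoAct_eichG Q f u hf hu.2 e,
    isoAct_sub, isoAct_add, isoAct_smul, isoAct_smul, eichG_apply_self Q e w he hw.1,
    isoAct_eichG Q e w he hw.1 f, isoAct_eichG Q e w he hw.1 u, h1, hfe, h2, hef, hu.1]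
  module

variable (Q) (hQ : (polarBilin Q).Nondegenerate) (hn : 7 ≤ Fintype.card ι)

/-- `β` maps the projective root group of `a` onto itself. -/
def FixRoot (β : MulAut (Cfsg.POmega F ⇑Q)) (a : ι → F) : Prop :=
  (∀ w, polar Q a w = 0 → ∃ w', polar Q a w' = 0 ∧
      β (qm Q (rhoO Q hQ hn a w)) = qm Q (rhoO Q hQ hn a w')) ∧
  (∀ w', polar Q a w' = 0 → ∃ w, polar Q a w = 0 ∧
      β (qm Q (rhoO Q hQ hn a w)) = qm Q (rhoO Q hQ hn a w'))

theorem rhoO_prW (e f : ι → F) (he : Q e = 0) (hf : Q f = 0) (hef : polar Q e f = 1) (w : ι → F)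
    (hw : polar Q e w = 0) : rhoO Q hQ hn e (prW Q e f w) = rhoO Q hQ hn e w := by
  have h1 : w = prW Q e f w + polar Q w f • e := by
    unfold prW
    rw [polar_comm Q w e, hw, zero_smul, sub_zero, sub_add_cancel]
  conv_rhs => rw [h1]
  rw [rhoO_add_smul Q hQ hn e (prW Q e f w) _ he (prW_mem he hf hef w).1]

variable (fr : HypFrame3 Q) (p : ℕ) [Fact p.Prime] [CharP F p]

include hQ fr in
theorem root_inj (e f : ι → F) (he : Q e = 0) (hef : polar Q e f = 1) (w₁ w₂ : ι → F)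
    (h₁ : InW Q e f w₁) (h₂ : InW Q e f w₂)
    (h : qm Q (rhoO Q hQ hn e w₁) = qm Q (rhoO Q hQ hn e w₂)) : w₁ = w₂ := by
  have he0 : e ≠ 0 := by
    rintro rfl
    rw [polar_zero_left] at hef
    exact zero_ne_one hef
  have h1 := rho_eq_of_qm_eq Q hQ hn fr e w₁ e w₂ he0 he h₁.1 he h₂.1 h
  obtain ⟨t, ht⟩ := eichG_eq_imp Q hQ e w₁ w₂ he0 he h₁.1 h₂.1 h1
  have h2 : polar Q f (w₁ - w₂) = 0 := by rw [polar_sub_right, h₁.2, h₂.2, sub_zero]
  rw [ht, polar_smul_right, polar_comm Q f e, hef, smul_eq_mul, mul_one] at h2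
  rw [h2, zero_smul] at ht
  exact sub_eq_zero.mp ht

include hQ hn fr p in
theorem phi_line (h5 : ∀ S : Submodule F (ι → F), (∀ s ∈ S, Q s = 0) →
      (∀ x, (∀ s ∈ S, polar Q s x = 0) → x ∈ S) → 5 ≤ finrank F S)
    (β : MulAut (Cfsg.POmega F ⇑Q)) (e f : ι → F) (he : Q e = 0)
    (hef : polar Q e f = 1) (hβ : FixRoot Q hQ hn β e) (φ : (ι → F) → (ι → F))
    (hadd : ∀ x y, φ (x + y) = φ x + φ y)
    (hφ : ∀ x, InW Q e f (φ x))
    (hφβ : ∀ w, InW Q e f w → β (qm Q (rhoO Q hQ hn e w)) = qm Q (rhoO Q hQ hn e (φ w)))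
    (hinj : ∀ x, InW Q e f x → φ x = 0 → x = 0)
    (b : ι → F) (hb : InW Q e f b) (hQb : Q b = 0) :
    Q (φ b) = 0 ∧ ∀ t : F, ∃ t' : F, φ (t • b) = t' • φ b := by
  have he0 : e ≠ 0 := by
    rintro rfl
    rw [polar_zero_left] at hef
    exact zero_ne_one hef
  have hfe : polar Q f e = 1 := by rw [polar_comm]; exact hef
  have hφ0 : φ 0 = 0 := by
    have h := hadd 0 0
    rw [add_zero] at h
    exact add_left_cancel (a := φ 0) (by rw [add_zero]; exact h.symm)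
  by_cases hb0 : b = 0
  · subst hb0
    exact ⟨by rw [hφ0, map_zero], fun t => ⟨0, by rw [smul_zero, hφ0, smul_zero]⟩⟩
  obtain ⟨b', hb'0, hQb', hfw, hbw⟩ := root_image Q hQ hn fr p h5 β b hb0 hQb
  have hbe : polar Q b e = 0 := by rw [polar_comm]; exact hb.1
  have hbf : polar Q b f = 0 := by rw [polar_comm]; exact hb.2
  have K1 : ∀ t : F, ∃ v, polar Q b' v = 0 ∧ eichG Q e (φ (t • b)) = eichG Q b' v := by
    intro t
    have h1 : rhoO Q hQ hn e (t • b) = rhoO Q hQ hn b ((-t) • e) := by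
      apply Subtype.ext
      rw [rhoO_val, rhoO_val,
        eichG_swap Q e (t • b) he (by rw [QuadraticMap.map_smul, hQb, smul_zero])
          (by rw [polar_smul_right, hb.1, smul_zero]),
        eichG_smul_left Q b (-e) t hQb (by rw [polar_neg_right, hbe, neg_zero]),
        smul_neg, neg_smul]
    obtain ⟨v, hv, hβv⟩ := hfw ((-t) • e) (by rw [polar_smul_right, hbe, smul_zero])
    have h2 := hφβ (t • b) (hb.smul t)
    rw [h1, hβv] at h2
    exact ⟨v, hv, rho_eq_of_qm_eq Q hQ hn fr e (φ (t • b)) b' v he0 he (hφ _).1 hQb' hv h2.symm⟩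
  have K2 : ¬ ∃ s : F, b' = s • e := by
    rintro ⟨s, hs⟩
    have hs0 : s ≠ 0 := by
      rintro rfl
      rw [zero_smul] at hs
      exact hb'0 hs
    obtain ⟨w', hw', hβw⟩ := hfw f hbf
    have hew' : polar Q e w' = 0 := by
      rw [hs, polar_smul_left, smul_eq_mul] at hw'
      exact (mul_eq_zero.mp hw').resolve_left hs0
    have h1 : rhoO Q hQ hn b' w' = rhoO Q hQ hn e (s • w') := by
      rw [hs]
      exact rhoO_smul_left Q hQ hn e w' s he hew'
    obtain ⟨w₀, hw₀, hβw₀⟩ := hβ.2 (s • w') (by rw [polar_smul_right, hew', smul_zero])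
    rw [h1, ← hβw₀] at hβw
    have h2 := β.injective hβw
    have h3 := rho_eq_of_qm_eq Q hQ hn fr b f e w₀ hb0 hQb hbf he hw₀ h2
    have h4 := congrArg (fun g => isoAct (⇑Q) g e) h3
    beta_reduce at h4
    rw [eichG_apply_self Q e w₀ he hw₀, isoAct_eichG Q b f hQb hbf, hfe, hbe, mul_zero, sub_zero,
      zero_smul, sub_zero, one_smul] at h4
    exact hb0 (add_left_cancel (a := e) (by rw [h4, add_zero]))
  have hφb0 : φ b ≠ 0 := fun h => hb0 (hinj b hb h)
  have K3 : ∀ y, InW Q e f y → y ≠ 0 → (∃ v, polar Q b' v = 0 ∧ eichG Q e y = eichG Q b' v) →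
      polar Q e b' = 0 ∧ ∃ s : F, y = s • (b' - polar Q f b' • e) := by
    rintro y hy hy0 ⟨v, hv, hyv⟩
    have hne : eichG Q e y ≠ 1 := by
      intro h1
      obtain ⟨t, ht⟩ := eichG_eq_one_imp Q hQ e y he0 he hy.1 h1
      have h2 := hy.2
      rw [ht, polar_smul_right, hfe, smul_eq_mul, mul_one] at h2
      rw [h2, zero_smul] at ht
      exact hy0 ht
    obtain ⟨h1, α, s, hαs⟩ := root_inter Q hQ hn fr p e b' v y he0 he hQb' K2 hv hy.1 hyv.symm hne
    refine ⟨h1, s, ?_⟩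
    have h2 := hy.2
    rw [hαs, polar_add_right, polar_smul_right, polar_smul_right, hfe, smul_eq_mul, mul_one,
      smul_eq_mul] at h2
    have h3 : α = -(s * polar Q f b') := eq_neg_of_add_eq_zero_left h2
    rw [hαs, h3, smul_sub, smul_smul, neg_smul]
    abel
  obtain ⟨v₁, hv₁, hev₁⟩ := K1 1
  rw [one_smul] at hev₁
  obtain ⟨heb', s, hs⟩ := K3 (φ b) (hφ b) hφb0 ⟨v₁, hv₁, hev₁⟩
  have hs0 : s ≠ 0 := by
    rintro rfl
    rw [zero_smul] at hs
    exact hφb0 hs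
  have hQb'' : Q (b' - polar Q f b' • e) = 0 := by
    have h1 : b' - polar Q f b' • e = b' + (-polar Q f b') • e := by
      rw [neg_smul, sub_eq_add_neg]
    rw [h1, QuadraticMap.map_add (⇑Q), QuadraticMap.map_smul, he, smul_zero, hQb', polar_smul_right,
      polar_comm Q b' e, heb', smul_zero]
    simp
  refine ⟨by rw [hs, QuadraticMap.map_smul, hQb'', smul_zero], fun t => ?_⟩
  by_cases h0 : φ (t • b) = 0
  · exact ⟨0, by rw [h0, zero_smul]⟩
  · obtain ⟨vt, hvt, hevt⟩ := K1 t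
    obtain ⟨-, s', hs'⟩ := K3 (φ (t • b)) (hφ _) h0 ⟨vt, hvt, hevt⟩
    refine ⟨s' * s⁻¹, ?_⟩
    rw [hs', hs, smul_smul, mul_assoc, inv_mul_cancel₀ hs0, mul_one]

include hQ hn fr p in
theorem exists_phi (h5 : ∀ S : Submodule F (ι → F), (∀ s ∈ S, Q s = 0) →
      (∀ x, (∀ s ∈ S, polar Q s x = 0) → x ∈ S) → 5 ≤ finrank F S)
    (β : MulAut (Cfsg.POmega F ⇑Q)) (e f : ι → F) (he : Q e = 0) (hf : Q f = 0)
    (hef : polar Q e f = 1) (hβ : FixRoot Q hQ hn β e) :
    ∃ φ : (ι → F) → (ι → F), LineMap Q e f φ ∧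
      (∀ w, InW Q e f w → β (qm Q (rhoO Q hQ hn e w)) = qm Q (rhoO Q hQ hn e (φ w))) := by
  have he0 : e ≠ 0 := by
    rintro rfl
    rw [polar_zero_left] at hef
    exact zero_ne_one hef
  have hfe : polar Q f e = 1 := by rw [polar_comm]; exact hef
  have hex : ∀ x, ∃ w', InW Q e f w' ∧
      β (qm Q (rhoO Q hQ hn e (prW Q e f x))) = qm Q (rhoO Q hQ hn e w') := by
    intro x
    obtain ⟨w', hw', h⟩ := hβ.1 (prW Q e f x) (prW_mem he hf hef x).1
    exact ⟨prW Q e f w', prW_mem he hf hef w', by rw [h, rhoO_prW Q hQ hn e f he hf hef w' hw']⟩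
  choose φ hφ using hex
  have hφβ : ∀ w, InW Q e f w →
      β (qm Q (rhoO Q hQ hn e w)) = qm Q (rhoO Q hQ hn e (φ w)) := by
    intro w hw
    have h := (hφ w).2
    rw [prW_of_mem hw] at h
    exact h
  have hadd : ∀ x y, φ (x + y) = φ x + φ y := by
    intro x y
    apply root_inj Q hQ hn fr e f he hef _ _ (hφ (x + y)).1 ((hφ x).1.add (hφ y).1)
    rw [← (hφ (x + y)).2, prW_add,
      ← rhoO_mul Q hQ hn e _ _ he (prW_mem he hf hef x).1 (prW_mem he hf hef y).1,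
      map_mul, map_mul, (hφ x).2, (hφ y).2, ← map_mul,
      rhoO_mul Q hQ hn e _ _ he (hφ x).1.1 (hφ y).1.1]
  have hinj : ∀ x, InW Q e f x → φ x = 0 → x = 0 := by
    intro x hx h0
    have h1 := hφβ x hx
    rw [h0, rhoO_zero, map_one] at h1
    have h2 : qm Q (rhoO Q hQ hn e x) = 1 := β.injective (h1.trans (map_one β).symm)
    obtain ⟨t, ht⟩ := smul_of_qm_eq_one Q hQ hn fr e x he0 he hx.1 h2
    have h3 := hx.2
    rw [ht, polar_smul_right, hfe, smul_eq_mul, mul_one] at h3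
    rw [ht, h3, zero_smul]
  refine ⟨φ, ⟨hadd, fun x => (hφ x).1, hinj, ?_, ?_⟩, hφβ⟩
  · intro w hw
    obtain ⟨x, hx, hβx⟩ := hβ.2 w hw.1
    refine ⟨prW Q e f x, prW_mem he hf hef x, ?_⟩
    apply root_inj Q hQ hn fr e f he hef _ _ (hφ _).1 hw
    rw [← hφβ _ (prW_mem he hf hef x), rhoO_prW Q hQ hn e f he hf hef x hx, hβx]
  · intro b hb hQb
    exact phi_line Q hQ hn fr p h5 β e f he hef hβ φ hadd (fun x => (hφ x).1) hφβ hinj b hb hQb

include hQ fr in
theorem N_rel (β : MulAut (Cfsg.POmega F ⇑Q)) (e f : ι → F) (he : Q e = 0) (hf : Q f = 0)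
    (hef : polar Q e f = 1) (hβe : FixRoot Q hQ hn β e) (hβf : FixRoot Q hQ hn β f)
    (φ ψ : (ι → F) → (ι → F)) (hφm : ∀ x, InW Q e f (φ x)) (hψm : ∀ x, InW Q e f (ψ x))
    (hφβ : ∀ w, InW Q e f w → β (qm Q (rhoO Q hQ hn e w)) = qm Q (rhoO Q hQ hn e (φ w)))
    (hψβ : ∀ w, InW Q e f w → β (qm Q (rhoO Q hQ hn f w)) = qm Q (rhoO Q hQ hn f (ψ w)))
    (hψinj : ∀ x, InW Q e f x → ψ x = 0 → x = 0)
    (w : ι → F) (hw : InW Q e f w) (hQw : Q w ≠ 0) :
    ψ ((Q w)⁻¹ • w) = (Q (φ w))⁻¹ • φ w := by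
  have he0 : e ≠ 0 := by
    rintro rfl
    rw [polar_zero_left] at hef
    exact zero_ne_one hef
  have hf0 : f ≠ 0 := by
    rintro rfl
    rw [polar_zero_right] at hef
    exact zero_ne_one hef
  have hfe : polar Q f e = 1 := by rw [polar_comm]; exact hef
  have hee : polar Q e e = 0 := by rw [polar_self, he, smul_zero]
  have hff : polar Q f f = 0 := by rw [polar_self, hf, smul_zero]
  obtain ⟨u, hu_def⟩ : ∃ u, u = (Q w)⁻¹ • w := ⟨_, rfl⟩
  rw [← hu_def]
  have hu : InW Q e f u := by rw [hu_def]; exact hw.smul _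
  have hQu : Q u = (Q w)⁻¹ := by
    rw [hu_def, QuadraticMap.map_smul, smul_eq_mul, mul_assoc, inv_mul_cancel₀ hQw, mul_one]
  obtain ⟨n, hn_def⟩ : ∃ n : ↥(Cfsg.Omega F ⇑Q),
      n = rhoO Q hQ hn e w * rhoO Q hQ hn f u * rhoO Q hQ hn e w := ⟨_, rfl⟩
  obtain ⟨n', hn'_def⟩ : ∃ n' : ↥(Cfsg.Omega F ⇑Q),
      n' = rhoO Q hQ hn e (φ w) * rhoO Q hQ hn f (ψ u) * rhoO Q hQ hn e (φ w) := ⟨_, rfl⟩
  have hβn : β (qm Q n) = qm Q n' := by
    rw [hn_def, hn'_def]
    simp only [map_mul]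
    rw [hφβ w hw, hψβ u hu]
  have hn1 : n.1 = eichG Q e w * eichG Q f u * eichG Q e w := by rw [hn_def]; rfl
  have hn'1 : n'.1 = eichG Q e (φ w) * eichG Q f (ψ u) * eichG Q e (φ w) := by rw [hn'_def]; rfl
  have hne : isoAct (⇑Q) n.1 e = (-(Q w)⁻¹) • f := by
    have h2 : polar Q w u = 2 := by
      rw [hu_def, polar_smul_right, polar_self, smul_eq_mul]
      simp only [nsmul_eq_mul, Nat.cast_ofNat]
      field_simp
    rw [hn1, N_apply he hf hef hw hu, hQu, h2, inv_mul_cancel₀ hQw, hu_def, sub_self, add_zero]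
    have h3 : (1 + 1 - 2 : F) = 0 := by norm_num
    rw [h3, zero_smul, zero_sub, neg_smul]
  have hinv : ∀ m : ↥(Cfsg.Omega F ⇑Q), (m⁻¹ : ↥(Cfsg.Omega F ⇑Q)).1 = (m.1)⁻¹ := fun m => rfl
  have hninv : isoAct (⇑Q) n⁻¹.1 f = (-Q w) • e := by
    have h1 := congrArg (fun x => isoAct (⇑Q) n⁻¹.1 x) hne
    beta_reduce at h1
    rw [hinv, isoAct_inv_isoAct, isoAct_smul] at h1
    rw [hinv]
    calc isoAct (⇑Q) (n.1)⁻¹ f = (-Q w) • ((-(Q w)⁻¹) • isoAct (⇑Q) (n.1)⁻¹ f) := by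
          rw [smul_smul, neg_mul_neg, mul_inv_cancel₀ hQw, one_smul]
      _ = (-Q w) • e := by rw [← h1]
  have hclaim : ∀ x', polar Q f x' = 0 →
      isoAct (⇑Q) (eichG Q f x') (isoAct (⇑Q) n'.1 e) = isoAct (⇑Q) n'.1 e := by
    intro x' hx'
    obtain ⟨x₀, hx₀, hβx₀⟩ := hβf.2 x' hx'
    have hpol : polar Q e (isoAct (⇑Q) n⁻¹.1 x₀) = 0 := by
      have h2 := polar_isoAct Q n⁻¹.1 f x₀
      rw [hninv, polar_smul_left, hx₀, smul_eq_mul] at h2
      exact (mul_eq_zero.mp h2).resolve_left (neg_ne_zero.mpr hQw)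
    have h1 : n⁻¹ * rhoO Q hQ hn f x₀ * n =
        rhoO Q hQ hn e ((-Q w) • isoAct (⇑Q) n⁻¹.1 x₀) := by
      have h := rhoO_conj Q hQ hn n⁻¹ f x₀
      rw [inv_inv] at h
      rw [h, hninv]
      exact rhoO_smul_left Q hQ hn e _ (-Q w) he hpol
    obtain ⟨y, hy, hβy⟩ := hβe.1 ((-Q w) • isoAct (⇑Q) n⁻¹.1 x₀)
      (by rw [polar_smul_right, hpol, smul_zero])
    have h3 : qm Q (n'⁻¹ * rhoO Q hQ hn f x' * n') = qm Q (rhoO Q hQ hn e y) := by
      rw [← hβy, ← h1]
      simp only [map_mul, map_inv]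
      rw [hβn, hβx₀]
    have h4 := PM_of_qm_eq Q hQ fr _ _ h3
    have h5 : isoAct (⇑Q) (n'⁻¹ * rhoO Q hQ hn f x' * n').1 e =
        isoAct (⇑Q) (n'.1)⁻¹ (isoAct (⇑Q) (eichG Q f x') (isoAct (⇑Q) n'.1 e)) := by
      have h : (n'⁻¹ * rhoO Q hQ hn f x' * n').1 = (n'.1)⁻¹ * eichG Q f x' * n'.1 := rfl
      rw [h, isoAct_mul, isoAct_mul]
    rcases h4 with h4 | h4
    · have h6 := congrArg (fun g => isoAct (⇑Q) g e) h4
      beta_reduce at h6
      rw [h5, rhoO_val, eichG_apply_self Q e y he hy] at h6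
      have h7 := congrArg (fun x => isoAct (⇑Q) n'.1 x) h6
      beta_reduce at h7
      rw [isoAct_isoAct_inv] at h7
      exact h7
    · have h6 := h4 e
      rw [h5, rhoO_val, eichG_apply_self Q e y he hy] at h6
      have h7 := congrArg (fun x => isoAct (⇑Q) n'.1 x) h6
      beta_reduce at h7
      rw [isoAct_isoAct_inv, isoAct_neg] at h7
      by_cases h2 : (2 : F) = 0
      · rw [h7, neg_eq_self_of_two h2]
      · have h8 := neg_fixed_eichG Q h2 f x' _ hf hx' h7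
        rw [h8, isoAct_zero]
  obtain ⟨t, ht⟩ := fixed_of_eichG Q hQ (by omega) f (isoAct (⇑Q) n'.1 e) hf0 hf hclaim
  rw [hn'1, N_apply he hf hef (hφm w) (hψm u)] at ht
  obtain ⟨A, hA⟩ : ∃ A, A = 1 + Q (ψ u) * Q (φ w) - polar Q (φ w) (ψ u) := ⟨_, rfl⟩
  obtain ⟨B, hB⟩ : ∃ B, B = Q (ψ u) := ⟨_, rfl⟩
  obtain ⟨z, hz⟩ : ∃ z, z = Q (ψ u) • φ w - ψ u := ⟨_, rfl⟩
  rw [← hA, ← hz, ← hB] at ht
  have hz_mem : InW Q e f z := by rw [hz]; exact ((hφm w).smul _).sub (hψm u)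
  have h2 := congrArg (fun x => polar Q e x) ht
  beta_reduce at h2
  rw [polar_add_right, polar_sub_right, polar_smul_right, polar_smul_right, polar_smul_right,
    hee, hef, hz_mem.1] at h2
  have h3 := congrArg (fun x => polar Q f x) ht
  beta_reduce at h3
  rw [polar_add_right, polar_sub_right, polar_smul_right, polar_smul_right, polar_smul_right,
    hfe, hff, hz_mem.2] at h3
  have hA0 : A = 0 := by simpa using h3
  have ht' : t = -B := by
    have : -B = t := by simpa using h2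
    exact this.symm
  have hz0 : z = 0 := by
    rw [hA0, ht', zero_smul, zero_sub, neg_smul] at ht
    exact add_left_cancel (a := -(B • f)) (by rw [ht, add_zero])
  have hψu : ψ u = B • φ w := by
    rw [hz, ← hB] at hz0
    exact (sub_eq_zero.mp hz0).symm
  have hB0 : B ≠ 0 := by
    intro hB0
    rw [hB0, zero_smul] at hψu
    have h := hψinj u hu hψu
    rw [hu_def] at h
    have hw0 : w = 0 := by
      rcases smul_eq_zero.mp h with h | h
      · exact absurd h (inv_ne_zero hQw)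
      · exact h
    apply hQw
    rw [hw0, map_zero]
  have hBB : B = B * B * Q (φ w) := by
    conv_lhs => rw [hB, hψu, QuadraticMap.map_smul, smul_eq_mul]
  have hBQ : B * Q (φ w) = 1 := by
    have h : B * (B * Q (φ w)) = B * 1 := by rw [mul_one, ← mul_assoc]; exact hBB.symm
    exact mul_left_cancel₀ hB0 h
  have hBi : B = (Q (φ w))⁻¹ := eq_inv_of_mul_eq_one_left hBQ
  rw [hψu, hBi]

end Recon

end Cfsg.Agent.Lib.helper49.AutOm
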