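/-
Automorphisms of `PΩ(Q)`, part 8: reconstruction of the semisimilarity and the final theorem
`gammaPOmega = ⊤`.
-/
import Mathlib
import Cfsg.Agent.Lib.helper49.AutOmega7
import Cfsg.Agent.Lib.helper42.SemiSim
import Cfsg.Agent.Lib.helper42.AutImage2

set_option autoImplicit false

namespace Cfsg.Agent.Lib.helper49.AutOm

open Matrix Module QuadraticMap
open Cfsg.Agent.Lib.helper49 Cfsg.Agent.Lib.helper42

section Final

variable {F : Type*} [Field F] [Fintype F] {ι : Type} [Fintype ι] [DecidableEq ι]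

/-- A bijective semilinear map is given by an invertible matrix. -/
theorem exists_matrix_of_semilinear (σ : F ≃+* F) (Φ : (ι → F) → (ι → F))
    (hadd : ∀ x y, Φ (x + y) = Φ x + Φ y) (hsmul : ∀ (t : F) x, Φ (t • x) = σ t • Φ x)
    (hinj : ∀ x, Φ x = 0 → x = 0) :
    ∃ g : GL ι F, ∀ v : ι → F, (g : Matrix ι ι F) *ᵥ (fun i => σ (v i)) = Φ v := by
  classical
  obtain ⟨M, hMdef⟩ : ∃ M : Matrix ι ι F, M = Matrix.of (fun i j => Φ (Pi.single j 1) i) :=
    ⟨_, rfl⟩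
  have hΦ0 : Φ 0 = 0 := by
    have h := hsmul 0 0
    rw [zero_smul, map_zero, zero_smul] at h
    exact h
  obtain ⟨Φa, hΦa⟩ : ∃ Φa : (ι → F) →+ (ι → F), ∀ x, Φa x = Φ x :=
    ⟨AddMonoidHom.mk' Φ hadd, fun x => rfl⟩
  have hM : ∀ v : ι → F, M *ᵥ (fun i => σ (v i)) = Φ v := by
    intro v
    have hv : v = ∑ j, v j • (Pi.single j (1 : F) : ι → F) := by
      ext i
      simp [Finset.sum_apply, Pi.single_apply]
    have h1 : Φ (∑ j, v j • (Pi.single j (1 : F) : ι → F)) =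
        ∑ j, Φ (v j • (Pi.single j (1 : F) : ι → F)) := by
      rw [← hΦa, map_sum]
      exact Finset.sum_congr rfl (fun j _ => hΦa _)
    conv_rhs => rw [hv, h1]
    ext i
    rw [hMdef]
    simp only [Matrix.mulVec, dotProduct, Finset.sum_apply, hsmul, Pi.smul_apply, smul_eq_mul,
      Matrix.of_apply]
    exact Finset.sum_congr rfl (fun j _ => mul_comm _ _)
  have hinjM : Function.Injective M.mulVec := by
    intro y y' hyy'
    have h1 : ∀ y : ι → F, M *ᵥ y = Φ (fun i => σ.symm (y i)) := by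
      intro y
      rw [← hM]
      simp
    have h2 : Φ ((fun i => σ.symm (y i)) - (fun i => σ.symm (y' i))) = 0 := by
      have h3 : Φ ((fun i => σ.symm (y i)) - (fun i => σ.symm (y' i))) =
          Φ (fun i => σ.symm (y i)) - Φ (fun i => σ.symm (y' i)) := by
        rw [← hΦa, ← hΦa, ← hΦa, map_sub]
      rw [h3, ← h1, ← h1]
      exact sub_eq_zero.mpr hyy'
    have h3 := hinj _ h2
    ext i
    have h4 := congrFun h3 i
    simp only [Pi.sub_apply, Pi.zero_apply, sub_eq_zero] at h4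
    exact σ.symm.injective h4
  have hU : IsUnit M := Matrix.mulVec_injective_iff_isUnit.mp hinjM
  exact ⟨hU.unit, fun v => by rw [IsUnit.unit_spec]; exact hM v⟩

variable (Q : QuadraticForm F (ι → F))

/-- From a conjugation identity on vectors to the identity in `GL`. -/
theorem GL_eq_of_conj (g : GL ι F) (σ : F ≃+* F) (Φ : (ι → F) → (ι → F))
    (hg : ∀ v : ι → F, (g : Matrix ι ι F) *ᵥ (fun i => σ (v i)) = Φ v)
    (s s' : ↥(Cfsg.isometryGroup F ⇑Q))
    (h : ∀ x, Φ (isoAct (⇑Q) s x) = isoAct (⇑Q) s' (Φ x)) :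
    (s' : GL ι F) = g * Matrix.GeneralLinearGroup.map (σ : F →+* F) (s : GL ι F) * g⁻¹ := by
  have h1 : (s' : GL ι F) * g = g * Matrix.GeneralLinearGroup.map (σ : F →+* F) (s : GL ι F) := by
    apply Units.ext
    rw [Units.val_mul, Units.val_mul, GLmap_val]
    apply Matrix.ext_iff_mulVec.mpr
    intro y
    obtain ⟨v, rfl⟩ : ∃ v : ι → F, (fun i => σ (v i)) = y :=
      ⟨fun i => σ.symm (y i), by ext i; simp⟩
    rw [← Matrix.mulVec_mulVec, ← Matrix.mulVec_mulVec, hg, map_mulVec_sigma σ _ v]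
    have h2 := hg (((s : GL ι F) : Matrix ι ι F) *ᵥ v)
    rw [h2]
    exact (h v).symm
  rw [← h1, mul_inv_cancel_right]

/-- The subgroup of `Ω` on which `β` is given by the semilinear map `(g, σ)`. -/
def semiSub (g : GL ι F) (σ : F ≃+* F) (β : MulAut (Cfsg.POmega F ⇑Q)) :
    Subgroup ↥(Cfsg.Omega F ⇑Q) where
  carrier := {s | ∃ s' : ↥(Cfsg.Omega F ⇑Q),
    ((s' : ↥(Cfsg.isometryGroup F ⇑Q)) : GL ι F) = g * Matrix.GeneralLinearGroup.map (σ : F →+* F)
      ((s : ↥(Cfsg.isometryGroup F ⇑Q)) : GL ι F) * g⁻¹ ∧ β (qm Q s) = qm Q s'}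
  mul_mem' := by
    rintro a b ⟨a', ha', hβa⟩ ⟨b', hb', hβb⟩
    refine ⟨a' * b', ?_, ?_⟩
    · show ((a' : ↥(Cfsg.isometryGroup F ⇑Q)) : GL ι F) * ((b' : ↥(Cfsg.isometryGroup F ⇑Q)) : GL ι F)
        = g * Matrix.GeneralLinearGroup.map (σ : F →+* F)
          (((a : ↥(Cfsg.isometryGroup F ⇑Q)) : GL ι F) * ((b : ↥(Cfsg.isometryGroup F ⇑Q)) : GL ι F))
          * g⁻¹
      rw [ha', hb', map_mul]
      group
    · simp only [map_mul]
      rw [hβa, hβb]
  one_mem' := by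
    refine ⟨1, ?_, ?_⟩
    · show (1 : GL ι F) = g * Matrix.GeneralLinearGroup.map (σ : F →+* F) 1 * g⁻¹
      rw [map_one, mul_one, mul_inv_cancel]
    · simp only [map_one]
  inv_mem' := by
    rintro a ⟨a', ha', hβa⟩
    refine ⟨a'⁻¹, ?_, ?_⟩
    · show (((a' : ↥(Cfsg.isometryGroup F ⇑Q)) : GL ι F))⁻¹
        = g * Matrix.GeneralLinearGroup.map (σ : F →+* F)
          (((a : ↥(Cfsg.isometryGroup F ⇑Q)) : GL ι F))⁻¹ * g⁻¹
      rw [ha', map_inv]
      group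
    · simp only [map_inv]
      rw [hβa]

/-- The semilinear map attached to `φ`. -/
def PhiMap (e f : ι → F) (φ : (ι → F) → (ι → F)) (σ : F ≃+* F) (c : F) (x : ι → F) : ι → F :=
  (c * σ (polar Q x f)) • e + σ (polar Q x e) • f + φ (prW Q e f x)

/-- The data needed for the semilinear map. -/
structure PhiData (e f : ι → F) (φ : (ι → F) → (ι → F)) (σ : F ≃+* F) (c : F) : Prop where
  he : Q e = 0
  hf : Q f = 0
  hef : polar Q e f = 1
  hc : c ≠ 0
  add : ∀ x y, φ (x + y) = φ x + φ y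
  mem : ∀ x, InW Q e f (φ x)
  semi : ∀ x, InW Q e f x → ∀ t : F, φ (t • x) = σ t • φ x
  quad : ∀ x, InW Q e f x → Q (φ x) = c * σ (Q x)

namespace PhiData

variable {Q}
variable {e f : ι → F} {φ : (ι → F) → (ι → F)} {σ : F ≃+* F} {c : F}

theorem hfe (D : PhiData Q e f φ σ c) : polar Q f e = 1 := by rw [polar_comm]; exact D.hef

theorem hee (D : PhiData Q e f φ σ c) : polar Q e e = 0 := by rw [polar_self, D.he, smul_zero]

theorem hff (D : PhiData Q e f φ σ c) : polar Q f f = 0 := by rw [polar_self, D.hf, smul_zero]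

theorem phi_zero (D : PhiData Q e f φ σ c) : φ 0 = 0 := by
  have h := D.add 0 0
  rw [add_zero] at h
  exact add_left_cancel (a := φ 0) (by rw [add_zero]; exact h.symm)

theorem Phi_add (D : PhiData Q e f φ σ c) (x y : ι → F) :
    PhiMap Q e f φ σ c (x + y) = PhiMap Q e f φ σ c x + PhiMap Q e f φ σ c y := by
  unfold PhiMap
  rw [polar_add_left, polar_add_left, map_add, map_add, prW_add, D.add, mul_add, add_smul, add_smul]
  abel

theorem Phi_smul (D : PhiData Q e f φ σ c) (t : F) (x : ι → F) :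
    PhiMap Q e f φ σ c (t • x) = σ t • PhiMap Q e f φ σ c x := by
  unfold PhiMap
  rw [polar_smul_left, polar_smul_left, smul_eq_mul, smul_eq_mul, map_mul, map_mul, prW_smul,
    D.semi _ (prW_mem D.he D.hf D.hef x) t]
  module

theorem Phi_zero (D : PhiData Q e f φ σ c) : PhiMap Q e f φ σ c 0 = 0 := by
  have h := D.Phi_smul 0 0
  rw [zero_smul, map_zero, zero_smul] at h
  exact h

theorem Phi_neg (D : PhiData Q e f φ σ c) (x : ι → F) :
    PhiMap Q e f φ σ c (-x) = -PhiMap Q e f φ σ c x := by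
  have h := D.Phi_add x (-x)
  rw [add_neg_cancel, D.Phi_zero] at h
  exact eq_neg_of_add_eq_zero_right h.symm

theorem Phi_sub (D : PhiData Q e f φ σ c) (x y : ι → F) :
    PhiMap Q e f φ σ c (x - y) = PhiMap Q e f φ σ c x - PhiMap Q e f φ σ c y := by
  rw [sub_eq_add_neg, D.Phi_add, D.Phi_neg, ← sub_eq_add_neg]

theorem Q_decomp (D : PhiData Q e f φ σ c) (a b : F) (w : ι → F) (hw : InW Q e f w) :
    Q (a • e + b • f + w) = a * b + Q w := by
  rw [QuadraticMap.map_add (⇑Q), QuadraticMap.map_add (⇑Q), QuadraticMap.map_smul,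
    QuadraticMap.map_smul, D.he, D.hf, polar_smul_left, polar_smul_right, D.hef, polar_add_left,
    polar_smul_left, polar_smul_left, hw.1, hw.2]
  simp

theorem Phi_Q (D : PhiData Q e f φ σ c) (x : ι → F) :
    Q (PhiMap Q e f φ σ c x) = c * σ (Q x) := by
  unfold PhiMap
  rw [D.Q_decomp _ _ _ (D.mem _), D.quad _ (prW_mem D.he D.hf D.hef x)]
  conv_rhs => rw [self_eq_prW_add (Q := Q) e f x, D.Q_decomp _ _ _ (prW_mem D.he D.hf D.hef x)]
  rw [map_add, map_mul]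
  ring

theorem Phi_polar (D : PhiData Q e f φ σ c) (x y : ι → F) :
    polar Q (PhiMap Q e f φ σ c x) (PhiMap Q e f φ σ c y) = c * σ (polar Q x y) := by
  unfold polar
  rw [← D.Phi_add, D.Phi_Q, D.Phi_Q, D.Phi_Q, map_sub, map_sub]
  ring

theorem Phi_e (D : PhiData Q e f φ σ c) : PhiMap Q e f φ σ c e = c • e := by
  have h1 : prW Q e f e = 0 := by
    unfold prW
    rw [D.hef, D.hee, one_smul, zero_smul, sub_self, sub_zero]
  unfold PhiMap
  rw [h1, D.phi_zero, D.hef, D.hee, map_one, map_zero, mul_one, zero_smul, add_zero, add_zero]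

theorem Phi_f (D : PhiData Q e f φ σ c) : PhiMap Q e f φ σ c f = f := by
  have h1 : prW Q e f f = 0 := by
    unfold prW
    rw [D.hff, D.hfe, one_smul, zero_smul, sub_zero, sub_self]
  unfold PhiMap
  rw [h1, D.phi_zero, D.hff, D.hfe, map_one, map_zero, mul_zero, zero_smul, zero_add, add_zero,
    one_smul]

theorem Phi_W (D : PhiData Q e f φ σ c) (x : ι → F) (hx : InW Q e f x) :
    PhiMap Q e f φ σ c x = φ x := by
  unfold PhiMap
  rw [prW_of_mem hx, polar_comm Q x f, hx.2, polar_comm Q x e, hx.1, map_zero, mul_zero, zero_smul,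
    zero_smul, zero_add, zero_add]

theorem Phi_inj (D : PhiData Q e f φ σ c) (hQ : (polarBilin Q).Nondegenerate) (x : ι → F)
    (h : PhiMap Q e f φ σ c x = 0) : x = 0 := by
  by_contra hx
  obtain ⟨y, hy⟩ := exists_polar_ne_zero Q hQ x hx
  have h1 := D.Phi_polar x y
  rw [h, polar_zero_left] at h1
  rcases mul_eq_zero.mp h1.symm with h2 | h2
  · exact D.hc h2
  · exact hy ((map_eq_zero_iff σ σ.injective).mp h2)

theorem Phi_conj (D : PhiData Q e f φ σ c) (a w : ι → F) (ha : Q a = 0) (hw : polar Q a w = 0)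
    (x : ι → F) :
    PhiMap Q e f φ σ c (isoAct (⇑Q) (eichG Q a w) x) =
      isoAct (⇑Q) (eichG Q (c⁻¹ • PhiMap Q e f φ σ c a) (PhiMap Q e f φ σ c w))
        (PhiMap Q e f φ σ c x) := by
  have h1 : Q (c⁻¹ • PhiMap Q e f φ σ c a) = 0 := by
    rw [QuadraticMap.map_smul, D.Phi_Q, ha, map_zero, mul_zero, smul_zero]
  have h2 : polar Q (c⁻¹ • PhiMap Q e f φ σ c a) (PhiMap Q e f φ σ c w) = 0 := by
    rw [polar_smul_left, D.Phi_polar, hw, map_zero, mul_zero, smul_zero]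
  have hcc : ∀ z : F, c⁻¹ * (c * z) = z := fun z => by
    rw [← mul_assoc, inv_mul_cancel₀ D.hc, one_mul]
  rw [isoAct_eichG Q a w ha hw, isoAct_eichG Q _ _ h1 h2, D.Phi_sub, D.Phi_add, D.Phi_smul,
    D.Phi_smul, polar_smul_left, D.Phi_polar, D.Phi_polar, D.Phi_Q, smul_eq_mul, hcc, map_sub,
    map_mul, smul_smul]
  have h3 : (c * σ (polar Q w x) - c * σ (Q w) * σ (polar Q a x)) * c⁻¹ =
      σ (polar Q w x) - σ (Q w) * σ (polar Q a x) := by
    field_simp [D.hc]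
  rw [h3]

end PhiData

variable (hQ : (polarBilin Q).Nondegenerate) (hn : 7 ≤ Fintype.card ι)

theorem PsiO_root (g : ↥(Cfsg.isometryGroup F ⇑Q)) (a w : ι → F) :
    PsiO (⇑Q) g (qm Q (rhoO Q hQ hn a w)) =
      qm Q (rhoO Q hQ hn (isoAct (⇑Q) g a) (isoAct (⇑Q) g w)) := by
  have h := eichG_conj Q g a w
  have h1 : PsiO (⇑Q) g = PsiAut (⇑Q) ⟨(g : GL ι F), isometryGroup_le_similarity _ g.2⟩ := rfl
  rw [h1]
  apply PsiAut_mk
  have h2 := congrArg (fun x : ↥(Cfsg.isometryGroup F ⇑Q) => ((x : GL ι F) : Matrix ι ι F)) h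
  simp only [Subgroup.coe_mul, Subgroup.coe_inv, Units.val_mul] at h2
  rw [rhoO_val, rhoO_val]
  exact h2.symm

variable (fr : HypFrame3 Q) (p : ℕ) [Fact p.Prime] [CharP F p]

include hQ hn fr p in
/-- An automorphism fixing the two root groups of a hyperbolic pair is induced by a semisimilarity. -/
theorem induced_of_fix (h5 : ∀ S : Submodule F (ι → F), (∀ s ∈ S, Q s = 0) →
      (∀ x, (∀ s ∈ S, polar Q s x = 0) → x ∈ S) → 5 ≤ finrank F S)
    (β : MulAut (Cfsg.POmega F ⇑Q)) (e f e₁ f₁ e₂ f₂ : ι → F) (fw : WFrame Q e f e₁ f₁ e₂ f₂)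
    (he : Q e = 0) (hf : Q f = 0) (hef : polar Q e f = 1)
    (hβe : FixRoot Q hQ hn β e) (hβf : FixRoot Q hQ hn β f) :
    ∃ (g : GL ι F) (σ : F ≃+* F), Cfsg.IsSemisimilarityPair (⇑Q) g σ ∧
      Cfsg.IsInducedBySemilinearPOmega (⇑Q) g σ β := by
  have hfe : polar Q f e = 1 := by rw [polar_comm]; exact hef
  obtain ⟨φ, hL, hφβ⟩ := exists_phi Q hQ hn fr p h5 β e f he hf hef hβe
  obtain ⟨ψ, hL', hψβ'⟩ := exists_phi Q hQ hn fr p h5 β f e hf he hfe hβf
  obtain ⟨σ, c, hc, hsemi, hquad⟩ := semilinear_of_lines e f e₁ f₁ e₂ f₂ fw φ hL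
  have hsw : ∀ x, InW Q f e x ↔ InW Q e f x := fun x => And.comm
  have hN : ∀ w, InW Q e f w → Q w ≠ 0 → ψ ((Q w)⁻¹ • w) = (Q (φ w))⁻¹ • φ w :=
    fun w hw hQw => N_rel Q hQ hn fr β e f he hf hef hβe hβf φ ψ hL.mem
      (fun x => (hsw _).mp (hL'.mem x)) hφβ (fun w hw => hψβ' w ((hsw w).mpr hw))
      (fun x hx h => hL'.inj x ((hsw x).mpr hx) h) w hw hQw
  have hψ : ∀ u, InW Q e f u → ψ u = c⁻¹ • φ u :=
    psi_eq fw φ ψ hL.add hL'.add σ c hsemi hquad hN
  have D : PhiData Q e f φ σ c := ⟨he, hf, hef, hc, hL.add, hL.mem, hsemi, hquad⟩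
  obtain ⟨g, hg⟩ := exists_matrix_of_semilinear σ (PhiMap Q e f φ σ c) D.Phi_add D.Phi_smul
    (D.Phi_inj hQ)
  refine ⟨g, σ, ⟨Units.mk0 c hc, fun v => by rw [hg]; exact D.Phi_Q v⟩, ?_⟩
  rw [induced_GL_iff]
  have hMe : ∀ w, polar Q e w = 0 → rhoO Q hQ hn e w ∈ semiSub Q g σ β := by
    intro w hw
    rw [← rhoO_prW Q hQ hn e f he hf hef w hw]
    have hw₀ := prW_mem he hf hef w
    refine ⟨rhoO Q hQ hn e (φ (prW Q e f w)), ?_, hφβ _ hw₀⟩
    rw [rhoO_val, rhoO_val]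
    apply GL_eq_of_conj Q g σ _ hg
    intro x
    rw [D.Phi_conj e _ he hw₀.1 x, D.Phi_e, smul_smul, inv_mul_cancel₀ hc, one_smul,
      D.Phi_W _ hw₀]
  have hMf : ∀ w, polar Q f w = 0 → rhoO Q hQ hn f w ∈ semiSub Q g σ β := by
    intro w hw
    rw [← rhoO_prW Q hQ hn f e hf he hfe w hw]
    have hw₀' := prW_mem hf he hfe w
    have hw₀ := (hsw _).mp hw₀'
    refine ⟨rhoO Q hQ hn f (ψ (prW Q f e w)), ?_, hψβ' _ hw₀'⟩
    rw [rhoO_val, rhoO_val]
    apply GL_eq_of_conj Q g σ _ hg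
    intro x
    rw [D.Phi_conj f _ hf hw₀.2 x, D.Phi_f, D.Phi_W _ hw₀, hψ _ hw₀,
      eichG_smul_left Q f _ c⁻¹ hf (hL.mem _).2]
  have hle : Cfsg.Omega F ⇑Q ≤ (semiSub Q g σ β).map (Cfsg.Omega F ⇑Q).subtype :=
    Omega_le_of_hyp_pair Q hQ (by omega) _ e f he hf (by rw [hef]; exact one_ne_zero)
      (fun w hw => ⟨rhoO Q hQ hn e w, hMe w hw, rfl⟩)
      (fun w hw => ⟨rhoO Q hQ hn f w, hMf w hw, rfl⟩)
  intro s s'' hs''
  obtain ⟨s₁, hs₁, hs₁eq⟩ := hle s.2
  have h1 : s₁ = s := Subtype.ext hs₁eq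
  rw [h1] at hs₁
  obtain ⟨s', hs', hβs⟩ := hs₁
  have h2 : s' = s'' := Subtype.ext (Subtype.ext (hs'.trans hs''.symm))
  rw [← h2]
  exact hβs

include hQ hn fr p in
/-- Normalisation: after composing with an isometry, the root groups of a hyperbolic pair are
fixed. -/
theorem exists_fix (h5 : ∀ S : Submodule F (ι → F), (∀ s ∈ S, Q s = 0) →
      (∀ x, (∀ s ∈ S, polar Q s x = 0) → x ∈ S) → 5 ≤ finrank F S)
    (β : MulAut (Cfsg.POmega F ⇑Q)) (e f : ι → F)
    (he : Q e = 0) (hf : Q f = 0) (hef : polar Q e f = 1) :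
    ∃ γ ∈ Cfsg.gammaPOmega F ⇑Q, FixRoot Q hQ hn (γ * β) e ∧ FixRoot Q hQ hn (γ * β) f := by
  have he0 : e ≠ 0 := by
    rintro rfl
    rw [polar_zero_left] at hef
    exact zero_ne_one hef
  have hf0 : f ≠ 0 := by
    rintro rfl
    rw [polar_zero_right] at hef
    exact zero_ne_one hef
  obtain ⟨e', he'0, hQe', hef1, heb1⟩ := root_image Q hQ hn fr p h5 β e he0 he
  obtain ⟨f', hf'0, hQf', hff1, hfb1⟩ := root_image Q hQ hn fr p h5 β f hf0 hf
  have hpol : polar Q e' f' ≠ 0 := by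
    intro h0
    have hcommon : ∃ w' v', polar Q e' w' = 0 ∧ polar Q f' v' = 0 ∧
        eichG Q e' w' = eichG Q f' v' ∧ ¬ ∃ t : F, w' = t • e' := by
      by_cases hpar : ∃ t : F, f' = t • e'
      · obtain ⟨t, ht⟩ := hpar
        have ht0 : t ≠ 0 := by
          rintro rfl
          rw [zero_smul] at ht
          exact hf'0 ht
        obtain ⟨w₁, w₂, hw₁, hw₂, hn1, hn2, hn12⟩ :=
          exists_orth_not_smul Q hQ hn fr p e' (by omega)
        refine ⟨w₁, t⁻¹ • w₁, hw₁, ?_, ?_, hn1⟩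
        · rw [ht, polar_smul_left, polar_smul_right, hw₁, smul_zero, smul_zero]
        · rw [ht, eichG_smul_left Q e' (t⁻¹ • w₁) t hQe' (by rw [polar_smul_right, hw₁, smul_zero]),
            smul_smul, mul_inv_cancel₀ ht0, one_smul]
      · refine ⟨f', -e', h0, ?_, eichG_swap Q e' f' hQe' hQf' h0, hpar⟩
        rw [polar_neg_right, polar_comm, h0, neg_zero]
    obtain ⟨w', v', hw', hv', heq, hnot⟩ := hcommon
    obtain ⟨w, hw, hβw⟩ := heb1 w' hw'
    obtain ⟨v, hv, hβv⟩ := hfb1 v' hv'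
    have h1 : qm Q (rhoO Q hQ hn e w) = qm Q (rhoO Q hQ hn f v) := by
      apply β.injective
      rw [hβw, hβv]
      have h : rhoO Q hQ hn e' w' = rhoO Q hQ hn f' v' := Subtype.ext heq
      rw [h]
    have h2 := rho_eq_of_qm_eq Q hQ hn fr e w f v he0 he hw hf hv h1
    have h3 : eichG Q e w = 1 := by
      by_contra hne
      have hfne : ¬ ∃ t : F, f = t • e := by
        rintro ⟨t, ht⟩
        rw [ht, polar_smul_right, polar_self, he, smul_zero, smul_zero] at hef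
        exact zero_ne_one hef
      have h := (root_inter Q hQ hn fr p e f v w he0 he hf hfne hv hw h2.symm hne).1
      rw [hef] at h
      exact one_ne_zero h
    have h4 : qm Q (rhoO Q hQ hn e' w') = 1 := by
      rw [← hβw]
      have h : rhoO Q hQ hn e w = 1 := Subtype.ext h3
      rw [h, map_one, map_one]
    exact hnot (smul_of_qm_eq_one Q hQ hn fr e' w' he'0 hQe' hw' h4)
  obtain ⟨c, hc⟩ : ∃ c, c = polar Q e' f' := ⟨_, rfl⟩
  have hc0 : c ≠ 0 := by rw [hc]; exact hpol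
  have hQcf : Q (c⁻¹ • f') = 0 := by rw [QuadraticMap.map_smul, hQf', smul_zero]
  have hpcf : polar Q e' (c⁻¹ • f') = 1 := by
    rw [polar_smul_right, ← hc, smul_eq_mul, inv_mul_cancel₀ hc0]
  have hli : ∀ (a b : ι → F), Q a = 0 → Q b = 0 → polar Q a b = 1 →
      LinearIndependent F ![a, b] := by
    intro a b ha hb hab
    rw [LinearIndependent.pair_iff]
    intro s t hst
    have haa : polar Q a a = 0 := by rw [polar_self, ha, smul_zero]
    have hbb : polar Q b b = 0 := by rw [polar_self, hb, smul_zero]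
    have h1 := congrArg (fun x => polar Q x b) hst
    have h2 := congrArg (fun x => polar Q a x) hst
    beta_reduce at h1 h2
    rw [polar_add_left, polar_smul_left, polar_smul_left, hab, hbb, polar_zero_left] at h1
    rw [polar_add_right, polar_smul_right, polar_smul_right, hab, haa, polar_zero_right] at h2
    constructor
    · simpa using h1
    · simpa using h2
  have hQpair : ∀ (a b : ι → F) (s t : F), Q a = 0 → Q b = 0 → polar Q a b = 1 →
      Q (s • a + t • b) = s * t := by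
    intro a b s t ha hb hab
    rw [QuadraticMap.map_add (⇑Q), QuadraticMap.map_smul, QuadraticMap.map_smul, ha, hb,
      polar_smul_left, polar_smul_right, hab]
    simp
  have hQeq : ∀ k : Fin 2 → F, Q (∑ i, k i • ![e', c⁻¹ • f'] i) = Q (∑ i, k i • ![e, f] i) := by
    intro k
    simp only [Fin.sum_univ_two, Matrix.cons_val_zero, Matrix.cons_val_one]
    rw [hQpair e' (c⁻¹ • f') _ _ hQe' hQcf hpcf, hQpair e f _ _ he hf hef]
  obtain ⟨g, hg⟩ := exists_isometry_family Q hQ ![e', c⁻¹ • f'] ![e, f]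
    (hli e' (c⁻¹ • f') hQe' hQcf hpcf) (hli e f he hf hef) hQeq
  have hge : isoAct (⇑Q) g e' = e := hg 0
  have hgf : isoAct (⇑Q) g (c⁻¹ • f') = f := hg 1
  refine ⟨PsiO (⇑Q) g, ?_, ⟨?_, ?_⟩, ⟨?_, ?_⟩⟩
  · apply Subgroup.subset_closure
    refine ⟨(g : GL ι F), RingEquiv.refl F, ⟨1, fun v => ?_⟩,
      (induced_iff (⇑Q) (g : GL ι F) (isometryGroup_le_similarity _ g.2) _).mpr rfl⟩
    show Q (isoAct (⇑Q) g v) = (1 : F) * Q v
    rw [one_mul, Q_isoAct (⇑Q) g v]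
  · intro w hw
    obtain ⟨w', hw', hβw⟩ := hef1 w hw
    refine ⟨isoAct (⇑Q) g w', ?_, ?_⟩
    · rw [← hge, polar_isoAct]; exact hw'
    · rw [MulAut.mul_apply, hβw, PsiO_root, hge]
  · intro w' hw'
    obtain ⟨w, hw, hβw⟩ := heb1 (isoAct (⇑Q) g⁻¹ w')
      (by rw [← polar_isoAct Q g, isoAct_isoAct_inv, hge]; exact hw')
    refine ⟨w, hw, ?_⟩
    rw [MulAut.mul_apply, hβw, PsiO_root, hge, isoAct_isoAct_inv]
  · intro w hw
    obtain ⟨w', hw', hβw⟩ := hff1 w hw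
    refine ⟨isoAct (⇑Q) g (c • w'), ?_, ?_⟩
    · rw [← hgf, polar_isoAct, polar_smul_left, polar_smul_right, hw', smul_zero, smul_zero]
    · have h : rhoO Q hQ hn f' w' = rhoO Q hQ hn (c⁻¹ • f') (c • w') := by
        rw [rhoO_smul_left Q hQ hn f' (c • w') c⁻¹ hQf' (by rw [polar_smul_right, hw', smul_zero]),
          smul_smul, inv_mul_cancel₀ hc0, one_smul]
      rw [MulAut.mul_apply, hβw, h, PsiO_root, hgf]
  · intro w' hw'
    have h1 : polar Q f' (isoAct (⇑Q) g⁻¹ w') = 0 := by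
      have h2 := polar_isoAct Q g (c⁻¹ • f') (isoAct (⇑Q) g⁻¹ w')
      rw [isoAct_isoAct_inv, hgf, hw', polar_smul_left, smul_eq_mul] at h2
      exact (mul_eq_zero.mp h2.symm).resolve_left (inv_ne_zero hc0)
    obtain ⟨w, hw, hβw⟩ := hfb1 (c⁻¹ • isoAct (⇑Q) g⁻¹ w') (by rw [polar_smul_right, h1, smul_zero])
    refine ⟨w, hw, ?_⟩
    have h : rhoO Q hQ hn f' (c⁻¹ • isoAct (⇑Q) g⁻¹ w') =
        rhoO Q hQ hn (c⁻¹ • f') (isoAct (⇑Q) g⁻¹ w') :=
      (rhoO_smul_left Q hQ hn f' _ c⁻¹ hQf' h1).symm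
    rw [MulAut.mul_apply, hβw, h, PsiO_root, hgf, isoAct_isoAct_inv]

omit p in
include hQ hn fr in
/-- **The automorphism group of `PΩ(Q)`** is generated by the semisimilarities, provided there is
no self-orthogonal totally singular subspace of dimension `< 5`. -/
theorem gammaPOmega_eq_top (h5 : ∀ S : Submodule F (ι → F), (∀ s ∈ S, Q s = 0) →
      (∀ x, (∀ s ∈ S, polar Q s x = 0) → x ∈ S) → 5 ≤ finrank F S) :
    Cfsg.gammaPOmega F ⇑Q = ⊤ := by
  obtain ⟨p, hp⟩ := CharP.exists F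
  have : Fact p.Prime := ⟨CharP.char_is_prime F p⟩
  rw [eq_top_iff]
  intro β _
  have h10 : (1 : Fin 3) ≠ 0 := by decide
  have h20 : (2 : Fin 3) ≠ 0 := by decide
  have h01 : (0 : Fin 3) ≠ 1 := by decide
  have h02 : (0 : Fin 3) ≠ 2 := by decide
  have h12 : (1 : Fin 3) ≠ 2 := by decide
  have h21 : (2 : Fin 3) ≠ 1 := by decide
  have hfe : ∀ i j, polar Q (fr.f i) (fr.e j) = if j = i then 1 else 0 := by
    intro i j
    rw [polar_comm, fr.ef]
  have fw : WFrame Q (fr.e 0) (fr.f 0) (fr.e 1) (fr.f 1) (fr.e 2) (fr.f 2) :=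
    { he₁ := ⟨fr.ee 0 1, by rw [hfe, if_neg h10]⟩
      hf₁ := ⟨by rw [fr.ef, if_neg h01], fr.ff 0 1⟩
      he₂ := ⟨fr.ee 0 2, by rw [hfe, if_neg h20]⟩
      hf₂ := ⟨by rw [fr.ef, if_neg h02], fr.ff 0 2⟩
      Qe₁ := fr.Qe 1
      Qf₁ := fr.Qf 1
      Qe₂ := fr.Qe 2
      Qf₂ := fr.Qf 2
      e₁f₁ := by rw [fr.ef, if_pos rfl]
      e₂f₂ := by rw [fr.ef, if_pos rfl]
      e₁e₂ := fr.ee 1 2
      e₁f₂ := by rw [fr.ef, if_neg h12]
      f₁e₂ := by rw [hfe, if_neg h21]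
      f₁f₂ := fr.ff 1 2 }
  have hef : polar Q (fr.e 0) (fr.f 0) = 1 := by rw [fr.ef, if_pos rfl]
  obtain ⟨γ, hγ, hfixe, hfixf⟩ := exists_fix Q hQ hn fr p h5 β (fr.e 0) (fr.f 0) (fr.Qe 0)
    (fr.Qf 0) hef
  obtain ⟨g, σ, hpair, hind⟩ := induced_of_fix Q hQ hn fr p h5 (γ * β) (fr.e 0) (fr.f 0) (fr.e 1)
    (fr.f 1) (fr.e 2) (fr.f 2) fw (fr.Qe 0) (fr.Qf 0) hef hfixe hfixf
  have h1 : γ * β ∈ Cfsg.gammaPOmega F ⇑Q := Subgroup.subset_closure ⟨g, σ, hpair, hind⟩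
  have h2 : β = γ⁻¹ * (γ * β) := by group
  rw [h2]
  exact Subgroup.mul_mem _ (Subgroup.inv_mem _ hγ) h1

end Final

end Cfsg.Agent.Lib.helper49.AutOm
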