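/-
Automorphisms of `PΩ(Q)`, part 9: the three standard forms.
-/
import Mathlib
import Cfsg.Agent.Lib.helper49.AutOmega8
import Cfsg.Agent.Lib.helper42.OrthFrames
import Cfsg.Agent.Lib.helper42.FormsNondeg
import Cfsg.Agent.Lib.helper17.OmRank2

set_option autoImplicit false

namespace Cfsg.Agent.Lib.helper49.AutOm

open Matrix Module QuadraticMap
open Cfsg.Agent.Lib.helper49 Cfsg.Agent.Lib.helper42

section Inst

variable {F : Type*} [Field F] [Fintype F]

theorem two_finrank_self_orth {ι : Type} [Fintype ι] [DecidableEq ι] (Q : QuadraticForm F (ι → F))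
    (hQ : (polarBilin Q).Nondegenerate) (S : Submodule F (ι → F)) (hS : ∀ s ∈ S, Q s = 0)
    (hS' : ∀ x, (∀ s ∈ S, polar Q s x = 0) → x ∈ S) : 2 * finrank F S = Fintype.card ι := by
  have h1 : LinearMap.BilinForm.orthogonal (polarBilin Q) S = S := by
    ext x
    rw [LinearMap.BilinForm.mem_orthogonal_iff]
    constructor
    · intro h
      exact hS' x (fun s hs => by have h' := h s hs; rwa [polarBilin_apply_apply] at h')
    · intro hx s hs
      rw [polarBilin_apply_apply]
      unfold polar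
      rw [hS _ (S.add_mem hs hx), hS s hs, hS x hx]
      simp
  have h2 := LinearMap.BilinForm.finrank_orthogonal hQ S
  rw [h1, Module.finrank_fintype_fun_eq_card] at h2
  have h3 : finrank F S ≤ Fintype.card ι := by
    have h := Submodule.finrank_le S
    rwa [Module.finrank_fintype_fun_eq_card] at h
  omega

/-- the standard hyperbolic frame of the odd-dimensional form -/
noncomputable def oddFrame (m : ℕ) (hm : 3 ≤ m) : HypFrame3 (oddForm m F) where
  e := fun i => Pi.single (Sum.inr (Sum.inl (Fin.castLE hm i))) 1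
  f := fun i => Pi.single (Sum.inr (Sum.inr (Fin.castLE hm i))) 1
  Qe := fun i => oddForm_single_inr m _
  Qf := fun i => oddForm_single_inr m _
  ee := fun i j => by
    rw [polar_oddForm_single]
    simp [gramOdd]
  ff := fun i j => by
    rw [polar_oddForm_single]
    simp [gramOdd]
  ef := fun i j => by
    rw [polar_oddForm_single]
    simp [gramOdd, Matrix.one_apply]

theorem isoAct_sum {ι κ : Type} [Fintype ι] [DecidableEq ι] (Q : (ι → F) → F)
    (g : ↥(Cfsg.isometryGroup F Q)) (s : Finset κ) (x : κ → ι → F) :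
    isoAct Q g (∑ i ∈ s, x i) = ∑ i ∈ s, isoAct Q g (x i) := by
  classical
  induction s using Finset.induction_on with
  | empty => simp [isoAct_zero]
  | insert a s ha ih => rw [Finset.sum_insert ha, Finset.sum_insert ha, isoAct_add, ih]

/-- The minus-type form has no totally singular subspace of dimension `k + 1`. -/
theorem minus_no_ts (k : ℕ) (a c : F)
    (hab : ∀ z₁ z₂ : F, z₁ ^ 2 + a * z₁ * z₂ + c * z₂ ^ 2 = 0 → z₁ = 0 ∧ z₂ = 0)
    (S : Submodule F ((Fin k ⊕ Fin k) ⊕ Fin 2 → F)) (hS : ∀ s ∈ S, minusForm k F a c s = 0)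
    (hd : k + 1 ≤ finrank F S) : False := by
  have hQ := minusForm_nondegenerate k a c hab
  obtain ⟨s, hs⟩ := exists_linearIndependent_of_le_finrank hd
  have hw0 : LinearIndependent F (fun i => S.subtype (s i)) :=
    hs.map' S.subtype (Submodule.ker_subtype S)
  obtain ⟨w, hwdef⟩ : ∃ w : Fin (k + 1) → ((Fin k ⊕ Fin k) ⊕ Fin 2 → F),
      w = fun i => S.subtype (s i) := ⟨_, rfl⟩
  have hw : LinearIndependent F w := by rw [hwdef]; exact hw0
  have hwS : ∀ i, w i ∈ S := fun i => by rw [hwdef]; exact (s i).2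
  have hpolS : ∀ x ∈ S, ∀ y ∈ S, polar (minusForm k F a c) x y = 0 := by
    intro x hx y hy
    unfold polar
    rw [hS _ (S.add_mem hx hy), hS x hx, hS y hy]
    simp
  obtain ⟨v, hvdef⟩ : ∃ v : Fin k → ((Fin k ⊕ Fin k) ⊕ Fin 2 → F),
      v = fun i => w (Fin.castSucc i) := ⟨_, rfl⟩
  obtain ⟨v', hv'def⟩ : ∃ v' : Fin k → ((Fin k ⊕ Fin k) ⊕ Fin 2 → F),
      v' = fun i => Pi.single (Sum.inl (Sum.inl i)) (1 : F) := ⟨_, rfl⟩
  have hv : LinearIndependent F v := by
    rw [hvdef]
    exact hw.comp _ (Fin.castSucc_injective k)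
  have hv' : LinearIndependent F v' := by
    have h1 := (Pi.basisFun F ((Fin k ⊕ Fin k) ⊕ Fin 2)).linearIndependent
    have h2 := h1.comp (fun i : Fin k => (Sum.inl (Sum.inl i) : (Fin k ⊕ Fin k) ⊕ Fin 2))
      (fun i j h => by simpa using h)
    rw [hv'def]
    convert h2 using 1
    funext i
    simp [Pi.basisFun_apply]
  have hv'S : ∀ i, v i ∈ S := fun i => by rw [hvdef]; exact hwS _
  have hQv : ∀ cc : Fin k → F, minusForm k F a c (∑ i, cc i • v i) =
      minusForm k F a c (∑ i, cc i • v' i) := by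
    intro cc
    rw [hS _ (S.sum_mem (fun i _ => S.smul_mem _ (hv'S i)))]
    symm
    show Cfsg.quadFormMinus k F a c (∑ i, cc i • v' i) = 0
    unfold Cfsg.quadFormMinus
    have h1 : ∀ j : Fin k, (∑ i, cc i • v' i) (Sum.inl (Sum.inr j)) = 0 := by
      intro j
      simp [hv'def, Finset.sum_apply]
    have h2 : ∀ t : Fin 2, (∑ i, cc i • v' i) (Sum.inr t) = 0 := by
      intro t
      simp [hv'def, Finset.sum_apply]
    simp only [h1, h2]
    simp
  obtain ⟨g, hg⟩ := exists_isometry_family (minusForm k F a c) hQ v v' hv hv' hQv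
  obtain ⟨y, hy⟩ : ∃ y, y = isoAct (⇑(minusForm k F a c)) g (w (Fin.last k)) := ⟨_, rfl⟩
  have hQy : minusForm k F a c y = 0 := by
    rw [hy, Q_isoAct (⇑(minusForm k F a c)) g]
    exact hS _ (hwS _)
  have hye : ∀ i, polar (minusForm k F a c) y (v' i) = 0 := by
    intro i
    rw [hy, ← hg i, polar_isoAct]
    exact hpolS _ (hwS _) _ (hv'S i)
  have hyf : ∀ i : Fin k, y (Sum.inl (Sum.inr i)) = 0 := by
    intro i
    have h := hye i
    rw [hv'def, minusForm_coe, polar_quadFormMinus, Matrix.toBilin'_apply',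
      Matrix.mulVec_single_one] at h
    simpa [dotProduct, gramMinusL, Fintype.sum_sum_type, Matrix.one_apply, Matrix.col] using h
  have hbin : y (Sum.inr 0) = 0 ∧ y (Sum.inr 1) = 0 := by
    apply hab
    have h : Cfsg.quadFormMinus k F a c y = 0 := hQy
    unfold Cfsg.quadFormMinus at h
    simp only [hyf, mul_zero, Finset.sum_const_zero, zero_add] at h
    exact h
  have hyeq : y = ∑ i, y (Sum.inl (Sum.inl i)) • v' i := by
    ext j
    rcases j with (j | j) | j
    · simp [hv'def, Finset.sum_apply, Pi.single_apply]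
    · simp [hv'def, Finset.sum_apply, hyf]
    · fin_cases j
      · simp [hv'def, Finset.sum_apply, hbin.1]
      · simp [hv'def, Finset.sum_apply, hbin.2]
  have hlast : w (Fin.last k) = ∑ i, y (Sum.inl (Sum.inl i)) • v i := by
    have h1 : isoAct (⇑(minusForm k F a c)) g (∑ i, y (Sum.inl (Sum.inl i)) • v i) = y := by
      rw [isoAct_sum]
      conv_rhs => rw [hyeq]
      exact Finset.sum_congr rfl (fun i _ => by rw [isoAct_smul, hg i])
    have h2 := congrArg (fun x => isoAct (⇑(minusForm k F a c)) g⁻¹ x) h1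
    beta_reduce at h2
    have h3 : isoAct (⇑(minusForm k F a c)) g⁻¹ y = w (Fin.last k) := by
      rw [hy, isoAct_inv_isoAct]
    rw [isoAct_inv_isoAct, h3] at h2
    exact h2.symm
  have hrel : ∑ i, (Fin.snoc (fun i : Fin k => y (Sum.inl (Sum.inl i))) (-1 : F) : Fin (k + 1) → F) i
      • w i = 0 := by
    rw [Fin.sum_univ_castSucc]
    simp only [Fin.snoc_castSucc, Fin.snoc_last]
    have h3 : ∑ i : Fin k, y (Sum.inl (Sum.inl i)) • w (Fin.castSucc i) = w (Fin.last k) := by
      rw [hlast, hvdef]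
    rw [h3, neg_one_smul, add_neg_cancel]
  have hlin := Fintype.linearIndependent_iff.mp hw _ hrel (Fin.last k)
  rw [Fin.snoc_last] at hlin
  exact one_ne_zero (neg_eq_zero.mp hlin)

theorem gamma_odd (hodd : Odd (Fintype.card F)) {m : ℕ} (hm : 3 ≤ m) :
    Cfsg.gammaPOmega F (Cfsg.quadFormOdd m F) = ⊤ := by
  have h2 : (2 : F) ≠ 0 := Cfsg.Agent.Lib.helper17.two_ne_zero_of_odd_card hodd
  have hQ := Cfsg.Agent.Lib.helper17.oddForm_nondeg17 h2 m
  have hcard : Fintype.card (Unit ⊕ (Fin m ⊕ Fin m)) = 2 * m + 1 := by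
    simp only [Fintype.card_sum, Fintype.card_fin, Fintype.card_unit]
    omega
  rw [← oddForm_coe]
  apply gammaPOmega_eq_top (oddForm m F) hQ (by rw [hcard]; omega) (oddFrame m hm)
  intro S hS hS'
  have h := two_finrank_self_orth (oddForm m F) hQ S hS hS'
  rw [hcard] at h
  omega

theorem gamma_plus {m : ℕ} (hm : 5 ≤ m) :
    Cfsg.gammaPOmega F (Cfsg.quadFormPlus m F) = ⊤ := by
  have hQ : (polarBilin (plusForm m F)).Nondegenerate := plusForm_nondegenerate m
  have hcard : Fintype.card (Fin m ⊕ Fin m) = 2 * m := by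
    simp only [Fintype.card_sum, Fintype.card_fin]
    omega
  rw [← plusForm_coe]
  apply gammaPOmega_eq_top (plusForm m F) hQ (by rw [hcard]; omega) (plusFrame m (by omega))
  intro S hS hS'
  have h := two_finrank_self_orth (plusForm m F) hQ S hS hS'
  rw [hcard] at h
  omega

theorem gamma_minus {m : ℕ} (hm : 3 ≤ m) (a b : F)
    (hab : ∀ z₁ z₂ : F, z₁ ^ 2 + a * z₁ * z₂ + b * z₂ ^ 2 = 0 → z₁ = 0 ∧ z₂ = 0) :
    Cfsg.gammaPOmega F (Cfsg.quadFormMinus m F a b) = ⊤ := by
  have hQ := minusForm_nondegenerate m a b hab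
  have hcard : Fintype.card ((Fin m ⊕ Fin m) ⊕ Fin 2) = 2 * m + 2 := by
    simp only [Fintype.card_sum, Fintype.card_fin]
    omega
  rw [← minusForm_coe]
  apply gammaPOmega_eq_top (minusForm m F a b) hQ (by rw [hcard]; omega) (minusFrame' m hm a b)
  intro S hS hS'
  have h := two_finrank_self_orth (minusForm m F a b) hQ S hS hS'
  rw [hcard] at h
  exact (minus_no_ts m a b hab S hS (by omega)).elim

end Inst

end Cfsg.Agent.Lib.helper49.AutOm
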