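/-
Field automorphisms of orthogonal groups, part 1: generic bookkeeping for automorphisms of `PΩ(Q)`
induced by semisimilarity pairs; Hilbert 90 over an arbitrary index type.
-/
import Mathlib
import Cfsg.Agent.Lib.helper49.AutOmega9
import Cfsg.Agent.Lib.helper42.SemiSim
import Cfsg.Agent.Lib.helper42.SemiFaithful
import Cfsg.Agent.Lib.helper42.AutImage2
import Cfsg.Agent.Lib.helper47.PSLnH90

set_option autoImplicit false

namespace Cfsg.Agent.Lib.helper49.OddField

open Matrix Module QuadraticMap Cfsg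
open Cfsg.Agent.Lib.helper49 Cfsg.Agent.Lib.helper42

section Gen

variable {F : Type*} [Field F] {ι : Type} [Fintype ι] [DecidableEq ι]

theorem GLmap_refl (g : GL ι F) :
    Matrix.GeneralLinearGroup.map (RingEquiv.refl F : F →+* F) g = g := by
  apply Units.ext
  rw [GLmap_val]
  ext i j
  rfl

theorem scalar_val (c : Fˣ) :
    ((GeneralLinearGroup.scalar ι c : GL ι F) : Matrix ι ι F) = (c : F) • 1 := by
  ext i j
  simp [GeneralLinearGroup.scalar, Matrix.one_apply, Matrix.diagonal_apply]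

/-- The twisted powers `g σ(g) ⋯ σ^{k-1}(g)`. -/
def NkGL (σ : F ≃+* F) (g : GL ι F) : ℕ → GL ι F
  | 0 => 1
  | k + 1 => g * Matrix.GeneralLinearGroup.map (σ : F →+* F) (NkGL σ g k)

theorem pair_pow (Q : (ι → F) → F) (g : GL ι F) (σ : F ≃+* F) (hp : IsSemisimilarityPair Q g σ)
    (k : ℕ) : IsSemisimilarityPair Q (NkGL σ g k) (σ ^ k) := by
  induction k with
  | zero => exact pair_one Q
  | succ k ih =>
    have h := pair_mul Q g (NkGL σ g k) σ (σ ^ k) hp ih
    rw [pow_succ']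
    exact h

theorem induced_pow (Q : (ι → F) → F) (g : GL ι F) (σ : F ≃+* F) (hp : IsSemisimilarityPair Q g σ)
    (y : MulAut (POmega F Q)) (hy : IsInducedBySemilinearPOmega Q g σ y) (k : ℕ) :
    IsInducedBySemilinearPOmega Q (NkGL σ g k) (σ ^ k) (y ^ k) := by
  induction k with
  | zero =>
    rw [pow_zero]
    exact induced_one Q
  | succ k ih =>
    have h := induced_mul Q g (NkGL σ g k) σ (σ ^ k) (pair_pow Q g σ hp k) y (y ^ k) hy ih
    rw [pow_succ', pow_succ']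
    exact h

theorem reindex_NkGL (σ : F ≃+* F) (g : GL ι F) {n : ℕ} (e : ι ≃ Fin n) (k : ℕ) :
    Matrix.reindex e e ((NkGL σ g k : GL ι F) : Matrix ι ι F) =
      Cfsg.Agent.Lib.helper47.PSLn.Nk σ (Matrix.reindex e e (g : Matrix ι ι F)) k := by
  induction k with
  | zero =>
    show Matrix.reindex e e (1 : Matrix ι ι F) = 1
    rw [Matrix.reindex_apply, Matrix.submatrix_one_equiv]
  | succ k ih =>
    rw [Cfsg.Agent.Lib.helper47.PSLn.Nk_succ, ← ih]
    show Matrix.reindex e e ((g : Matrix ι ι F) *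
      ((Matrix.GeneralLinearGroup.map (σ : F →+* F) (NkGL σ g k) : GL ι F) : Matrix ι ι F)) = _
    rw [GLmap_val, Matrix.reindex_apply, Matrix.reindex_apply, Matrix.reindex_apply,
      ← Matrix.submatrix_map, Matrix.submatrix_mul_equiv]

/-- **Hilbert 90** for `GL` over an arbitrary index type, in projective form. -/
theorem exists_h90 [Finite F] [Nonempty ι] (σ : F ≃+* F) (r : ℕ) (hr : 0 < r)
    (hσ : orderOf σ = r) (g : GL ι F) (l : F) (hl0 : l ≠ 0)
    (hl : ((NkGL σ g r : GL ι F) : Matrix ι ι F) = l • 1) :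
    ∃ (H : Matrix ι ι F) (μ : F), μ ≠ 0 ∧ H.det ≠ 0 ∧
      (g : Matrix ι ι F) * H.map σ = μ • H := by
  classical
  obtain ⟨e⟩ : Nonempty (ι ≃ Fin (Fintype.card ι)) := ⟨Fintype.equivFin ι⟩
  obtain ⟨G', hG'⟩ : ∃ G' : Matrix (Fin (Fintype.card ι)) (Fin (Fintype.card ι)) F,
      G' = Matrix.reindex e e (g : Matrix ι ι F) := ⟨_, rfl⟩
  have hl' : Cfsg.Agent.Lib.helper47.PSLn.Nk σ G' r = l • 1 := by
    rw [hG', ← reindex_NkGL, hl]
    ext i j
    simp [Matrix.one_apply]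
  have hσr : σ ^ r = 1 := by rw [← hσ]; exact pow_orderOf_eq_one σ
  have hG'0 : G' ≠ 0 := by
    intro h
    have h1 : (g : Matrix ι ι F) = 0 := by
      apply (Matrix.reindex e e).injective
      rw [← hG', h]
      rfl
    have h2 : (g : Matrix ι ι F).det ≠ 0 := by
      have := (Matrix.isUnit_iff_isUnit_det _).mp g.isUnit
      exact this.ne_zero
    rw [h1, Matrix.det_zero] at h2
    exact h2 rfl
  have hfix : σ l = l := by
    have h1 : Cfsg.Agent.Lib.helper47.PSLn.Nk σ G' (r + 1) = σ l • G' := by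
      rw [Cfsg.Agent.Lib.helper47.PSLn.Nk_succ, hl', Cfsg.Agent.Lib.helper47.PSLn.map_smul',
        Cfsg.Agent.Lib.helper47.PSLn.map_one', Matrix.mul_smul, Matrix.mul_one]
    have h2 : Cfsg.Agent.Lib.helper47.PSLn.Nk σ G' (r + 1) = l • G' := by
      rw [Cfsg.Agent.Lib.helper47.PSLn.Nk_succ', hl', hσr, Matrix.smul_mul, Matrix.one_mul]
      congr 1
    have h3 : (σ l - l) • G' = 0 := by rw [sub_smul, ← h1, ← h2, sub_self]
    rcases smul_eq_zero.mp h3 with h | h
    · exact sub_eq_zero.mp h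
    · exact absurd h hG'0
  obtain ⟨μ, hμ⟩ := Cfsg.Agent.Lib.helper47.PSLn.exists_norm_eq σ l hfix
  rw [hσ] at hμ
  have hμ0 : μ ≠ 0 := by
    rintro rfl
    rw [Finset.prod_eq_zero (Finset.mem_range.mpr hr) (by simp)] at hμ
    exact hl0 hμ.symm
  have hN' : Cfsg.Agent.Lib.helper47.PSLn.Nk σ (μ⁻¹ • G') r = 1 := by
    rw [Cfsg.Agent.Lib.helper47.PSLn.Nk_smul, hl', smul_smul]
    have : (∏ i ∈ Finset.range r, (σ ^ i) μ⁻¹) = l⁻¹ := by
      rw [← hμ, ← Finset.prod_inv_distrib]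
      exact Finset.prod_congr rfl (fun i _ => map_inv₀ _ _)
    rw [this, inv_mul_cancel₀ hl0, one_smul]
  obtain ⟨H', hu, hh⟩ := Cfsg.Agent.Lib.helper47.PSLn.hilbert90_GL σ (μ⁻¹ • G') r hr hσ hN'
  have hh' : G' * H'.map σ = μ • H' := by
    rw [Matrix.smul_mul] at hh
    conv_rhs => rw [← hh]
    rw [smul_smul, mul_inv_cancel₀ hμ0, one_smul]
  refine ⟨Matrix.reindex e.symm e.symm H', μ, hμ0, ?_, ?_⟩
  · rw [Matrix.det_reindex_self]
    exact ((Matrix.isUnit_iff_isUnit_det _).mp hu).ne_zero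
  · apply (Matrix.reindex e e).injective
    have e1 : Matrix.reindex e e ((g : Matrix ι ι F) * (Matrix.reindex e.symm e.symm H').map σ)
        = G' * H'.map σ := by
      rw [hG', Matrix.reindex_apply, Matrix.reindex_apply, Matrix.reindex_apply,
        ← Matrix.submatrix_mul_equiv (g : Matrix ι ι F) _ e.symm e.symm e.symm, Matrix.submatrix_map,
        Matrix.submatrix_submatrix]
      simp
    have e2 : Matrix.reindex e e (μ • Matrix.reindex e.symm e.symm H') = μ • H' := by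
      ext i j
      simp
    rw [e1, e2, hh']

/-- Multiplying the matrix of a semisimilarity by a scalar does not change the induced
automorphism. -/
theorem induced_scalar_mul (Q : (ι → F) → F) (g : GL ι F) (σ : F ≃+* F) (c : Fˣ)
    (β : MulAut (POmega F Q)) (h : IsInducedBySemilinearPOmega Q g σ β) :
    IsInducedBySemilinearPOmega Q (GeneralLinearGroup.scalar ι c * g) σ β := by
  rw [induced_GL_iff] at h ⊢
  intro s s' hs'
  apply h s s'
  rw [hs', _root_.mul_inv_rev]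
  have hc := GeneralLinearGroup.scalar_commute c
    (g * Matrix.GeneralLinearGroup.map (σ : F →+* F) ((s : ↥(isometryGroup F Q)) : GL ι F) * g⁻¹)
  calc GeneralLinearGroup.scalar ι c * g *
        Matrix.GeneralLinearGroup.map (σ : F →+* F) ((s : ↥(isometryGroup F Q)) : GL ι F) *
        (g⁻¹ * (GeneralLinearGroup.scalar ι c)⁻¹)
      = GeneralLinearGroup.scalar ι c * (g *
        Matrix.GeneralLinearGroup.map (σ : F →+* F) ((s : ↥(isometryGroup F Q)) : GL ι F) *
        g⁻¹) * (GeneralLinearGroup.scalar ι c)⁻¹ := by group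
    _ = _ := by rw [hc, mul_inv_cancel_right]

/-- The automorphism induced by a semisimilarity pair is unique. -/
theorem induced_unique (Q : (ι → F) → F) (g : GL ι F) (σ : F ≃+* F)
    (hp : IsSemisimilarityPair Q g σ) (β₁ β₂ : MulAut (POmega F Q))
    (h₁ : IsInducedBySemilinearPOmega Q g σ β₁) (h₂ : IsInducedBySemilinearPOmega Q g σ β₂) :
    β₁ = β₂ := by
  rw [induced_GL_iff] at h₁ h₂
  ext x
  induction x using QuotientGroup.induction_on with
  | H s =>
    obtain ⟨s', hs'⟩ := exists_semiConj_Omega Q g σ hp s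
    rw [h₁ s s' hs', h₂ s s' hs']

theorem pair_of_similarity (Q : (ι → F) → F) (k : GL ι F)
    (hk : k ∈ Geo.quadSimilarityGroup (F := F) Q) : IsSemisimilarityPair Q k (RingEquiv.refl F) :=
  hk

/-- Conjugating by the automorphism induced by a similarity. -/
theorem induced_conj (Q : (ι → F) → F) (k : GL ι F)
    (hk : k ∈ Geo.quadSimilarityGroup (F := F) Q) (g : GL ι F) (σ : F ≃+* F)
    (hp : IsSemisimilarityPair Q g σ) (y : MulAut (POmega F Q))
    (hy : IsInducedBySemilinearPOmega Q g σ y) :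
    IsInducedBySemilinearPOmega Q (k * g * (Matrix.GeneralLinearGroup.map (σ : F →+* F) k)⁻¹) σ
      (PsiAut Q ⟨k, hk⟩ * y * (PsiAut Q ⟨k, hk⟩)⁻¹) := by
  have hψ : IsInducedBySemilinearPOmega Q k (RingEquiv.refl F) (PsiAut Q ⟨k, hk⟩) :=
    (induced_iff Q k hk _).mpr rfl
  have hki : k⁻¹ ∈ Geo.quadSimilarityGroup (F := F) Q := Subgroup.inv_mem _ hk
  have hψi : IsInducedBySemilinearPOmega Q k⁻¹ (RingEquiv.refl F) (PsiAut Q ⟨k, hk⟩)⁻¹ := by
    rw [induced_iff Q k⁻¹ hki, ← map_inv]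
    rfl
  have step1 := induced_mul Q k g (RingEquiv.refl F) σ hp _ y hψ hy
  have step2 := induced_mul Q _ k⁻¹ _ (RingEquiv.refl F) (pair_of_similarity Q k⁻¹ hki) _ _
    step1 hψi
  have e1 : (RingEquiv.refl F).trans (σ.trans (RingEquiv.refl F)) = σ :=
    RingEquiv.ext (fun _ => rfl)
  have e2 : σ.trans (RingEquiv.refl F) = σ := RingEquiv.ext (fun _ => rfl)
  rw [e1, e2, GLmap_refl, map_inv] at step2
  exact step2

/-- `β` is induced by a semisimilarity with field automorphism `σ`. -/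
def SemiInd (Q : (ι → F) → F) (β : MulAut (POmega F Q)) (σ : F ≃+* F) : Prop :=
  ∃ g : GL ι F, IsSemisimilarityPair Q g σ ∧ IsInducedBySemilinearPOmega Q g σ β

theorem SemiInd.mul {Q : (ι → F) → F} {β₁ β₂ : MulAut (POmega F Q)} {σ₁ σ₂ : F ≃+* F}
    (h₁ : SemiInd Q β₁ σ₁) (h₂ : SemiInd Q β₂ σ₂) : SemiInd Q (β₁ * β₂) (σ₂.trans σ₁) := by
  obtain ⟨g₁, p₁, i₁⟩ := h₁
  obtain ⟨g₂, p₂, i₂⟩ := h₂
  exact ⟨_, pair_mul Q g₁ g₂ σ₁ σ₂ p₁ p₂, induced_mul Q g₁ g₂ σ₁ σ₂ p₂ β₁ β₂ i₁ i₂⟩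

theorem SemiInd.inv {Q : (ι → F) → F} {β : MulAut (POmega F Q)} {σ : F ≃+* F}
    (h : SemiInd Q β σ) : SemiInd Q β⁻¹ σ.symm := by
  obtain ⟨g, p, i⟩ := h
  exact ⟨_, pair_inv Q g σ p, induced_inv Q g σ β i⟩

theorem SemiInd.eq_refl_of_one (h2 : (2 : F) ≠ 0) (Q : QuadraticForm F (ι → F))
    (hQ : (polarBilin Q).Nondegenerate) (fr : HypFrame3 Q) (h5 : 5 ≤ Fintype.card ι)
    {σ : F ≃+* F} (h : SemiInd (⇑Q) 1 σ) : σ = RingEquiv.refl F := by
  obtain ⟨g, p, i⟩ := h
  exact RingEquiv.ext (sigma_fix_of_induced_one h2 Q hQ fr h5 g σ p i)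

end Gen

end Cfsg.Agent.Lib.helper49.OddField
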