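/-
Shared lemmas (helper49): anti-isometries of even-dimensional quadratic spaces over finite fields, and
the consequence that an orthogonal sum of two isometric even-dimensional spaces is of plus type.
-/
import Mathlib
import Cfsg.Prelude.Def_Classical
import Cfsg.Prelude.Def_ClassicalGeometry
import Cfsg.Prelude.Def_GeometricClasses
import Cfsg.Agent.S2616
import Cfsg.Agent.Lib.helper49.NondegStab

set_option autoImplicit false
set_option linter.unusedSectionVars false

namespace Cfsg.Agent.Lib.helper49

open Matrix Module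

section AntiIso

variable {F : Type*} [Field F]

/-- Two quadratic forms agreeing on a basis, with polar forms agreeing on pairs of distinct basis
vectors, are equal. -/
theorem quad_ext_basis {V κ : Type*} [AddCommGroup V] [Module F V] [Fintype κ]
    (Q₁ Q₂ : QuadraticForm F V) (b : Basis κ F V) (h1 : ∀ i, Q₁ (b i) = Q₂ (b i))
    (h2 : ∀ i j, i ≠ j → QuadraticMap.polar Q₁ (b i) (b j) = QuadraticMap.polar Q₂ (b i) (b j))
    (x : V) : Q₁ x = Q₂ x := by
  have hD := map_sum_ortho (Q₁ - Q₂) b (fun i j hij => by
    have := h2 i j hij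
    simp only [QuadraticMap.polar, _root_.sub_apply] at this ⊢
    linear_combination this) (b.repr x) Finset.univ
  rw [b.sum_repr] at hD
  have h0 : ∑ i, b.repr x i * b.repr x i * (Q₁ - Q₂) (b i) = 0 := by
    apply Finset.sum_eq_zero
    intro i _
    rw [_root_.sub_apply, h1 i, sub_self, mul_zero]
  rw [h0, _root_.sub_apply] at hD
  exact sub_eq_zero.mp hD

/-- An anti-isometry defined on a basis. -/
theorem antiIso_of_basis {V κ : Type*} [AddCommGroup V] [Module F V] [Fintype κ]
    (Q : QuadraticForm F V) (b : Basis κ F V) (φ : κ → V) (h1 : ∀ i, Q (φ i) = -Q (b i))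
    (h2 : ∀ i j, i ≠ j → QuadraticMap.polar Q (φ i) (φ j) = -QuadraticMap.polar Q (b i) (b j)) :
    ∃ θ : V →ₗ[F] V, ∀ v, Q (θ v) = -Q v := by
  refine ⟨b.constr F φ, fun v => ?_⟩
  have key := quad_ext_basis (Q.comp (b.constr F φ)) (-Q) b ?_ ?_ v
  · simpa using key
  · intro i
    rw [QuadraticMap.comp_apply, Basis.constr_basis, h1 i]
    rfl
  · intro i j hij
    have e1 : QuadraticMap.polar (Q.comp (b.constr F φ)) (b i) (b j) =
        QuadraticMap.polar Q (φ i) (φ j) := by
      simp only [QuadraticMap.polar, QuadraticMap.comp_apply, map_add, Basis.constr_basis]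
    have e2 : QuadraticMap.polar (-Q) (b i) (b j) = -QuadraticMap.polar Q (b i) (b j) := by
      simp only [QuadraticMap.polar, _root_.neg_apply]
      ring
    rw [e1, e2, h2 i j hij]

/-- `-1` is a value of the norm form `a² + ab + ζ b²`. -/
theorem exists_norm_neg_one [Fintype F] (ζ : F) (hζ : ∀ t : F, t ^ 2 + t + ζ ≠ 0) :
    ∃ α β : F, α * α + α * β + ζ * (β * β) = -1 := by
  classical
  obtain ⟨v, hv0, hv⟩ := exists_singular_of_three_le_finrank
    (Matrix.toQuadraticForm' (!![1, 1, 0; 0, ζ, 0; 0, 0, 1] : Matrix (Fin 3) (Fin 3) F)) (by simp)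
  have hv' : v 0 * v 0 + v 0 * v 1 + ζ * (v 1 * v 1) + v 2 * v 2 = 0 := by
    have := hv
    simp [Matrix.toQuadraticForm', LinearMap.BilinMap.toQuadraticMap_apply, Matrix.toLinearMap₂'_apply',
      dotProduct, Matrix.mulVec, Fin.sum_univ_three] at this
    linear_combination this
  by_cases hc : v 2 = 0
  · exfalso
    rw [hc] at hv'
    by_cases hb : v 1 = 0
    · rw [hb] at hv'
      have h00 : v 0 = 0 := by simpa using hv'
      apply hv0
      ext i
      fin_cases i <;> simp [h00, hb, hc]
    · apply hζ (v 0 / v 1)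
      field_simp
      linear_combination hv'
  · refine ⟨v 0 / v 2, v 1 / v 2, ?_⟩
    field_simp
    linear_combination hv'

end AntiIso

section Exists

variable {F V : Type*} [Field F] [Fintype F] [AddCommGroup V] [Module F V] [FiniteDimensional F V]

/-- Every non-degenerate even-dimensional quadratic space over a finite field has an anti-isometry. -/
theorem exists_antiIso (Q : QuadraticForm F V) (hQ : (QuadraticMap.polarBilin Q).Nondegenerate)
    (hev : Even (finrank F V)) : ∃ θ : V →ₗ[F] V, ∀ v, Q (θ v) = -Q v := by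
  classical
  obtain ⟨m, hm⟩ := hev
  rcases Nat.eq_zero_or_pos m with h0 | hpos
  · refine ⟨0, fun v => ?_⟩
    have hfr : finrank F V = 0 := by omega
    have hsub : Subsingleton V := finrank_zero_iff.mp hfr
    have hv : v = 0 := Subsingleton.elim v 0
    rw [hv]
    simp
  · rcases Cfsg.Agent.S2616.result (m := m) hpos (by omega) Q hQ with
      ⟨b, hb1, hb2, hb3⟩ | ⟨b, ζ, hζ, hb1, hb2, hb3, hb4, hx, hxy, hy⟩
    · apply antiIso_of_basis Q b (Sum.elim (fun i => b (Sum.inl i)) (fun i => -b (Sum.inr i)))
      · rintro (i | i)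
        · simp [(hb1 i).1]
        · simp [(hb1 i).2]
      · rintro (i | i) (j | j) hij
        · simp [(hb3 i j).1]
        · simp
        · simp
        · simp [(hb3 i j).2]
    · obtain ⟨α, β, hαβ⟩ := exists_norm_neg_one ζ hζ
      have hyx : QuadraticMap.polar Q (b (Sum.inr 1)) (b (Sum.inr 0)) = 1 := by
        rw [QuadraticMap.polar_comm]
        exact hxy
      have hxx : QuadraticMap.polar Q (b (Sum.inr 0)) (b (Sum.inr 0)) = 2 := by
        rw [QuadraticMap.polar_self, hx]
        simp
      have hyy : QuadraticMap.polar Q (b (Sum.inr 1)) (b (Sum.inr 1)) = 2 * ζ := by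
        rw [QuadraticMap.polar_self, hy]
        simp
      have P0 : Q (α • b (Sum.inr 0) + β • b (Sum.inr 1)) = -1 := by
        rw [QuadraticMap.map_add Q, QuadraticMap.map_smul, QuadraticMap.map_smul,
          QuadraticMap.polar_smul_left, QuadraticMap.polar_smul_right, hx, hy, hxy]
        simp only [smul_eq_mul]
        linear_combination hαβ
      have P1 : Q ((-(ζ * β)) • b (Sum.inr 0) + (α + β) • b (Sum.inr 1)) = -ζ := by
        rw [QuadraticMap.map_add Q, QuadraticMap.map_smul, QuadraticMap.map_smul,
          QuadraticMap.polar_smul_left, QuadraticMap.polar_smul_right, hx, hy, hxy]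
        simp only [smul_eq_mul]
        linear_combination ζ * hαβ
      have P2 : QuadraticMap.polar Q (α • b (Sum.inr 0) + β • b (Sum.inr 1))
          ((-(ζ * β)) • b (Sum.inr 0) + (α + β) • b (Sum.inr 1)) = -1 := by
        simp only [QuadraticMap.polar_add_left, QuadraticMap.polar_add_right, QuadraticMap.polar_smul_left,
          QuadraticMap.polar_smul_right, hxx, hxy, hyx, hyy, smul_eq_mul]
        linear_combination hαβ
      have c1 : ∀ i (k : Fin 2), QuadraticMap.polar Q (b (Sum.inr k)) (b (Sum.inl (Sum.inl i))) = 0 := by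
        intro i k
        rw [QuadraticMap.polar_comm]
        exact (hb4 i k).1
      have c2 : ∀ i (k : Fin 2), QuadraticMap.polar Q (b (Sum.inr k)) (b (Sum.inl (Sum.inr i))) = 0 := by
        intro i k
        rw [QuadraticMap.polar_comm]
        exact (hb4 i k).2
      apply antiIso_of_basis Q b (Sum.elim (Sum.elim (fun i => b (Sum.inl (Sum.inl i)))
        (fun i => -b (Sum.inl (Sum.inr i))))
        ![α • b (Sum.inr 0) + β • b (Sum.inr 1), (-(ζ * β)) • b (Sum.inr 0) + (α + β) • b (Sum.inr 1)])
      · rintro ((i | i) | i)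
        · simp [(hb1 i).1]
        · simp [(hb1 i).2]
        · fin_cases i
          · show Q (α • b (Sum.inr 0) + β • b (Sum.inr 1)) = -Q (b (Sum.inr 0))
            rw [P0, hx]
          · show Q ((-(ζ * β)) • b (Sum.inr 0) + (α + β) • b (Sum.inr 1)) = -Q (b (Sum.inr 1))
            rw [P1, hy]
      · rintro ((i | i) | i) ((j | j) | j) hij
        · simp [(hb3 i j).1]
        · simp
        · fin_cases j
          · show QuadraticMap.polar Q (b (Sum.inl (Sum.inl i))) (α • b (Sum.inr 0) + β • b (Sum.inr 1)) =
              -QuadraticMap.polar Q (b (Sum.inl (Sum.inl i))) (b (Sum.inr 0))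
            rw [QuadraticMap.polar_add_right, QuadraticMap.polar_smul_right, QuadraticMap.polar_smul_right,
              (hb4 i 0).1, (hb4 i 1).1]
            simp
          · show QuadraticMap.polar Q (b (Sum.inl (Sum.inl i)))
                ((-(ζ * β)) • b (Sum.inr 0) + (α + β) • b (Sum.inr 1)) =
              -QuadraticMap.polar Q (b (Sum.inl (Sum.inl i))) (b (Sum.inr 1))
            rw [QuadraticMap.polar_add_right, QuadraticMap.polar_smul_right, QuadraticMap.polar_smul_right,
              (hb4 i 0).1, (hb4 i 1).1]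
            simp
        · simp
        · simp [(hb3 i j).2]
        · fin_cases j
          · show QuadraticMap.polar Q (-b (Sum.inl (Sum.inr i))) (α • b (Sum.inr 0) + β • b (Sum.inr 1)) =
              -QuadraticMap.polar Q (b (Sum.inl (Sum.inr i))) (b (Sum.inr 0))
            rw [QuadraticMap.polar_neg_left, QuadraticMap.polar_add_right, QuadraticMap.polar_smul_right,
              QuadraticMap.polar_smul_right, (hb4 i 0).2, (hb4 i 1).2]
            simp
          · show QuadraticMap.polar Q (-b (Sum.inl (Sum.inr i)))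
                ((-(ζ * β)) • b (Sum.inr 0) + (α + β) • b (Sum.inr 1)) =
              -QuadraticMap.polar Q (b (Sum.inl (Sum.inr i))) (b (Sum.inr 1))
            rw [QuadraticMap.polar_neg_left, QuadraticMap.polar_add_right, QuadraticMap.polar_smul_right,
              QuadraticMap.polar_smul_right, (hb4 i 0).2, (hb4 i 1).2]
            simp
        · fin_cases i
          · show QuadraticMap.polar Q (α • b (Sum.inr 0) + β • b (Sum.inr 1)) (b (Sum.inl (Sum.inl j))) =
              -QuadraticMap.polar Q (b (Sum.inr 0)) (b (Sum.inl (Sum.inl j)))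
            rw [QuadraticMap.polar_add_left, QuadraticMap.polar_smul_left, QuadraticMap.polar_smul_left,
              c1 j 0, c1 j 1]
            simp
          · show QuadraticMap.polar Q ((-(ζ * β)) • b (Sum.inr 0) + (α + β) • b (Sum.inr 1))
                (b (Sum.inl (Sum.inl j))) =
              -QuadraticMap.polar Q (b (Sum.inr 1)) (b (Sum.inl (Sum.inl j)))
            rw [QuadraticMap.polar_add_left, QuadraticMap.polar_smul_left, QuadraticMap.polar_smul_left,
              c1 j 0, c1 j 1]
            simp
        · fin_cases i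
          · show QuadraticMap.polar Q (α • b (Sum.inr 0) + β • b (Sum.inr 1)) (-b (Sum.inl (Sum.inr j))) =
              -QuadraticMap.polar Q (b (Sum.inr 0)) (b (Sum.inl (Sum.inr j)))
            rw [QuadraticMap.polar_neg_right, QuadraticMap.polar_add_left, QuadraticMap.polar_smul_left,
              QuadraticMap.polar_smul_left, c2 j 0, c2 j 1]
            simp
          · show QuadraticMap.polar Q ((-(ζ * β)) • b (Sum.inr 0) + (α + β) • b (Sum.inr 1))
                (-b (Sum.inl (Sum.inr j))) =
              -QuadraticMap.polar Q (b (Sum.inr 1)) (b (Sum.inl (Sum.inr j)))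
            rw [QuadraticMap.polar_neg_right, QuadraticMap.polar_add_left, QuadraticMap.polar_smul_left,
              QuadraticMap.polar_smul_left, c2 j 0, c2 j 1]
            simp
        · fin_cases i <;> fin_cases j
          · exact absurd rfl hij
          · show QuadraticMap.polar Q (α • b (Sum.inr 0) + β • b (Sum.inr 1))
                ((-(ζ * β)) • b (Sum.inr 0) + (α + β) • b (Sum.inr 1)) =
              -QuadraticMap.polar Q (b (Sum.inr 0)) (b (Sum.inr 1))
            rw [P2, hxy]
          · show QuadraticMap.polar Q ((-(ζ * β)) • b (Sum.inr 0) + (α + β) • b (Sum.inr 1))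
                (α • b (Sum.inr 0) + β • b (Sum.inr 1)) =
              -QuadraticMap.polar Q (b (Sum.inr 1)) (b (Sum.inr 0))
            rw [QuadraticMap.polar_comm, P2, hyx]
          · exact absurd rfl hij

end Exists

section PlusType

variable {F : Type*} [Field F] [Fintype F] {ι : Type} [Fintype ι] [DecidableEq ι]

/-- If an isometry maps `W` into its orthogonal complement `W'` of the same even dimension, the whole
space is of plus type. -/
theorem OrthSplit.isPlusTypeOn_top_of_maps {Q : QuadraticForm F (ι → F)} {W W' : Submodule F (ι → F)}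
    (h : OrthSplit Q W W') (hQ : (QuadraticMap.polarBilin Q).Nondegenerate)
    (hev : Even (finrank F W)) (hdim : finrank F W = finrank F W')
    (g : ↥(Cfsg.isometryGroup F ⇑Q)) (hg : ∀ u ∈ W, isoAct (⇑Q) g u ∈ W') :
    Cfsg.Geo.IsPlusTypeOn (⇑Q) ⊤ := by
  have hndW : (QuadraticMap.polarBilin (restrictQ Q W)).Nondegenerate := by
    rw [nondegenerate_restrictQ_iff]
    intro w hw hw'
    by_contra hw0
    obtain ⟨v, hv, hwv⟩ := h.exists_polar_ne hQ hw hw0
    exact hwv (hw' v hv)
  obtain ⟨θ, hθ⟩ := exists_antiIso (restrictQ Q W) hndW hev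
  let f : ↥W →ₗ[F] (ι → F) := W.subtype +
    (Matrix.mulVecLin ((g : Matrix.GeneralLinearGroup ι F) : Matrix ι ι F)) ∘ₗ W.subtype ∘ₗ θ
  have hf : ∀ w : ↥W, f w = (w : ι → F) + isoAct (⇑Q) g ((θ w : ↥W) : ι → F) := fun w => rfl
  have hinj : Function.Injective f := by
    rw [← LinearMap.ker_eq_bot, LinearMap.ker_eq_bot']
    intro w hw
    rw [hf] at hw
    have h1 : (w : ι → F) = -isoAct (⇑Q) g ((θ w : ↥W) : ι → F) := eq_neg_of_add_eq_zero_left hw
    have h2 : (w : ι → F) ∈ W' := by
      rw [h1]
      exact W'.neg_mem (hg _ (θ w).2)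
    exact Subtype.ext (h.eq_zero_of_mem w.2 h2)
  refine ⟨LinearMap.range f, le_top, ?_, ?_⟩
  · rintro t ⟨w, rfl⟩
    rw [hf, QuadraticMap.map_add Q, Q_isoAct (⇑Q) g, h.orth _ w.2 _ (hg _ (θ w).2), add_zero]
    have e1 := hθ w
    rw [restrictQ_apply, restrictQ_apply] at e1
    rw [e1]
    ring
  · rw [LinearMap.finrank_range_of_inj hinj, finrank_top, Module.finrank_fintype_fun_eq_card,
      ← h.finrank_add, ← hdim]
    ring

end PlusType

end Cfsg.Agent.Lib.helper49
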