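/-
The number of classes into which a class splits, through a homomorphism onto the quotient.
-/
import Mathlib
import Cfsg.Prelude.Def_LieTypeDatum

set_option autoImplicit false
set_option linter.unusedSectionVars false

namespace Cfsg.Agent.Lib.helper49.GF

open Cfsg

section Count

variable {X : Type*} [Group X] {A : Type*} [Group A]

theorem card_quot_eq {H Q₁ Q₂ : Type*} (π₁ : H → Q₁) (π₂ : H → Q₂)
    (hs₁ : Function.Surjective π₁) (hs₂ : Function.Surjective π₂)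
    (h : ∀ a b, π₁ a = π₁ b ↔ π₂ a = π₂ b) : Nat.card Q₁ = Nat.card Q₂ := by
  apply Nat.card_congr
  refine Equiv.ofBijective (fun q => π₂ (Function.surjInv hs₁ q)) ⟨?_, ?_⟩
  · intro q q' hq
    have h3 := (h _ _).mpr hq
    rw [Function.surjInv_eq hs₁, Function.surjInv_eq hs₁] at h3
    exact h3
  · intro q₂
    obtain ⟨a, rfl⟩ := hs₂ q₂
    exact ⟨π₁ a, (h _ _).mp (Function.surjInv_eq hs₁ (π₁ a))⟩

theorem conjUnder_equiv (K : Subgroup X) (x : X) (H : Subgroup X) :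
    Equivalence (fun y z : {y : X // IsConjUnder H x y} => IsConjUnder K y.1 z.1) := by
  refine ⟨fun y => ⟨1, K.one_mem, by rw [one_mul, inv_one, mul_one]⟩, ?_, ?_⟩
  · rintro y z ⟨t, ht, hz⟩
    refine ⟨t⁻¹, K.inv_mem ht, ?_⟩
    rw [hz]
    group
  · rintro y z w ⟨t, ht, hz⟩ ⟨t', ht', hw⟩
    refine ⟨t' * t, K.mul_mem ht' ht, ?_⟩
    rw [hw, hz]
    group

/-- The number of `K`-classes in the `H`-class of `x`, for `K` the kernel of a homomorphism of `H`
onto `A`: the index of the image of the centralizer. -/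
theorem split_count_hom (H K : Subgroup X) (hKH : K ≤ H) (φ : ↥H →* A)
    (hφ : Function.Surjective φ) (hker : φ.ker = K.subgroupOf H) (x : X) :
    splitClassCount H K x =
      (((H ⊓ Subgroup.centralizer {x}).subgroupOf H).map φ).index := by
  unfold splitClassCount
  rw [Subgroup.index]
  have hK1 : ∀ t : ↥H, (t : X) ∈ K → φ t = 1 := by
    intro t ht
    rw [← MonoidHom.mem_ker, hker]
    exact Subgroup.mem_subgroupOf.mpr ht
  have hK2 : ∀ t : ↥H, φ t = 1 → (t : X) ∈ K := by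
    intro t ht
    rw [← MonoidHom.mem_ker, hker] at ht
    exact Subgroup.mem_subgroupOf.mp ht
  apply card_quot_eq (H := ↥H)
    (fun h => Quot.mk _ ⟨(h : X) * x * (h : X)⁻¹, ⟨(h : X), h.2, rfl⟩⟩)
    (fun h => (QuotientGroup.mk (φ h) :
      A ⧸ ((H ⊓ Subgroup.centralizer {x}).subgroupOf H).map φ))
  · rintro ⟨⟨y, h, hh, rfl⟩⟩
    exact ⟨⟨h, hh⟩, rfl⟩
  · intro q
    induction q using QuotientGroup.induction_on with
    | H a =>
      obtain ⟨h, rfl⟩ := hφ a
      exact ⟨h, rfl⟩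
  · intro a b
    rw [Quot.eq, (conjUnder_equiv K x H).eqvGen_iff, QuotientGroup.eq, Subgroup.mem_map]
    constructor
    · rintro ⟨t, ht, hb⟩
      simp only at hb
      refine ⟨a⁻¹ * (⟨t, hKH ht⟩ : ↥H)⁻¹ * b, ?_, ?_⟩
      · rw [Subgroup.mem_subgroupOf, Subgroup.mem_inf, Subgroup.mem_centralizer_singleton_iff]
        refine ⟨(a⁻¹ * (⟨t, hKH ht⟩ : ↥H)⁻¹ * b).2, ?_⟩
        have e : (b : X) * x = t * (a : X) * x * (a : X)⁻¹ * t⁻¹ * (b : X) := by
          have h3 : (b : X) * x = ((b : X) * x * (b : X)⁻¹) * (b : X) := by group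
          rw [h3, hb]
          group
        show ((a : X)⁻¹ * t⁻¹ * (b : X)) * x = x * ((a : X)⁻¹ * t⁻¹ * (b : X))
        calc ((a : X)⁻¹ * t⁻¹ * (b : X)) * x = (a : X)⁻¹ * t⁻¹ * ((b : X) * x) := by group
          _ = (a : X)⁻¹ * t⁻¹ * (t * (a : X) * x * (a : X)⁻¹ * t⁻¹ * (b : X)) := by rw [e]
          _ = x * ((a : X)⁻¹ * t⁻¹ * (b : X)) := by group
      · rw [map_mul, map_mul, map_inv, map_inv, hK1 ⟨t, hKH ht⟩ ht, inv_one, mul_one]
    · rintro ⟨c, hc, hφc⟩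
      rw [Subgroup.mem_subgroupOf, Subgroup.mem_inf, Subgroup.mem_centralizer_singleton_iff] at hc
      have h1 : φ (b * c⁻¹ * a⁻¹) = 1 := by
        rw [map_mul, map_mul, map_inv, map_inv, hφc]
        group
      have h2 := hK2 _ h1
      refine ⟨(b : X) * (c : X)⁻¹ * (a : X)⁻¹, h2, ?_⟩
      simp only
      have e : (c : X)⁻¹ * x * (c : X) = x := by
        have := hc.2
        calc (c : X)⁻¹ * x * (c : X) = (c : X)⁻¹ * (x * (c : X)) := by group
          _ = (c : X)⁻¹ * ((c : X) * x) := by rw [this]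
          _ = x := by group
      calc (b : X) * x * (b : X)⁻¹ = (b : X) * ((c : X)⁻¹ * x * (c : X)) * (b : X)⁻¹ := by rw [e]
        _ = (b : X) * (c : X)⁻¹ * (a : X)⁻¹ * ((a : X) * x * (a : X)⁻¹) *
            ((b : X) * (c : X)⁻¹ * (a : X)⁻¹)⁻¹ := by group

theorem split_count_four (H K : Subgroup X) (hKH : K ≤ H) (φ : ↥H →* A)
    (hφ : Function.Surjective φ) (hker : φ.ker = K.subgroupOf H) (x : X)
    (hA : Nat.card A = 4) (hall : ∀ δ ∈ H ⊓ Subgroup.centralizer {x}, δ ∈ K) :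
    splitClassCount H K x = 4 := by
  rw [split_count_hom H K hKH φ hφ hker x]
  have hbot : ((H ⊓ Subgroup.centralizer {x}).subgroupOf H).map φ = ⊥ := by
    rw [eq_bot_iff]
    rintro _ ⟨c, hc, rfl⟩
    rw [Subgroup.mem_bot, ← MonoidHom.mem_ker, hker, Subgroup.mem_subgroupOf]
    exact hall _ (Subgroup.mem_subgroupOf.mp hc)
  rw [hbot, Subgroup.index_bot, hA]

theorem split_count_two (H K : Subgroup X) (hKH : K ≤ H) (φ : ↥H →* A)
    (hφ : Function.Surjective φ) (hker : φ.ker = K.subgroupOf H) (x : X)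
    (hA : Nat.card A = 4) (s : X) (hs : s ∈ H ⊓ Subgroup.centralizer {x}) (hsK : s ∉ K)
    (hcov : ∀ δ ∈ H ⊓ Subgroup.centralizer {x}, δ ∈ K ∨ δ * s⁻¹ ∈ K) :
    splitClassCount H K x = 2 := by
  rw [split_count_hom H K hKH φ hφ hker x]
  obtain ⟨D, hD⟩ : ∃ D : Subgroup A,
      D = ((H ⊓ Subgroup.centralizer {x}).subgroupOf H).map φ := ⟨_, rfl⟩
  rw [← hD]
  have hK1 : ∀ t : ↥H, (t : X) ∈ K → φ t = 1 := by
    intro t ht
    rw [← MonoidHom.mem_ker, hker]
    exact Subgroup.mem_subgroupOf.mpr ht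
  have hK2 : ∀ t : ↥H, φ t = 1 → (t : X) ∈ K := by
    intro t ht
    rw [← MonoidHom.mem_ker, hker] at ht
    exact Subgroup.mem_subgroupOf.mp ht
  have hsD : φ ⟨s, hs.1⟩ ∈ D := by
    rw [hD]
    exact ⟨⟨s, hs.1⟩, Subgroup.mem_subgroupOf.mpr hs, rfl⟩
  have hcard : Nat.card D = 2 := by
    rw [Nat.card_eq_two_iff' (1 : D)]
    refine ⟨⟨φ ⟨s, hs.1⟩, hsD⟩, ?_, ?_⟩
    · intro h
      have h' : φ ⟨s, hs.1⟩ = 1 := congrArg Subtype.val h
      exact hsK (hK2 _ h')
    · rintro ⟨d, hd⟩ hne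
      apply Subtype.ext
      show d = φ ⟨s, hs.1⟩
      rw [hD] at hd
      obtain ⟨c, hc, rfl⟩ := hd
      rcases hcov c.1 (Subgroup.mem_subgroupOf.mp hc) with h1 | h1
      · exfalso
        apply hne
        apply Subtype.ext
        exact hK1 c h1
      · have h2 : φ (c * (⟨s, hs.1⟩ : ↥H)⁻¹) = 1 := hK1 _ h1
        rw [map_mul, map_inv, mul_inv_eq_one] at h2
        exact h2
  have h3 := Subgroup.card_mul_index D
  rw [hcard, hA] at h3
  omega

end Count

end Cfsg.Agent.Lib.helper49.GF
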