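/-
S2686, piece U-CORE: the unitary graph-field involution `fAut σ * gAut` of `PSL_n(F)` (`n ≥ 3`,
odd characteristic, `σ` the involution of `F`) has no core: every subgroup of odd order of its
fixed points that is invariant under the centraliser of the involution is trivial.
-/
import Cfsg.Agent.Lib.helper48.LBRefl
import Cfsg.Agent.S0283
import Cfsg.Agent.Lib.helper7.SUCenter
import Cfsg.Agent.Lib.helper48.UnitaryConj
import Cfsg.Agent.Lib.helper39.S2686FX
import Cfsg.Agent.Lib.helper39.S2686UCENT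

set_option autoImplicit false
set_option linter.unusedSectionVars false
set_option linter.unusedVariables false

namespace Cfsg.Agent.Lib.helper49.S2686

open Matrix Cfsg

variable {n : ℕ} {F : Type*} [Field F] [Fintype F]

section FieldInv

variable {p f : ℕ} [Fact p.Prime]

theorem inv_order_two (σ : F ≃+* F) (hσ2 : σ * σ = 1) (hσ1 : σ ≠ 1) : orderOf σ = 2 := by
  have := Fact.mk Nat.prime_two
  exact orderOf_eq_prime (by rw [pow_two]; exact hσ2) hσ1

theorem inv_inv_apply (σ : F ≃+* F) (hσ2 : σ * σ = 1) (t : F) : σ (σ t) = t :=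
  RingEquiv.congr_fun hσ2 t

theorem inv_even (hF : Fintype.card F = p ^ f) (σ : F ≃+* F) (hσ2 : σ * σ = 1)
    (hσ1 : σ ≠ 1) : Even f := by
  have h := (Cfsg.Agent.Lib.helper48.Split.card_fixK hF σ (inv_order_two σ hσ2 hσ1)).1
  exact even_iff_two_dvd.mpr h

theorem inv_card_fix (hF : Fintype.card F = p ^ f) (σ : F ≃+* F) (hσ2 : σ * σ = 1)
    (hσ1 : σ ≠ 1) :
    Nat.card (Cfsg.Agent.Lib.helper48.Split.fixK σ) = p ^ (f / 2) :=
  (Cfsg.Agent.Lib.helper48.Split.card_fixK hF σ (inv_order_two σ hσ2 hσ1)).2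

theorem inv_pow_of_fixed (hF : Fintype.card F = p ^ f) (σ : F ≃+* F) (hσ2 : σ * σ = 1)
    (hσ1 : σ ≠ 1) (s : F) (hs : σ s = s) : s ^ p ^ (f / 2) = s := by
  have hcard := inv_card_fix hF σ hσ2 hσ1
  let _ : Fintype (Cfsg.Agent.Lib.helper48.Split.fixK σ) := Fintype.ofFinite _
  have h := FiniteField.pow_card (⟨s, hs⟩ : Cfsg.Agent.Lib.helper48.Split.fixK σ)
  rw [← Nat.card_eq_fintype_card, hcard] at h
  have h2 := congrArg Subtype.val h
  simpa using h2

open Polynomial in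
theorem inv_fixed_of_pow (hF : Fintype.card F = p ^ f) (σ : F ≃+* F) (hσ2 : σ * σ = 1)
    (hσ1 : σ ≠ 1) (t : F) (ht : t ^ p ^ (f / 2) = t) : σ t = t := by
  classical
  have hcard := inv_card_fix hF σ hσ2 hσ1
  have hev := inv_even hF σ hσ2 hσ1
  have hf0 : f ≠ 0 := by
    intro h0
    rw [h0, pow_zero] at hF
    have := Fintype.one_lt_card (α := F)
    omega
  have hn : f / 2 ≠ 0 := by
    obtain ⟨j, hj⟩ := hev
    omega
  have hp1 : 1 < p := (Fact.out : p.Prime).one_lt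
  have hP0 : (X ^ p ^ (f / 2) - X : F[X]) ≠ 0 := FiniteField.X_pow_card_pow_sub_X_ne_zero F hn hp1
  have hdeg : (X ^ p ^ (f / 2) - X : F[X]).natDegree = p ^ (f / 2) :=
    FiniteField.X_pow_card_pow_sub_X_natDegree_eq F hn hp1
  obtain ⟨T, hT⟩ : ∃ T : Finset F, T = Finset.univ.filter (fun s => σ s = s) := ⟨_, rfl⟩
  have hTsub : T ⊆ (X ^ p ^ (f / 2) - X : F[X]).roots.toFinset := by
    intro s hs
    rw [hT, Finset.mem_filter] at hs
    rw [Multiset.mem_toFinset, Polynomial.mem_roots hP0]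
    simp [inv_pow_of_fixed hF σ hσ2 hσ1 s hs.2]
  have hTcard : T.card = p ^ (f / 2) := by
    rw [← hcard, hT, Nat.card_eq_fintype_card, Fintype.card_subtype]
    rfl
  have hle : (X ^ p ^ (f / 2) - X : F[X]).roots.toFinset.card ≤ T.card := by
    rw [hTcard]
    calc (X ^ p ^ (f / 2) - X : F[X]).roots.toFinset.card
        ≤ Multiset.card (X ^ p ^ (f / 2) - X : F[X]).roots := Multiset.toFinset_card_le _
      _ ≤ (X ^ p ^ (f / 2) - X : F[X]).natDegree := Polynomial.card_roots' _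
      _ = p ^ (f / 2) := hdeg
  have hEq := Finset.eq_of_subset_of_card_le hTsub hle
  have hmem : t ∈ (X ^ p ^ (f / 2) - X : F[X]).roots.toFinset := by
    rw [Multiset.mem_toFinset, Polynomial.mem_roots hP0]
    simp [ht]
  rw [← hEq, hT, Finset.mem_filter] at hmem
  exact hmem.2

/-- an involution of a finite field is the `p^(f/2)`-th power map -/
theorem inv_eq_pow (hF : Fintype.card F = p ^ f) (σ : F ≃+* F) (hσ2 : σ * σ = 1)
    (hσ1 : σ ≠ 1) (t : F) : σ t = t ^ p ^ (f / 2) := by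
  have : CharP F p := charP_of_card_eq_prime_pow hF
  have ha : (t + σ t) ^ p ^ (f / 2) = t + σ t :=
    inv_pow_of_fixed hF σ hσ2 hσ1 _ (by rw [map_add, inv_inv_apply σ hσ2, add_comm])
  have hb : (t * σ t) ^ p ^ (f / 2) = t * σ t :=
    inv_pow_of_fixed hF σ hσ2 hσ1 _ (by rw [map_mul, inv_inv_apply σ hσ2, mul_comm])
  have e3 : t ^ 2 - (t + σ t) * t + t * σ t = 0 := by ring
  have e2 : (t ^ 2 - (t + σ t) * t + t * σ t) ^ p ^ (f / 2) =
      (t ^ p ^ (f / 2)) ^ 2 - (t + σ t) * t ^ p ^ (f / 2) + t * σ t := by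
    rw [add_pow_char_pow, sub_pow_char_pow, mul_pow, ha, hb, ← pow_mul, ← pow_mul, mul_comm 2]
  have hn : p ^ (f / 2) ≠ 0 := pow_ne_zero _ (Fact.out : p.Prime).ne_zero
  rw [e3, zero_pow hn] at e2
  have key : (t ^ p ^ (f / 2) - t) * (t ^ p ^ (f / 2) - σ t) = 0 := by
    linear_combination -e2
  rcases mul_eq_zero.mp key with h | h
  · have h' : t ^ p ^ (f / 2) = t := sub_eq_zero.mp h
    rw [h']
    exact inv_fixed_of_pow hF σ hσ2 hσ1 t h'
  · exact (sub_eq_zero.mp h).symm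

end FieldInv

open Cfsg.Agent.Lib.helper47.PSLn
open Cfsg.Agent.Lib.helper48.LB
open Cfsg.Agent.Lib.helper48.AbsBal (fixG)

section Main

/-- membership in `SU` as a matrix equation -/
theorem mem_SU_iff_mul (σ : F ≃+* F) (q : ℕ) (hσ : ∀ x, σ x = x ^ q)
    (s : SpecialLinearGroup (Fin n) F) :
    s ∈ SU n F q ↔ s.1 * (s.1.map σ)ᵀ = 1 := by
  have h := Cfsg.Agent.Lib.helper48.mem_GU_iff_cstar (σ : F →+* F) hσ
    (Matrix.SpecialLinearGroup.toGL s)
  have h1 : s ∈ SU n F q ↔ Matrix.SpecialLinearGroup.toGL s ∈ GU n F q := Iff.rfl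
  rw [h1, h]
  exact mul_eq_one_comm

/-- central elements of `SU` are scalar -/
theorem center_SU_scalar {q : ℕ} (hFq : Fintype.card F = q ^ 2) (hn : 1 ≤ n)
    (z : ↥(SU n F q)) (hz : z ∈ Subgroup.center ↥(SU n F q)) :
    ∃ c : F, (z.1.1 : Matrix (Fin n) (Fin n) F) = c • 1 := by
  have i0 : Fin n := ⟨0, by omega⟩
  have hZ : ∀ M : Matrix (Fin n) (Fin n) F, Cfsg.Agent.Lib.helper7.IsIsom n q M → M.det = 1 →
      (z.1.1 : Matrix (Fin n) (Fin n) F) * M = M * (z.1.1 : Matrix (Fin n) (Fin n) F) := by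
    intro M hM hMdet
    have h := Subgroup.mem_center_iff.1 hz
      ((Cfsg.Agent.Lib.helper7.suEquiv n).symm ⟨M, hM, hMdet⟩)
    have h2 := congrArg (fun g : SU n F q => ((g.1 : Matrix.SpecialLinearGroup (Fin n) F) :
      Matrix (Fin n) (Fin n) F)) h
    exact h2.symm
  exact ⟨_, Cfsg.Agent.Lib.helper7.scalar_of_commute hFq n _ hZ i0⟩

/-- conjugation by a unitary similarity preserves unitarity -/
theorem unit_conj (σ : F ≃+* F) (T S Ti : Matrix (Fin n) (Fin n) F) (c : F)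
    (hTTi : T * Ti = 1) (hTiT : Ti * T = 1) (hc : T * (T.map σ)ᵀ = c • 1)
    (hS : S * (S.map σ)ᵀ = 1) :
    (T * S * Ti) * ((T * S * Ti).map σ)ᵀ = 1 := by
  have hst : ∀ X : Matrix (Fin n) (Fin n) F,
      (X.map σ)ᵀ = Cfsg.Agent.Lib.helper48.cstar (σ : F →+* F) X := fun X => rfl
  rw [hst] at hc hS ⊢
  have h3 : Cfsg.Agent.Lib.helper48.cstar (σ : F →+* F) T = c • Ti := by
    calc Cfsg.Agent.Lib.helper48.cstar (σ : F →+* F) T
        = Ti * T * Cfsg.Agent.Lib.helper48.cstar (σ : F →+* F) T := by rw [hTiT, Matrix.one_mul]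
      _ = Ti * (c • (1 : Matrix (Fin n) (Fin n) F)) := by rw [Matrix.mul_assoc, hc]
      _ = c • Ti := by rw [Matrix.mul_smul, Matrix.mul_one]
  have h4 : c • (Ti * Cfsg.Agent.Lib.helper48.cstar (σ : F →+* F) Ti) = 1 := by
    have h5 := Cfsg.Agent.Lib.helper48.cstar_mul_eq_one (σ : F →+* F) hTiT
    rw [h3, Matrix.smul_mul] at h5
    exact h5
  rw [Cfsg.Agent.Lib.helper48.cstar_mul, Cfsg.Agent.Lib.helper48.cstar_mul, h3]
  calc T * S * Ti * (Cfsg.Agent.Lib.helper48.cstar (σ : F →+* F) Ti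
        * (Cfsg.Agent.Lib.helper48.cstar (σ : F →+* F) S * c • Ti))
      = T * S * (c • (Ti * Cfsg.Agent.Lib.helper48.cstar (σ : F →+* F) Ti))
          * Cfsg.Agent.Lib.helper48.cstar (σ : F →+* F) S * Ti := by
        simp only [Matrix.mul_smul, Matrix.smul_mul, Matrix.mul_assoc]
    _ = T * (S * Cfsg.Agent.Lib.helper48.cstar (σ : F →+* F) S) * Ti := by
        rw [h4, Matrix.mul_one, Matrix.mul_assoc T S]
    _ = 1 := by rw [hS, Matrix.mul_one, hTTi]

theorem unit_noCore_of {r f : ℕ} [Fact r.Prime] (hF : Fintype.card F = r ^ f) (hn : 3 ≤ n)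
    (h2 : (2 : F) ≠ 0) (σ : F ≃+* F) (hσ1 : σ ≠ 1) (hσ2 : σ * σ = 1)
    (hcentH : ∀ a : MulAut (ProjectiveSpecialLinearGroup (Fin n) F), Odd (orderOf a) →
      (∀ s : SpecialLinearGroup (Fin n) F, s.1 * (s.1.map σ)ᵀ = 1 → a (pr s) = pr s) → a = 1)
    (hfixH : ∀ s : SpecialLinearGroup (Fin n) F,
      (fAut σ * gAut : MulAut (ProjectiveSpecialLinearGroup (Fin n) F)) (pr s) = pr s →
        ∃ c : F, s.1 * (s.1.map σ)ᵀ = c • (1 : Matrix (Fin n) (Fin n) F)) :
    NoCore 2 (fAut σ * gAut : MulAut (ProjectiveSpecialLinearGroup (Fin n) F)) := by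
  classical
  have hp2 : Fact (Nat.Prime 2) := ⟨Nat.prime_two⟩
  have hev := inv_even hF σ hσ2 hσ1
  have hf0 : f ≠ 0 := by
    intro h0
    rw [h0, pow_zero] at hF
    have := Fintype.one_lt_card (α := F)
    omega
  have hf2 : f / 2 ≠ 0 := by
    obtain ⟨j, hj⟩ := hev
    omega
  obtain ⟨q, hq⟩ : ∃ q, q = r ^ (f / 2) := ⟨_, rfl⟩
  have hσpow : ∀ t, σ t = t ^ q := fun t => by rw [hq]; exact inv_eq_pow hF σ hσ2 hσ1 t
  have hFq : Fintype.card F = q ^ 2 := by
    obtain ⟨j, hj⟩ := hev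
    rw [hF, hq, ← pow_mul]
    congr 1
    omega
  have hchar : CharP F r := charP_of_card_eq_prime_pow hF
  have hr2 : r ≠ 2 := by
    intro h
    apply h2
    have := CharP.cast_eq_zero F r
    rw [h] at this
    exact_mod_cast this
  have hrodd : Odd r := (Fact.out : r.Prime).odd_of_ne_two hr2
  have hqodd : Odd q := by
    rw [hq]
    exact hrodd.pow
  have hq2 : q ≠ 2 := by
    intro h
    rw [h] at hqodd
    exact absurd hqodd (by decide)
  have hSU := mem_SU_iff_mul (n := n) σ q hσpow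
  obtain ⟨φ, hφ⟩ : ∃ φ : ↥(SU n F q) →* ProjectiveSpecialLinearGroup (Fin n) F,
      ∀ u : ↥(SU n F q), φ u = pr u.1 := ⟨pr.comp (SU n F q).subtype, fun u => rfl⟩
  apply noCore_of_simple (p := 2) _ φ.range
  · -- the range is fixed
    rintro _ ⟨u, rfl⟩
    rw [hφ]
    exact unit_fix σ hσ2 u.1 ((hSU u.1).mp u.2)
  · -- the fixed points normalise the range
    rintro k hk _ ⟨u, rfl⟩
    obtain ⟨t, rfl⟩ := pr_surj k
    obtain ⟨c, hc⟩ := hfixH t hk
    have hTTi : t.1 * (t⁻¹).1 = 1 := by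
      rw [← Matrix.SpecialLinearGroup.coe_mul, mul_inv_cancel]
      rfl
    have hTiT : (t⁻¹).1 * t.1 = 1 := by
      rw [← Matrix.SpecialLinearGroup.coe_mul, inv_mul_cancel]
      rfl
    have hmem : t * u.1 * t⁻¹ ∈ SU n F q := by
      rw [hSU]
      have := unit_conj σ t.1 u.1.1 (t⁻¹).1 c hTTi hTiT hc ((hSU u.1).mp u.2)
      exact this
    refine ⟨⟨t * u.1 * t⁻¹, hmem⟩, ?_⟩
    rw [hφ, hφ, map_mul, map_mul, map_inv]
  · -- simplicity
    intro M hM
    have hZ : Subgroup.center ↥(SU n F q) ≤ φ.ker := by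
      intro z hz
      rw [MonoidHom.mem_ker, hφ]
      obtain ⟨c, hc⟩ := center_SU_scalar hFq (by omega) z hz
      have hcn : c ^ n = 1 := by
        have h := z.1.2
        rw [hc, Matrix.det_smul, Matrix.det_one, Fintype.card_fin, mul_one] at h
        exact h
      have h1 : pr (1 : SpecialLinearGroup (Fin n) F) = pr z.1 :=
        (pr_eq_iff 1 z.1).mpr ⟨c, hcn, hc⟩
      rw [← h1, map_one]
    exact range_simple φ (Subgroup.center ↥(SU n F q)) hZ
      (Cfsg.Agent.S0283.result hFq n hn (fun h => hq2 h.2)) M hM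
  · -- an involution in the range
    obtain ⟨i0, hi0⟩ : ∃ i0 : Fin n, i0 = ⟨0, by omega⟩ := ⟨_, rfl⟩
    obtain ⟨i1, hi1⟩ : ∃ i1 : Fin n, i1 = ⟨1, by omega⟩ := ⟨_, rfl⟩
    obtain ⟨i2, hi2⟩ : ∃ i2 : Fin n, i2 = ⟨2, by omega⟩ := ⟨_, rfl⟩
    have h01 : i0 ≠ i1 := by
      rw [hi0, hi1]
      intro h
      have := congrArg Fin.val h
      simp at this
    have h20 : i2 ≠ i0 := by
      rw [hi0, hi2]
      intro h
      have := congrArg Fin.val h
      simp at this
    have h21 : i2 ≠ i1 := by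
      rw [hi1, hi2]
      intro h
      have := congrArg Fin.val h
      simp at this
    have hl : (-1 : F) * (-1 : F) ^ q = 1 := by
      rw [hqodd.neg_one_pow]
      ring
    have hdet := Cfsg.Agent.Lib.helper7.diag2_det n i0 i1 (-1 : F) (neg_ne_zero.mpr one_ne_zero)
    have hiso := Cfsg.Agent.Lib.helper7.diag2_isIsom (q := q) n i0 i1 (-1 : F) hl
    obtain ⟨dS, hdS⟩ : ∃ dS : SpecialLinearGroup (Fin n) F,
        dS.1 = Matrix.diagonal (Cfsg.Agent.Lib.helper7.diag2 n i0 i1 (-1 : F)) :=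
      ⟨⟨_, hdet⟩, rfl⟩
    have hdSU : dS ∈ SU n F q := by
      rw [Cfsg.Agent.Lib.helper7.mem_SU_iff, hdS]
      exact hiso
    have hsq : dS * dS = 1 := by
      apply Subtype.ext
      rw [Matrix.SpecialLinearGroup.coe_mul, hdS, Matrix.diagonal_mul_diagonal]
      have : (fun k => Cfsg.Agent.Lib.helper7.diag2 n i0 i1 (-1 : F) k
          * Cfsg.Agent.Lib.helper7.diag2 n i0 i1 (-1 : F) k) = fun _ => (1 : F) := by
        funext k
        simp only [Cfsg.Agent.Lib.helper7.diag2, Function.update_apply, Pi.one_apply]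
        split_ifs <;> simp
      rw [this, Matrix.diagonal_one]
      rfl
    refine ⟨φ ⟨dS, hdSU⟩, ⟨_, rfl⟩, ?_⟩
    apply orderOf_eq_prime
    · rw [hφ, pow_two, ← map_mul, hsq, map_one]
    · rw [hφ]
      intro h1
      have h3 : pr (1 : SpecialLinearGroup (Fin n) F) = pr dS := by rw [h1, map_one]
      obtain ⟨c, -, hc⟩ := (pr_eq_iff 1 dS).mp h3
      rw [hdS] at hc
      have e0 := congrFun (congrFun hc i0) i0
      have e2 := congrFun (congrFun hc i2) i2
      rw [Matrix.diagonal_apply_eq, Cfsg.Agent.Lib.helper7.diag2_left n i0 i1 h01] at e0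
      rw [Matrix.diagonal_apply_eq] at e2
      have hd2 : Cfsg.Agent.Lib.helper7.diag2 n i0 i1 (-1 : F) i2 = 1 := by
        simp only [Cfsg.Agent.Lib.helper7.diag2, Function.update_apply, Pi.one_apply]
        rw [if_neg h20, if_neg h21, one_mul]
      rw [hd2] at e2
      have e0' : (-1 : F) = c := by
        rw [e0]
        simp [Matrix.smul_apply]
      have e2' : (1 : F) = c := by
        rw [e2]
        simp [Matrix.smul_apply]
      apply h2
      linear_combination e2' - e0'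
  · -- the centraliser
    intro k hk hodd hcomm
    have hko : Odd (orderOf k) := Nat.Coprime.odd_of_right hodd
    have ha : Odd (orderOf (MulAut.conj k)) :=
      Odd.of_dvd_nat hko (orderOf_map_dvd (MulAut.conj :
        ProjectiveSpecialLinearGroup (Fin n) F →* _) k)
    have h1 := hcentH (MulAut.conj k) ha (fun s hs => by
      rw [MulAut.conj_apply]
      have h5 : φ ⟨s, (hSU s).mpr hs⟩ ∈ φ.range := ⟨_, rfl⟩
      have := hcomm (pr s) (by rw [← hφ ⟨s, (hSU s).mpr hs⟩]; exact h5)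
      rw [this, mul_inv_cancel_right])
    exact conj_inj_psl (by omega) (by rw [h1, map_one])

/-- **Piece U-CORE of S2686.** -/
theorem unit_noCore {r f : ℕ} [Fact r.Prime] (hF : Fintype.card F = r ^ f) (hn : 3 ≤ n)
    (h2 : (2 : F) ≠ 0) (σ : F ≃+* F) (hσ1 : σ ≠ 1) (hσ2 : σ * σ = 1) :
    NoCore 2 (fAut σ * gAut : MulAut (ProjectiveSpecialLinearGroup (Fin n) F)) :=
  unit_noCore_of hF hn h2 σ hσ1 hσ2
    (fun a ha hfix => Cfsg.Agent.Lib.helper39.S2686.unit_cent hF hn h2 σ hσ1 hσ2 a ha hfix)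
    (fun s hs => (Cfsg.Agent.Lib.helper39.S2686.unit_fix_iff (by omega) σ hσ2 s).mp hs)

end Main

end Cfsg.Agent.Lib.helper49.S2686
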