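/-
Field automorphisms of orthogonal groups, part 2: the odd-dimensional form — Gram matrix criterion
for similarities, classification of odd-dimensional forms over a finite field up to similarity, and
the descent step ("Lang's theorem") for semisimilarities.
-/
import Mathlib
import Cfsg.Agent.Lib.helper49.OddField1
import Cfsg.Agent.Lib.helper48.SplitClass
import Cfsg.Agent.Lib.helper50.GraphCent2
import Cfsg.Agent.Lib.helper17.OmRank2

set_option autoImplicit false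

namespace Cfsg.Agent.Lib.helper49.OddField

open Matrix Module QuadraticMap Cfsg
open Cfsg.Agent.Lib.helper49 Cfsg.Agent.Lib.helper42

section Odd

theorem odd_sigma {F : Type*} [Field F] (m : ℕ) (σ : F ≃+* F) (v : Unit ⊕ (Fin m ⊕ Fin m) → F) :
    quadFormOdd m F (fun i => σ (v i)) = σ (quadFormOdd m F v) := by
  simp [quadFormOdd, map_add, map_sum, map_mul, map_pow]

theorem gramOdd_map {K F : Type*} [Field K] [Field F] (m : ℕ) (f : K →+* F) :
    (gramOdd m K).map f = gramOdd m F := by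
  ext i j
  rcases i with i | i | i <;> rcases j with j | j | j <;>
    simp [gramOdd, Matrix.one_apply, Matrix.fromBlocks, apply_ite, map_ofNat]

theorem gramOdd_transpose {F : Type*} [Field F] (m : ℕ) : (gramOdd m F)ᵀ = gramOdd m F := by
  ext i j
  rcases i with i | i | i <;> rcases j with j | j | j <;>
    simp [gramOdd, Matrix.one_apply, Matrix.fromBlocks, eq_comm]

theorem det_gramOdd_ne_zero {F : Type*} [Field F] (h2 : (2 : F) ≠ 0) (m : ℕ) :
    (gramOdd m F).det ≠ 0 := by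
  rw [gramOdd, Matrix.det_fromBlocks_zero₂₁]
  refine mul_ne_zero ?_ (det_gramPlus_ne_zero m)
  rw [Matrix.det_unique]
  exact h2

theorem odd_eq_half {F : Type*} [Field F] (h2 : (2 : F) ≠ 0) (m : ℕ)
    (v : Unit ⊕ (Fin m ⊕ Fin m) → F) :
    quadFormOdd m F v = (2 : F)⁻¹ * (v ⬝ᵥ gramOdd m F *ᵥ v) := by
  have h1 := polar_quadFormOdd m v v
  rw [Matrix.toBilin'_apply'] at h1
  have h3 := QuadraticMap.polar_self (oddForm m F) v
  rw [oddForm_coe] at h3
  rw [← h1, h3]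
  simp only [nsmul_eq_mul, Nat.cast_ofNat]
  field_simp

/-- Gram matrix criterion for similarities of the odd-dimensional form. -/
theorem mem_sim_iff_gram {F : Type*} [Field F] (h2 : (2 : F) ≠ 0) (m : ℕ)
    (g : GL (Unit ⊕ (Fin m ⊕ Fin m)) F) :
    g ∈ Geo.quadSimilarityGroup (F := F) (quadFormOdd m F) ↔
      ∃ ν : Fˣ, (g : Matrix _ _ F)ᵀ * gramOdd m F * (g : Matrix _ _ F) = (ν : F) • gramOdd m F := by
  rw [mem_similarity_iff]
  constructor
  · rintro ⟨c, hc⟩
    refine ⟨c, ?_⟩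
    apply Cfsg.Agent.Lib.helper50.bil_ext
    intro u v
    rw [← Cfsg.Agent.Lib.helper50.dot_conj, Matrix.smul_mulVec, dotProduct_smul, smul_eq_mul]
    have h1 := polar_quadFormOdd m ((g : Matrix _ _ F) *ᵥ u) ((g : Matrix _ _ F) *ᵥ v)
    have h3 := polar_quadFormOdd m u v
    rw [Matrix.toBilin'_apply'] at h1 h3
    rw [← h1, ← h3]
    unfold polar
    rw [← Matrix.mulVec_add, hc, hc, hc]
    ring
  · rintro ⟨ν, hν⟩
    refine ⟨ν, fun v => ?_⟩
    rw [odd_eq_half h2, odd_eq_half h2, Cfsg.Agent.Lib.helper50.dot_conj, hν, Matrix.smul_mulVec,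
      dotProduct_smul, smul_eq_mul]
    ring

/-- Every non-degenerate symmetric bilinear form of odd dimension over a finite field of odd
characteristic is similar to the standard one. -/
theorem exists_std_odd {K : Type*} [Field K] [Finite K] (h2 : (2 : K) ≠ 0) (m : ℕ)
    (S : Matrix (Unit ⊕ (Fin m ⊕ Fin m)) (Unit ⊕ (Fin m ⊕ Fin m)) K) (hS : Sᵀ = S)
    (hdet : S.det ≠ 0) :
    ∃ (P : Matrix (Unit ⊕ (Fin m ⊕ Fin m)) (Unit ⊕ (Fin m ⊕ Fin m)) K) (κ : K), κ ≠ 0 ∧
      Pᵀ * S * P = κ • gramOdd m K := by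
  classical
  have hsymm : ∀ u v : Unit ⊕ (Fin m ⊕ Fin m) → K, v ⬝ᵥ S *ᵥ u = u ⬝ᵥ S *ᵥ v := by
    intro u v
    rw [Matrix.dotProduct_mulVec, ← hS, Matrix.vecMul_transpose, dotProduct_comm, hS]
  obtain ⟨Q₀, hQ₀⟩ : ∃ Q₀ : (Unit ⊕ (Fin m ⊕ Fin m) → K) → K,
      Q₀ = fun v => (2 : K)⁻¹ * (v ⬝ᵥ S *ᵥ v) := ⟨_, rfl⟩
  have hs : ∀ (a : K) (x : Unit ⊕ (Fin m ⊕ Fin m) → K), Q₀ (a • x) = a * a * Q₀ x := by
    intro a x
    rw [hQ₀]
    simp only [Matrix.mulVec_smul, dotProduct_smul, smul_dotProduct, smul_eq_mul]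
    ring
  have hp : ∀ u v, QuadraticMap.polar Q₀ u v = Matrix.toBilin' S u v := by
    intro u v
    rw [Matrix.toBilin'_apply', hQ₀]
    unfold polar
    simp only [Matrix.mulVec_add, dotProduct_add, add_dotProduct]
    rw [hsymm u v]
    field_simp
    ring
  obtain ⟨Q, hQdef⟩ : ∃ Q : QuadraticForm K (Unit ⊕ (Fin m ⊕ Fin m) → K), Q = formOfGram Q₀ S hs hp :=
    ⟨_, rfl⟩
  have hQcoe : ∀ v, Q v = Q₀ v := fun v => by rw [hQdef]; rfl
  have hpol : ∀ u v, polar Q u v = u ⬝ᵥ S *ᵥ v := by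
    intro u v
    have h : polar (⇑Q) u v = polar Q₀ u v := by
      unfold polar
      rw [hQcoe, hQcoe, hQcoe]
    rw [h, hp, Matrix.toBilin'_apply']
  have hQ : (polarBilin Q).Nondegenerate := by
    have h1 : polarBilin Q = Matrix.toBilin' S := by
      refine LinearMap.ext₂ (fun u v => ?_)
      rw [polarBilin_apply_apply, hpol, Matrix.toBilin'_apply']
    rw [h1]
    exact (Matrix.nondegenerate_toBilin'_iff).mpr ((Matrix.nondegenerate_iff_det_ne_zero).mpr hdet)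
  have hV : finrank K (Unit ⊕ (Fin m ⊕ Fin m) → K) = 2 * m + 1 := by
    rw [Module.finrank_fintype_fun_eq_card]
    simp only [Fintype.card_sum, Fintype.card_fin, Fintype.card_unit]
    omega
  obtain ⟨k, e, f, W, h1, h2', h3, h4, h5, h6, h7, h8, hfin⟩ :=
    witt_decomp (F := K) (2 * m + 1) hV Q hQ
  have hW2 : finrank K W ≤ 2 :=
    finrank_le_two_of_anisotropic (restrictQ Q W) ((nondegenerate_restrictQ_iff Q W).mpr h8)
      (fun w hw => Subtype.ext (h7 w.1 w.2 hw))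
  obtain rfl : m = k := by omega
  have hW1 : 0 < finrank K W := by omega
  obtain ⟨z', hz'⟩ := Module.finrank_pos_iff_exists_ne_zero.mp hW1
  obtain ⟨z, hzW, hz0⟩ : ∃ z, z ∈ W ∧ z ≠ 0 :=
    ⟨z'.1, z'.2, fun h => hz' (Subtype.ext h)⟩
  obtain ⟨κ, hκ⟩ : ∃ κ, κ = Q z := ⟨_, rfl⟩
  have hκ0 : κ ≠ 0 := by
    rw [hκ]
    exact fun h => hz0 (h7 z hzW h)
  obtain ⟨P, hP⟩ : ∃ P : Matrix (Unit ⊕ (Fin m ⊕ Fin m)) (Unit ⊕ (Fin m ⊕ Fin m)) K,
      ∀ i j, P i j = Sum.elim (fun _ => z i) (Sum.elim (fun a => e a i) (fun a => (κ • f a) i)) j :=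
    ⟨Matrix.of (fun i j =>
      Sum.elim (fun _ => z i) (Sum.elim (fun a => e a i) (fun a => (κ • f a) i)) j), fun i j => rfl⟩
  have hentry : ∀ x y, (Pᵀ * S * P) x y = polar Q (fun i => P i x) (fun i => P i y) := by
    intro x y
    rw [hpol, Matrix.mul_apply, dotProduct]
    simp only [Matrix.mul_apply, Matrix.transpose_apply, Matrix.mulVec, dotProduct,
      Finset.sum_mul, Finset.mul_sum]
    rw [Finset.sum_comm]
    refine Finset.sum_congr rfl (fun i _ => Finset.sum_congr rfl (fun j _ => ?_))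
    ring
  have hcol0 : (fun i => P i (Sum.inl ())) = z := by funext i; rw [hP]; rfl
  have hcolL : ∀ a, (fun i => P i (Sum.inr (Sum.inl a))) = e a := fun a => by
    funext i; rw [hP]; rfl
  have hcolR : ∀ a, (fun i => P i (Sum.inr (Sum.inr a))) = κ • f a := fun a => by
    funext i; rw [hP]; rfl
  have hze : ∀ a, polar Q z (e a) = 0 := fun a => by rw [polar_comm]; exact (h6 z hzW a).1
  have hzf : ∀ a, polar Q z (f a) = 0 := fun a => by rw [polar_comm]; exact (h6 z hzW a).2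
  refine ⟨P, κ, hκ0, ?_⟩
  ext x y
  rw [hentry]
  rcases x with x | x | x <;> rcases y with y | y | y
  · rw [hcol0, polar_self, ← hκ]
    simp [gramOdd, mul_comm]
  · rw [hcol0, hcolL, hze]
    simp [gramOdd]
  · rw [hcol0, hcolR, polar_smul_right, hzf]
    simp [gramOdd]
  · rw [hcolL, hcol0, (h6 z hzW x).1]
    simp [gramOdd]
  · rw [hcolL, hcolL, h4]
    simp [gramOdd]
  · rw [hcolL, hcolR, polar_smul_right, h3]
    simp [gramOdd, Matrix.one_apply]
  · rw [hcolR, hcol0, polar_smul_left, (h6 z hzW x).2]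
    simp [gramOdd]
  · rw [hcolR, hcolL, polar_smul_left, polar_comm, h3]
    simp [gramOdd, Matrix.one_apply, eq_comm]
  · rw [hcolR, hcolR, polar_smul_left, polar_smul_right, h5]
    simp [gramOdd]

open Cfsg.Agent.Lib.helper48.Split in
/-- The descent step: a solution of `g σ(H) = μ H` in `GL` can be moved into the similarity group. -/
theorem go_fix {F : Type*} [Field F] [Finite F] (h2 : (2 : F) ≠ 0) (m : ℕ) (σ : F ≃+* F)
    (g : GL (Unit ⊕ (Fin m ⊕ Fin m)) F)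
    (hg : g ∈ Geo.quadSimilarityGroup (F := F) (quadFormOdd m F))
    (H : Matrix (Unit ⊕ (Fin m ⊕ Fin m)) (Unit ⊕ (Fin m ⊕ Fin m)) F) (μ : F) (hH : H.det ≠ 0)
    (hgH : (g : Matrix _ _ F) * H.map σ = μ • H) :
    ∃ h : GL (Unit ⊕ (Fin m ⊕ Fin m)) F, h ∈ Geo.quadSimilarityGroup (F := F) (quadFormOdd m F) ∧
      (g : Matrix (Unit ⊕ (Fin m ⊕ Fin m)) (Unit ⊕ (Fin m ⊕ Fin m)) F) *
        (h : Matrix (Unit ⊕ (Fin m ⊕ Fin m)) (Unit ⊕ (Fin m ⊕ Fin m)) F).map σ =
        μ • (h : Matrix (Unit ⊕ (Fin m ⊕ Fin m)) (Unit ⊕ (Fin m ⊕ Fin m)) F) := by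
  classical
  obtain ⟨ν, hν⟩ := (mem_sim_iff_gram h2 m g).mp hg
  obtain ⟨M, hM⟩ : ∃ M : Matrix (Unit ⊕ (Fin m ⊕ Fin m)) (Unit ⊕ (Fin m ⊕ Fin m)) F,
      M = Hᵀ * gramOdd m F * H := ⟨_, rfl⟩
  have hGσ : (gramOdd m F).map σ = gramOdd m F := gramOdd_map m (σ : F →+* F)
  have hMσ : (μ * μ) • M = (ν : F) • M.map σ := by
    have h1 : (μ • H)ᵀ * gramOdd m F * (μ • H) = (μ * μ) • M := by
      rw [hM, Matrix.transpose_smul, Matrix.smul_mul, Matrix.smul_mul, Matrix.mul_smul, smul_smul]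
    have h2' : ((g : Matrix _ _ F) * H.map σ)ᵀ * gramOdd m F * ((g : Matrix _ _ F) * H.map σ)
        = (ν : F) • M.map σ := by
      rw [Matrix.transpose_mul, hM, Matrix.map_mul, Matrix.map_mul, hGσ, Matrix.transpose_map]
      calc (H.map σ)ᵀ * (g : Matrix _ _ F)ᵀ * gramOdd m F * ((g : Matrix _ _ F) * H.map σ)
          = (H.map σ)ᵀ * ((g : Matrix _ _ F)ᵀ * gramOdd m F * (g : Matrix _ _ F)) * H.map σ := by
            simp only [Matrix.mul_assoc]
        _ = _ := by rw [hν, Matrix.mul_smul, Matrix.smul_mul]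
    rw [← h1, ← h2', hgH]
  have hdetM : M.det ≠ 0 := by
    rw [hM, Matrix.det_mul, Matrix.det_mul, Matrix.det_transpose]
    exact mul_ne_zero (mul_ne_zero hH (det_gramOdd_ne_zero h2 m)) hH
  have hMsymm : Mᵀ = M := by
    rw [hM, Matrix.transpose_mul, Matrix.transpose_mul, Matrix.transpose_transpose,
      gramOdd_transpose, Matrix.mul_assoc]
  obtain ⟨a₀, b₀, hab⟩ : ∃ a b, M a b ≠ 0 := by
    by_contra hcon
    push Not at hcon
    have h0 : M = 0 := by ext a b; exact hcon a b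
    rw [h0] at hdetM
    exact hdetM Matrix.det_zero
  obtain ⟨e, he⟩ : ∃ e : F, e = M a₀ b₀ := ⟨_, rfl⟩
  have he0 : e ≠ 0 := by rw [he]; exact hab
  have hent : ∀ a b, (μ * μ) * M a b = ν * σ (M a b) := fun a b => by
    have := congrFun (congrFun hMσ a) b
    simpa [Matrix.smul_apply] using this
  have hν0 : (ν : F) ≠ 0 := ν.ne_zero
  have hfixM : ∀ a b, σ (e⁻¹ * M a b) = e⁻¹ * M a b := by
    intro a b
    rw [map_mul, map_inv₀]
    have h1 := hent a b
    have h2' := hent a₀ b₀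
    rw [← he] at h2'
    have hσe : σ e ≠ 0 := by simpa using he0
    have h3 : σ (M a b) * e = M a b * σ e := by
      apply mul_left_cancel₀ hν0
      linear_combination (-e) * h1 + (M a b) * h2'
    field_simp
    linear_combination h3
  obtain ⟨MK, hMK⟩ : ∃ MK : Matrix (Unit ⊕ (Fin m ⊕ Fin m)) (Unit ⊕ (Fin m ⊕ Fin m)) (fixK σ),
      MK.map (fixK σ).subtype = e⁻¹ • M :=
    ⟨fun a b => ⟨e⁻¹ * M a b, hfixM a b⟩, by ext a b; rfl⟩
  have hdetK : MK.det ≠ 0 := by
    intro h0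
    have h1 : (fixK σ).subtype MK.det = (MK.map (fixK σ).subtype).det := by
      rw [RingHom.map_det]; rfl
    rw [h0, map_zero, hMK, Matrix.det_smul] at h1
    exact (mul_ne_zero (pow_ne_zero _ (inv_ne_zero he0)) hdetM) h1.symm
  have hMKsymm : MKᵀ = MK := by
    ext a b
    have h1 := congrFun (congrFun hMK b) a
    have h2' := congrFun (congrFun hMK a) b
    simp only [Matrix.map_apply, Matrix.smul_apply, smul_eq_mul] at h1 h2'
    have h3 := congrFun (congrFun hMsymm a) b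
    rw [Matrix.transpose_apply] at h3
    show ((MK b a : fixK σ) : F) = ((MK a b : fixK σ) : F)
    have e1 : ((MK b a : fixK σ) : F) = e⁻¹ * M b a := h1
    have e2 : ((MK a b : fixK σ) : F) = e⁻¹ * M a b := h2'
    rw [e1, e2, h3]
  have h2K : (2 : fixK σ) ≠ 0 := by
    intro h
    apply h2
    have h' := congrArg (fixK σ).subtype h
    rw [map_ofNat, map_zero] at h'
    exact h'
  obtain ⟨CK, κ, hκ0, hCK⟩ := exists_std_odd h2K m MK hMKsymm hdetK
  obtain ⟨C, hC⟩ : ∃ C : Matrix (Unit ⊕ (Fin m ⊕ Fin m)) (Unit ⊕ (Fin m ⊕ Fin m)) F,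
      C = CK.map (fixK σ).subtype := ⟨_, rfl⟩
  have hκF : ((κ : fixK σ) : F) ≠ 0 := fun h => hκ0 (Subtype.ext h)
  have hCJ' : Cᵀ * (e⁻¹ • M) * C = ((κ : fixK σ) : F) • gramOdd m F := by
    have := congrArg (fun X : Matrix (Unit ⊕ (Fin m ⊕ Fin m)) (Unit ⊕ (Fin m ⊕ Fin m)) (fixK σ) =>
      X.map (fixK σ).subtype) hCK
    simp only [Matrix.map_mul, Matrix.transpose_map] at this
    rw [hMK, ← hC] at this
    rw [this]
    ext i j
    have h3 := congrFun (congrFun (gramOdd_map m (fixK σ).subtype (F := F)) i) j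
    simp only [Matrix.map_apply, Matrix.smul_apply, smul_eq_mul] at h3 ⊢
    rw [← h3]
    rfl
  have hCσ : C.map σ = C := by
    ext x y
    rw [hC]
    exact (CK x y).2
  have hCM : Cᵀ * M * C = (e * ((κ : fixK σ) : F)) • gramOdd m F := by
    have h3 : Cᵀ * M * C = e • (Cᵀ * (e⁻¹ • M) * C) := by
      rw [Matrix.mul_smul, Matrix.smul_mul, smul_smul, mul_inv_cancel₀ he0, one_smul]
    rw [h3, hCJ', smul_smul]
  have hdetC : C.det ≠ 0 := by
    intro h0
    have := congrArg Matrix.det hCM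
    rw [Matrix.det_mul, Matrix.det_mul, h0, mul_zero, Matrix.det_smul] at this
    exact (mul_ne_zero (pow_ne_zero _ (mul_ne_zero he0 hκF)) (det_gramOdd_ne_zero h2 m)) this.symm
  have hdet : (H * C).det ≠ 0 := by
    rw [Matrix.det_mul]; exact mul_ne_zero hH hdetC
  have hmem : Matrix.GeneralLinearGroup.mkOfDetNeZero (H * C) hdet ∈
      Geo.quadSimilarityGroup (F := F) (quadFormOdd m F) := by
    rw [mem_sim_iff_gram h2]
    refine ⟨Units.mk0 (e * ((κ : fixK σ) : F)) (mul_ne_zero he0 hκF), ?_⟩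
    show (H * C)ᵀ * gramOdd m F * (H * C) = (e * ((κ : fixK σ) : F)) • gramOdd m F
    rw [← hCM, hM, Matrix.transpose_mul]
    simp only [Matrix.mul_assoc]
  refine ⟨_, hmem, ?_⟩
  show (g : Matrix _ _ F) * (H * C).map σ = μ • (H * C)
  rw [Matrix.map_mul, hCσ, ← Matrix.mul_assoc, hgH, Matrix.smul_mul]

end Odd

end Cfsg.Agent.Lib.helper49.OddField
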