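/-
Field automorphisms of orthogonal groups, part 3: in the coset `Inndiag · x` of a field automorphism
`x` of prime order `r` of `Ω_{2m+1}(F)`, the elements of order `r` are the `Inndiag`-conjugates of `x`.
-/
import Mathlib
import Cfsg.Agent.Lib.helper49.OddField2

set_option autoImplicit false

namespace Cfsg.Agent.Lib.helper49.OddField

open Matrix Module QuadraticMap Cfsg
open Cfsg.Agent.Lib.helper49 Cfsg.Agent.Lib.helper42

section Main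

variable {F : Type*} [Field F] [Fintype F]

theorem card_oddIdx (m : ℕ) : Fintype.card (Unit ⊕ (Fin m ⊕ Fin m)) = 2 * m + 1 := by
  simp only [Fintype.card_sum, Fintype.card_fin, Fintype.card_unit]
  omega

/-- A semisimilarity pair of the odd form has its linear part in the similarity group. -/
theorem sim_of_pair (m : ℕ) (g : GL (Unit ⊕ (Fin m ⊕ Fin m)) F) (σ : F ≃+* F)
    (hp : IsSemisimilarityPair (quadFormOdd m F) g σ) :
    g ∈ Geo.quadSimilarityGroup (F := F) (quadFormOdd m F) := by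
  obtain ⟨c, hc⟩ := hp
  refine ⟨c, fun w => ?_⟩
  have h := hc (fun i => σ.symm (w i))
  rw [odd_sigma, RingEquiv.apply_symm_apply] at h
  have e : (fun i => σ (σ.symm (w i))) = w := by funext i; simp
  rw [e] at h
  exact h

/-- The descent step for one automorphism of prime order induced by a semisimilarity. -/
theorem exists_fix_odd (h2 : (2 : F) ≠ 0) {m : ℕ} (hm : 3 ≤ m)
    (g : GL (Unit ⊕ (Fin m ⊕ Fin m)) F) (σ : F ≃+* F)
    (hp : IsSemisimilarityPair (quadFormOdd m F) g σ)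
    (y : MulAut (POmega F (quadFormOdd m F)))
    (hy : IsInducedBySemilinearPOmega (quadFormOdd m F) g σ y) {r : ℕ} (hr : r.Prime)
    (hσ1 : σ ≠ RingEquiv.refl F) (hyr : y ^ r = 1) :
    ∃ (h : GL (Unit ⊕ (Fin m ⊕ Fin m)) F) (μ : Fˣ),
      h ∈ Geo.quadSimilarityGroup (F := F) (quadFormOdd m F) ∧
      g * Matrix.GeneralLinearGroup.map (σ : F →+* F) h =
        GeneralLinearGroup.scalar (Unit ⊕ (Fin m ⊕ Fin m)) μ * h := by
  have hQ := Cfsg.Agent.Lib.helper17.oddForm_nondeg17 h2 m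
  have hcard := card_oddIdx m
  have h5 : 5 ≤ Fintype.card (Unit ⊕ (Fin m ⊕ Fin m)) := by rw [hcard]; omega
  have hpr := pair_pow (quadFormOdd m F) g σ hp r
  have hir := induced_pow (quadFormOdd m F) g σ hp y hy r
  rw [hyr] at hir
  have hσr : σ ^ r = 1 :=
    RingEquiv.ext (sigma_fix_of_induced_one h2 (oddForm m F) hQ (AutOm.oddFrame m hm) h5
      (NkGL σ g r) (σ ^ r) hpr hir)
  have horder : orderOf σ = r := by
    have := Fact.mk hr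
    exact orderOf_eq_prime hσr hσ1
  rw [hσr] at hpr hir
  have hN : NkGL σ g r ∈ Geo.quadSimilarityGroup (F := F) (quadFormOdd m F) := by
    obtain ⟨c, hc⟩ := hpr
    exact ⟨c, fun v => hc v⟩
  have hPsi : PsiAut (quadFormOdd m F) ⟨NkGL σ g r, hN⟩ = 1 :=
    ((induced_iff (quadFormOdd m F) (NkGL σ g r) hN 1).mp hir).symm
  obtain ⟨a, ha⟩ := scalar_of_PsiAut_eq_one (oddForm m F) hQ (AutOm.oddFrame m hm) h5
    ⟨NkGL σ g r, hN⟩ hPsi
  have : Nonempty (Unit ⊕ (Fin m ⊕ Fin m)) := ⟨Sum.inl ()⟩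
  have ha0 : a ≠ 0 := by
    rintro rfl
    have h1 : ((NkGL σ g r : GL (Unit ⊕ (Fin m ⊕ Fin m)) F) :
        Matrix (Unit ⊕ (Fin m ⊕ Fin m)) (Unit ⊕ (Fin m ⊕ Fin m)) F).det ≠ 0 :=
      ((Matrix.isUnit_iff_isUnit_det _).mp (NkGL σ g r).isUnit).ne_zero
    have h3 : ((NkGL σ g r : GL (Unit ⊕ (Fin m ⊕ Fin m)) F) :
        Matrix (Unit ⊕ (Fin m ⊕ Fin m)) (Unit ⊕ (Fin m ⊕ Fin m)) F) = 0 := by
      rw [ha, zero_smul]
    rw [h3, Matrix.det_zero] at h1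
    exact h1 rfl
  obtain ⟨H, μ, hμ0, hH, hgH⟩ := exists_h90 σ r hr.pos horder g a ha0 ha
  obtain ⟨h, hh, hgh⟩ := go_fix h2 m σ g (sim_of_pair m g σ hp) H μ hH hgH
  refine ⟨h, Units.mk0 μ hμ0, hh, ?_⟩
  apply Units.ext
  rw [Units.val_mul, Units.val_mul, GLmap_val, scalar_val, hgh, Matrix.smul_mul, Matrix.one_mul]
  rfl

/-- Two automorphisms of prime order `r` induced by semisimilarities with the same non-trivial field
automorphism are conjugate under the image of the similarity group. -/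
theorem conj_of_same_sigma (h2 : (2 : F) ≠ 0) {m : ℕ} (hm : 3 ≤ m)
    (g₁ g₂ : GL (Unit ⊕ (Fin m ⊕ Fin m)) F) (σ : F ≃+* F)
    (hp₁ : IsSemisimilarityPair (quadFormOdd m F) g₁ σ)
    (hp₂ : IsSemisimilarityPair (quadFormOdd m F) g₂ σ)
    (y₁ y₂ : MulAut (POmega F (quadFormOdd m F)))
    (hy₁ : IsInducedBySemilinearPOmega (quadFormOdd m F) g₁ σ y₁)
    (hy₂ : IsInducedBySemilinearPOmega (quadFormOdd m F) g₂ σ y₂) {r : ℕ} (hr : r.Prime)
    (hσ1 : σ ≠ RingEquiv.refl F) (h₁ : y₁ ^ r = 1) (h₂ : y₂ ^ r = 1) :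
    ∃ (k : GL (Unit ⊕ (Fin m ⊕ Fin m)) F)
      (hk : k ∈ Geo.quadSimilarityGroup (F := F) (quadFormOdd m F)),
      y₂ = PsiAut (quadFormOdd m F) ⟨k, hk⟩ * y₁ * (PsiAut (quadFormOdd m F) ⟨k, hk⟩)⁻¹ := by
  obtain ⟨a₁, μ₁, ha₁, e₁⟩ := exists_fix_odd h2 hm g₁ σ hp₁ y₁ hy₁ hr hσ1 h₁
  obtain ⟨a₂, μ₂, ha₂, e₂⟩ := exists_fix_odd h2 hm g₂ σ hp₂ y₂ hy₂ hr hσ1 h₂
  have hk : a₂ * a₁⁻¹ ∈ Geo.quadSimilarityGroup (F := F) (quadFormOdd m F) :=
    Subgroup.mul_mem _ ha₂ (Subgroup.inv_mem _ ha₁)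
  have hconj := induced_conj (quadFormOdd m F) (a₂ * a₁⁻¹) hk g₁ σ hp₁ y₁ hy₁
  have hc₁ := GeneralLinearGroup.scalar_commute (n := Unit ⊕ (Fin m ⊕ Fin m)) μ₁
  have hA : a₂ * a₁⁻¹ * g₁ * (Matrix.GeneralLinearGroup.map (σ : F →+* F) (a₂ * a₁⁻¹))⁻¹ =
      GeneralLinearGroup.scalar (Unit ⊕ (Fin m ⊕ Fin m)) (μ₁ * μ₂⁻¹) * g₂ := by
    rw [map_mul, map_inv, map_mul, map_inv]
    obtain ⟨z₁, hz₁⟩ : ∃ z₁, z₁ = GeneralLinearGroup.scalar (Unit ⊕ (Fin m ⊕ Fin m)) μ₁ := ⟨_, rfl⟩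
    obtain ⟨z₂, hz₂⟩ : ∃ z₂, z₂ = GeneralLinearGroup.scalar (Unit ⊕ (Fin m ⊕ Fin m)) μ₂ := ⟨_, rfl⟩
    obtain ⟨s₁, hs₁⟩ : ∃ s₁, s₁ = Matrix.GeneralLinearGroup.map (σ : F →+* F) a₁ := ⟨_, rfl⟩
    obtain ⟨s₂, hs₂⟩ : ∃ s₂, s₂ = Matrix.GeneralLinearGroup.map (σ : F →+* F) a₂ := ⟨_, rfl⟩
    rw [← hz₁, ← hs₁] at e₁
    rw [← hz₂, ← hs₂] at e₂
    rw [← hz₁] at hc₁
    rw [← hz₁, ← hz₂, ← hs₁, ← hs₂]
    calc a₂ * a₁⁻¹ * g₁ * (s₂ * s₁⁻¹)⁻¹
        = a₂ * a₁⁻¹ * (g₁ * s₁) * s₂⁻¹ := by group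
      _ = a₂ * a₁⁻¹ * (z₁ * a₁) * s₂⁻¹ := by rw [e₁]
      _ = a₂ * (a₁⁻¹ * z₁) * a₁ * s₂⁻¹ := by group
      _ = a₂ * (z₁ * a₁⁻¹) * a₁ * s₂⁻¹ := by rw [hc₁ a₁⁻¹]
      _ = (a₂ * z₁) * s₂⁻¹ := by group
      _ = (z₁ * a₂) * s₂⁻¹ := by rw [hc₁ a₂]
      _ = z₁ * z₂⁻¹ * (z₂ * a₂) * s₂⁻¹ := by group
      _ = z₁ * z₂⁻¹ * (g₂ * s₂) * s₂⁻¹ := by rw [e₂]
      _ = z₁ * z₂⁻¹ * g₂ := by group
  rw [hA] at hconj
  have h3 := induced_scalar_mul (quadFormOdd m F) _ σ (μ₁ * μ₂⁻¹)⁻¹ _ hconj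
  have hA' : GeneralLinearGroup.scalar (Unit ⊕ (Fin m ⊕ Fin m)) (μ₁ * μ₂⁻¹)⁻¹ *
      (GeneralLinearGroup.scalar (Unit ⊕ (Fin m ⊕ Fin m)) (μ₁ * μ₂⁻¹) * g₂) = g₂ := by
    rw [← mul_assoc, ← map_mul, inv_mul_cancel, map_one, one_mul]
  rw [hA'] at h3
  exact ⟨a₂ * a₁⁻¹, hk, induced_unique (quadFormOdd m F) g₂ σ hp₂ _ _ hy₂ h3⟩

theorem inndiagOdd_mem {m : ℕ} (δ : MulAut (POmega F (quadFormOdd m F)))
    (hδ : δ ∈ inndiagPOmegaOdd m F) :
    ∃ g : GL (Unit ⊕ (Fin m ⊕ Fin m)) F, g ∈ Geo.quadSimilarityGroup (F := F) (quadFormOdd m F) ∧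
      IsInducedBySemilinearPOmega (quadFormOdd m F) g (RingEquiv.refl F) δ := by
  have h1 : inndiagPOmegaOdd m F = img (quadFormOdd m F)
      (Geo.quadSimilarityGroup (F := F) (quadFormOdd m F)) :=
    autSubgroupOf_eq_img (quadFormOdd m F) _ le_rfl
  rw [h1, mem_img] at hδ
  obtain ⟨g, -, rfl⟩ := hδ
  exact ⟨g.1, g.2, (induced_iff (quadFormOdd m F) g.1 g.2 _).mpr rfl⟩

/-- **S2735**: in the coset `Inndiag · x` of a field automorphism `x` of prime order `r` of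
`Ω_{2m+1}(F)`, the elements of order `r` are exactly the `Inndiag`-conjugates of `x`. -/
theorem field_conj_iff_odd (hodd : Odd (Fintype.card F)) {m : ℕ} (hm : 3 ≤ m)
    (x δ : MulAut (POmega F (quadFormOdd m F)))
    (hx : IsFieldAutClassPOmega (quadFormOdd m F) x) {r : ℕ} (hr : r.Prime) (hxr : orderOf x = r)
    (hδ : δ ∈ inndiagPOmegaOdd m F) :
    orderOf (δ * x) = r ↔ IsConjUnder (inndiagPOmegaOdd m F) x (δ * x) := by
  have h2 : (2 : F) ≠ 0 := Cfsg.Agent.Lib.helper17.two_ne_zero_of_odd_card hodd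
  have hQ := Cfsg.Agent.Lib.helper17.oddForm_nondeg17 h2 m
  have hcard := card_oddIdx m
  have h5 : 5 ≤ Fintype.card (Unit ⊕ (Fin m ⊕ Fin m)) := by rw [hcard]; omega
  have hub := AutOm.gamma_odd hodd hm
  have hall : ∀ β : MulAut (POmega F (quadFormOdd m F)),
      ∃ σ, SemiInd (quadFormOdd m F) β σ := by
    intro β
    obtain ⟨g, σ, p, i⟩ := exists_pair_of_mem_gamma (quadFormOdd m F) β (by rw [hub]; trivial)
    exact ⟨σ, g, p, i⟩
  have ord_conj : ∀ a y : MulAut (POmega F (quadFormOdd m F)),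
      orderOf (a * y * a⁻¹) = orderOf y := by
    intro a y
    have := MulEquiv.orderOf_eq (MulAut.conj a) y
    rwa [MulAut.conj_apply] at this
  constructor
  · intro hord
    obtain ⟨α, φ, σ₀, hσ₀, hφ, hαx⟩ := hx
    obtain ⟨gx, σx, px, ix⟩ := exists_pair_of_mem_gamma (quadFormOdd m F) x (by rw [hub]; trivial)
    have hσx : σx ≠ RingEquiv.refl F := by
      intro hσx
      rw [hσx] at px ix
      obtain ⟨τ, hα⟩ := hall α
      have hφ1 : SemiInd (quadFormOdd m F) φ σ₀ := by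
        refine ⟨1, ⟨1, fun v => ?_⟩, ?_⟩
        · rw [Units.val_one, Matrix.one_mulVec, Units.val_one, one_mul, odd_sigma]
        · intro s s' hs'
          apply hφ s s'
          rw [hs', inv_one, Units.val_one, Matrix.one_mul, Matrix.mul_one]
      have hφ2 : SemiInd (quadFormOdd m F) (α * x * α⁻¹)
          (τ.symm.trans ((RingEquiv.refl F).trans τ)) := (hα.mul ⟨gx, px, ix⟩).mul hα.inv
      rw [hαx] at hφ2
      have h1 := hφ2.mul hφ1.inv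
      rw [mul_inv_cancel] at h1
      have h3 := SemiInd.eq_refl_of_one h2 (oddForm m F) hQ (AutOm.oddFrame m hm) h5 h1
      apply hσ₀
      ext t
      have h4 := RingEquiv.congr_fun h3 (σ₀ t)
      simp at h4
      exact h4.symm
    obtain ⟨gδ, hgδ, iδ⟩ := inndiagOdd_mem δ hδ
    have pδ : IsSemisimilarityPair (quadFormOdd m F) gδ (RingEquiv.refl F) :=
      pair_of_similarity _ gδ hgδ
    have p2 := pair_mul (quadFormOdd m F) gδ gx (RingEquiv.refl F) σx pδ px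
    have i2 := induced_mul (quadFormOdd m F) gδ gx (RingEquiv.refl F) σx px δ x iδ ix
    have e2 : σx.trans (RingEquiv.refl F) = σx := RingEquiv.ext (fun _ => rfl)
    rw [GLmap_refl, e2] at p2 i2
    have hx1 : x ^ r = 1 := by rw [← hxr]; exact pow_orderOf_eq_one x
    have hy1 : (δ * x) ^ r = 1 := by rw [← hord]; exact pow_orderOf_eq_one _
    obtain ⟨k, hk, hconj⟩ := conj_of_same_sigma h2 hm gx (gδ * gx) σx px p2 x (δ * x) ix i2 hr
      hσx hx1 hy1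
    refine ⟨PsiAut (quadFormOdd m F) ⟨k, hk⟩, ?_, hconj⟩
    apply Subgroup.subset_closure
    exact ⟨k, hk, (induced_iff (quadFormOdd m F) k hk _).mpr rfl⟩
  · rintro ⟨h, -, hh⟩
    rw [hh, ord_conj, hxr]

end Main

end Cfsg.Agent.Lib.helper49.OddField
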