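import Mathlib
import Cfsg.Agent.Lib.helper2.BGDefs
import Cfsg.Agent.Lib.helper20.D1EFinal
import Cfsg.Agent.Lib.helper4.CharDecomp
import Cfsg.Agent.Lib.helper81.Kernel

/-!
helper49: S4504 piece D2 (`ker_le_center`), modulo piece D (`ker_central`) taken as a hypothesis:
`helper49_ker_le_center_of`.
-/

set_option autoImplicit false
set_option linter.unusedVariables false
set_option linter.style.haveILetI false

open Cfsg Cfsg.Agent.Lib.helper20.D1E Cfsg.Agent.Lib.helper2.BF
open scoped ComplexConjugate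

namespace Cfsg.Agent.Lib.helper2.BG

universe u

variable {G : Type*} [Group G] [Fintype G]

/-- D2 modulo D: the kernel of a character `ξ` with `ξ x ≠ ξ 1` is central, given the statement
of piece D (`ker_central`) for the normal subgroup `charKer ξ`. -/
theorem helper49_ker_le_center_of (p : ℕ) [Fact p.Prime] (P : Sylow p G) (hP : Nat.card P = p)
    (x : G) (hx : x ∈ (P : Subgroup G)) (hx1 : x ≠ 1)
    (hgen : Subgroup.normalClosure ({x} : Set G) = ⊤)
    (ψ : IrrCharacter G) (hdeg : 2 * charDegree (ψ : G → ℂ) + 1 ≤ p)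
    (hfaith : ∀ g : G, (ψ : G → ℂ) g = (ψ : G → ℂ) 1 → g = 1)
    (hns : ‖(ψ : G → ℂ) x‖ ≠ ‖(ψ : G → ℂ) 1‖)
    (hD : ∀ (L : Subgroup G) (hL : L.Normal) (hxL : x ∉ L),
      ∀ k ∈ L, (ψ : G → ℂ) (x * k * x⁻¹ * k⁻¹) = (ψ : G → ℂ) 1)
    (ξ : G → ℂ) (hξ : IsCharacter G ξ) (hξx : ξ x ≠ ξ 1) :
    ∀ k : G, ξ k = ξ 1 → k ∈ Subgroup.center G := by
  intro k hk
  obtain ⟨L, hLdef⟩ : ∃ L : Subgroup G, L = Cfsg.Agent.Lib.helper81.charKer ξ hξ := ⟨_, rfl⟩
  have hLn : L.Normal := by
    rw [hLdef]
    infer_instance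
  have hxL : x ∉ L := by
    rw [hLdef]
    exact hξx
  have hkL : k ∈ L := by
    rw [hLdef]
    exact hk
  have hcomm : ∀ l ∈ L, l * x = x * l := by
    intro l hl
    have h1 := hfaith _ (hD L hLn hxL l hl)
    have h2 : x * l = l * x := by
      have h3 : x * l * x⁻¹ = l := by
        have := mul_inv_eq_one.mp h1
        exact this
      calc x * l = x * l * x⁻¹ * x := by group
        _ = l * x := by rw [h3]
    exact h2.symm
  have hxC : ({x} : Set G) ⊆ (Subgroup.centralizer (L : Set G) : Subgroup G) := by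
    intro y hy
    rw [Set.mem_singleton_iff] at hy
    subst hy
    rw [SetLike.mem_coe, Subgroup.mem_centralizer_iff]
    intro l hl
    exact hcomm l hl
  haveI : L.Normal := hLn
  have hle : Subgroup.normalClosure ({x} : Set G) ≤ Subgroup.centralizer (L : Set G) :=
    Subgroup.normalClosure_le_normal hxC
  rw [hgen] at hle
  rw [Subgroup.mem_center_iff]
  intro g
  have hg : g ∈ Subgroup.centralizer (L : Set G) := hle (Subgroup.mem_top g)
  rw [Subgroup.mem_centralizer_iff] at hg
  exact (hg k hkL).symm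

end Cfsg.Agent.Lib.helper2.BG
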