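import Mathlib

/-!
# S1906 pieces COMM and INV (helper49): `core_comm`, `core_inv`
-/

set_option autoImplicit false

namespace Cfsg.Agent.Lib.helper49.G3

open Matrix

section aux

variable {F : Type*} [Field F]

/-- the idempotent `h • (1 + c)` attached to an involution `c`, where `2 * h = 1` -/
theorem h49_idem (h : F) (hh : 2 * h = 1) (c : Matrix (Fin 3) (Fin 3) F) (hc : c * c = 1) :
    (h • (1 + c)) * (h • (1 + c)) = h • (1 + c) := by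
  have e : (1 + c) * (1 + c) = (2 : F) • (1 + c) := by
    have : (1 + c) * (1 + c) = 1 + c + c + c * c := by noncomm_ring
    rw [this, hc]
    module
  rw [Matrix.smul_mul, Matrix.mul_smul, e, smul_smul, smul_smul]
  congr 1
  linear_combination h * hh

theorem h49_idem_trace (h : F) (hh : 2 * h = 1) (c : Matrix (Fin 3) (Fin 3) F)
    (ht : c.trace = -1) : (h • (1 + c)).trace = 1 := by
  rw [Matrix.trace_smul, Matrix.trace_add, Matrix.trace_one, ht]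
  simp only [Fintype.card_fin, Nat.cast_ofNat, smul_eq_mul]
  linear_combination hh

theorem h49_idem_comm (h : F) (c X : Matrix (Fin 3) (Fin 3) F) (hX : X * c = c * X) :
    X * (h • (1 + c)) = (h • (1 + c)) * X := by
  rw [Matrix.mul_smul, Matrix.smul_mul, mul_add, add_mul, mul_one, one_mul, hX]

theorem h49_prod_sq (c₁ c₂ : Matrix (Fin 3) (Fin 3) F) (h1 : c₁ * c₁ = 1) (h2' : c₂ * c₂ = 1)
    (hc : c₁ * c₂ = c₂ * c₁) : (c₁ * c₂) * (c₁ * c₂) = 1 := by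
  calc (c₁ * c₂) * (c₁ * c₂) = c₁ * (c₂ * c₁) * c₂ := by simp only [mul_assoc]
    _ = c₁ * (c₁ * c₂) * c₂ := by rw [hc]
    _ = (c₁ * c₁) * (c₂ * c₂) := by simp only [mul_assoc]
    _ = 1 := by rw [h1, h2', mul_one]

theorem h49_prod_comm (c₁ c₂ X : Matrix (Fin 3) (Fin 3) F) (hX1 : X * c₁ = c₁ * X)
    (hX2 : X * c₂ = c₂ * X) : X * (c₁ * c₂) = (c₁ * c₂) * X := by
  rw [← mul_assoc, hX1, mul_assoc, hX2, ← mul_assoc]

/-- the three idempotents sum to one -/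
theorem h49_sum_one (h : F) (hh : 2 * h = 1) (c₁ c₂ : Matrix (Fin 3) (Fin 3) F)
    (hkey : c₁ + c₂ + c₁ * c₂ = -1) :
    h • (1 + c₁) + h • (1 + c₂) + h • (1 + c₁ * c₂) = 1 := by
  have hh1 : (2 * h) • (1 : Matrix (Fin 3) (Fin 3) F) = (1 : F) • 1 := by rw [hh]
  linear_combination (norm := module) h • hkey + hh1

theorem h49_c1_eq (h : F) (hh : 2 * h = 1) (c₁ c₂ : Matrix (Fin 3) (Fin 3) F)
    (hkey : c₁ + c₂ + c₁ * c₂ = -1) :
    h • (1 + c₁) - h • (1 + c₂) - h • (1 + c₁ * c₂) = c₁ := by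
  have hh1 : (2 * h) • c₁ = (1 : F) • c₁ := by rw [hh]
  linear_combination (norm := module) (-h) • hkey + hh1

theorem h49_c2_eq (h : F) (hh : 2 * h = 1) (c₁ c₂ : Matrix (Fin 3) (Fin 3) F)
    (hkey : c₁ + c₂ + c₁ * c₂ = -1) :
    -(h • (1 + c₁)) + h • (1 + c₂) - h • (1 + c₁ * c₂) = c₂ := by
  have hh1 : (2 * h) • c₂ = (1 : F) • c₂ := by rw [hh]
  linear_combination (norm := module) (-h) • hkey + hh1

theorem h49_c3_eq (h : F) (hh : 2 * h = 1) (c₁ c₂ : Matrix (Fin 3) (Fin 3) F)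
    (hkey : c₁ + c₂ + c₁ * c₂ = -1) :
    -(h • (1 + c₁)) - h • (1 + c₂) + h • (1 + c₁ * c₂) = c₁ * c₂ := by
  have hh1 : (2 * h) • (c₁ * c₂) = (1 : F) • (c₁ * c₂) := by rw [hh]
  linear_combination (norm := module) (-h) • hkey + hh1

/-- a matrix commuting with `c₁`, `c₂` is a combination of the three idempotents -/
theorem h49_decomp (h : F) (hh : 2 * h = 1) (c₁ c₂ : Matrix (Fin 3) (Fin 3) F)
    (h1 : c₁ * c₁ = 1) (h2' : c₂ * c₂ = 1) (hc : c₁ * c₂ = c₂ * c₁)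
    (t1 : c₁.trace = -1) (t2 : c₂.trace = -1) (t3 : (c₁ * c₂).trace = -1)
    (hkey : c₁ + c₂ + c₁ * c₂ = -1)
    (hrk : ∀ P A : Matrix (Fin 3) (Fin 3) F, P * P = P → P.trace = 1 →
      P * A * P = (A * P).trace • P)
    (X : Matrix (Fin 3) (Fin 3) F) (hX1 : X * c₁ = c₁ * X) (hX2 : X * c₂ = c₂ * X) :
    ∃ x₁ x₂ x₃ : F, X * (h • (1 + c₁)) = x₁ • (h • (1 + c₁)) ∧
      X * (h • (1 + c₂)) = x₂ • (h • (1 + c₂)) ∧
      X * (h • (1 + c₁ * c₂)) = x₃ • (h • (1 + c₁ * c₂)) ∧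
      X = x₁ • (h • (1 + c₁)) + x₂ • (h • (1 + c₂)) + x₃ • (h • (1 + c₁ * c₂)) := by
  have h3 := h49_prod_sq c₁ c₂ h1 h2' hc
  have hX3 := h49_prod_comm c₁ c₂ X hX1 hX2
  have key : ∀ c : Matrix (Fin 3) (Fin 3) F, c * c = 1 → c.trace = -1 → X * c = c * X →
      X * (h • (1 + c)) = (X * (h • (1 + c))).trace • (h • (1 + c)) := by
    intro c hcc htc hXc
    have hi := h49_idem h hh c hcc
    have hr := hrk (h • (1 + c)) X hi (h49_idem_trace h hh c htc)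
    rw [← hr, ← h49_idem_comm h c X hXc, mul_assoc, hi]
  have k1 := key c₁ h1 t1 hX1
  have k2 := key c₂ h2' t2 hX2
  have k3 := key (c₁ * c₂) h3 t3 hX3
  refine ⟨_, _, _, k1, k2, k3, ?_⟩
  calc X = X * (h • (1 + c₁) + h • (1 + c₂) + h • (1 + c₁ * c₂)) := by
        rw [h49_sum_one h hh c₁ c₂ hkey, mul_one]
    _ = X * (h • (1 + c₁)) + X * (h • (1 + c₂)) + X * (h • (1 + c₁ * c₂)) := by
        rw [mul_add, mul_add]
    _ = _ := by rw [← k1, ← k2, ← k3]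

theorem h49_cases (P₁ P₂ P₃ c₁ c₂ c₃ e : Matrix (Fin 3) (Fin 3) F) (i0 : P₁ + P₂ + P₃ = 1)
    (i1 : P₁ - P₂ - P₃ = c₁) (i2 : -P₁ + P₂ - P₃ = c₂) (i3 : -P₁ - P₂ + P₃ = c₃)
    (x₁ x₂ x₃ : F) (hE : e = x₁ • P₁ + x₂ • P₂ + x₃ • P₃)
    (s1 : x₁ = 1 ∨ x₁ = -1) (s2 : x₂ = 1 ∨ x₂ = -1) (s3 : x₃ = 1 ∨ x₃ = -1) :
    e = 1 ∨ e = -1 ∨ e = c₁ ∨ e = -c₁ ∨ e = c₂ ∨ e = -c₂ ∨ e = c₃ ∨ e = -c₃ := by
  rcases s1 with rfl | rfl <;> rcases s2 with rfl | rfl <;> rcases s3 with rfl | rfl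
  · left
    rw [hE, ← i0]; module
  · right; right; right; right; right; right; right
    rw [hE, ← i3]; module
  · right; right; right; right; right; left
    rw [hE, ← i2]; module
  · right; right; left
    rw [hE, ← i1]; module
  · right; right; right; left
    rw [hE, ← i1]; module
  · right; right; right; right; left
    rw [hE, ← i2]; module
  · right; right; right; right; right; right; left
    rw [hE, ← i3]; module
  · right; left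
    rw [hE, ← i0]; module

end aux

/-- PIECE COMM. -/
theorem core_comm {F : Type*} [Field F] (h2 : (2 : F) ≠ 0) (c₁ c₂ : Matrix (Fin 3) (Fin 3) F)
    (h1 : c₁ * c₁ = 1) (h2' : c₂ * c₂ = 1) (hc : c₁ * c₂ = c₂ * c₁)
    (t1 : c₁.trace = -1) (t2 : c₂.trace = -1) (t3 : (c₁ * c₂).trace = -1)
    (hkey : c₁ + c₂ + c₁ * c₂ = -1)
    (hrk : ∀ P A : Matrix (Fin 3) (Fin 3) F, P * P = P → P.trace = 1 →
      P * A * P = (A * P).trace • P)
    (A B : Matrix (Fin 3) (Fin 3) F) (hA1 : A * c₁ = c₁ * A) (hA2 : A * c₂ = c₂ * A)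
    (hB1 : B * c₁ = c₁ * B) (hB2 : B * c₂ = c₂ * B) : A * B = B * A := by
  have hh : 2 * (2 : F)⁻¹ = 1 := mul_inv_cancel₀ h2
  obtain ⟨a₁, a₂, a₃, -, -, -, hA⟩ :=
    h49_decomp (2 : F)⁻¹ hh c₁ c₂ h1 h2' hc t1 t2 t3 hkey hrk A hA1 hA2
  have b1 := h49_idem_comm (2 : F)⁻¹ c₁ B hB1
  have b2 := h49_idem_comm (2 : F)⁻¹ c₂ B hB2
  have b3 := h49_idem_comm (2 : F)⁻¹ (c₁ * c₂) B (h49_prod_comm c₁ c₂ B hB1 hB2)
  have hcomm : Commute (a₁ • ((2 : F)⁻¹ • (1 + c₁)) + a₂ • ((2 : F)⁻¹ • (1 + c₂)) +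
      a₃ • ((2 : F)⁻¹ • (1 + c₁ * c₂))) B :=
    (((show Commute ((2 : F)⁻¹ • (1 + c₁)) B from b1.symm).smul_left a₁).add_left
      ((show Commute ((2 : F)⁻¹ • (1 + c₂)) B from b2.symm).smul_left a₂)).add_left
      ((show Commute ((2 : F)⁻¹ • (1 + c₁ * c₂)) B from b3.symm).smul_left a₃)
  rw [hA]
  exact hcomm.eq

/-- PIECE INV. -/
theorem core_inv {F : Type*} [Field F] (h2 : (2 : F) ≠ 0) (c₁ c₂ : Matrix (Fin 3) (Fin 3) F)
    (h1 : c₁ * c₁ = 1) (h2' : c₂ * c₂ = 1) (hc : c₁ * c₂ = c₂ * c₁)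
    (t1 : c₁.trace = -1) (t2 : c₂.trace = -1) (t3 : (c₁ * c₂).trace = -1)
    (hkey : c₁ + c₂ + c₁ * c₂ = -1)
    (hrk : ∀ P A : Matrix (Fin 3) (Fin 3) F, P * P = P → P.trace = 1 →
      P * A * P = (A * P).trace • P)
    (e : Matrix (Fin 3) (Fin 3) F) (he : e * e = 1) (he1 : e * c₁ = c₁ * e)
    (he2 : e * c₂ = c₂ * e) :
    e = 1 ∨ e = -1 ∨ e = c₁ ∨ e = -c₁ ∨ e = c₂ ∨ e = -c₂ ∨ e = c₁ * c₂ ∨ e = -(c₁ * c₂) := by
  have hh : 2 * (2 : F)⁻¹ = 1 := mul_inv_cancel₀ h2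
  obtain ⟨x₁, x₂, x₃, k1, k2, k3, hE⟩ :=
    h49_decomp (2 : F)⁻¹ hh c₁ c₂ h1 h2' hc t1 t2 t3 hkey hrk e he1 he2
  have h3 := h49_prod_sq c₁ c₂ h1 h2' hc
  -- each coefficient squares to one
  have sq : ∀ (c : Matrix (Fin 3) (Fin 3) F) (x : F), c.trace = -1 →
      e * ((2 : F)⁻¹ • (1 + c)) = x • ((2 : F)⁻¹ • (1 + c)) → x = 1 ∨ x = -1 := by
    intro c x htc hk
    have hP : ((2 : F)⁻¹ • (1 + c)) ≠ 0 := by
      intro h0
      have := h49_idem_trace (2 : F)⁻¹ hh c htc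
      rw [h0, Matrix.trace_zero] at this
      exact zero_ne_one this
    have e1 : e * (e * ((2 : F)⁻¹ • (1 + c))) = (x * x) • ((2 : F)⁻¹ • (1 + c)) := by
      rw [hk, Matrix.mul_smul, hk, smul_smul]
    rw [← mul_assoc, he, one_mul] at e1
    have e2 : (x * x - 1) • ((2 : F)⁻¹ • (1 + c)) = 0 := by
      rw [sub_smul, one_smul, ← e1, sub_self]
    rcases smul_eq_zero.mp e2 with h | h
    · have h' : (x - 1) * (x + 1) = 0 := by linear_combination h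
      rcases mul_eq_zero.mp h' with h'' | h''
      · left; linear_combination h''
      · right; linear_combination h''
    · exact absurd h hP
  have s1 := sq c₁ x₁ t1 k1
  have s2 := sq c₂ x₂ t2 k2
  have s3 := sq (c₁ * c₂) x₃ t3 k3
  have i0 := h49_sum_one (2 : F)⁻¹ hh c₁ c₂ hkey
  have i1 := h49_c1_eq (2 : F)⁻¹ hh c₁ c₂ hkey
  have i2 := h49_c2_eq (2 : F)⁻¹ hh c₁ c₂ hkey
  have i3 := h49_c3_eq (2 : F)⁻¹ hh c₁ c₂ hkey
  exact h49_cases _ _ _ c₁ c₂ (c₁ * c₂) e i0 i1 i2 i3 x₁ x₂ x₃ hE s1 s2 s3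

end Cfsg.Agent.Lib.helper49.G3
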