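import Mathlib

/-!
# S1906 piece KEY (helper49): `key_id`, with the adjugate identity and the trace lemma inline
-/

set_option autoImplicit false

namespace Cfsg.Agent.Lib.helper49.G3

open Matrix

/-- Division-free adjugate formula for 3×3 matrices (Cayley–Hamilton); brute force. -/
theorem h49_adj3 {R : Type*} [CommRing R] (A : Matrix (Fin 3) (Fin 3) R) :
    (2 : R) • A.adjugate =
      (2 : R) • (A * A) - (2 * A.trace) • A
        + (A.trace ^ 2 - (A * A).trace) • (1 : Matrix (Fin 3) (Fin 3) R) := by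
  ext i j
  fin_cases i <;> fin_cases j <;>
    simp [Matrix.adjugate_fin_three, Matrix.mul_apply, Fin.sum_univ_three, Matrix.trace] <;> ring

/-- A non-identity involution of determinant 1 has trace -1. -/
theorem h49_inv_trace {F : Type*} [Field F] (h2 : (2 : F) ≠ 0) (c : Matrix (Fin 3) (Fin 3) F)
    (hc : c * c = 1) (hd : c.det = 1) (hn : c ≠ 1) : c.trace = -1 := by
  by_contra ht
  have hadj : c.adjugate = c := by
    have h1 : c * c.adjugate = 1 := by rw [Matrix.mul_adjugate, hd, one_smul]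
    calc c.adjugate = (c * c) * c.adjugate := by rw [hc, one_mul]
      _ = c * (c * c.adjugate) := by rw [mul_assoc]
      _ = c := by rw [h1, mul_one]
  have h3 := h49_adj3 c
  rw [hadj, hc, Matrix.trace_one] at h3
  simp only [Fintype.card_fin, Nat.cast_ofNat] at h3
  set t := c.trace with ht_def
  -- (2 + 2 t) • c = (t ^ 2 - 1) • 1
  have h4 : (2 + 2 * t) • c = (t ^ 2 - 1) • (1 : Matrix (Fin 3) (Fin 3) F) := by
    linear_combination (norm := module) h3
  have ht1 : t + 1 ≠ 0 := fun h => ht (by linear_combination h)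
  have h5 : c = ((t - 1) / 2) • (1 : Matrix (Fin 3) (Fin 3) F) := by
    have h6 : (2 + 2 * t) ≠ 0 := by
      have : (2 + 2 * t) = 2 * (t + 1) := by ring
      rw [this]
      exact mul_ne_zero h2 ht1
    have h7 : c = (2 + 2 * t)⁻¹ • ((2 + 2 * t) • c) := by
      rw [smul_smul, inv_mul_cancel₀ h6, one_smul]
    have e1 : (2 + 2 * t) * ((t - 1) / 2) = t ^ 2 - 1 := by
      field_simp
      ring
    rw [h7, h4, smul_smul, ← e1, ← mul_assoc, inv_mul_cancel₀ h6, one_mul]
  set κ := (t - 1) / 2 with hκ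
  have hκ2 : κ * κ = 1 := by
    have h8 := hc
    rw [h5, Matrix.smul_mul, Matrix.mul_smul, mul_one, smul_smul] at h8
    have h9 := congrFun (congrFun h8 0) 0
    simpa using h9
  have hκ3 : κ ^ 3 = 1 := by
    have h8 := hd
    rw [h5, Matrix.det_smul, Matrix.det_one, mul_one] at h8
    simpa using h8
  have hκ1 : κ = 1 := by
    have : κ ^ 3 = κ * κ * κ := by ring
    rw [this, hκ2, one_mul] at hκ3
    exact hκ3
  apply hn
  rw [h5, hκ1, one_smul]

/-- PIECE KEY. Two distinct commuting non-identity involutions of determinant 1. -/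
theorem key_id {F : Type*} [Field F] (h2 : (2 : F) ≠ 0) (c₁ c₂ : Matrix (Fin 3) (Fin 3) F)
    (h1 : c₁ * c₁ = 1) (h2' : c₂ * c₂ = 1) (hc : c₁ * c₂ = c₂ * c₁)
    (hd1 : c₁.det = 1) (hd2 : c₂.det = 1) (hn1 : c₁ ≠ 1) (hn2 : c₂ ≠ 1) (hne : c₁ ≠ c₂) :
    c₁ + c₂ + c₁ * c₂ = -1 := by
  have h3 : (c₁ * c₂) * (c₁ * c₂) = 1 := by
    calc (c₁ * c₂) * (c₁ * c₂) = c₁ * (c₂ * c₁) * c₂ := by simp only [mul_assoc]
      _ = c₁ * (c₁ * c₂) * c₂ := by rw [hc]
      _ = (c₁ * c₁) * (c₂ * c₂) := by simp only [mul_assoc]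
      _ = 1 := by rw [h1, h2', mul_one]
  have hd3 : (c₁ * c₂).det = 1 := by rw [Matrix.det_mul, hd1, hd2, mul_one]
  have hn3 : c₁ * c₂ ≠ 1 := by
    intro h
    apply hne
    calc c₁ = c₁ * (c₂ * c₂) := by rw [h2', mul_one]
      _ = (c₁ * c₂) * c₂ := by rw [mul_assoc]
      _ = c₂ := by rw [h, one_mul]
  have t1 := h49_inv_trace h2 c₁ h1 hd1 hn1
  have t2 := h49_inv_trace h2 c₂ h2' hd2 hn2
  have t3 := h49_inv_trace h2 (c₁ * c₂) h3 hd3 hn3
  set S : Matrix (Fin 3) (Fin 3) F := 1 + c₁ + c₂ + c₁ * c₂ with hS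
  have hSS : S * S = (4 : F) • S := by
    have e1 : S = (1 + c₁) * (1 + c₂) := by
      rw [hS]; noncomm_ring
    have e2 : (1 + c₁) * (1 + c₁) = (2 : F) • (1 + c₁) := by
      have : (1 + c₁) * (1 + c₁) = 1 + c₁ + c₁ + c₁ * c₁ := by noncomm_ring
      rw [this, h1]
      module
    have e3 : (1 + c₂) * (1 + c₂) = (2 : F) • (1 + c₂) := by
      have : (1 + c₂) * (1 + c₂) = 1 + c₂ + c₂ + c₂ * c₂ := by noncomm_ring
      rw [this, h2']
      module
    have e4 : (1 + c₂) * (1 + c₁) = (1 + c₁) * (1 + c₂) := by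
      have l : (1 + c₂) * (1 + c₁) = 1 + c₁ + c₂ + c₂ * c₁ := by noncomm_ring
      have r : (1 + c₁) * (1 + c₂) = 1 + c₁ + c₂ + c₁ * c₂ := by noncomm_ring
      rw [l, r, hc]
    calc S * S = (1 + c₁) * ((1 + c₂) * (1 + c₁)) * (1 + c₂) := by
          rw [e1]; simp only [mul_assoc]
      _ = ((1 + c₁) * (1 + c₁)) * ((1 + c₂) * (1 + c₂)) := by
          rw [e4]; simp only [mul_assoc]
      _ = (4 : F) • S := by
          rw [e2, e3, Matrix.smul_mul, Matrix.mul_smul, smul_smul, ← e1]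
          norm_num
  have htS : S.trace = 0 := by
    rw [hS, Matrix.trace_add, Matrix.trace_add, Matrix.trace_add, Matrix.trace_one, t1, t2, t3]
    simp only [Fintype.card_fin, Nat.cast_ofNat]
    ring
  have hadj := h49_adj3 S
  rw [hSS, htS, Matrix.trace_smul, htS] at hadj
  have hadj2 : (2 : F) • S.adjugate = (2 : F) • ((4 : F) • S) := by
    rw [hadj]
    module
  have hadj3 : S.adjugate = (4 : F) • S := by
    have e : S.adjugate = (2 : F)⁻¹ • ((2 : F) • S.adjugate) := by
      rw [smul_smul, inv_mul_cancel₀ h2, one_smul]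
    rw [e, hadj2, smul_smul, inv_mul_cancel₀ h2, one_smul]
  have hdet : (16 : F) • S = S.det • (1 : Matrix (Fin 3) (Fin 3) F) := by
    have h5 := Matrix.mul_adjugate S
    rw [hadj3, Matrix.mul_smul, hSS, smul_smul] at h5
    rw [← h5]
    norm_num
  have h16 : (16 : F) ≠ 0 := by
    have : (16 : F) = 2 * 2 * 2 * 2 := by norm_num
    rw [this]
    exact mul_ne_zero (mul_ne_zero (mul_ne_zero h2 h2) h2) h2
  set δ : F := S.det / 16 with hδ
  have hSδ : S = δ • (1 : Matrix (Fin 3) (Fin 3) F) := by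
    have h6 : S = (16 : F)⁻¹ • ((16 : F) • S) := by
      rw [smul_smul, inv_mul_cancel₀ h16, one_smul]
    rw [h6, hdet, smul_smul, hδ]
    congr 1
    field_simp
  have hδ2 : δ * δ = 4 * δ := by
    have h7 := hSS
    rw [hSδ, Matrix.smul_mul, Matrix.mul_smul, mul_one, smul_smul, smul_smul] at h7
    have h8 := congrFun (congrFun h7 0) 0
    simpa using h8
  have hδ0 : δ = 0 := by
    have h9 : δ * (δ - 4) = 0 := by linear_combination hδ2
    rcases mul_eq_zero.mp h9 with h | h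
    · exact h
    · exfalso
      have hδ4 : δ = 4 := by linear_combination h
      have h10 : (1 - c₁) * S = 0 := by
        have e1 : S = (1 + c₁) * (1 + c₂) := by
          rw [hS]; noncomm_ring
        have e5 : (1 - c₁) * (1 + c₁) = 1 - c₁ * c₁ := by noncomm_ring
        rw [e1, ← mul_assoc, e5, h1, sub_self, zero_mul]
      rw [hSδ, hδ4, Matrix.mul_smul, mul_one] at h10
      have h4 : (4 : F) ≠ 0 := by
        have : (4 : F) = 2 * 2 := by norm_num
        rw [this]
        exact mul_ne_zero h2 h2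
      have h11 : (1 : Matrix (Fin 3) (Fin 3) F) - c₁ = 0 := by
        rcases smul_eq_zero.mp h10 with h | h
        · exact absurd h h4
        · exact h
      exact hn1 (sub_eq_zero.mp h11).symm
  have hS0 : S = 0 := by rw [hSδ, hδ0, zero_smul]
  rw [hS] at hS0
  have : c₁ + c₂ + c₁ * c₂ = (1 + c₁ + c₂ + c₁ * c₂) - 1 := by abel
  rw [this, hS0, zero_sub]

end Cfsg.Agent.Lib.helper49.G3
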