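/-
Field automorphisms of orthogonal groups, part 4: base change of the odd-dimensional form along a
field embedding `K → F` (similarities, isometries, reflections), and the spinor sign of an isometry
defined over a subfield all of whose elements are squares in the big field.
-/
import Mathlib
import Cfsg.Agent.Lib.helper49.OddField3
import Cfsg.Agent.Lib.helper49.WittIso
import Cfsg.Agent.Lib.helper17.CartanDieudonne
import Cfsg.Agent.Lib.helper42.GammaOdd
import Cfsg.Agent.Lib.helper42.SplitCount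

set_option autoImplicit false
set_option linter.unusedSectionVars false

namespace Cfsg.Agent.Lib.helper49.OddField

open Matrix Module QuadraticMap Cfsg
open Cfsg.Agent.Lib.helper49 Cfsg.Agent.Lib.helper42

section BaseChange

variable {K F : Type*} [Field K] [Field F]

theorem odd_hom (m : ℕ) (f : K →+* F) (v : Unit ⊕ (Fin m ⊕ Fin m) → K) :
    quadFormOdd m F (fun i => f (v i)) = f (quadFormOdd m K v) := by
  simp [quadFormOdd, map_add, map_sum, map_mul, map_pow]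

theorem map_mulVec_hom {ι : Type} [Fintype ι] (f : K →+* F) (M : Matrix ι ι K) (v : ι → K) :
    (M.map f) *ᵥ (fun i => f (v i)) = fun i => f ((M *ᵥ v) i) := by
  funext i
  exact (f.map_mulVec M v i).symm

theorem single_hom {ι : Type} [DecidableEq ι] (f : K →+* F) (j : ι) :
    (Pi.single j (1 : F) : ι → F) = fun i => f ((Pi.single j (1 : K) : ι → K) i) := by
  funext i
  by_cases h : i = j
  · subst h; simp
  · simp [Pi.single_eq_of_ne h]

theorem polarVec_hom (m : ℕ) (f : K →+* F) (v : Unit ⊕ (Fin m ⊕ Fin m) → K) :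
    polarVec (quadFormOdd m F) (fun i => f (v i)) =
      fun j => f (polarVec (quadFormOdd m K) v j) := by
  funext j
  unfold polarVec QuadraticMap.polar
  have e2 : (fun i => f (v i)) + (Pi.single j (1 : F) : Unit ⊕ (Fin m ⊕ Fin m) → F) =
      fun i => f ((v + (Pi.single j (1 : K) : Unit ⊕ (Fin m ⊕ Fin m) → K)) i) := by
    rw [single_hom f j]
    funext i
    simp
  rw [e2, odd_hom, odd_hom, single_hom f j, odd_hom, map_sub, map_sub]

theorem refl_hom (m : ℕ) (f : K →+* F) (v : Unit ⊕ (Fin m ⊕ Fin m) → K) :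
    reflectionMatrix (quadFormOdd m F) (fun i => f (v i)) =
      (reflectionMatrix (quadFormOdd m K) v).map f := by
  ext a b
  unfold reflectionMatrix
  rw [polarVec_hom, odd_hom]
  simp only [Matrix.sub_apply, Matrix.smul_apply, Matrix.vecMulVec_apply, Matrix.map_apply,
    smul_eq_mul, map_sub, map_mul, map_inv₀, Matrix.one_apply]
  split_ifs <;> simp

/-- Gram matrix criterion for isometries of the odd-dimensional form. -/
theorem mem_isom_iff_gram (h2 : (2 : F) ≠ 0) (m : ℕ)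
    (g : GL (Unit ⊕ (Fin m ⊕ Fin m)) F) :
    g ∈ isometryGroup F (quadFormOdd m F) ↔
      (g : Matrix (Unit ⊕ (Fin m ⊕ Fin m)) (Unit ⊕ (Fin m ⊕ Fin m)) F)ᵀ * gramOdd m F *
        (g : Matrix (Unit ⊕ (Fin m ⊕ Fin m)) (Unit ⊕ (Fin m ⊕ Fin m)) F) = gramOdd m F := by
  rw [Cfsg.Agent.Lib.helper49.mem_isometryGroup_iff]
  constructor
  · intro hc
    apply Cfsg.Agent.Lib.helper50.bil_ext
    intro u v
    rw [← Cfsg.Agent.Lib.helper50.dot_conj]
    have h1 := polar_quadFormOdd m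
      ((g : Matrix (Unit ⊕ (Fin m ⊕ Fin m)) (Unit ⊕ (Fin m ⊕ Fin m)) F) *ᵥ u)
      ((g : Matrix (Unit ⊕ (Fin m ⊕ Fin m)) (Unit ⊕ (Fin m ⊕ Fin m)) F) *ᵥ v)
    have h3 := polar_quadFormOdd m u v
    rw [Matrix.toBilin'_apply'] at h1 h3
    rw [← h1, ← h3]
    unfold polar
    rw [← Matrix.mulVec_add, hc, hc, hc]
  · intro hν v
    rw [odd_eq_half h2, odd_eq_half h2, Cfsg.Agent.Lib.helper50.dot_conj, hν]

theorem sim_hom (h2K : (2 : K) ≠ 0) (h2F : (2 : F) ≠ 0) (m : ℕ) (f : K →+* F)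
    (g : GL (Unit ⊕ (Fin m ⊕ Fin m)) K)
    (hg : g ∈ Geo.quadSimilarityGroup (F := K) (quadFormOdd m K)) :
    Matrix.GeneralLinearGroup.map f g ∈ Geo.quadSimilarityGroup (F := F) (quadFormOdd m F) := by
  obtain ⟨ν, hν⟩ := (mem_sim_iff_gram h2K m g).mp hg
  rw [mem_sim_iff_gram h2F]
  refine ⟨Units.map (f : K →* F) ν, ?_⟩
  have h := congrArg (fun M : Matrix (Unit ⊕ (Fin m ⊕ Fin m)) (Unit ⊕ (Fin m ⊕ Fin m)) K =>
    M.map f) hν
  simp only [Matrix.map_mul, Matrix.transpose_map, gramOdd_map] at h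
  rw [show ((Matrix.GeneralLinearGroup.map f g : GL (Unit ⊕ (Fin m ⊕ Fin m)) F) :
      Matrix (Unit ⊕ (Fin m ⊕ Fin m)) (Unit ⊕ (Fin m ⊕ Fin m)) F) =
      (g : Matrix (Unit ⊕ (Fin m ⊕ Fin m)) (Unit ⊕ (Fin m ⊕ Fin m)) K).map f from rfl, h,
    ← gramOdd_map m f]
  ext i j
  simp

theorem isom_hom (h2K : (2 : K) ≠ 0) (h2F : (2 : F) ≠ 0) (m : ℕ) (f : K →+* F)
    (g : GL (Unit ⊕ (Fin m ⊕ Fin m)) K) (hg : g ∈ isometryGroup K (quadFormOdd m K)) :
    Matrix.GeneralLinearGroup.map f g ∈ isometryGroup F (quadFormOdd m F) := by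
  have hν := (mem_isom_iff_gram h2K m g).mp hg
  rw [mem_isom_iff_gram h2F]
  have h := congrArg (fun M : Matrix (Unit ⊕ (Fin m ⊕ Fin m)) (Unit ⊕ (Fin m ⊕ Fin m)) K =>
    M.map f) hν
  simp only [Matrix.map_mul, Matrix.transpose_map, gramOdd_map] at h
  exact h

/-- Base change of similarities. -/
noncomputable def simHom (h2K : (2 : K) ≠ 0) (h2F : (2 : F) ≠ 0) (m : ℕ) (f : K →+* F) :
    ↥(Geo.quadSimilarityGroup (F := K) (quadFormOdd m K)) →*
      ↥(Geo.quadSimilarityGroup (F := F) (quadFormOdd m F)) :=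
  ((Matrix.GeneralLinearGroup.map f).comp (Subgroup.subtype _)).codRestrict _
    (fun g => sim_hom h2K h2F m f g.1 g.2)

/-- Base change of isometries. -/
noncomputable def isomHom (h2K : (2 : K) ≠ 0) (h2F : (2 : F) ≠ 0) (m : ℕ) (f : K →+* F) :
    ↥(isometryGroup K (quadFormOdd m K)) →* ↥(isometryGroup F (quadFormOdd m F)) :=
  ((Matrix.GeneralLinearGroup.map f).comp (Subgroup.subtype _)).codRestrict _
    (fun g => isom_hom h2K h2F m f g.1 g.2)

theorem simHom_val (h2K : (2 : K) ≠ 0) (h2F : (2 : F) ≠ 0) (m : ℕ) (f : K →+* F)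
    (g : ↥(Geo.quadSimilarityGroup (F := K) (quadFormOdd m K))) :
    ((simHom h2K h2F m f g : GL (Unit ⊕ (Fin m ⊕ Fin m)) F) :
      Matrix (Unit ⊕ (Fin m ⊕ Fin m)) (Unit ⊕ (Fin m ⊕ Fin m)) F) =
      ((g : GL (Unit ⊕ (Fin m ⊕ Fin m)) K) :
        Matrix (Unit ⊕ (Fin m ⊕ Fin m)) (Unit ⊕ (Fin m ⊕ Fin m)) K).map f := rfl

theorem isomHom_val (h2K : (2 : K) ≠ 0) (h2F : (2 : F) ≠ 0) (m : ℕ) (f : K →+* F)
    (g : ↥(isometryGroup K (quadFormOdd m K))) :
    ((isomHom h2K h2F m f g : GL (Unit ⊕ (Fin m ⊕ Fin m)) F) :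
      Matrix (Unit ⊕ (Fin m ⊕ Fin m)) (Unit ⊕ (Fin m ⊕ Fin m)) F) =
      ((g : GL (Unit ⊕ (Fin m ⊕ Fin m)) K) :
        Matrix (Unit ⊕ (Fin m ⊕ Fin m)) (Unit ⊕ (Fin m ⊕ Fin m)) K).map f := rfl

end BaseChange

section SpinorSub

variable {K F : Type*} [Field K] [Field F] [Fintype K] [Fintype F]

/-- An isometry of determinant one of the odd form over `K`, read over a field `F` in which every
element of `K` becomes a square, lies in `Ω`. -/
theorem isomHom_mem_Omega (h2K : (2 : K) ≠ 0) (h2F : (2 : F) ≠ 0) (m : ℕ) (f : K →+* F)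
    (hsq : ∀ y : K, IsSquare (f y)) (g : ↥(isometryGroup K (quadFormOdd m K)))
    (hdet : ((g : GL (Unit ⊕ (Fin m ⊕ Fin m)) K) :
      Matrix (Unit ⊕ (Fin m ⊕ Fin m)) (Unit ⊕ (Fin m ⊕ Fin m)) K).det = 1) :
    isomHom h2K h2F m f g ∈ Omega F (quadFormOdd m F) := by
  have hQK := Cfsg.Agent.Lib.helper17.oddForm_nondeg17 h2K m
  have hQF := Cfsg.Agent.Lib.helper17.oddForm_nondeg17 h2F m
  obtain ⟨c, hc⟩ : ∃ c : ℤˣ →* Fˣ, c = Units.map ((Int.castRingHom F : ℤ →+* F) : ℤ →* F) :=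
    ⟨_, rfl⟩
  have hc1 : c (-1) = -1 := by
    rw [hc]
    apply Units.ext
    simp
  obtain ⟨θ₁, hθ₁⟩ : ∃ θ₁ : ↥(isometryGroup K (quadFormOdd m K)) →* Fˣ,
      θ₁ = c.comp ((spinorSign (quadFormOdd m F)).comp (isomHom h2K h2F m f)) := ⟨_, rfl⟩
  obtain ⟨θ₂, hθ₂⟩ : ∃ θ₂ : ↥(isometryGroup K (quadFormOdd m K)) →* Fˣ,
      θ₂ = (detHom (quadFormOdd m F)).comp (isomHom h2K h2F m f) := ⟨_, rfl⟩
  have hθ : θ₁ = θ₂ := by
    have htop : Subgroup.closure {ρ : ↥(isometryGroup K (quadFormOdd m K)) |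
        ∃ v, ∃ hv : (oddForm m K) v ≠ 0,
          ρ = Cfsg.Agent.Lib.helper17.reflectionIsom (oddForm m K) v hv} = ⊤ :=
      Cfsg.Agent.Lib.helper17.reflSubgroup_eq_top h2K (oddForm m K) hQK
    apply MonoidHom.eq_of_eqOn_dense htop
    rintro ρ ⟨v, hv, hρ⟩
    have hρv : ((ρ : GL (Unit ⊕ (Fin m ⊕ Fin m)) K) :
        Matrix (Unit ⊕ (Fin m ⊕ Fin m)) (Unit ⊕ (Fin m ⊕ Fin m)) K) =
        reflectionMatrix (quadFormOdd m K) v := by
      have h := congrArg (fun x : ↥(isometryGroup K (quadFormOdd m K)) =>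
        ((x : GL (Unit ⊕ (Fin m ⊕ Fin m)) K) :
          Matrix (Unit ⊕ (Fin m ⊕ Fin m)) (Unit ⊕ (Fin m ⊕ Fin m)) K)) hρ
      exact h.trans (Cfsg.Agent.Lib.helper17.reflectionIsom_coe (oddForm m K) v hv)
    have hv' : oddForm m F (fun i => f (v i)) ≠ 0 := by
      rw [oddForm_coe, odd_hom]
      intro h
      apply hv
      apply f.injective
      rw [map_zero]
      exact h
    obtain ⟨ρ', hρ'⟩ : ∃ ρ' : ↥(isometryGroup F (quadFormOdd m F)),
        ρ' = reflG (oddForm m F) (fun i => f (v i)) hv' := ⟨_, rfl⟩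
    have e : isomHom h2K h2F m f ρ = ρ' := by
      apply Subtype.ext
      apply Units.ext
      rw [isomHom_val, hρv]
      have h := congrArg (fun x : ↥(isometryGroup F (quadFormOdd m F)) =>
        ((x : GL (Unit ⊕ (Fin m ⊕ Fin m)) F) :
          Matrix (Unit ⊕ (Fin m ⊕ Fin m)) (Unit ⊕ (Fin m ⊕ Fin m)) F)) hρ'
      refine Eq.trans ?_ h.symm
      exact (refl_hom m f v).symm
    have hs : spinorSign (quadFormOdd m F) ρ' = -1 := by
      rw [hρ']
      exact (spinorSign_refl h2F (oddForm m F) _ hv').1 (by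
        rw [oddForm_coe, odd_hom]
        exact hsq _)
    have hd : detHom (quadFormOdd m F) ρ' = -1 := by
      rw [hρ']
      exact detHom_reflG (oddForm m F) _ hv'
    show θ₁ ρ = θ₂ ρ
    rw [hθ₁, hθ₂, MonoidHom.comp_apply, MonoidHom.comp_apply, MonoidHom.comp_apply, e, hs, hd, hc1]
  have hd : detHom (quadFormOdd m F) (isomHom h2K h2F m f g) = 1 := by
    apply Units.ext
    have h1 : ((detHom (quadFormOdd m F) (isomHom h2K h2F m f g) : Fˣ) : F) =
        ((isomHom h2K h2F m f g : GL (Unit ⊕ (Fin m ⊕ Fin m)) F) :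
          Matrix (Unit ⊕ (Fin m ⊕ Fin m)) (Unit ⊕ (Fin m ⊕ Fin m)) F).det :=
      detHom_coe (oddForm m F) (isomHom h2K h2F m f g)
    rw [h1, isomHom_val, Units.val_one]
    have h3 := RingHom.map_det f ((g : GL (Unit ⊕ (Fin m ⊕ Fin m)) K) :
      Matrix (Unit ⊕ (Fin m ⊕ Fin m)) (Unit ⊕ (Fin m ⊕ Fin m)) K)
    rw [hdet, map_one] at h3
    exact h3.symm
  have hmem := (mem_Omega_iff_det_spinor h2F (oddForm m F) hQF (isomHom h2K h2F m f g)).mpr
  apply hmem
  refine ⟨hd, ?_⟩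
  have h1 : θ₁ g = 1 := by
    rw [hθ, hθ₂]
    exact hd
  rw [hθ₁, MonoidHom.comp_apply, MonoidHom.comp_apply] at h1
  rcases Int.units_eq_one_or (spinorSign (quadFormOdd m F) (isomHom h2K h2F m f g)) with h | h
  · exact h
  · exfalso
    rw [h, hc1] at h1
    have h3 : ((-1 : Fˣ) : F) = 1 := congrArg Units.val h1
    simp only [Units.val_neg, Units.val_one] at h3
    apply h2F
    linear_combination -h3

end SpinorSub

end Cfsg.Agent.Lib.helper49.OddField
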