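/-
Field automorphisms of orthogonal groups, part 5: the centralizer, in the image of the conformal
orthogonal group, of a standard field automorphism of `Ω_{2m+1}(F)` is the image of the conformal
orthogonal group over the fixed field.
-/
import Mathlib
import Cfsg.Agent.Lib.helper49.OddField4

set_option autoImplicit false
set_option linter.unusedSectionVars false

namespace Cfsg.Agent.Lib.helper49.OddField

open Matrix Module QuadraticMap Cfsg
open Cfsg.Agent.Lib.helper49 Cfsg.Agent.Lib.helper42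

section Cent

variable {F : Type*} [Field F] [Fintype F]

/-- The standard field automorphism is induced by the semilinear map `v ↦ σ(v)`. -/
theorem field_induced (m : ℕ) (σ : F ≃+* F) (φ : MulAut (POmega F (quadFormOdd m F)))
    (hφ : IsFieldAutPOmegaOf (quadFormOdd m F) σ φ) :
    IsSemisimilarityPair (quadFormOdd m F) 1 σ ∧
      IsInducedBySemilinearPOmega (quadFormOdd m F) 1 σ φ := by
  refine ⟨⟨1, fun v => ?_⟩, ?_⟩
  · rw [Units.val_one, Matrix.one_mulVec, Units.val_one, one_mul, odd_sigma]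
  · intro s s' hs'
    apply hφ s s'
    rw [hs', inv_one, Units.val_one, Matrix.one_mul, Matrix.mul_one]

theorem sim_sigma (m : ℕ) (σ : F ≃+* F) (k : GL (Unit ⊕ (Fin m ⊕ Fin m)) F)
    (hk : k ∈ Geo.quadSimilarityGroup (F := F) (quadFormOdd m F)) :
    Matrix.GeneralLinearGroup.map (σ : F →+* F) k ∈
      Geo.quadSimilarityGroup (F := F) (quadFormOdd m F) := by
  have p1 : IsSemisimilarityPair (quadFormOdd m F) 1 σ :=
    ⟨1, fun v => by rw [Units.val_one, Matrix.one_mulVec, Units.val_one, one_mul, odd_sigma]⟩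
  have h := pair_mul (quadFormOdd m F) 1 k σ (RingEquiv.refl F) p1 (pair_of_similarity _ k hk)
  rw [one_mul] at h
  exact sim_of_pair m _ _ h

/-- Moving the standard field automorphism past the automorphism induced by a similarity. -/
theorem field_mul_PsiAut (m : ℕ) (σ : F ≃+* F) (φ : MulAut (POmega F (quadFormOdd m F)))
    (hφ : IsFieldAutPOmegaOf (quadFormOdd m F) σ φ)
    (k : ↥(Geo.quadSimilarityGroup (F := F) (quadFormOdd m F)))
    (hk' : Matrix.GeneralLinearGroup.map (σ : F →+* F) (k : GL (Unit ⊕ (Fin m ⊕ Fin m)) F) ∈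
      Geo.quadSimilarityGroup (F := F) (quadFormOdd m F)) :
    φ * PsiAut (quadFormOdd m F) k =
      PsiAut (quadFormOdd m F) ⟨Matrix.GeneralLinearGroup.map (σ : F →+* F)
        (k : GL (Unit ⊕ (Fin m ⊕ Fin m)) F), hk'⟩ * φ := by
  obtain ⟨p1, i1⟩ := field_induced m σ φ hφ
  have pk : IsSemisimilarityPair (quadFormOdd m F) (k : GL (Unit ⊕ (Fin m ⊕ Fin m)) F)
      (RingEquiv.refl F) := pair_of_similarity _ k.1 k.2
  have ik : IsInducedBySemilinearPOmega (quadFormOdd m F) (k : GL (Unit ⊕ (Fin m ⊕ Fin m)) F)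
      (RingEquiv.refl F) (PsiAut (quadFormOdd m F) k) :=
    (induced_iff (quadFormOdd m F) k.1 k.2 _).mpr rfl
  have ik' : IsInducedBySemilinearPOmega (quadFormOdd m F)
      (Matrix.GeneralLinearGroup.map (σ : F →+* F) (k : GL (Unit ⊕ (Fin m ⊕ Fin m)) F))
      (RingEquiv.refl F) (PsiAut (quadFormOdd m F) ⟨_, hk'⟩) :=
    (induced_iff (quadFormOdd m F) _ hk' _).mpr rfl
  have L := induced_mul (quadFormOdd m F) 1 k.1 σ (RingEquiv.refl F) pk φ
    (PsiAut (quadFormOdd m F) k) i1 ik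
  have R := induced_mul (quadFormOdd m F) _ 1 (RingEquiv.refl F) σ p1 _ φ ik' i1
  have pL := pair_mul (quadFormOdd m F) 1 k.1 σ (RingEquiv.refl F) p1 pk
  have e1 : (RingEquiv.refl F).trans σ = σ := RingEquiv.ext (fun _ => rfl)
  have e2 : σ.trans (RingEquiv.refl F) = σ := RingEquiv.ext (fun _ => rfl)
  rw [one_mul, e1] at L pL
  rw [map_one, mul_one, e2] at R
  exact induced_unique (quadFormOdd m F) _ σ pL _ _ L R

theorem h2_of_hom {K : Type*} [Field K] (f : K →+* F) (h2F : (2 : F) ≠ 0) : (2 : K) ≠ 0 := by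
  intro h
  apply h2F
  have h1 := congrArg f h
  rw [map_ofNat, map_zero] at h1
  exact h1

/-- The conformal group over a subfield, acting on `PΩ` over the big field. -/
noncomputable def psiSub {K : Type*} [Field K] (h2K : (2 : K) ≠ 0) (h2F : (2 : F) ≠ 0) (m : ℕ)
    (f : K →+* F) :
    ↥(Geo.quadSimilarityGroup (F := K) (quadFormOdd m K)) →* MulAut (POmega F (quadFormOdd m F)) :=
  (PsiAut (quadFormOdd m F)).comp (simHom h2K h2F m f)

theorem scalar_hom_iff {K : Type*} [Field K] (m : ℕ) (f : K →+* F)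
    (M : Matrix (Unit ⊕ (Fin m ⊕ Fin m)) (Unit ⊕ (Fin m ⊕ Fin m)) K) :
    (∃ a : F, M.map f = a • (1 : Matrix (Unit ⊕ (Fin m ⊕ Fin m)) (Unit ⊕ (Fin m ⊕ Fin m)) F)) ↔
      ∃ a₀ : K, M = a₀ • (1 : Matrix (Unit ⊕ (Fin m ⊕ Fin m)) (Unit ⊕ (Fin m ⊕ Fin m)) K) := by
  constructor
  · rintro ⟨a, ha⟩
    refine ⟨M (Sum.inl ()) (Sum.inl ()), ?_⟩
    ext i j
    have hij := congrFun (congrFun ha i) j
    have h00 := congrFun (congrFun ha (Sum.inl ())) (Sum.inl ())
    rw [Matrix.map_apply, Matrix.smul_apply, Matrix.one_apply_eq, smul_eq_mul, mul_one] at h00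
    simp only [Matrix.map_apply, Matrix.smul_apply, smul_eq_mul, Matrix.one_apply] at hij ⊢
    apply f.injective
    rw [hij, map_mul, h00]
    split_ifs <;> simp
  · rintro ⟨a₀, rfl⟩
    refine ⟨f a₀, ?_⟩
    ext i j
    simp only [Matrix.map_apply, Matrix.smul_apply, smul_eq_mul, Matrix.one_apply, map_mul]
    split_ifs <;> simp

theorem psiSub_ker {K : Type*} [Field K] [Fintype K] (h2K : (2 : K) ≠ 0) (h2F : (2 : F) ≠ 0)
    {m : ℕ} (hm : 3 ≤ m) (f : K →+* F) :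
    (psiSub h2K h2F m f).ker = (PsiAut (quadFormOdd m K)).ker := by
  have hQK := Cfsg.Agent.Lib.helper17.oddForm_nondeg17 h2K m
  have hQF := Cfsg.Agent.Lib.helper17.oddForm_nondeg17 h2F m
  have hcard := card_oddIdx m
  have h5 : 5 ≤ Fintype.card (Unit ⊕ (Fin m ⊕ Fin m)) := by rw [hcard]; omega
  ext g
  rw [MonoidHom.mem_ker, MonoidHom.mem_ker]
  have key := scalar_hom_iff m f ((g : GL (Unit ⊕ (Fin m ⊕ Fin m)) K) :
    Matrix (Unit ⊕ (Fin m ⊕ Fin m)) (Unit ⊕ (Fin m ⊕ Fin m)) K)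
  constructor
  · intro h
    obtain ⟨a, ha⟩ := scalar_of_PsiAut_eq_one (oddForm m F) hQF (AutOm.oddFrame m hm) h5 _ h
    obtain ⟨a₀, ha₀⟩ := key.mp ⟨a, ha⟩
    exact PsiAut_scalar _ g a₀ ha₀
  · intro h
    obtain ⟨a₀, ha₀⟩ := scalar_of_PsiAut_eq_one (oddForm m K) hQK (AutOm.oddFrame m hm) h5 _ h
    obtain ⟨a, ha⟩ := key.mpr ⟨a₀, ha₀⟩
    exact PsiAut_scalar _ _ a ha

theorem inndiagOdd_eq_img (m : ℕ) : inndiagPOmegaOdd m F = img (quadFormOdd m F)
    (Geo.quadSimilarityGroup (F := F) (quadFormOdd m F)) :=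
  autSubgroupOf_eq_img (quadFormOdd m F) _ le_rfl

theorem psiSub_range {K : Type*} [Field K] [Fintype K] (h2K : (2 : K) ≠ 0) (h2F : (2 : F) ≠ 0)
    {m : ℕ} (hm : 3 ≤ m) (σ : F ≃+* F) (f : K →+* F) (hf : ∀ x : F, σ x = x ↔ ∃ y, f y = x)
    (φ : MulAut (POmega F (quadFormOdd m F)))
    (hφ : IsFieldAutPOmegaOf (quadFormOdd m F) σ φ) :
    (psiSub h2K h2F m f).range = inndiagPOmegaOdd m F ⊓ Subgroup.centralizer {φ} := by
  have hQF := Cfsg.Agent.Lib.helper17.oddForm_nondeg17 h2F m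
  have hcard := card_oddIdx m
  have h5 : 5 ≤ Fintype.card (Unit ⊕ (Fin m ⊕ Fin m)) := by rw [hcard]; omega
  ext a
  rw [MonoidHom.mem_range, Subgroup.mem_inf, Subgroup.mem_centralizer_singleton_iff,
    inndiagOdd_eq_img, mem_img]
  constructor
  · rintro ⟨g₀, rfl⟩
    refine ⟨⟨simHom h2K h2F m f g₀, (simHom h2K h2F m f g₀).2, rfl⟩, ?_⟩
    have hfix : Matrix.GeneralLinearGroup.map (σ : F →+* F)
        (simHom h2K h2F m f g₀ : GL (Unit ⊕ (Fin m ⊕ Fin m)) F) =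
        (simHom h2K h2F m f g₀ : GL (Unit ⊕ (Fin m ⊕ Fin m)) F) := by
      apply Units.ext
      ext i j
      exact (hf _).mpr ⟨(g₀ : GL (Unit ⊕ (Fin m ⊕ Fin m)) K).1 i j, rfl⟩
    have h := field_mul_PsiAut m σ φ hφ (simHom h2K h2F m f g₀)
      (by rw [hfix]; exact (simHom h2K h2F m f g₀).2)
    show PsiAut (quadFormOdd m F) (simHom h2K h2F m f g₀) * φ =
      φ * PsiAut (quadFormOdd m F) (simHom h2K h2F m f g₀)
    rw [h]
    congr 2
    exact Subtype.ext hfix.symm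
  · rintro ⟨⟨k, -, rfl⟩, hcomm⟩
    have hk' := sim_sigma m σ k.1 k.2
    have h := field_mul_PsiAut m σ φ hφ k hk'
    have h1 : PsiAut (quadFormOdd m F) k = PsiAut (quadFormOdd m F)
        ⟨Matrix.GeneralLinearGroup.map (σ : F →+* F) (k : GL (Unit ⊕ (Fin m ⊕ Fin m)) F), hk'⟩ := by
      have h' : PsiAut (quadFormOdd m F) k * φ = PsiAut (quadFormOdd m F)
          ⟨Matrix.GeneralLinearGroup.map (σ : F →+* F) (k : GL (Unit ⊕ (Fin m ⊕ Fin m)) F), hk'⟩ *
            φ := by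
        rw [← h]
        exact hcomm
      exact mul_right_cancel h'
    have h3 : PsiAut (quadFormOdd m F) (k⁻¹ *
        ⟨Matrix.GeneralLinearGroup.map (σ : F →+* F) (k : GL (Unit ⊕ (Fin m ⊕ Fin m)) F), hk'⟩) =
        1 := by
      rw [map_mul, map_inv, ← h1, inv_mul_cancel]
    obtain ⟨a, ha⟩ := scalar_of_PsiAut_eq_one (oddForm m F) hQF (AutOm.oddFrame m hm) h5 _ h3
    obtain ⟨kM, hkM⟩ : ∃ kM : Matrix (Unit ⊕ (Fin m ⊕ Fin m)) (Unit ⊕ (Fin m ⊕ Fin m)) F,
        kM = ((k : GL (Unit ⊕ (Fin m ⊕ Fin m)) F) :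
          Matrix (Unit ⊕ (Fin m ⊕ Fin m)) (Unit ⊕ (Fin m ⊕ Fin m)) F) := ⟨_, rfl⟩
    have hσk : kM.map σ = a • kM := by
      have e : kM * (((k⁻¹ * ⟨Matrix.GeneralLinearGroup.map (σ : F →+* F)
          (k : GL (Unit ⊕ (Fin m ⊕ Fin m)) F), hk'⟩ :
          ↥(Geo.quadSimilarityGroup (F := F) (quadFormOdd m F))) :
          GL (Unit ⊕ (Fin m ⊕ Fin m)) F) :
          Matrix (Unit ⊕ (Fin m ⊕ Fin m)) (Unit ⊕ (Fin m ⊕ Fin m)) F) = kM.map σ := by
        rw [hkM, ← Units.val_mul, Subgroup.coe_mul, Subgroup.coe_inv, mul_inv_cancel_left]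
        rfl
      rw [← e, ha, Matrix.mul_smul, Matrix.mul_one]
    have hk0 : kM ≠ 0 := by
      intro h0
      have hd : kM.det ≠ 0 := by
        rw [hkM]
        exact Matrix.GeneralLinearGroup.det_ne_zero _
      have : Nonempty (Unit ⊕ (Fin m ⊕ Fin m)) := ⟨Sum.inl ()⟩
      rw [h0, Matrix.det_zero] at hd
      exact hd rfl
    obtain ⟨i, j, hij⟩ : ∃ i j, kM i j ≠ 0 := by
      by_contra hall
      apply hk0
      ext i j
      by_contra h
      exact hall ⟨i, j, h⟩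
    obtain ⟨μ, hμ⟩ : ∃ μ : F, μ = (kM i j)⁻¹ := ⟨_, rfl⟩
    have hμ0 : μ ≠ 0 := by rw [hμ]; exact inv_ne_zero hij
    have hfixed : ∀ a' b', σ (μ * kM a' b') = μ * kM a' b' := by
      intro a' b'
      have e1 := congrFun (congrFun hσk a') b'
      have e2 := congrFun (congrFun hσk i) j
      simp only [Matrix.map_apply, Matrix.smul_apply, smul_eq_mul] at e1 e2
      have ha0 : a ≠ 0 := by
        rintro rfl
        rw [zero_mul] at e2
        exact hij ((map_eq_zero σ).mp e2)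
      rw [map_mul, e1, hμ, map_inv₀, e2]
      field_simp
    have hent : ∀ a' b', ∃ y : K, f y = μ * kM a' b' := fun a' b' => (hf _).mp (hfixed a' b')
    choose M₀ hM₀ using hent
    have hM : (Matrix.of M₀ : Matrix (Unit ⊕ (Fin m ⊕ Fin m)) (Unit ⊕ (Fin m ⊕ Fin m)) K).map f =
        μ • kM := by
      ext a' b'
      exact hM₀ a' b'
    have hdet : (Matrix.of M₀ : Matrix (Unit ⊕ (Fin m ⊕ Fin m)) (Unit ⊕ (Fin m ⊕ Fin m)) K).det ≠
        0 := by
      intro h0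
      have e1 : f ((Matrix.of M₀ :
          Matrix (Unit ⊕ (Fin m ⊕ Fin m)) (Unit ⊕ (Fin m ⊕ Fin m)) K).det) = (μ • kM).det := by
        rw [RingHom.map_det]
        congr 1
      rw [h0, map_zero, Matrix.det_smul] at e1
      have e2 : μ ^ Fintype.card (Unit ⊕ (Fin m ⊕ Fin m)) * kM.det ≠ 0 := by
        refine mul_ne_zero (pow_ne_zero _ hμ0) ?_
        rw [hkM]
        exact Matrix.GeneralLinearGroup.det_ne_zero _
      exact e2 e1.symm
    obtain ⟨g₀, hg₀⟩ : ∃ g₀ : GL (Unit ⊕ (Fin m ⊕ Fin m)) K,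
        (g₀ : Matrix (Unit ⊕ (Fin m ⊕ Fin m)) (Unit ⊕ (Fin m ⊕ Fin m)) K) = Matrix.of M₀ :=
      ⟨Matrix.GeneralLinearGroup.mkOfDetNeZero (Matrix.of M₀) hdet, rfl⟩
    have hg₀mem : g₀ ∈ Geo.quadSimilarityGroup (F := K) (quadFormOdd m K) := by
      obtain ⟨c, hc⟩ := k.2
      have hval : ∀ v : Unit ⊕ (Fin m ⊕ Fin m) → K,
          f (quadFormOdd m K ((g₀ : Matrix (Unit ⊕ (Fin m ⊕ Fin m)) (Unit ⊕ (Fin m ⊕ Fin m)) K) *ᵥ
            v)) = μ * μ * (c : F) * f (quadFormOdd m K v) := by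
        intro v
        rw [← odd_hom, ← map_mulVec_hom, hg₀, hM, Matrix.smul_mulVec, quadFormOdd_smul, hkM, hc,
          odd_hom]
        ring
      have he : quadFormOdd m K (Pi.single (Sum.inl ()) 1) = 1 := by
        simp [quadFormOdd]
      have h1 := hval (Pi.single (Sum.inl ()) 1)
      rw [he, map_one, mul_one] at h1
      have hν0 : quadFormOdd m K
          ((g₀ : Matrix (Unit ⊕ (Fin m ⊕ Fin m)) (Unit ⊕ (Fin m ⊕ Fin m)) K) *ᵥ
            Pi.single (Sum.inl ()) 1) ≠ 0 := by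
        intro h0
        rw [h0, map_zero] at h1
        exact mul_ne_zero (mul_ne_zero hμ0 hμ0) c.ne_zero h1.symm
      refine ⟨Units.mk0 _ hν0, fun v => ?_⟩
      apply f.injective
      rw [hval, map_mul, Units.val_mk0, h1]
    refine ⟨⟨g₀, hg₀mem⟩, ?_⟩
    show PsiAut (quadFormOdd m F) (simHom h2K h2F m f ⟨g₀, hg₀mem⟩) = PsiAut (quadFormOdd m F) k
    have h4 : PsiAut (quadFormOdd m F) (simHom h2K h2F m f ⟨g₀, hg₀mem⟩ * k⁻¹) = 1 := by
      apply PsiAut_scalar _ _ μ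
      rw [Subgroup.coe_mul, Units.val_mul, simHom_val]
      show (g₀ : Matrix (Unit ⊕ (Fin m ⊕ Fin m)) (Unit ⊕ (Fin m ⊕ Fin m)) K).map f * _ = _
      rw [hg₀, hM, Matrix.smul_mul, hkM]
      congr 1
      exact (k : GL (Unit ⊕ (Fin m ⊕ Fin m)) F).mul_inv
    rw [map_mul, map_inv, mul_inv_eq_one] at h4
    exact h4

theorem PsiAut_range_odd (m : ℕ) :
    (PsiAut (quadFormOdd m F)).range = inndiagPOmegaOdd m F := by
  rw [inndiagOdd_eq_img]
  ext a
  rw [MonoidHom.mem_range, mem_img]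
  constructor
  · rintro ⟨g, rfl⟩
    exact ⟨g, g.2, rfl⟩
  · rintro ⟨g, -, rfl⟩
    exact ⟨g, rfl⟩

open Cfsg.Agent.Lib.helper48.Split in
theorem exists_embedding (σ : F ≃+* F) (F₀ : Type*) [Field F₀] [Fintype F₀]
    (hcard : Fintype.card F₀ = Nat.card (fixK σ)) :
    ∃ f : F₀ →+* F, ∀ x : F, σ x = x ↔ ∃ y, f y = x := by
  classical
  have : Fintype (fixK σ) := Fintype.ofFinite _
  have hc2 : Fintype.card F₀ = Fintype.card (fixK σ) := by rw [hcard, Nat.card_eq_fintype_card]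
  refine ⟨(fixK σ).subtype.comp (FiniteField.ringEquivOfCardEq hc2 : F₀ →+* fixK σ), fun x => ?_⟩
  constructor
  · intro hx
    refine ⟨(FiniteField.ringEquivOfCardEq hc2).symm ⟨x, hx⟩, ?_⟩
    show ((FiniteField.ringEquivOfCardEq hc2) ((FiniteField.ringEquivOfCardEq hc2).symm ⟨x, hx⟩) : F) = x
    rw [RingEquiv.apply_symm_apply]
  · rintro ⟨y, rfl⟩
    exact ((FiniteField.ringEquivOfCardEq hc2) y).2

open Cfsg.Agent.Lib.helper48.Split in
/-- **Centralizer of a standard field automorphism** of `Ω_{2m+1}(F)` in `Inndiag`: it is `Inndiag`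
of the group over the fixed field. -/
theorem cent_field_odd (h2F : (2 : F) ≠ 0) {m : ℕ} (hm : 3 ≤ m) (σ : F ≃+* F)
    (φ : MulAut (POmega F (quadFormOdd m F))) (hφ : IsFieldAutPOmegaOf (quadFormOdd m F) σ φ)
    (F₀ : Type*) [Field F₀] [Fintype F₀] (hcard : Fintype.card F₀ = Nat.card (fixK σ)) :
    Nonempty (↥(inndiagPOmegaOdd m F ⊓ Subgroup.centralizer {φ}) ≃* ↥(inndiagPOmegaOdd m F₀)) := by
  obtain ⟨f, hf⟩ := exists_embedding σ F₀ hcard
  have h2K := h2_of_hom f h2F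
  have hr := psiSub_range h2K h2F hm σ f hf φ hφ
  have hk := psiSub_ker h2K h2F hm f
  have hr0 := PsiAut_range_odd (F := F₀) m
  exact ⟨(MulEquiv.subgroupCongr hr).symm.trans
    ((QuotientGroup.quotientKerEquivRange (psiSub h2K h2F m f)).symm.trans
      ((QuotientGroup.quotientMulEquivOfEq hk).trans
        ((QuotientGroup.quotientKerEquivRange (PsiAut (quadFormOdd m F₀))).trans
          (MulEquiv.subgroupCongr hr0))))⟩

end Cent

end Cfsg.Agent.Lib.helper49.OddField
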