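/-
Field automorphisms of orthogonal groups, part 6: the number of `Inn`-classes in the `Inndiag`-class
of a standard field automorphism of `Ω_{2m+1}(F)`; normality of `Inndiag` in the automorphism group.
-/
import Mathlib
import Cfsg.Agent.Lib.helper49.OddField5

set_option autoImplicit false
set_option linter.unusedSectionVars false

namespace Cfsg.Agent.Lib.helper49.OddField

open Matrix Module QuadraticMap Cfsg
open Cfsg.Agent.Lib.helper49 Cfsg.Agent.Lib.helper42

section Pure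

variable {X : Type*} [Group X]

/-- If some element of `H` outside `K` centralizes `x` and `K` has index two in `H`, the `H`-class of
`x` is a single `K`-class. -/
theorem splitClassCount_eq_one_of (H K : Subgroup X) (x z : X) (hz : z * x = x * z)
    (hcov : ∀ h ∈ H, h ∈ K ∨ h * z ∈ K) : splitClassCount H K x = 1 := by
  unfold splitClassCount
  have key : ∀ y : {y : X // IsConjUnder H x y}, IsConjUnder K x y.1 := by
    rintro ⟨y, h, hh, rfl⟩
    rcases hcov h hh with h1 | h1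
    · exact ⟨h, h1, rfl⟩
    · refine ⟨h * z, h1, ?_⟩
      have e : z * x * z⁻¹ = x := by rw [hz, mul_assoc, mul_inv_cancel, mul_one]
      calc h * x * h⁻¹ = h * (z * x * z⁻¹) * h⁻¹ := by rw [e]
        _ = h * z * x * (h * z)⁻¹ := by group
  rw [Nat.card_eq_one_iff_unique]
  refine ⟨⟨fun a b => ?_⟩, ⟨Quot.mk _ ⟨x, ⟨1, H.one_mem, by rw [one_mul, inv_one, mul_one]⟩⟩⟩⟩
  induction a using Quot.ind with
  | mk a =>
    induction b using Quot.ind with
    | mk b =>
      have ha : Quot.mk (fun y z : {y : X // IsConjUnder H x y} => IsConjUnder K y.1 z.1)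
          ⟨x, ⟨1, H.one_mem, by rw [one_mul, inv_one, mul_one]⟩⟩ = Quot.mk _ a :=
        Quot.sound (key a)
      have hb : Quot.mk (fun y z : {y : X // IsConjUnder H x y} => IsConjUnder K y.1 z.1)
          ⟨x, ⟨1, H.one_mem, by rw [one_mul, inv_one, mul_one]⟩⟩ = Quot.mk _ b :=
        Quot.sound (key b)
      rw [← ha, ← hb]

/-- Consequences of index two. -/
theorem cover_of_relIndex_two (H K : Subgroup X) (h2 : K.relIndex H = 2) (z : X) (hz : z ∈ H)
    (hzK : z ∉ K) : ∀ h ∈ H, h ∈ K ∨ (h * z ∈ K ∧ z⁻¹ * h ∈ K) := by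
  obtain ⟨a, ha, hx⟩ := Subgroup.relIndex_eq_two_iff.mp h2
  have hmul : ∀ b ∈ H, b ∉ K → b * a ∈ K := by
    intro b hb hbK
    rcases hx b hb with h | h
    · exact h.1
    · exact absurd h.1 hbK
  intro h hh
  by_cases hK : h ∈ K
  · exact Or.inl hK
  · right
    have hzi : z⁻¹ ∉ K := fun h' => hzK (by simpa using K.inv_mem h')
    have hhi : h⁻¹ ∉ K := fun h' => hK (by simpa using K.inv_mem h')
    have e1 := hmul z⁻¹ (H.inv_mem hz) hzi
    have e2 := hmul h hh hK
    have e3 := hmul h⁻¹ (H.inv_mem hh) hhi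
    constructor
    · have e : h * z = (h * a) * (z⁻¹ * a)⁻¹ := by group
      rw [e]
      exact K.mul_mem e2 (K.inv_mem e1)
    · have e : z⁻¹ * h = (z⁻¹ * a) * (h⁻¹ * a)⁻¹ := by group
      rw [e]
      exact K.mul_mem e1 (K.inv_mem e3)

end Pure

section FieldFacts

variable {F : Type*} [Field F] [Fintype F]

open Cfsg.Agent.Lib.helper48.Split in
/-- Over the fixed field of an involution every element is a square in the big field. -/
theorem fixed_isSquare_of_order_two {p f : ℕ} [Fact p.Prime] (hF : Fintype.card F = p ^ f)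
    (h2 : (2 : F) ≠ 0) (σ : F ≃+* F) (hσ : orderOf σ = 2) (x : F) (hx : σ x = x) :
    IsSquare x := by
  classical
  by_cases hx0 : x = 0
  · rw [hx0]
    exact ⟨0, by rw [mul_zero]⟩
  have hp : p.Prime := Fact.out
  obtain ⟨hrf, hK⟩ := card_fixK hF σ hσ
  have : Fintype (fixK σ) := Fintype.ofFinite _
  have hchar : ringChar F ≠ 2 := by
    intro h
    have : CharP F 2 := ringChar.of_eq h
    exact h2 (CharP.cast_eq_zero F 2)
  have hFodd : Odd (Fintype.card F) :=
    Nat.odd_iff.mpr (FiniteField.odd_card_of_char_ne_two hchar)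
  obtain ⟨q₀, hq₀⟩ : ∃ q₀ : ℕ, q₀ = p ^ (f / 2) := ⟨_, rfl⟩
  have hFq : Fintype.card F = q₀ * q₀ := by
    rw [hF, hq₀, ← pow_add]
    congr 1
    omega
  have hqodd : Odd q₀ := by
    rw [hFq] at hFodd
    exact (Nat.odd_mul.mp hFodd).1
  obtain ⟨t, ht⟩ := hqodd
  have hdiv : Fintype.card F / 2 = (q₀ - 1) * (t + 1) := by
    rw [hFq, ht]
    have e : (2 * t + 1) * (2 * t + 1) = 2 * ((2 * t + 1 - 1) * (t + 1)) + 1 := by
      rw [Nat.add_sub_cancel]
      ring
    rw [e]
    omega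
  have hy0 : (⟨x, hx⟩ : fixK σ) ≠ 0 := by
    intro h
    exact hx0 (congrArg Subtype.val h)
  have h1 := FiniteField.pow_card_sub_one_eq_one (⟨x, hx⟩ : fixK σ) hy0
  have h3 : x ^ (q₀ - 1) = 1 := by
    have h4 := congrArg Subtype.val h1
    rw [← Nat.card_eq_fintype_card, hK, ← hq₀] at h4
    exact h4
  rw [FiniteField.isSquare_iff hchar hx0, hdiv, pow_mul, h3, one_pow]

open Cfsg.Agent.Lib.helper48.Split in
/-- A field automorphism of odd order fixes some non-square. -/
theorem exists_fixed_nonsquare_of_odd (h2 : (2 : F) ≠ 0) (σ : F ≃+* F) {r : ℕ} (hr : Odd r)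
    (hσ : σ ^ r = 1) : ∃ c : F, σ c = c ∧ ¬ IsSquare c := by
  classical
  have : Fintype (fixK σ) := Fintype.ofFinite _
  have h2K : (2 : fixK σ) ≠ 0 := h2_of_hom (fixK σ).subtype h2
  have hchar : ringChar (fixK σ) ≠ 2 := by
    intro h
    have : CharP (fixK σ) 2 := ringChar.of_eq h
    exact h2K (CharP.cast_eq_zero (fixK σ) 2)
  obtain ⟨c₀, hc₀⟩ := FiniteField.exists_nonsquare hchar
  refine ⟨(c₀ : F), c₀.2, ?_⟩
  rintro ⟨d, hd⟩
  have h1 : σ d * σ d = d * d := by
    rw [← map_mul, ← hd]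
    exact c₀.2
  have h3 : (σ d - d) * (σ d + d) = 0 := by
    linear_combination h1
  rcases mul_eq_zero.mp h3 with h | h
  · have hdfix : σ d = d := sub_eq_zero.mp h
    apply hc₀
    refine ⟨⟨d, hdfix⟩, ?_⟩
    apply Subtype.ext
    exact hd
  · have hneg : σ d = -d := eq_neg_of_add_eq_zero_left h
    have hpow : ∀ k : ℕ, (σ ^ k) d = (-1) ^ k * d := by
      intro k
      induction k with
      | zero => simp
      | succ k ih =>
        have e : (σ ^ (k + 1)) d = (σ ^ k) (σ d) := by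
          rw [pow_succ]
          rfl
        rw [e, hneg, map_neg, ih]
        ring
    have h4 := hpow r
    rw [hσ, hr.neg_one_pow] at h4
    have h5 : d = 0 := by
      have h6 : (2 : F) * d = 0 := by
        have h7 : (1 : F ≃+* F) d = d := rfl
        rw [h7] at h4
        linear_combination h4
      rcases mul_eq_zero.mp h6 with h8 | h8
      · exact absurd h8 h2
      · exact h8
    apply hc₀
    refine ⟨0, ?_⟩
    apply Subtype.ext
    rw [hd, h5]
    simp

end FieldFacts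

section Count

variable {F : Type*} [Field F] [Fintype F]

theorem odd_card_oddIdx (m : ℕ) : Odd (Fintype.card (Unit ⊕ (Fin m ⊕ Fin m))) := by
  rw [card_oddIdx]
  exact ⟨m, rfl⟩

/-- `Inn` has index two in `Inndiag` for the odd-dimensional orthogonal groups. -/
theorem relIndex_Inn_inndiagOdd (h2 : (2 : F) ≠ 0) {m : ℕ} (hm : 3 ≤ m) :
    (Inn (POmega F (quadFormOdd m F))).relIndex (inndiagPOmegaOdd m F) = 2 := by
  have hQ := Cfsg.Agent.Lib.helper17.oddForm_nondeg17 h2 m
  have hcard := card_oddIdx m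
  have h5 : 5 ≤ Fintype.card (Unit ⊕ (Fin m ⊕ Fin m)) := by rw [hcard]; omega
  have h1 := relIndex_Inn_psoAut_two_of_odd h2 (oddForm m F) hQ (AutOm.oddFrame m hm) h5
    (odd_card_oddIdx m)
  have h3 : pgoAut F (quadFormOdd m F) = psoAut F (quadFormOdd m F) :=
    pgoAut_eq_psoAut_of_odd (oddForm m F) hQ (odd_card_oddIdx m)
  show (Inn (POmega F (quadFormOdd m F))).relIndex (pgoAut F (quadFormOdd m F)) = 2
  rw [h3]
  exact h1

theorem Inn_le_inndiagOdd (m : ℕ) :
    Inn (POmega F (quadFormOdd m F)) ≤ inndiagPOmegaOdd m F :=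
  (Inn_le_psoAut (quadFormOdd m F)).trans (psoAut_le_pgoAut (quadFormOdd m F))

open Cfsg.Agent.Lib.helper48.Split in
/-- **Two classes**: when every element of the fixed field is a square, the `Inndiag`-class of the
standard field automorphism splits into two `Inn`-classes. -/
theorem count_field_two (h2 : (2 : F) ≠ 0) {m : ℕ} (hm : 3 ≤ m) (σ : F ≃+* F)
    (φ : MulAut (POmega F (quadFormOdd m F))) (hφ : IsFieldAutPOmegaOf (quadFormOdd m F) σ φ)
    (hsq : ∀ x : F, σ x = x → IsSquare x) :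
    splitClassCount (inndiagPOmegaOdd m F) (Inn (POmega F (quadFormOdd m F))) φ = 2 := by
  classical
  have : Fintype (fixK σ) := Fintype.ofFinite _
  have h2K : (2 : fixK σ) ≠ 0 := h2_of_hom (fixK σ).subtype h2
  have hQK := Cfsg.Agent.Lib.helper17.oddForm_nondeg17 h2K m
  have hf : ∀ x : F, σ x = x ↔ ∃ y : fixK σ, (fixK σ).subtype y = x := by
    intro x
    constructor
    · intro hx
      exact ⟨⟨x, hx⟩, rfl⟩
    · rintro ⟨y, rfl⟩
      exact y.2
  have hrange := psiSub_range h2K h2 hm σ (fixK σ).subtype hf φ hφ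
  have hker := psiSub_ker h2K h2 hm (fixK σ).subtype
  have hcent : ∀ h ∈ inndiagPOmegaOdd m F, h * φ = φ * h →
      h ∈ Inn (POmega F (quadFormOdd m F)) := by
    intro h hh hcomm
    have hmem : h ∈ inndiagPOmegaOdd m F ⊓ Subgroup.centralizer {φ} := by
      rw [Subgroup.mem_inf, Subgroup.mem_centralizer_singleton_iff]
      exact ⟨hh, hcomm⟩
    rw [← hrange] at hmem
    obtain ⟨g₀, rfl⟩ := hmem
    obtain ⟨h₀, hh₀, hh₀g⟩ : ∃ h₀ : ↥(Geo.quadSimilarityGroup (F := fixK σ)
        (quadFormOdd m (fixK σ))),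
        (h₀ : GL (Unit ⊕ (Fin m ⊕ Fin m)) (fixK σ)) ∈
          specialIsometryGL (fixK σ) (quadFormOdd m (fixK σ)) ∧
        PsiAut (quadFormOdd m (fixK σ)) h₀ = PsiAut (quadFormOdd m (fixK σ)) g₀ :=
      exists_special_of_odd (oddForm m (fixK σ)) hQK (odd_card_oddIdx m) g₀
    have e1 : psiSub h2K h2 m (fixK σ).subtype h₀ = psiSub h2K h2 m (fixK σ).subtype g₀ := by
      have h1 : h₀⁻¹ * g₀ ∈ (PsiAut (quadFormOdd m (fixK σ))).ker := by
        rw [MonoidHom.mem_ker, map_mul, map_inv]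
        have h3 : PsiAut (quadFormOdd m (fixK σ)) h₀ = PsiAut (quadFormOdd m (fixK σ)) g₀ := hh₀g
        rw [h3, inv_mul_cancel]
      rw [← hker, MonoidHom.mem_ker, map_mul, map_inv, inv_mul_eq_one] at h1
      exact h1
    rw [← e1]
    have hdet : ((h₀ : GL (Unit ⊕ (Fin m ⊕ Fin m)) (fixK σ)) :
        Matrix (Unit ⊕ (Fin m ⊕ Fin m)) (Unit ⊕ (Fin m ⊕ Fin m)) (fixK σ)).det = 1 := by
      have h1 := MonoidHom.mem_ker.mp hh₀.2
      have h3 := congrArg Units.val h1
      rw [Matrix.GeneralLinearGroup.val_det_apply, Units.val_one] at h3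
      exact h3
    have hΩ := isomHom_mem_Omega h2K h2 m (fixK σ).subtype (fun y => hsq y y.2)
      ⟨(h₀ : GL (Unit ⊕ (Fin m ⊕ Fin m)) (fixK σ)), hh₀.1⟩ hdet
    rw [Inn_eq, mem_img]
    refine ⟨simHom h2K h2 m (fixK σ).subtype h₀, ?_, rfl⟩
    rw [mem_OmegaGL]
    exact ⟨⟨_, hΩ⟩, rfl⟩
  have hidx := relIndex_Inn_inndiagOdd h2 hm (F := F)
  obtain ⟨a, ha, hx⟩ := Subgroup.relIndex_eq_two_iff.mp hidx
  have haK : a ∉ Inn (POmega F (quadFormOdd m F)) := by
    intro h
    rcases hx 1 (Subgroup.one_mem _) with h' | h'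
    · exact h'.2 (Subgroup.one_mem _)
    · apply h'.2
      rw [one_mul]
      exact h
  have hcov := cover_of_relIndex_two _ _ hidx a ha haK
  refine Cfsg.Agent.Lib.helper42.splitClassCount_eq_two_of (inndiagPOmegaOdd m F)
    (Inn (POmega F (quadFormOdd m F))) (Inn (POmega F (quadFormOdd m F))) φ a le_rfl
    (Inn_le_inndiagOdd m) ha haK ?_ hcent ?_
  · intro h hh
    rcases hcov h hh with h1 | h1
    · exact Or.inl h1
    · exact Or.inr h1.2
  · intro q hq
    exact ⟨q, hq, 1, by rw [one_mul, mul_one], by rw [mul_one]⟩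

/-- **One class**: when the field automorphism fixes a non-square, the `Inndiag`-class of the
standard field automorphism is a single `Inn`-class. -/
theorem count_field_one (h2 : (2 : F) ≠ 0) {m : ℕ} (hm : 3 ≤ m) (σ : F ≃+* F)
    (φ : MulAut (POmega F (quadFormOdd m F))) (hφ : IsFieldAutPOmegaOf (quadFormOdd m F) σ φ)
    (c : F) (hc : σ c = c) (hns : ¬ IsSquare c) :
    splitClassCount (inndiagPOmegaOdd m F) (Inn (POmega F (quadFormOdd m F))) φ = 1 := by
  classical
  have hQ := Cfsg.Agent.Lib.helper17.oddForm_nondeg17 h2 m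
  have hcard := card_oddIdx m
  have h5 : 5 ≤ Fintype.card (Unit ⊕ (Fin m ⊕ Fin m)) := by rw [hcard]; omega
  have hc0 : c ≠ 0 := by
    rintro rfl
    exact hns ⟨0, by rw [mul_zero]⟩
  obtain ⟨i₀⟩ : Nonempty (Fin m) := ⟨⟨0, by omega⟩⟩
  obtain ⟨u, hu⟩ : ∃ u : Unit ⊕ (Fin m ⊕ Fin m) → F, u = Pi.single (Sum.inl ()) 1 := ⟨_, rfl⟩
  obtain ⟨v, hv⟩ : ∃ v : Unit ⊕ (Fin m ⊕ Fin m) → F,
      v = Sum.elim (fun _ : Unit => (0 : F))
        (Sum.elim (Pi.single i₀ (1 : F) : Fin m → F) (Pi.single i₀ c : Fin m → F)) := ⟨_, rfl⟩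
  have hQu : oddForm m F u = 1 := by
    rw [oddForm_coe, hu]
    simp [quadFormOdd]
  have hQv : oddForm m F v = c := by
    rw [oddForm_coe, hv]
    simp [quadFormOdd, Pi.single_apply]
  have hσu : (fun i => σ (u i)) = u := by
    rw [hu]
    funext i
    by_cases h : i = Sum.inl ()
    · subst h; simp
    · simp [Pi.single_eq_of_ne h]
  have hσv : (fun i => σ (v i)) = v := by
    rw [hv]
    funext i
    rcases i with _ | i | i
    · simp
    · by_cases h : i = i₀
      · subst h; simp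
      · simp [Pi.single_eq_of_ne h]
    · by_cases h : i = i₀
      · subst h; simp [hc]
      · simp [Pi.single_eq_of_ne h]
  have hu0 : oddForm m F u ≠ 0 := by rw [hQu]; exact one_ne_zero
  have hv0 : oddForm m F v ≠ 0 := by rw [hQv]; exact hc0
  have hsp' : spinorSign (⇑(oddForm m F))
      (reflG (oddForm m F) u hu0 * reflG (oddForm m F) v hv0) = -1 := by
    rw [map_mul, (spinorSign_refl h2 (oddForm m F) u hu0).1 (by rw [hQu]; exact ⟨1, by rw [mul_one]⟩),
      (spinorSign_refl h2 (oddForm m F) v hv0).2 (by rw [hQv]; exact hns), mul_one]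
  have hdet' : detHom (⇑(oddForm m F))
      (reflG (oddForm m F) u hu0 * reflG (oddForm m F) v hv0) = 1 := by
    rw [map_mul, detHom_reflG, detHom_reflG, neg_mul_neg, one_mul]
  obtain ⟨s, hs⟩ : ∃ s : ↥(isometryGroup F (quadFormOdd m F)),
      s = reflG (oddForm m F) u hu0 * reflG (oddForm m F) v hv0 := ⟨_, rfl⟩
  have hsval : ((s : GL (Unit ⊕ (Fin m ⊕ Fin m)) F) :
      Matrix (Unit ⊕ (Fin m ⊕ Fin m)) (Unit ⊕ (Fin m ⊕ Fin m)) F) =
      reflectionMatrix (quadFormOdd m F) u * reflectionMatrix (quadFormOdd m F) v := by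
    have h := congrArg (fun x : ↥(isometryGroup F (quadFormOdd m F)) =>
      ((x : GL (Unit ⊕ (Fin m ⊕ Fin m)) F) :
        Matrix (Unit ⊕ (Fin m ⊕ Fin m)) (Unit ⊕ (Fin m ⊕ Fin m)) F)) hs
    exact h
  have hsp : spinorSign (quadFormOdd m F) s = -1 := by
    have h := hsp'
    rw [← hs] at h
    exact h
  have hdet : detHom (quadFormOdd m F) s = 1 := by
    have h := hdet'
    rw [← hs] at h
    exact h
  -- the automorphism
  obtain ⟨k, hk⟩ : ∃ k : ↥(Geo.quadSimilarityGroup (F := F) (quadFormOdd m F)),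
      k = Subgroup.inclusion (isometryGroup_le_similarity (quadFormOdd m F)) s := ⟨_, rfl⟩
  have hkval : ((k : GL (Unit ⊕ (Fin m ⊕ Fin m)) F) :
      Matrix (Unit ⊕ (Fin m ⊕ Fin m)) (Unit ⊕ (Fin m ⊕ Fin m)) F) =
      reflectionMatrix (quadFormOdd m F) u * reflectionMatrix (quadFormOdd m F) v := by
    rw [hk]
    exact hsval
  have hzk : PsiO (quadFormOdd m F) s = PsiAut (quadFormOdd m F) k := by
    rw [hk]
    rfl
  have hzG : PsiAut (quadFormOdd m F) k ∈ inndiagPOmegaOdd m F := by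
    rw [inndiagOdd_eq_img, mem_img]
    exact ⟨k, k.2, rfl⟩
  have hzK : PsiAut (quadFormOdd m F) k ∉ Inn (POmega F (quadFormOdd m F)) := by
    intro hz
    rw [← hzk] at hz
    obtain ⟨w, hw | hw⟩ : ∃ w : ↥(Omega F (quadFormOdd m F)),
        ((s : GL (Unit ⊕ (Fin m ⊕ Fin m)) F) :
          Matrix (Unit ⊕ (Fin m ⊕ Fin m)) (Unit ⊕ (Fin m ⊕ Fin m)) F) =
          (((w : ↥(isometryGroup F (quadFormOdd m F))) : GL (Unit ⊕ (Fin m ⊕ Fin m)) F) :
            Matrix (Unit ⊕ (Fin m ⊕ Fin m)) (Unit ⊕ (Fin m ⊕ Fin m)) F) ∨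
        ((s : GL (Unit ⊕ (Fin m ⊕ Fin m)) F) :
          Matrix (Unit ⊕ (Fin m ⊕ Fin m)) (Unit ⊕ (Fin m ⊕ Fin m)) F) =
          -(((w : ↥(isometryGroup F (quadFormOdd m F))) : GL (Unit ⊕ (Fin m ⊕ Fin m)) F) :
            Matrix (Unit ⊕ (Fin m ⊕ Fin m)) (Unit ⊕ (Fin m ⊕ Fin m)) F) :=
      (PsiO_mem_Inn_iff (oddForm m F) hQ (AutOm.oddFrame m hm) h5 s).mp hz
    · have hsw : s = (w : ↥(isometryGroup F (quadFormOdd m F))) :=
        Subtype.ext (Units.ext hw)
      have hmem : s ∈ Omega F (quadFormOdd m F) := by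
        rw [hsw]
        exact w.2
      have h1 := ((mem_Omega_iff_det_spinor h2 (oddForm m F) hQ s).mp hmem).2
      have h3 : spinorSign (quadFormOdd m F) s = 1 := h1
      rw [hsp] at h3
      exact absurd h3 (by decide)
    · have hwdet : detHom (quadFormOdd m F) (w : ↥(isometryGroup F (quadFormOdd m F))) = 1 :=
        ((mem_Omega_iff_det_spinor h2 (oddForm m F) hQ
          (w : ↥(isometryGroup F (quadFormOdd m F)))).mp w.2).1
      have e1 : ((detHom (quadFormOdd m F) s : Fˣ) : F) =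
          ((s : GL (Unit ⊕ (Fin m ⊕ Fin m)) F) :
            Matrix (Unit ⊕ (Fin m ⊕ Fin m)) (Unit ⊕ (Fin m ⊕ Fin m)) F).det :=
        detHom_coe (oddForm m F) s
      have e2 : ((detHom (quadFormOdd m F) (w : ↥(isometryGroup F (quadFormOdd m F))) : Fˣ) : F) =
          (((w : ↥(isometryGroup F (quadFormOdd m F))) : GL (Unit ⊕ (Fin m ⊕ Fin m)) F) :
            Matrix (Unit ⊕ (Fin m ⊕ Fin m)) (Unit ⊕ (Fin m ⊕ Fin m)) F).det :=
        detHom_coe (oddForm m F) (w : ↥(isometryGroup F (quadFormOdd m F)))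
      rw [hdet, Units.val_one] at e1
      rw [hwdet, Units.val_one] at e2
      rw [hw, Matrix.det_neg, ← e2, (odd_card_oddIdx m).neg_one_pow] at e1
      apply h2
      linear_combination e1
  have hfix : Matrix.GeneralLinearGroup.map (σ : F →+* F)
      (k : GL (Unit ⊕ (Fin m ⊕ Fin m)) F) = (k : GL (Unit ⊕ (Fin m ⊕ Fin m)) F) := by
    apply Units.ext
    rw [GLmap_val, hkval, Matrix.map_mul]
    have e1 := refl_hom m (σ : F →+* F) u
    have e2 := refl_hom m (σ : F →+* F) v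
    have hσu' : (fun i => (σ : F →+* F) (u i)) = u := hσu
    have hσv' : (fun i => (σ : F →+* F) (v i)) = v := hσv
    rw [hσu'] at e1
    rw [hσv'] at e2
    have e1' : (reflectionMatrix (quadFormOdd m F) u).map σ = reflectionMatrix (quadFormOdd m F) u :=
      e1.symm
    have e2' : (reflectionMatrix (quadFormOdd m F) v).map σ = reflectionMatrix (quadFormOdd m F) v :=
      e2.symm
    rw [e1', e2']
  have hcomm : PsiAut (quadFormOdd m F) k * φ = φ * PsiAut (quadFormOdd m F) k := by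
    have h := field_mul_PsiAut m σ φ hφ k (by rw [hfix]; exact k.2)
    rw [h]
    congr 2
    exact Subtype.ext hfix.symm
  have hidx := relIndex_Inn_inndiagOdd h2 hm (F := F)
  have hcov := cover_of_relIndex_two _ _ hidx _ hzG hzK
  refine splitClassCount_eq_one_of (inndiagPOmegaOdd m F) (Inn (POmega F (quadFormOdd m F))) φ
    (PsiAut (quadFormOdd m F) k) hcomm ?_
  intro h hh
  rcases hcov h hh with h1 | h1
  · exact Or.inl h1
  · exact Or.inr h1.1

/-- `Inndiag` is normal in the automorphism group of `Ω_{2m+1}(F)`. -/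
theorem inndiagOdd_conj_mem (hodd : Odd (Fintype.card F)) {m : ℕ} (hm : 3 ≤ m)
    (α g : MulAut (POmega F (quadFormOdd m F))) (hg : g ∈ inndiagPOmegaOdd m F) :
    α * g * α⁻¹ ∈ inndiagPOmegaOdd m F := by
  have hub := AutOm.gamma_odd (F := F) hodd hm
  obtain ⟨gα, τ, pα, iα⟩ := exists_pair_of_mem_gamma (quadFormOdd m F) α (by rw [hub]; trivial)
  obtain ⟨k, hk, ik⟩ := inndiagOdd_mem g hg
  have h1 : SemiInd (quadFormOdd m F) (α * g * α⁻¹)
      (τ.symm.trans ((RingEquiv.refl F).trans τ)) :=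
    (SemiInd.mul ⟨gα, pα, iα⟩ ⟨k, pair_of_similarity _ k hk, ik⟩).mul (SemiInd.inv ⟨gα, pα, iα⟩)
  have e : τ.symm.trans ((RingEquiv.refl F).trans τ) = RingEquiv.refl F := by
    ext t
    simp
  rw [e] at h1
  obtain ⟨k', pk', ik'⟩ := h1
  exact (mem_pgoAut_iff (quadFormOdd m F) _).mpr ⟨k', pk', ik'⟩

theorem inndiagOdd_conj_iff (hodd : Odd (Fintype.card F)) {m : ℕ} (hm : 3 ≤ m)
    (α g : MulAut (POmega F (quadFormOdd m F))) :
    g ∈ inndiagPOmegaOdd m F ↔ α * g * α⁻¹ ∈ inndiagPOmegaOdd m F := by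
  constructor
  · exact inndiagOdd_conj_mem hodd hm α g
  · intro h
    have h1 : g = α⁻¹ * (α * g * α⁻¹) * α⁻¹⁻¹ := by group
    rw [h1]
    exact inndiagOdd_conj_mem hodd hm α⁻¹ _ h

theorem inn_conj_iff' {G : Type*} [Group G] (α t : MulAut G) :
    t ∈ Inn G ↔ α * t * α⁻¹ ∈ Inn G := by
  constructor
  · intro ht
    exact (innNormal G).conj_mem t ht α
  · intro ht
    have h1 : t = α⁻¹ * (α * t * α⁻¹) * α⁻¹⁻¹ := by group
    rw [h1]
    exact (innNormal G).conj_mem _ ht α⁻¹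

end Count

end Cfsg.Agent.Lib.helper49.OddField
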