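/-
Minus-type orthogonal groups, transport part 1: base change of similarity identities along a field
embedding, and transport of the class-preservation predicate along similarities, twists and scalars.
-/
import Mathlib
import Cfsg.Agent.Lib.helper49.OddField6
import Cfsg.Agent.Lib.helper42.InndiagMinus
import Cfsg.Agent.Lib.helper42.TwoClassesSim

set_option autoImplicit false
set_option linter.unusedSectionVars false

namespace Cfsg.Agent.Lib.helper49.MinusT

open Matrix Module QuadraticMap Cfsg
open Cfsg.Agent.Lib.helper49 Cfsg.Agent.Lib.helper42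
open Cfsg.Agent.Lib.helper49.OddField (map_mulVec_hom single_hom)

section QuadExt

variable {F : Type*} [Field F] {ι : Type} [Fintype ι] [DecidableEq ι]

/-- A quadratic form on `F^ι` vanishing on the `e_i` and the `e_i + e_j` is zero. -/
theorem quad_zero (D : QuadraticForm F (ι → F))
    (h1 : ∀ i, D (Pi.single i 1) = 0)
    (h2 : ∀ i j, D (Pi.single i 1 + Pi.single j 1) = 0) (v : ι → F) : D v = 0 := by
  have hp : ∀ i j, QuadraticMap.polarBilin D (Pi.single i 1) (Pi.single j 1) = 0 := by
    intro i j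
    rw [QuadraticMap.polarBilin_apply_apply]
    unfold QuadraticMap.polar
    rw [h2, h1, h1]
    simp
  have hB : QuadraticMap.polarBilin D = 0 := by
    apply (Pi.basisFun F ι).ext
    intro i
    apply (Pi.basisFun F ι).ext
    intro j
    rw [Pi.basisFun_apply, Pi.basisFun_apply]
    exact hp i j
  have hadd : ∀ u w : ι → F, D (u + w) = D u + D w := by
    intro u w
    have h := congrArg (fun B : LinearMap.BilinForm F (ι → F) => B u w) hB
    simp only [QuadraticMap.polarBilin_apply_apply, LinearMap.zero_apply] at h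
    unfold QuadraticMap.polar at h
    linear_combination h
  have hsum : ∀ s : Finset ι, D (∑ i ∈ s, v i • (Pi.single i (1 : F) : ι → F)) = 0 := by
    intro s
    induction s using Finset.induction_on with
    | empty =>
      rw [Finset.sum_empty]
      exact QuadraticMap.map_zero D
    | insert a s ha ih =>
      rw [Finset.sum_insert ha, hadd, ih, QuadraticMap.map_smul, h1]
      simp
  have hv : v = ∑ i, v i • (Pi.single i (1 : F) : ι → F) := by
    funext j
    simp [Finset.sum_apply, Pi.single_apply]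
  rw [hv]
  exact hsum Finset.univ

/-- Two quadratic forms on `F^ι` agreeing on the `e_i` and the `e_i + e_j` are equal. -/
theorem quad_ext (Q₁ Q₂ : QuadraticForm F (ι → F))
    (h1 : ∀ i, Q₁ (Pi.single i 1) = Q₂ (Pi.single i 1))
    (h2 : ∀ i j, Q₁ (Pi.single i 1 + Pi.single j 1) = Q₂ (Pi.single i 1 + Pi.single j 1))
    (v : ι → F) : Q₁ v = Q₂ v := by
  have h := quad_zero (Q₁ - Q₂) (fun i => by rw [_root_.sub_apply, h1, sub_self])
    (fun i j => by rw [_root_.sub_apply, h2, sub_self]) v
  rw [_root_.sub_apply] at h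
  exact sub_eq_zero.mp h

end QuadExt

section Base

variable {K F : Type*} [Field K] [Field F] {ι : Type} [Fintype ι] [DecidableEq ι]

/-- Base change of a similarity identity along a field embedding. -/
theorem base_of_hom (f : K →+* F) (QK₁ QK₂ : (ι → K) → K) (QF₁ QF₂ : QuadraticForm F (ι → F))
    (h₁ : ∀ v : ι → K, QF₁ (fun i => f (v i)) = f (QK₁ v))
    (h₂ : ∀ v : ι → K, QF₂ (fun i => f (v i)) = f (QK₂ v))
    (M : Matrix ι ι K) (c : K) (hM : ∀ v, QK₂ (M *ᵥ v) = c * QK₁ v) (w : ι → F) :
    QF₂ (M.map f *ᵥ w) = f c * QF₁ w := by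
  have key : ∀ v : ι → K, QF₂ (M.map f *ᵥ (fun i => f (v i))) = f c * QF₁ (fun i => f (v i)) := by
    intro v
    rw [map_mulVec_hom, h₂, hM, map_mul, h₁]
  have e := quad_ext (QF₂.comp (Matrix.toLin' (M.map f))) (f c • QF₁)
    (fun i => by
      rw [QuadraticMap.comp_apply, Matrix.toLin'_apply, _root_.smul_apply, smul_eq_mul,
        single_hom f i]
      exact key _)
    (fun i j => by
      rw [QuadraticMap.comp_apply, Matrix.toLin'_apply, _root_.smul_apply, smul_eq_mul,
        single_hom f i, single_hom f j]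
      have e2 : ((fun a => f ((Pi.single i (1 : K) : ι → K) a)) +
          fun a => f ((Pi.single j (1 : K) : ι → K) a)) =
          fun a => f (((Pi.single i (1 : K) : ι → K) + (Pi.single j (1 : K) : ι → K)) a) := by
        funext a
        simp
      rw [e2]
      exact key _) w
  rw [QuadraticMap.comp_apply, Matrix.toLin'_apply, _root_.smul_apply, smul_eq_mul] at e
  exact e

theorem minus_hom (m : ℕ) (f : K →+* F) (a b : K) (v : (Fin m ⊕ Fin m) ⊕ Fin 2 → K) :
    quadFormMinus m F (f a) (f b) (fun i => f (v i)) = f (quadFormMinus m K a b v) := by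
  simp [quadFormMinus, map_add, map_sum, map_mul, map_pow]

/-- Base change of a similarity identity between two minus-type forms. -/
theorem sim_base (m : ℕ) (f : K →+* F) (a₁ b₁ a₂ b₂ : K)
    (M : Matrix ((Fin m ⊕ Fin m) ⊕ Fin 2) ((Fin m ⊕ Fin m) ⊕ Fin 2) K) (c : K)
    (hM : ∀ v, quadFormMinus m K a₂ b₂ (M *ᵥ v) = c * quadFormMinus m K a₁ b₁ v)
    (w : (Fin m ⊕ Fin m) ⊕ Fin 2 → F) :
    quadFormMinus m F (f a₂) (f b₂) (M.map f *ᵥ w) = f c * quadFormMinus m F (f a₁) (f b₁) w :=
  base_of_hom f (quadFormMinus m K a₁ b₁) (quadFormMinus m K a₂ b₂)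
    (minusForm m F (f a₁) (f b₁)) (minusForm m F (f a₂) (f b₂))
    (fun v => minus_hom m f a₁ b₁ v) (fun v => minus_hom m f a₂ b₂ v) M c hM w

end Base

section PSC

variable {F : Type*} [Field F]

local notation "I" m => (Fin m ⊕ Fin m) ⊕ Fin 2

/-- Class preservation is insensitive to non-zero scalars. -/
theorem psc_smul (m : ℕ) (a b : F) (c : F) (hc : c ≠ 0) (g : Matrix (I m) (I m) F)
    (hg : PreservesSingularClassesMinus m a b g) : PreservesSingularClassesMinus m a b (c • g) := by
  obtain ⟨K, iK, iA, hK, hpsc⟩ := hg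
  refine ⟨K, iK, iA, hK, ?_⟩
  intro U hU
  have h := hpsc U hU
  unfold SameParityClass imageSubmodule at h ⊢
  have e : Matrix.toLin' ((c • g).map (algebraMap F K)) =
      (algebraMap F K c) • Matrix.toLin' (g.map (algebraMap F K)) := by
    rw [← map_smul]
    congr 1
    ext i j
    simp [Matrix.map_apply, Matrix.smul_apply]
  rw [e, Submodule.map_smul _ _ _ ((map_ne_zero (algebraMap F K)).mpr hc)]
  exact h

/-- Transport of class preservation along a similarity between two minus-type forms. -/
theorem psc_transfer (m : ℕ) (a₁ b₁ a₂ b₂ : F) (P : GL (I m) F) (c : F) (hc : c ≠ 0)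
    (hP : ∀ v, quadFormMinus m F a₂ b₂ ((P : Matrix (I m) (I m) F) *ᵥ v) =
      c * quadFormMinus m F a₁ b₁ v)
    (k : Matrix (I m) (I m) F) (hk : PreservesSingularClassesMinus m a₁ b₁ k) :
    PreservesSingularClassesMinus m a₂ b₂
      ((P : Matrix (I m) (I m) F) * k * ((P⁻¹ : GL (I m) F) : Matrix (I m) (I m) F)) := by
  obtain ⟨K, iK, iA, hK, hpsc⟩ := hk
  refine ⟨K, iK, iA, hK, ?_⟩
  obtain ⟨PK, hPKdef⟩ : ∃ PK : GL (I m) K, PK = Matrix.GeneralLinearGroup.map (algebraMap F K) P :=
    ⟨_, rfl⟩
  have hPKv : (PK : Matrix (I m) (I m) K) = (P : Matrix (I m) (I m) F).map (algebraMap F K) := by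
    rw [hPKdef]; rfl
  have hPKi : ((PK⁻¹ : GL (I m) K) : Matrix (I m) (I m) K) =
      ((P⁻¹ : GL (I m) F) : Matrix (I m) (I m) F).map (algebraMap F K) := by
    rw [hPKdef, ← map_inv]; rfl
  have hc' : algebraMap F K c ≠ 0 := (map_ne_zero (algebraMap F K)).mpr hc
  have hPK : ∀ w, quadFormMinus m K (algebraMap F K a₂) (algebraMap F K b₂)
      ((PK : Matrix (I m) (I m) K) *ᵥ w) =
      algebraMap F K c * quadFormMinus m K (algebraMap F K a₁) (algebraMap F K b₁) w := by
    intro w
    rw [hPKv]
    exact sim_base m (algebraMap F K) a₁ b₁ a₂ b₂ _ c hP w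
  intro U hU
  obtain ⟨U', hU'def⟩ : ∃ U' : Submodule K ((I m) → K),
      U' = U.map ((PK⁻¹ : GL (I m) K) : Matrix (I m) (I m) K).mulVecLin := ⟨_, rfl⟩
  have hU'U : U'.map (PK : Matrix (I m) (I m) K).mulVecLin = U := by
    rw [hU'def, ← map_GL_mul, mul_inv_cancel, Units.val_one, Matrix.mulVecLin_one, Submodule.map_id]
  have hts' : ∀ u ∈ U', quadFormMinus m K (algebraMap F K a₁) (algebraMap F K b₁) u = 0 := by
    intro u hu
    have hx : (PK : Matrix (I m) (I m) K) *ᵥ u ∈ U := by
      rw [← hU'U]
      exact Submodule.mem_map_of_mem (f := (PK : Matrix (I m) (I m) K).mulVecLin) hu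
    have h1 := hPK u
    rw [hU.1 _ hx] at h1
    rcases mul_eq_zero.mp h1.symm with h | h
    · exact absurd h hc'
    · exact h
  have hmax' : IsMaxTotallySingular
      (quadFormMinus m K (algebraMap F K a₁) (algebraMap F K b₁)) U' := by
    refine ⟨hts', fun W hW hle => ?_⟩
    have hWts : Geo.IsTotallySingularQuad
        (quadFormMinus m K (algebraMap F K a₂) (algebraMap F K b₂))
        (W.map (PK : Matrix (I m) (I m) K).mulVecLin) := by
      rintro _ ⟨w, hw, rfl⟩
      rw [Matrix.mulVecLin_apply, hPK, hW w hw, mul_zero]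
    have hle2 : U ≤ W.map (PK : Matrix (I m) (I m) K).mulVecLin := by
      rw [← hU'U]
      exact Submodule.map_mono hle
    have h3 := hU.2 _ hWts hle2
    rw [hU'def, ← h3, ← map_GL_mul, inv_mul_cancel, Units.val_one, Matrix.mulVecLin_one,
      Submodule.map_id]
  have hpar := hpsc U' hmax'
  unfold SameParityClass imageSubmodule at hpar ⊢
  have emap : ((P : Matrix (I m) (I m) F) * k *
      ((P⁻¹ : GL (I m) F) : Matrix (I m) (I m) F)).map (algebraMap F K) =
      (PK : Matrix (I m) (I m) K) * k.map (algebraMap F K) *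
        ((PK⁻¹ : GL (I m) K) : Matrix (I m) (I m) K) := by
    rw [Matrix.map_mul, Matrix.map_mul, hPKv, hPKi]
  have e1 : U.map (Matrix.toLin' (((P : Matrix (I m) (I m) F) * k *
      ((P⁻¹ : GL (I m) F) : Matrix (I m) (I m) F)).map (algebraMap F K))) =
      (U'.map (Matrix.toLin' (k.map (algebraMap F K)))).map
        (PK : Matrix (I m) (I m) K).mulVecLin := by
    rw [emap, hU'def]
    show U.map ((PK : Matrix (I m) (I m) K) * k.map (algebraMap F K) *
        ((PK⁻¹ : GL (I m) K) : Matrix (I m) (I m) K)).mulVecLin = _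
    rw [Matrix.mulVecLin_mul, Matrix.mulVecLin_mul, Submodule.map_comp, Submodule.map_comp]
    rfl
  have e2 : U ⊓ (U'.map (Matrix.toLin' (k.map (algebraMap F K)))).map
        (PK : Matrix (I m) (I m) K).mulVecLin =
      (U' ⊓ U'.map (Matrix.toLin' (k.map (algebraMap F K)))).map
        (PK : Matrix (I m) (I m) K).mulVecLin := by
    rw [Submodule.map_inf _ (mulVecLin_injective_GL PK), hU'U]
  rw [e1, e2, finrank_map_GL, ← hU'U, finrank_map_GL]
  exact hpar

/-- Twisting by a field automorphism: class preservation for the twisted matrix and form. -/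
theorem psc_twist [Finite F] (m : ℕ) (a b : F) (τ : F ≃+* F) (k : Matrix (I m) (I m) F)
    (hk : PreservesSingularClassesMinus m a b k) :
    PreservesSingularClassesMinus m (τ a) (τ b) (k.map τ) := by
  obtain ⟨K, iK, iA, hK, hpsc⟩ := hk
  have hMF : Module.Finite F K := Module.finite_of_finrank_pos (by rw [hK]; norm_num)
  have hfin : Finite K := Module.finite_of_finite F
  have hold : Nat.card K = Nat.card F ^ 2 := by
    rw [Module.natCard_eq_pow_finrank (K := F) (V := K), hK]
  obtain ⟨φ, hφ⟩ : ∃ φ : F →+* K, φ = (algebraMap F K).comp (τ.symm : F →+* F) := ⟨_, rfl⟩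
  refine ⟨K, iK, φ.toAlgebra, ?_, ?_⟩
  · have hnew := @Module.natCard_eq_pow_finrank F K _ _ (@Algebra.toModule F K _ _ φ.toAlgebra)
      (@Module.Finite.of_finite F K _ _ (@Algebra.toModule F K _ _ φ.toAlgebra) hfin)
    rw [hold] at hnew
    have h1 : 1 < Nat.card F := Finite.one_lt_card
    exact (Nat.pow_right_injective h1 hnew).symm
  · have e1 : φ (τ a) = algebraMap F K a := by
      rw [hφ]; simp
    have e2 : φ (τ b) = algebraMap F K b := by
      rw [hφ]; simp
    have e3 : (k.map τ).map φ = k.map (algebraMap F K) := by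
      rw [hφ]
      ext i j
      simp
    show PreservesSingularClasses (quadFormMinus m K (φ (τ a)) (φ (τ b))) ((k.map τ).map φ)
    rw [e1, e2, e3]
    exact hpsc

end PSC

end Cfsg.Agent.Lib.helper49.MinusT
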