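/-
Minus-type orthogonal groups, transport part 2: the isomorphism of `PΩ` groups given by a similarity
between two forms, its action on automorphisms induced by similarities, and transport of split class
counts and centralizers along a group isomorphism.
-/
import Mathlib
import Cfsg.Agent.Lib.helper49.MinusT1

set_option autoImplicit false
set_option linter.unusedSectionVars false

namespace Cfsg.Agent.Lib.helper49.MinusT

open Matrix Module QuadraticMap Cfsg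
open Cfsg.Agent.Lib.helper49 Cfsg.Agent.Lib.helper42

section Generic

variable {G H : Type*} [Group G] [Group H]

theorem map_commutator_equiv (e : G ≃* H) : (commutator G).map e.toMonoidHom = commutator H := by
  rw [commutator_def, commutator_def, Subgroup.map_commutator,
    Subgroup.map_top_of_surjective _ e.surjective]

/-- A group isomorphism restricted to the commutator subgroups. -/
noncomputable def commIso (e : G ≃* H) : ↥(commutator G) ≃* ↥(commutator H) :=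
  (e.subgroupMap (commutator G)).trans (MulEquiv.subgroupCongr (map_commutator_equiv e))

theorem commIso_coe (e : G ≃* H) (x : ↥(commutator G)) : ((commIso e x : ↥(commutator H)) : H) = e x :=
  rfl

theorem commIso_symm_coe (e : G ≃* H) (y : ↥(commutator H)) :
    (((commIso e).symm y : ↥(commutator G)) : G) = e.symm y := by
  apply e.injective
  rw [MulEquiv.apply_symm_apply, ← commIso_coe, MulEquiv.apply_symm_apply]

theorem map_center_equiv (e : G ≃* H) : (Subgroup.center G).map e.toMonoidHom = Subgroup.center H := by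
  ext y
  rw [Subgroup.mem_map, Subgroup.mem_center_iff]
  constructor
  · rintro ⟨x, hx, rfl⟩ z
    rw [Subgroup.mem_center_iff] at hx
    obtain ⟨w, rfl⟩ := e.surjective z
    show e w * e x = e x * e w
    rw [← map_mul, ← map_mul, hx w]
  · intro hy
    refine ⟨e.symm y, ?_, e.apply_symm_apply y⟩
    rw [Subgroup.mem_center_iff]
    intro w
    apply e.injective
    rw [map_mul, map_mul, e.apply_symm_apply]
    exact hy (e w)

/-- A group isomorphism induces one between the central quotients. -/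
noncomputable def centerQuotIso (e : G ≃* H) : G ⧸ Subgroup.center G ≃* H ⧸ Subgroup.center H :=
  QuotientGroup.congr (Subgroup.center G) (Subgroup.center H) e (map_center_equiv e)

theorem centerQuotIso_mk (e : G ≃* H) (x : G) :
    centerQuotIso e (QuotientGroup.mk x) = QuotientGroup.mk (e x) := rfl

theorem centerQuotIso_symm_mk (e : G ≃* H) (y : H) :
    (centerQuotIso e).symm (QuotientGroup.mk y) = QuotientGroup.mk (e.symm y) := by
  rw [MulEquiv.symm_apply_eq, centerQuotIso_mk, MulEquiv.apply_symm_apply]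

variable {X Y : Type*} [Group X] [Group Y]

theorem splitClassCount_equiv (Θ : X ≃* Y) (H₁ K₁ : Subgroup X) (H₂ K₂ : Subgroup Y)
    (hH : ∀ g, g ∈ H₁ ↔ Θ g ∈ H₂) (hK : ∀ g, g ∈ K₁ ↔ Θ g ∈ K₂) (x : X) :
    splitClassCount H₂ K₂ (Θ x) = splitClassCount H₁ K₁ x := by
  unfold splitClassCount
  symm
  apply Nat.card_congr
  refine Quot.congr
    { toFun := fun y => ⟨Θ y.1, ?_⟩
      invFun := fun y => ⟨Θ.symm y.1, ?_⟩
      left_inv := fun y => Subtype.ext (Θ.symm_apply_apply y.1)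
      right_inv := fun y => Subtype.ext (Θ.apply_symm_apply y.1) } ?_
  · obtain ⟨g, hg, hy⟩ := y.2
    exact ⟨Θ g, (hH g).mp hg, by rw [hy, map_mul, map_mul, map_inv]⟩
  · obtain ⟨g, hg, hy⟩ := y.2
    refine ⟨Θ.symm g, ?_, ?_⟩
    · rw [hH, Θ.apply_symm_apply]; exact hg
    · rw [hy, map_mul, map_mul, map_inv, Θ.symm_apply_apply]
  · intro y z
    constructor
    · rintro ⟨t, ht, hz⟩
      exact ⟨Θ t, (hK t).mp ht, by
        show Θ z.1 = Θ t * Θ y.1 * (Θ t)⁻¹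
        rw [hz, map_mul, map_mul, map_inv]⟩
    · rintro ⟨t, ht, hz⟩
      refine ⟨Θ.symm t, ?_, ?_⟩
      · rw [hK, Θ.apply_symm_apply]; exact ht
      · have hz' : Θ z.1 = t * Θ y.1 * t⁻¹ := hz
        apply Θ.injective
        rw [hz', map_mul, map_mul, map_inv, Θ.apply_symm_apply]

theorem centralizerInf_equiv (Θ : X ≃* Y) (H₁ : Subgroup X) (H₂ : Subgroup Y)
    (hH : ∀ g, g ∈ H₁ ↔ Θ g ∈ H₂) (x : X) :
    Nonempty (↥(H₁ ⊓ Subgroup.centralizer {x}) ≃* ↥(H₂ ⊓ Subgroup.centralizer {Θ x})) := by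
  have hmap : (H₁ ⊓ Subgroup.centralizer {x}).map Θ.toMonoidHom
      = H₂ ⊓ Subgroup.centralizer {Θ x} := by
    ext y
    rw [Subgroup.mem_map, Subgroup.mem_inf, Subgroup.mem_centralizer_singleton_iff]
    constructor
    · rintro ⟨g, hg, rfl⟩
      rw [Subgroup.mem_inf, Subgroup.mem_centralizer_singleton_iff] at hg
      refine ⟨(hH g).mp hg.1, ?_⟩
      show Θ g * Θ x = Θ x * Θ g
      rw [← map_mul, ← map_mul, hg.2]
    · rintro ⟨hy1, hy2⟩
      refine ⟨Θ.symm y, ?_, Θ.apply_symm_apply y⟩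
      rw [Subgroup.mem_inf, Subgroup.mem_centralizer_singleton_iff]
      refine ⟨?_, ?_⟩
      · rw [hH, Θ.apply_symm_apply]; exact hy1
      · apply Θ.injective
        rw [map_mul, map_mul, Θ.apply_symm_apply]
        exact hy2
  exact ⟨(Θ.subgroupMap (H₁ ⊓ Subgroup.centralizer {x})).trans (MulEquiv.subgroupCongr hmap)⟩

theorem inn_congr_iff (ψ : G ≃* H) (β : MulAut G) :
    β ∈ Inn G ↔ MulAut.congr ψ β ∈ Inn H := by
  constructor
  · rintro ⟨g, rfl⟩
    refine ⟨ψ g, ?_⟩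
    ext y
    show ψ g * y * (ψ g)⁻¹ = ψ (g * ψ.symm y * g⁻¹)
    rw [map_mul, map_mul, map_inv, ψ.apply_symm_apply]
  · rintro ⟨h, hh⟩
    refine ⟨ψ.symm h, ?_⟩
    ext y
    have h1 := congrArg (fun γ : MulAut H => γ (ψ y)) hh
    have h2 : ψ (β (ψ.symm (ψ y))) = h * ψ y * h⁻¹ := h1.symm
    rw [ψ.symm_apply_apply] at h2
    apply ψ.injective
    rw [h2]
    show ψ (ψ.symm h * y * (ψ.symm h)⁻¹) = _
    rw [map_mul, map_mul, map_inv, ψ.apply_symm_apply]

end Generic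

section SimIso

variable {F : Type*} [Field F] {ι : Type} [Fintype ι] [DecidableEq ι]

theorem conj_isom_mem (Q₁ Q₂ : (ι → F) → F) (P : GL ι F) (c : F) (_hc : c ≠ 0)
    (hP : ∀ v, Q₂ ((P : Matrix ι ι F) *ᵥ v) = c * Q₁ v) (g : GL ι F)
    (hg : g ∈ isometryGroup F Q₁) : P * g * P⁻¹ ∈ isometryGroup F Q₂ := by
  rw [mem_isometryGroup_iff] at hg ⊢
  intro v
  have e : ((P * g * P⁻¹ : GL ι F) : Matrix ι ι F) *ᵥ v =
      (P : Matrix ι ι F) *ᵥ ((g : Matrix ι ι F) *ᵥ (((P⁻¹ : GL ι F) : Matrix ι ι F) *ᵥ v)) := by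
    rw [Units.val_mul, Units.val_mul, Matrix.mulVec_mulVec, Matrix.mulVec_mulVec]
  have e2 : v = (P : Matrix ι ι F) *ᵥ (((P⁻¹ : GL ι F) : Matrix ι ι F) *ᵥ v) := by
    rw [Matrix.mulVec_mulVec, ← Units.val_mul, mul_inv_cancel, Units.val_one, Matrix.one_mulVec]
  rw [e, hP, hg]
  conv_rhs => rw [e2, hP]

theorem conj_isom_mem' (Q₁ Q₂ : (ι → F) → F) (P : GL ι F) (c : F) (hc : c ≠ 0)
    (hP : ∀ v, Q₂ ((P : Matrix ι ι F) *ᵥ v) = c * Q₁ v) (h : GL ι F)
    (hh : h ∈ isometryGroup F Q₂) : P⁻¹ * h * P ∈ isometryGroup F Q₁ := by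
  rw [mem_isometryGroup_iff] at hh ⊢
  intro v
  have e : (P : Matrix ι ι F) *ᵥ (((P⁻¹ * h * P : GL ι F) : Matrix ι ι F) *ᵥ v) =
      (h : Matrix ι ι F) *ᵥ ((P : Matrix ι ι F) *ᵥ v) := by
    rw [Matrix.mulVec_mulVec, Matrix.mulVec_mulVec, ← Units.val_mul, ← Units.val_mul]
    congr 2
    group
  have h1 := hP (((P⁻¹ * h * P : GL ι F) : Matrix ι ι F) *ᵥ v)
  rw [e, hh, hP] at h1
  exact (mul_left_cancel₀ hc h1).symm

/-- Conjugation by a similarity between two forms, on the isometry groups. -/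
noncomputable def conjIso (Q₁ Q₂ : (ι → F) → F) (P : GL ι F) (c : F) (hc : c ≠ 0)
    (hP : ∀ v, Q₂ ((P : Matrix ι ι F) *ᵥ v) = c * Q₁ v) :
    ↥(isometryGroup F Q₁) ≃* ↥(isometryGroup F Q₂) where
  toFun g := ⟨P * g.1 * P⁻¹, conj_isom_mem Q₁ Q₂ P c hc hP g.1 g.2⟩
  invFun h := ⟨P⁻¹ * h.1 * P, conj_isom_mem' Q₁ Q₂ P c hc hP h.1 h.2⟩
  left_inv g := Subtype.ext (by show P⁻¹ * (P * g.1 * P⁻¹) * P = g.1; group)
  right_inv h := Subtype.ext (by show P * (P⁻¹ * h.1 * P) * P⁻¹ = h.1; group)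
  map_mul' g h := Subtype.ext (by
    show P * (g.1 * h.1) * P⁻¹ = (P * g.1 * P⁻¹) * (P * h.1 * P⁻¹); group)

/-- The isomorphism of `PΩ` groups given by a similarity between two forms. -/
noncomputable def simIso (Q₁ Q₂ : (ι → F) → F) (P : GL ι F) (c : F) (hc : c ≠ 0)
    (hP : ∀ v, Q₂ ((P : Matrix ι ι F) *ᵥ v) = c * Q₁ v) : POmega F Q₁ ≃* POmega F Q₂ :=
  centerQuotIso (commIso (conjIso Q₁ Q₂ P c hc hP))

theorem conj_sim_mem (Q₁ Q₂ : (ι → F) → F) (P : GL ι F) (c : F) (_hc : c ≠ 0)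
    (hP : ∀ v, Q₂ ((P : Matrix ι ι F) *ᵥ v) = c * Q₁ v) (k : GL ι F)
    (hk : k ∈ Geo.quadSimilarityGroup (F := F) Q₁) :
    P * k * P⁻¹ ∈ Geo.quadSimilarityGroup (F := F) Q₂ := by
  obtain ⟨μ, hμ⟩ := hk
  refine ⟨μ, fun v => ?_⟩
  have e : ((P * k * P⁻¹ : GL ι F) : Matrix ι ι F) *ᵥ v =
      (P : Matrix ι ι F) *ᵥ ((k : Matrix ι ι F) *ᵥ (((P⁻¹ : GL ι F) : Matrix ι ι F) *ᵥ v)) := by
    rw [Units.val_mul, Units.val_mul, Matrix.mulVec_mulVec, Matrix.mulVec_mulVec]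
  have e2 : v = (P : Matrix ι ι F) *ᵥ (((P⁻¹ : GL ι F) : Matrix ι ι F) *ᵥ v) := by
    rw [Matrix.mulVec_mulVec, ← Units.val_mul, mul_inv_cancel, Units.val_one, Matrix.one_mulVec]
  rw [e, hP, hμ]
  conv_rhs => rw [e2, hP]
  ring

/-- The isomorphism `simIso` carries the automorphism induced by a similarity `k` to the one induced
by `P k P⁻¹`. -/
theorem congr_PsiAut (Q₁ Q₂ : (ι → F) → F) (P : GL ι F) (c : F) (hc : c ≠ 0)
    (hP : ∀ v, Q₂ ((P : Matrix ι ι F) *ᵥ v) = c * Q₁ v)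
    (k : ↥(Geo.quadSimilarityGroup (F := F) Q₁)) :
    MulAut.congr (simIso Q₁ Q₂ P c hc hP) (PsiAut Q₁ k) =
      PsiAut Q₂ ⟨P * k.1 * P⁻¹, conj_sim_mem Q₁ Q₂ P c hc hP k.1 k.2⟩ := by
  rw [← induced_iff]
  intro s s' hs'
  have hmap : ∀ M : Matrix ι ι F, M.map (RingEquiv.refl F) = M := fun M => by
    ext i j
    rfl
  rw [hmap] at hs'
  have hsGL : ((s' : ↥(isometryGroup F Q₂)) : GL ι F) =
      (P * k.1 * P⁻¹) * ((s : ↥(isometryGroup F Q₂)) : GL ι F) * (P * k.1 * P⁻¹)⁻¹ := by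
    apply Units.ext
    rw [Units.val_mul, Units.val_mul]
    exact hs'
  obtain ⟨e, he⟩ : ∃ e : ↥(Omega F Q₁) ≃* ↥(Omega F Q₂), e = commIso (conjIso Q₁ Q₂ P c hc hP) :=
    ⟨_, rfl⟩
  have hesymm : ∀ y : ↥(Omega F Q₂), (((e.symm y : ↥(Omega F Q₁)) : ↥(isometryGroup F Q₁)) : GL ι F) =
      P⁻¹ * ((y : ↥(isometryGroup F Q₂)) : GL ι F) * P := by
    intro y
    rw [he, commIso_symm_coe]
    rfl
  show simIso Q₁ Q₂ P c hc hP (PsiAut Q₁ k ((simIso Q₁ Q₂ P c hc hP).symm (QuotientGroup.mk s))) =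
    QuotientGroup.mk s'
  have h1 : (simIso Q₁ Q₂ P c hc hP).symm (QuotientGroup.mk s) = QuotientGroup.mk (e.symm s) := by
    rw [he]
    exact centerQuotIso_symm_mk _ s
  have h2 : PsiAut Q₁ k (QuotientGroup.mk (e.symm s)) = QuotientGroup.mk (e.symm s') := by
    apply PsiAut_mk
    rw [← Units.val_mul, ← Units.val_mul]
    congr 1
    rw [hesymm, hesymm, hsGL]
    group
  have h3 : simIso Q₁ Q₂ P c hc hP (QuotientGroup.mk (e.symm s')) = QuotientGroup.mk s' := by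
    have h4 : simIso Q₁ Q₂ P c hc hP (QuotientGroup.mk (e.symm s')) =
        QuotientGroup.mk (e (e.symm s')) := by
      rw [he]
      exact centerQuotIso_mk _ _
    rw [h4, e.apply_symm_apply]
  rw [h1, h2, h3]

end SimIso

end Cfsg.Agent.Lib.helper49.MinusT
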