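/-
Shared lemmas (helper49): Gram determinants of bilinear forms on `n → F` under change of basis,
square classes.
-/
import Mathlib

set_option autoImplicit false

namespace Cfsg.Agent.Lib.helper49

open Matrix

/-- Multiplying by a non-zero square does not change being a square. -/
theorem isSquare_mul_sq_iff {F : Type*} [Field F] {d x : F} (hd : d ≠ 0) :
    IsSquare (d * x * d) ↔ IsSquare x := by
  constructor
  · rintro ⟨r, hr⟩
    refine ⟨r / d, ?_⟩
    field_simp
    linear_combination hr
  · rintro ⟨r, rfl⟩
    exact ⟨d * r, by ring⟩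

/-- The Gram determinant of a bilinear form on `n → F` in an arbitrary basis differs from the one in the
standard basis by a non-zero square factor. -/
theorem det_gram_eq {F : Type*} [Field F] {n ι : Type*} [Fintype n] [DecidableEq n] [Fintype ι]
    [DecidableEq ι] (B : LinearMap.BilinForm F (n → F)) (b : Module.Basis ι F (n → F)) :
    ∃ d : F, d ≠ 0 ∧ (Matrix.of (fun i j : ι => B (b i) (b j))).det
      = d * (LinearMap.BilinForm.toMatrix' B).det * d := by
  classical
  let e : ι ≃ n := b.indexEquiv (Pi.basisFun F n)
  let φ : (n → F) ≃ₗ[F] (n → F) := (Pi.basisFun F n).equiv b e.symm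
  have hφ : ∀ i : n, φ (Pi.single i 1) = b (e.symm i) := by
    intro i
    have := (Pi.basisFun F n).equiv_apply i b e.symm
    simpa [Pi.basisFun_apply] using this
  have h1 : (Matrix.of (fun i j : ι => B (b i) (b j))).submatrix e.symm e.symm
      = LinearMap.BilinForm.toMatrix' (LinearMap.BilinForm.comp B (φ : (n → F) →ₗ[F] (n → F))
          (φ : (n → F) →ₗ[F] (n → F))) := by
    ext i j
    simp [LinearMap.BilinForm.toMatrix'_apply, hφ]
  have h2 : (Matrix.of (fun i j : ι => B (b i) (b j))).det
      = ((Matrix.of (fun i j : ι => B (b i) (b j))).submatrix e.symm e.symm).det :=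
    (Matrix.det_submatrix_equiv_self e.symm _).symm
  refine ⟨(LinearMap.toMatrix' (φ : (n → F) →ₗ[F] (n → F))).det, ?_, ?_⟩
  · rw [LinearMap.det_toMatrix']
    exact (LinearEquiv.isUnit_det' φ).ne_zero
  · rw [h2, h1, LinearMap.BilinForm.toMatrix'_comp, Matrix.det_mul, Matrix.det_mul,
      Matrix.det_transpose]

/-- The Gram determinant of a bilinear form on `n → F` in an arbitrary basis is a square iff it is one in
the standard basis. -/
theorem isSquare_det_gram_iff {F : Type*} [Field F] {n ι : Type*} [Fintype n] [DecidableEq n] [Fintype ι]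
    [DecidableEq ι] (B : LinearMap.BilinForm F (n → F)) (b : Module.Basis ι F (n → F)) :
    IsSquare (Matrix.of (fun i j : ι => B (b i) (b j))).det
      ↔ IsSquare (LinearMap.BilinForm.toMatrix' B).det := by
  obtain ⟨d, hd, h⟩ := det_gram_eq B b
  rw [h]
  exact isSquare_mul_sq_iff hd

end Cfsg.Agent.Lib.helper49
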