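import Mathlib
import Cfsg.Agent.Lib.helper24.SroReal
import Cfsg.Agent.Lib.helper25.SreEXT
import Cfsg.Agent.Lib.helper49.SreNEGM

/-!
helper49: involutory isometries of quadratic spaces in characteristic 2.

* `h49_ic2_plane`: if `polar v (T v) ≠ 0` then `span {v, T v}` is an invariant nondegenerate plane;
* `h49_ic2_quad`: if `polar x (T x) = 0` on an invariant nondegenerate `X` and `T ≠ 1` on `X`, then
  `X` contains an invariant nondegenerate 4-space of plus type;
* `h49_ic2_suff`: invariant nondegenerate subspaces of prescribed dimension and type.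
-/

set_option autoImplicit false
set_option linter.unusedSectionVars false
set_option linter.unusedVariables false

namespace Cfsg.Agent.Lib.helper49

open Module Cfsg.Agent.Lib.helper24 Cfsg.Agent.Lib.helper45

universe u

section ic2

variable {F : Type u} [Field F] [Fintype F]
variable {V : Type u} [AddCommGroup V] [Module F V] [FiniteDimensional F V]

/-- the type of a subspace is unique -/
theorem h49_ic2_ty_unique (Q : QuadraticForm F V) (X : Submodule F V) (ε₁ ε₂ : ℤ)
    (h1 : SrTy Q X ε₁) (h2 : SrTy Q X ε₂) : ε₁ = ε₂ := by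
  unfold SrTy at h1 h2
  have h := Unif.unique h1 h2
  have hq : ((Fintype.card F : ℤ)) ^ (finrank F X / 2) ≠ 0 := by
    apply pow_ne_zero
    exact_mod_cast Fintype.card_ne_zero
  exact mul_right_cancel₀ hq h

/-- basic facts on an involutory isometry in characteristic 2 -/
theorem h49_ic2_basic (Q : QuadraticForm F V) (h2 : (2 : F) = 0) (T : Module.End F V)
    (hT : ∀ v, Q (T v) = Q v) (hT2 : T * T = 1) :
    (∀ x, T (T x) = x) ∧
    (∀ u v, QuadraticMap.polar Q (T u) v = QuadraticMap.polar Q u (T v)) ∧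
    (∀ v, QuadraticMap.polar Q v v = 0) ∧ (∀ a : F, a + a = 0) ∧ (∀ v : V, v + v = 0) ∧
    (∀ x, Q (T x + x) = QuadraticMap.polar Q x (T x)) := by
  have hTT : ∀ x, T (T x) = x := fun x => by
    have h1 := congrArg (fun S : Module.End F V => S x) hT2
    simpa using h1
  have hFF : ∀ a : F, a + a = 0 := by
    intro a
    have : a + a = 2 * a := by ring
    rw [this, h2, zero_mul]
  refine ⟨hTT, ?_, ?_, hFF, ?_, ?_⟩
  · intro u v
    have h1 := sr_iso_polar Q T hT u (T v)
    rw [hTT] at h1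
    exact h1
  · intro v
    rw [sr_polar_self, h2, zero_mul]
  · intro v
    have : v + v = (2 : F) • v := by rw [two_smul]
    rw [this, h2, zero_smul]
  · intro x
    rw [QuadraticMap.map_add (⇑Q), hT, hFF, zero_add, QuadraticMap.polar_comm]

/-- orthogonality of two spans of pairs -/
theorem h49_ic2_orth_pair (Q : QuadraticForm F V) (x₁ x₂ y₁ y₂ : V)
    (h11 : QuadraticMap.polar Q x₁ y₁ = 0) (h12 : QuadraticMap.polar Q x₁ y₂ = 0)
    (h21 : QuadraticMap.polar Q x₂ y₁ = 0) (h22 : QuadraticMap.polar Q x₂ y₂ = 0) :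
    ∀ u ∈ Submodule.span F {x₁, x₂}, ∀ y ∈ Submodule.span F {y₁, y₂},
      QuadraticMap.polarBilin Q u y = 0 := by
  intro u hu y hy
  obtain ⟨a₁, b₁, rfl⟩ := Submodule.mem_span_pair.mp hu
  obtain ⟨a₂, b₂, rfl⟩ := Submodule.mem_span_pair.mp hy
  rw [QuadraticMap.polarBilin_apply_apply]
  simp only [QuadraticMap.polar_add_left, QuadraticMap.polar_add_right,
    QuadraticMap.polar_smul_left, QuadraticMap.polar_smul_right, h11, h12, h21, h22, smul_zero,
    add_zero]

/-- the invariant nondegenerate plane `⟨v, T v⟩` -/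
theorem h49_ic2_plane (Q : QuadraticForm F V) (h2 : (2 : F) = 0) (T : Module.End F V)
    (hT : ∀ v, Q (T v) = Q v) (hT2 : T * T = 1) (v : V)
    (hv : QuadraticMap.polar Q v (T v) ≠ 0) :
    SpNd (QuadraticMap.polarBilin Q) (Submodule.span F {v, T v}) ∧
      finrank F (Submodule.span F {v, T v}) = 2 ∧
      (∀ w ∈ Submodule.span F {v, T v}, T w ∈ Submodule.span F {v, T v}) := by
  obtain ⟨hTT, hsymT, hself, hFF, hVV, hQN⟩ := h49_ic2_basic Q h2 T hT hT2
  have hD : QuadraticMap.polar Q v v * QuadraticMap.polar Q (T v) (T v)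
      - QuadraticMap.polar Q v (T v) * QuadraticMap.polar Q v (T v) ≠ 0 := by
    rw [hself, zero_mul, zero_sub]
    exact neg_ne_zero.mpr (mul_ne_zero hv hv)
  obtain ⟨hPnd, hPdim⟩ := sr_pair Q v (T v) hD
  refine ⟨hPnd, hPdim, ?_⟩
  intro w hw
  obtain ⟨a, b, rfl⟩ := Submodule.mem_span_pair.mp hw
  rw [map_add, map_smul, map_smul, hTT]
  exact Submodule.mem_span_pair.mpr ⟨b, a, by abel⟩

/-- the invariant nondegenerate 4-space of plus type `⟨v, w, N v, N w⟩`, `N = T + 1` -/
theorem h49_ic2_quad (Q : QuadraticForm F V) (h2 : (2 : F) = 0) (T : Module.End F V)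
    (hT : ∀ v, Q (T v) = Q v) (hT2 : T * T = 1) (X : Submodule F V)
    (hX : SpNd (QuadraticMap.polarBilin Q) X) (hXinv : ∀ x ∈ X, T x ∈ X)
    (ha : ∀ x ∈ X, QuadraticMap.polar Q x (T x) = 0) (hne : ¬ ∀ x ∈ X, T x = x) :
    ∃ Y : Submodule F V, Y ≤ X ∧ SpNd (QuadraticMap.polarBilin Q) Y ∧ finrank F Y = 4 ∧
      (∀ y ∈ Y, T y ∈ Y) ∧ SrPlus Q Y := by
  obtain ⟨hTT, hsymT, hself, hFF, hVV, hQN⟩ := h49_ic2_basic Q h2 T hT hT2
  push Not at hne
  obtain ⟨w, hwX, hw⟩ := hne
  have hNw0 : T w + w ≠ 0 := by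
    intro h
    apply hw
    have e1 : T w = T w + (w + w) := by rw [hVV, add_zero]
    rw [e1, ← add_assoc, h, zero_add]
  have hNwX : T w + w ∈ X := X.add_mem (hXinv w hwX) hwX
  obtain ⟨v, hvX, hv⟩ : ∃ v ∈ X, QuadraticMap.polar Q (T w + w) v ≠ 0 := by
    by_contra hcon
    push Not at hcon
    apply hNw0
    apply hX _ hNwX
    intro v hv
    rw [QuadraticMap.polarBilin_apply_apply]
    exact hcon v hv
  have hNvX : T v + v ∈ X := X.add_mem (hXinv v hvX) hvX
  obtain ⟨c, hc⟩ : ∃ c, c = QuadraticMap.polar Q (T w + w) v := ⟨_, rfl⟩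
  obtain ⟨α, hα⟩ : ∃ α, α = QuadraticMap.polar Q v w := ⟨_, rfl⟩
  have hc0 : c ≠ 0 := by rw [hc]; exact hv
  -- the basic polar values
  have f1 : QuadraticMap.polar Q v (T v + v) = 0 := by
    rw [QuadraticMap.polar_add_right, ha v hvX, hself, add_zero]
  have f2 : QuadraticMap.polar Q w (T w + w) = 0 := by
    rw [QuadraticMap.polar_add_right, ha w hwX, hself, add_zero]
  have f3 : QuadraticMap.polar Q (T v + v) (T w + w) = 0 := by
    rw [QuadraticMap.polar_add_left, QuadraticMap.polar_add_right, QuadraticMap.polar_add_right,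
      sr_iso_polar Q T hT, hsymT v w]
    have e1 : QuadraticMap.polar Q v w + QuadraticMap.polar Q v (T w)
        + (QuadraticMap.polar Q v (T w) + QuadraticMap.polar Q v w)
        = (QuadraticMap.polar Q v w + QuadraticMap.polar Q v w)
          + (QuadraticMap.polar Q v (T w) + QuadraticMap.polar Q v (T w)) := by ring
    rw [e1, hFF, hFF, add_zero]
  have f4 : QuadraticMap.polar Q v (T w + w) = c := by
    rw [hc, QuadraticMap.polar_comm]
  have f5 : QuadraticMap.polar Q w (T v + v) = c := by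
    rw [← f4, QuadraticMap.polar_add_right, QuadraticMap.polar_add_right,
      QuadraticMap.polar_comm (⇑Q) w (T v), hsymT v w, QuadraticMap.polar_comm (⇑Q) w v]
  obtain ⟨w', hw'⟩ : ∃ w', w' = w + (α / c) • (T w + w) := ⟨_, rfl⟩
  have hw'X : w' ∈ X := by
    rw [hw']
    exact X.add_mem hwX (X.smul_mem _ hNwX)
  have g1 : QuadraticMap.polar Q v w' = 0 := by
    rw [hw', QuadraticMap.polar_add_right, QuadraticMap.polar_smul_right, f4, ← hα, smul_eq_mul,
      div_mul_cancel₀ _ hc0, hFF]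
  have g2 : QuadraticMap.polar Q (T w + w) w' = 0 := by
    rw [hw', QuadraticMap.polar_add_right, QuadraticMap.polar_smul_right, hself, smul_zero,
      add_zero, QuadraticMap.polar_comm, f2]
  have g3 : QuadraticMap.polar Q w' (T v + v) = c := by
    rw [hw', QuadraticMap.polar_add_left, QuadraticMap.polar_smul_left, f5,
      QuadraticMap.polar_comm (⇑Q) (T w + w), f3, smul_zero, add_zero]
  have hD1 : QuadraticMap.polar Q v v * QuadraticMap.polar Q (T w + w) (T w + w)
      - QuadraticMap.polar Q v (T w + w) * QuadraticMap.polar Q v (T w + w) ≠ 0 := by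
    rw [hself, zero_mul, zero_sub, f4]
    exact neg_ne_zero.mpr (mul_ne_zero hc0 hc0)
  have hD2 : QuadraticMap.polar Q w' w' * QuadraticMap.polar Q (T v + v) (T v + v)
      - QuadraticMap.polar Q w' (T v + v) * QuadraticMap.polar Q w' (T v + v) ≠ 0 := by
    rw [hself, zero_mul, zero_sub, g3]
    exact neg_ne_zero.mpr (mul_ne_zero hc0 hc0)
  obtain ⟨hP1nd, hP1dim⟩ := sr_pair Q v (T w + w) hD1
  obtain ⟨hP2nd, hP2dim⟩ := sr_pair Q w' (T v + v) hD2
  have f3' : QuadraticMap.polar Q (T w + w) (T v + v) = 0 := by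
    rw [QuadraticMap.polar_comm, f3]
  have horth := h49_ic2_orth_pair Q v (T w + w) w' (T v + v) g1 f1 g2 f3'
  obtain ⟨hYnd, hYdim⟩ := so_sum (QuadraticMap.polarBilin Q) (sr_sym Q) _ _ hP1nd hP2nd horth
  obtain ⟨Y, hYdef⟩ : ∃ Y, Y = Submodule.span F {v, T w + w} ⊔ Submodule.span F {w', T v + v} :=
    ⟨_, rfl⟩
  rw [← hYdef] at hYnd hYdim
  have hvY : v ∈ Y := by
    rw [hYdef]; exact Submodule.mem_sup_left (Submodule.subset_span (by simp))
  have hNwY : T w + w ∈ Y := by
    rw [hYdef]; exact Submodule.mem_sup_left (Submodule.subset_span (by simp))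
  have hw'Y : w' ∈ Y := by
    rw [hYdef]; exact Submodule.mem_sup_right (Submodule.subset_span (by simp))
  have hNvY : T v + v ∈ Y := by
    rw [hYdef]; exact Submodule.mem_sup_right (Submodule.subset_span (by simp))
  have hfixN : ∀ x, T (T x + x) = T x + x := by
    intro x
    rw [map_add, hTT, add_comm]
  have hTv : T v ∈ Y := by
    have e1 : T v = (T v + v) + v := by rw [add_assoc, hVV, add_zero]
    rw [e1]
    exact Y.add_mem hNvY hvY
  have hTw' : T w' ∈ Y := by
    have e1 : T w' = w' + (T w + w) := by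
      rw [hw', map_add, map_smul, hfixN]
      have e2 : w + (α / c) • (T w + w) + (T w + w)
          = T w + (α / c) • (T w + w) + (w + w) := by abel
      rw [e2, hVV, add_zero]
    rw [e1]
    exact Y.add_mem hw'Y hNwY
  refine ⟨Y, ?_, hYnd, ?_, ?_, ?_⟩
  · rw [hYdef]
    apply sup_le
    · rw [Submodule.span_le]
      intro x hx
      rcases hx with hx | hx
      · rw [hx]; exact hvX
      · rw [hx]; exact hNwX
    · rw [Submodule.span_le]
      intro x hx
      rcases hx with hx | hx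
      · rw [hx]; exact hw'X
      · rw [hx]; exact hNvX
  · rw [hYdim, hP1dim, hP2dim]
  · have hle : Y ≤ Y.comap T := by
      conv_lhs => rw [hYdef]
      apply sup_le
      · rw [Submodule.span_le]
        intro x hx
        rcases hx with hx | hx
        · rw [hx]; exact Submodule.mem_comap.mpr hTv
        · rw [hx]
          apply Submodule.mem_comap.mpr
          rw [hfixN]
          exact hNwY
      · rw [Submodule.span_le]
        intro x hx
        rcases hx with hx | hx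
        · rw [hx]; exact Submodule.mem_comap.mpr hTw'
        · rw [hx]
          apply Submodule.mem_comap.mpr
          rw [hfixN]
          exact hNvY
    exact fun y hy => hle hy
  · refine ⟨Submodule.span F {T w + w, T v + v}, ?_, ?_, ?_⟩
    · rw [Submodule.span_le]
      intro x hx
      rcases hx with hx | hx
      · rw [hx]; exact hNwY
      · rw [hx]; exact hNvY
    · intro u hu
      obtain ⟨a, b, rfl⟩ := Submodule.mem_span_pair.mp hu
      rw [QuadraticMap.map_add (⇑Q), QuadraticMap.map_smul, QuadraticMap.map_smul,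
        QuadraticMap.polar_smul_left, QuadraticMap.polar_smul_right, hQN, hQN, ha w hwX,
        ha v hvX, f3']
      simp
    · have hli : LinearIndependent F ![T w + w, T v + v] := by
        rw [LinearIndependent.pair_iff]
        intro s t hst
        have h1 := congrArg (fun z => QuadraticMap.polar Q v z) hst
        have h3 := congrArg (fun z => QuadraticMap.polar Q w z) hst
        simp only [QuadraticMap.polar_add_right, QuadraticMap.polar_smul_right, f4, f1, f2, f5,
          smul_zero, add_zero, zero_add, QuadraticMap.polar_zero_right, smul_eq_mul,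
          mul_zero] at h1 h3
        exact ⟨(mul_eq_zero.mp h1).resolve_right hc0, (mul_eq_zero.mp h3).resolve_right hc0⟩
      have h5 := finrank_span_eq_card hli
      rw [Matrix.range_cons_cons_empty] at h5
      rw [h5, hYdim, hP1dim, hP2dim]
      simp

/-- the family of (dimension, type) pairs that every involutory isometry realizes -/
def IC2Fam (e : ℕ) (ε : ℤ) (M : ℕ) (η : ℤ) : Prop :=
  (ε = 1 ∧ η = 1 ∧ M ≤ e ∧ (M % 2 = 0 ∨ e % 2 = 1)) ∨
  (ε = -1 ∧ η = -1 ∧ 1 ≤ M ∧ M ≤ e ∧ (e % 2 = 0 ∨ M % 2 = 1)) ∨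
  (ε = -1 ∧ η = 1 ∧ M + 1 ≤ e ∧ (e % 2 = 0 ∨ (e - M) % 2 = 1))

theorem h49_ic2_num_X (e M : ℕ) (ε η : ℤ) (he : 2 ≤ e) (hz : e - 2 = 0 → ε = 1)
    (h0 : ¬ (M = 0 ∧ η = 1)) (hX : ¬ (M = e ∧ η = ε)) (hfam : IC2Fam e ε M η) :
    IC2Fam (e - 2) ε M η ∨ (2 ≤ M ∧ IC2Fam (e - 2) ε (M - 2) η) := by
  unfold IC2Fam at hfam ⊢
  rcases hfam with ⟨h1, h2, h3, h4⟩ | ⟨h1, h2, h3, h4, h5⟩ | ⟨h1, h2, h3, h4⟩
  · by_cases hc : M ≤ e - 2
    · exact Or.inl (Or.inl ⟨h1, h2, hc, by omega⟩)
    · exact Or.inr ⟨by omega, Or.inl ⟨h1, h2, by omega, by omega⟩⟩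
  · by_cases hc : M ≤ e - 2
    · exact Or.inl (Or.inr (Or.inl ⟨h1, h2, h3, hc, by omega⟩))
    · exact Or.inr ⟨by omega, Or.inr (Or.inl ⟨h1, h2, by omega, by omega, by omega⟩)⟩
  · by_cases hc : M + 1 ≤ e - 2
    · exact Or.inl (Or.inr (Or.inr ⟨h1, h2, hc, by omega⟩))
    · exact Or.inr ⟨by omega, Or.inr (Or.inr ⟨h1, h2, by omega, by omega⟩)⟩

theorem h49_ic2_num_P (e M : ℕ) (ε ε' η π : ℤ) (hπ : π = 1 ∨ π = -1) (hprod : π * ε' = ε)
    (hε' : ε' = 1 ∨ ε' = -1) (he : 1 ≤ e) (hz : e - 1 = 0 → ε' = 1)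
    (h0 : ¬ (M = 0 ∧ η = 1)) (hX : ¬ (M = e ∧ η = ε)) (hfam : IC2Fam e ε M η) :
    IC2Fam (e - 1) ε' M η ∨ (1 ≤ M ∧ IC2Fam (e - 1) ε' (M - 1) (π * η)) := by
  unfold IC2Fam at hfam ⊢
  rcases hπ with rfl | rfl
  · rcases hfam with ⟨h1, h2, h3, h4⟩ | ⟨h1, h2, h3, h4, h5⟩ | ⟨h1, h2, h3, h4⟩
    · by_cases hc : M % 2 = 0
      · exact Or.inl (Or.inl ⟨by omega, h2, by omega, Or.inl hc⟩)
      · exact Or.inr ⟨by omega, Or.inl ⟨by omega, by omega, by omega, by omega⟩⟩
    · by_cases hc : M % 2 = 1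
      · exact Or.inl (Or.inr (Or.inl ⟨by omega, h2, h3, by omega, Or.inr hc⟩))
      · exact Or.inr ⟨by omega, Or.inr (Or.inl ⟨by omega, by omega, by omega, by omega,
          by omega⟩)⟩
    · by_cases hc : M + 1 ≤ e - 1 ∧ ((e - 1) % 2 = 0 ∨ (e - 1 - M) % 2 = 1)
      · exact Or.inl (Or.inr (Or.inr ⟨by omega, h2, hc.1, hc.2⟩))
      · exact Or.inr ⟨by omega, Or.inr (Or.inr ⟨by omega, by omega, by omega, by omega⟩)⟩
  · rcases hfam with ⟨h1, h2, h3, h4⟩ | ⟨h1, h2, h3, h4, h5⟩ | ⟨h1, h2, h3, h4⟩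
    · by_cases hc : 2 ≤ M
      · exact Or.inr ⟨by omega, Or.inr (Or.inl ⟨by omega, by omega, by omega, by omega,
          by omega⟩)⟩
      · exact Or.inl (Or.inr (Or.inr ⟨by omega, h2, by omega, by omega⟩))
    · exact Or.inr ⟨by omega, Or.inl ⟨by omega, by omega, by omega, by omega⟩⟩
    · exact Or.inl (Or.inl ⟨by omega, h2, by omega, by omega⟩)

/-- invariant nondegenerate subspaces of prescribed dimension and type, for an involutory
isometry in characteristic 2 (`hPT` is the statement of `sre_plus_ty`) -/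
theorem h49_ic2_suff (Q : QuadraticForm F V) (h2 : (2 : F) = 0) (T : Module.End F V)
    (hT : ∀ v, Q (T v) = Q v) (hT2 : T * T = 1)
    (hPT : ∀ W : Submodule F V, SpNd (QuadraticMap.polarBilin Q) W → SrPlus Q W → SrTy Q W 1) :
    ∀ (e : ℕ) (X : Submodule F V), SpNd (QuadraticMap.polarBilin Q) X → (∀ x ∈ X, T x ∈ X) →
      finrank F X = 2 * e → ∀ ε : ℤ, SrTy Q X ε → ∀ (M : ℕ) (η : ℤ), IC2Fam e ε M η →
      ∃ W : Submodule F V, W ≤ X ∧ SpNd (QuadraticMap.polarBilin Q) W ∧ (∀ w ∈ W, T w ∈ W) ∧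
        finrank F W = 2 * M ∧ SrTy Q W η := by
  have hT2' : T ^ 2 = 1 := by rw [pow_two]; exact hT2
  intro e
  induction e using Nat.strong_induction_on with
  | _ e ih =>
  intro X hX hXinv hdim ε hty M η hfam
  by_cases htriv0 : M = 0 ∧ η = 1
  · obtain ⟨rfl, rfl⟩ := htriv0
    refine ⟨⊥, bot_le, ?_, ?_, by rw [finrank_bot], h49_sre_ty_bot Q⟩
    · intro u hu _
      exact (Submodule.mem_bot F).mp hu
    · intro w hw
      rw [(Submodule.mem_bot F).mp hw, map_zero]
      exact Submodule.zero_mem _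
  by_cases htrivX : M = e ∧ η = ε
  · obtain ⟨rfl, rfl⟩ := htrivX
    exact ⟨X, le_refl _, hX, hXinv, hdim, hty⟩
  have hη : η = 1 ∨ η = -1 := by
    unfold IC2Fam at hfam
    omega
  by_cases hfix : ∀ x ∈ X, T x = x
  · have hlt : M < e := by
      unfold IC2Fam at hfam
      omega
    have hM1 : η = -1 → 1 ≤ M := by
      unfold IC2Fam at hfam
      omega
    obtain ⟨W, hWX, hWnd, hWdim, hWty⟩ := Cfsg.Agent.Lib.helper25.sre_exists_ty Q η hη M e X hX hdim hlt hM1
    exact ⟨W, hWX, hWnd, fun w hw => by rw [hfix w (hWX hw)]; exact hw, hWdim, hWty⟩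
  by_cases ha : ∀ x ∈ X, QuadraticMap.polar Q x (T x) = 0
  · -- split off a 4-space of plus type
    obtain ⟨Y, hYX, hYnd, hYdim, hYinv, hYpl⟩ := h49_ic2_quad Q h2 T hT hT2 X hX hXinv ha hfix
    have hYty : SrTy Q Y 1 := hPT Y hYnd hYpl
    obtain ⟨hX'nd, hsup, hinf, hdim'⟩ :=
      so_rel (QuadraticMap.polarBilin Q) (sr_sym Q) X Y hX hYnd hYX
    obtain ⟨X', hX'def⟩ : ∃ X', X' = spPerp (QuadraticMap.polarBilin Q) Y ⊓ X := ⟨_, rfl⟩
    rw [← hX'def] at hX'nd hsup hinf hdim'
    have he2 : 2 ≤ e := by omega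
    have hX'dim : finrank F X' = 2 * (e - 2) := by omega
    have hX'inv : ∀ x ∈ X', T x ∈ X' := by
      rw [hX'def]
      exact sr_perp_inv2 Q T hT 2 (by norm_num) hT2' Y X hYinv hXinv
    have hX'X : X' ≤ X := by rw [hX'def]; exact inf_le_right
    have horth : ∀ u ∈ Y, ∀ w ∈ X', QuadraticMap.polar Q u w = 0 := by
      intro u hu w hw
      rw [hX'def] at hw
      have := (Submodule.mem_inf.mp hw).1 u hu
      rwa [QuadraticMap.polarBilin_apply_apply] at this
    obtain ⟨ε', hε', hX'ty⟩ : ∃ ε' : ℤ, (ε' = 1 ∨ ε' = -1) ∧ SrTy Q X' ε' := by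
      rcases sr_ty_or Q X' hX'nd (e - 2) hX'dim with h | h
      · exact ⟨1, Or.inl rfl, h⟩
      · exact ⟨-1, Or.inr rfl, h⟩
    have hεε' : ε' = ε := by
      have hsum := sr_ty_sum Q Y X' horth hinf 1 ε' hYty hX'ty (by rw [hYdim]; decide)
        (by rw [hX'dim]; exact even_two_mul _)
      rw [hsup, one_mul] at hsum
      exact h49_ic2_ty_unique Q X ε' ε hsum hty
    have hzero : e - 2 = 0 → ε = 1 := by
      intro h0
      have hbot : X' = ⊥ := Submodule.finrank_eq_zero.mp (by rw [hX'dim, h0])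
      rw [hbot, hεε'] at hX'ty
      exact h49_ic2_ty_unique Q ⊥ ε 1 hX'ty (h49_sre_ty_bot Q)
    rw [hεε'] at hX'ty
    rcases h49_ic2_num_X e M ε η he2 hzero htriv0 htrivX hfam with hn | ⟨hM2, hn⟩
    · obtain ⟨W, hWX', hWnd, hWinv, hWdim, hWty⟩ :=
        ih (e - 2) (by omega) X' hX'nd hX'inv hX'dim ε hX'ty M η hn
      exact ⟨W, hWX'.trans hX'X, hWnd, hWinv, hWdim, hWty⟩
    · obtain ⟨W, hWX', hWnd, hWinv, hWdim, hWty⟩ :=
        ih (e - 2) (by omega) X' hX'nd hX'inv hX'dim ε hX'ty (M - 2) η hn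
      have horthW : ∀ u ∈ Y, ∀ w ∈ W, QuadraticMap.polar Q u w = 0 :=
        fun u hu w hw => horth u hu w (hWX' hw)
      have hdisW : Y ⊓ W = ⊥ := by
        rw [eq_bot_iff, ← hinf]
        exact inf_le_inf_left Y hWX'
      obtain ⟨hSnd, hSdim⟩ := so_sum (QuadraticMap.polarBilin Q) (sr_sym Q) Y W hYnd hWnd
        (by
          intro u hu w hw
          rw [QuadraticMap.polarBilin_apply_apply]
          exact horthW u hu w hw)
      have hSty := sr_ty_sum Q Y W horthW hdisW 1 η hYty hWty (by rw [hYdim]; decide)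
        (by rw [hWdim]; exact even_two_mul _)
      rw [one_mul] at hSty
      refine ⟨Y ⊔ W, sup_le hYX (hWX'.trans hX'X), hSnd, ?_, ?_, hSty⟩
      · intro w hw
        obtain ⟨y, hy, w', hw', rfl⟩ := Submodule.mem_sup.mp hw
        rw [map_add]
        exact Submodule.add_mem _ (Submodule.mem_sup_left (hYinv y hy))
          (Submodule.mem_sup_right (hWinv w' hw'))
      · rw [hSdim, hYdim, hWdim]
        omega
  · -- split off a plane
    push Not at ha
    obtain ⟨v, hvX, hv⟩ := ha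
    obtain ⟨hPnd, hPdim, hPinv⟩ := h49_ic2_plane Q h2 T hT hT2 v hv
    obtain ⟨P, hPdef⟩ : ∃ P, P = Submodule.span F {v, T v} := ⟨_, rfl⟩
    rw [← hPdef] at hPnd hPdim hPinv
    have hPX : P ≤ X := by
      rw [hPdef, Submodule.span_le]
      intro x hx
      rcases hx with hx | hx
      · rw [hx]; exact hvX
      · rw [hx]; exact hXinv v hvX
    obtain ⟨π, hπ, hPty⟩ : ∃ π : ℤ, (π = 1 ∨ π = -1) ∧ SrTy Q P π := by
      rcases sr_ty_or Q P hPnd 1 (by rw [hPdim]) with h | h
      · exact ⟨1, Or.inl rfl, h⟩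
      · exact ⟨-1, Or.inr rfl, h⟩
    obtain ⟨hX'nd, hsup, hinf, hdim'⟩ :=
      so_rel (QuadraticMap.polarBilin Q) (sr_sym Q) X P hX hPnd hPX
    obtain ⟨X', hX'def⟩ : ∃ X', X' = spPerp (QuadraticMap.polarBilin Q) P ⊓ X := ⟨_, rfl⟩
    rw [← hX'def] at hX'nd hsup hinf hdim'
    have he1 : 1 ≤ e := by omega
    have hX'dim : finrank F X' = 2 * (e - 1) := by omega
    have hX'inv : ∀ x ∈ X', T x ∈ X' := by
      rw [hX'def]
      exact sr_perp_inv2 Q T hT 2 (by norm_num) hT2' P X hPinv hXinv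
    have hX'X : X' ≤ X := by rw [hX'def]; exact inf_le_right
    have horth : ∀ u ∈ P, ∀ w ∈ X', QuadraticMap.polar Q u w = 0 := by
      intro u hu w hw
      rw [hX'def] at hw
      have := (Submodule.mem_inf.mp hw).1 u hu
      rwa [QuadraticMap.polarBilin_apply_apply] at this
    obtain ⟨ε', hε', hX'ty⟩ : ∃ ε' : ℤ, (ε' = 1 ∨ ε' = -1) ∧ SrTy Q X' ε' := by
      rcases sr_ty_or Q X' hX'nd (e - 1) hX'dim with h | h
      · exact ⟨1, Or.inl rfl, h⟩
      · exact ⟨-1, Or.inr rfl, h⟩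
    have hprod : π * ε' = ε := by
      have hsum := sr_ty_sum Q P X' horth hinf π ε' hPty hX'ty (by rw [hPdim]; decide)
        (by rw [hX'dim]; exact even_two_mul _)
      rw [hsup] at hsum
      exact h49_ic2_ty_unique Q X (π * ε') ε hsum hty
    have hzero : e - 1 = 0 → ε' = 1 := by
      intro h0
      have hbot : X' = ⊥ := Submodule.finrank_eq_zero.mp (by rw [hX'dim, h0])
      rw [hbot] at hX'ty
      exact h49_ic2_ty_unique Q ⊥ ε' 1 hX'ty (h49_sre_ty_bot Q)
    rcases h49_ic2_num_P e M ε ε' η π hπ hprod hε' he1 hzero htriv0 htrivX hfam with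
      hn | ⟨hM1, hn⟩
    · obtain ⟨W, hWX', hWnd, hWinv, hWdim, hWty⟩ :=
        ih (e - 1) (by omega) X' hX'nd hX'inv hX'dim ε' hX'ty M η hn
      exact ⟨W, hWX'.trans hX'X, hWnd, hWinv, hWdim, hWty⟩
    · obtain ⟨W, hWX', hWnd, hWinv, hWdim, hWty⟩ :=
        ih (e - 1) (by omega) X' hX'nd hX'inv hX'dim ε' hX'ty (M - 1) (π * η) hn
      have horthW : ∀ u ∈ P, ∀ w ∈ W, QuadraticMap.polar Q u w = 0 :=
        fun u hu w hw => horth u hu w (hWX' hw)
      have hdisW : P ⊓ W = ⊥ := by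
        rw [eq_bot_iff, ← hinf]
        exact inf_le_inf_left P hWX'
      obtain ⟨hSnd, hSdim⟩ := so_sum (QuadraticMap.polarBilin Q) (sr_sym Q) P W hPnd hWnd
        (by
          intro u hu w hw
          rw [QuadraticMap.polarBilin_apply_apply]
          exact horthW u hu w hw)
      have hSty := sr_ty_sum Q P W horthW hdisW π (π * η) hPty hWty (by rw [hPdim]; decide)
        (by rw [hWdim]; exact even_two_mul _)
      have hππ : π * (π * η) = η := by
        rcases hπ with rfl | rfl <;> ring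
      rw [hππ] at hSty
      refine ⟨P ⊔ W, sup_le hPX (hWX'.trans hX'X), hSnd, ?_, ?_, hSty⟩
      · intro w hw
        obtain ⟨y, hy, w', hw', rfl⟩ := Submodule.mem_sup.mp hw
        rw [map_add]
        exact Submodule.add_mem _ (Submodule.mem_sup_left (hPinv y hy))
          (Submodule.mem_sup_right (hWinv w' hw'))
      · rw [hSdim, hPdim, hWdim]
        omega

end ic2

end Cfsg.Agent.Lib.helper49
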