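import Mathlib
import Cfsg.Agent.Lib.helper49.InvC2A

/-!
helper49: involutory isometries in characteristic 2, part B: the obstructions
(`h49_ic2_dvd4`, `h49_ic2_plus_of`) and the matrix form of `h49_ic2_suff` (`h49_ic2_mat_suff`).
-/

set_option autoImplicit false
set_option linter.unusedSectionVars false
set_option linter.unusedVariables false

namespace Cfsg.Agent.Lib.helper49

open Module Cfsg.Agent.Lib.helper24 Cfsg.Agent.Lib.helper45

universe u

section ic2b

variable {F : Type u} [Field F] [Fintype F]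
variable {V : Type u} [AddCommGroup V] [Module F V] [FiniteDimensional F V]

/-- If all fixed vectors of the involutory isometry `T` in the invariant nondegenerate subspace
`W` are singular, then `4 ∣ dim W`. -/
theorem h49_ic2_dvd4 (Q : QuadraticForm F V) (h2 : (2 : F) = 0) (T : Module.End F V)
    (hT : ∀ v, Q (T v) = Q v) (hT2 : T * T = 1) :
    ∀ (n : ℕ) (W : Submodule F V), finrank F W = n → SpNd (QuadraticMap.polarBilin Q) W →
      (∀ w ∈ W, T w ∈ W) → (∀ x ∈ W, T x = x → Q x = 0) → 4 ∣ n := by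
  obtain ⟨hTT, hsymT, hself, hFF, hVV, hQN⟩ := h49_ic2_basic Q h2 T hT hT2
  have hT2' : T ^ 2 = 1 := by rw [pow_two]; exact hT2
  intro n
  induction n using Nat.strong_induction_on with
  | _ n ih =>
  intro W hdim hW hWinv hsing
  have ha : ∀ x ∈ W, QuadraticMap.polar Q x (T x) = 0 := by
    intro x hx
    rw [← hQN]
    apply hsing _ (W.add_mem (hWinv x hx) hx)
    rw [map_add, hTT, add_comm]
  by_cases hfix : ∀ x ∈ W, T x = x
  · have hbot : W = ⊥ := by
      by_contra hne
      obtain ⟨z, hz, hQz⟩ := sr_exists_nonsing Q W hW hne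
      exact hQz (hsing z hz (hfix z hz))
    rw [hbot, finrank_bot] at hdim
    rw [← hdim]
    exact dvd_zero 4
  · obtain ⟨Y, hYW, hYnd, hYdim, hYinv, hYpl⟩ := h49_ic2_quad Q h2 T hT hT2 W hW hWinv ha hfix
    obtain ⟨hW'nd, hsup, hinf, hdim'⟩ :=
      so_rel (QuadraticMap.polarBilin Q) (sr_sym Q) W Y hW hYnd hYW
    have hW'inv := sr_perp_inv2 Q T hT 2 (by norm_num) hT2' Y W hYinv hWinv
    have h4 := ih (finrank F ↥(spPerp (QuadraticMap.polarBilin Q) Y ⊓ W)) (by omega) _ rfl
      hW'nd hW'inv (fun x hx => hsing x (Submodule.mem_inf.mp hx).2)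
    omega

/-- If `polar x (T x) = 0` on the invariant nondegenerate subspace `W` of dimension `4 n`, and
nondegenerate subspaces fixed pointwise by `T` have dimension at most 2, then `W` is of plus
type. -/
theorem h49_ic2_plus_of (Q : QuadraticForm F V) (h2 : (2 : F) = 0) (T : Module.End F V)
    (hT : ∀ v, Q (T v) = Q v) (hT2 : T * T = 1)
    (hsmall : ∀ Z : Submodule F V, SpNd (QuadraticMap.polarBilin Q) Z → (∀ z ∈ Z, T z = z) →
      finrank F Z ≤ 2) :
    ∀ (n : ℕ) (W : Submodule F V), finrank F W = 4 * n → SpNd (QuadraticMap.polarBilin Q) W →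
      (∀ w ∈ W, T w ∈ W) → (∀ x ∈ W, QuadraticMap.polar Q x (T x) = 0) → SrPlus Q W := by
  have hT2' : T ^ 2 = 1 := by rw [pow_two]; exact hT2
  intro n
  induction n with
  | zero =>
    intro W hdim hW hWinv ha
    refine ⟨⊥, bot_le, ?_, ?_⟩
    · intro u hu
      rw [(Submodule.mem_bot F).mp hu, map_zero]
    · rw [finrank_bot, hdim]
  | succ n ih =>
    intro W hdim hW hWinv ha
    by_cases hfix : ∀ x ∈ W, T x = x
    · have := hsmall W hW hfix
      omega
    · obtain ⟨Y, hYW, hYnd, hYdim, hYinv, U, hUY, hUs, hUdim⟩ :=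
        h49_ic2_quad Q h2 T hT hT2 W hW hWinv ha hfix
      obtain ⟨hW'nd, hsup, hinf, hdim'⟩ :=
        so_rel (QuadraticMap.polarBilin Q) (sr_sym Q) W Y hW hYnd hYW
      have hW'inv := sr_perp_inv2 Q T hT 2 (by norm_num) hT2' Y W hYinv hWinv
      obtain ⟨U', hU'W', hU's, hU'dim⟩ := ih (spPerp (QuadraticMap.polarBilin Q) Y ⊓ W)
        (by omega) hW'nd hW'inv (fun x hx => ha x (Submodule.mem_inf.mp hx).2)
      refine ⟨U ⊔ U', sup_le (hUY.trans hYW) (hU'W'.trans inf_le_right), ?_, ?_⟩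
      · intro u hu
        obtain ⟨a, ha', b, hb, rfl⟩ := Submodule.mem_sup.mp hu
        rw [QuadraticMap.map_add (⇑Q), hUs a ha', hU's b hb, zero_add, zero_add]
        have := (Submodule.mem_inf.mp (hU'W' hb)).1 a (hUY ha')
        rwa [QuadraticMap.polarBilin_apply_apply] at this
      · have hdis : U ⊓ U' = ⊥ := by
          rw [eq_bot_iff, ← hinf]
          exact inf_le_inf hUY hU'W'
        have h5 := Submodule.finrank_sup_add_finrank_inf_eq U U'
        rw [hdis, finrank_bot, add_zero] at h5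
        rw [h5]
        omega

end ic2b

section mat

open Matrix

variable {F : Type u} [Field F] [Fintype F]

/-- rank of a block-diagonal matrix (copy of `Cfsg.Agent.Lib.helper48.rank_fromBlocks_diag`, to
avoid its imports) -/
theorem h49_rank_fromBlocks_diag {α β : Type*} [Fintype α] [Fintype β] [DecidableEq α]
    [DecidableEq β] (A : Matrix α α F) (D : Matrix β β F) :
    (Matrix.fromBlocks A 0 0 D).rank = A.rank + D.rank := by
  classical
  let Φ : (LinearMap.range A.mulVecLin × LinearMap.range D.mulVecLin) →ₗ[F] (α ⊕ β → F) :=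
    { toFun := fun x => Sum.elim x.1.1 x.2.1
      map_add' := by
        intro x y
        funext i
        rcases i with i | i <;> rfl
      map_smul' := by
        intro c x
        funext i
        rcases i with i | i <;> rfl }
  have hinj : Function.Injective Φ := by
    intro x y h
    have h1 : (x.1 : α → F) = y.1 := by funext i; exact congrFun h (Sum.inl i)
    have h2 : (x.2 : β → F) = y.2 := by funext i; exact congrFun h (Sum.inr i)
    exact Prod.ext (Subtype.ext h1) (Subtype.ext h2)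
  have hrange : LinearMap.range Φ = LinearMap.range (Matrix.fromBlocks A 0 0 D).mulVecLin := by
    ext w
    constructor
    · rintro ⟨⟨⟨u, a, rfl⟩, ⟨w', b, rfl⟩⟩, rfl⟩
      refine ⟨Sum.elim a b, ?_⟩
      show (Matrix.fromBlocks A 0 0 D) *ᵥ (Sum.elim a b) = Sum.elim (A *ᵥ a) (D *ᵥ b)
      rw [Matrix.fromBlocks_mulVec]
      simp
    · rintro ⟨v, rfl⟩
      refine ⟨(⟨A *ᵥ (v ∘ Sum.inl), _, rfl⟩, ⟨D *ᵥ (v ∘ Sum.inr), _, rfl⟩), ?_⟩
      show Sum.elim (A *ᵥ (v ∘ Sum.inl)) (D *ᵥ (v ∘ Sum.inr)) = (Matrix.fromBlocks A 0 0 D) *ᵥ v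
      conv_rhs => rw [← Sum.elim_comp_inl_inr v]
      rw [Matrix.fromBlocks_mulVec]
      simp
  unfold Matrix.rank
  rw [← hrange, LinearMap.finrank_range_of_inj hinj, Module.finrank_prod]

/-- matrix form of `h49_ic2_suff` on the whole space `ι → F` -/
theorem h49_ic2_mat_suff {ι : Type} [Fintype ι] [DecidableEq ι] (h2 : (2 : F) = 0)
    (Q : QuadraticForm F (ι → F)) (hnd : (QuadraticMap.polarBilin Q).Nondegenerate)
    (hPT : ∀ W : Submodule F (ι → F), SpNd (QuadraticMap.polarBilin Q) W → SrPlus Q W →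
      SrTy Q W 1)
    (e : ℕ) (hι : Fintype.card ι = 2 * e) (ε : ℤ)
    (hty : Unif (ε * (Fintype.card F : ℤ) ^ e) (fun a : F => Nat.card {v : ι → F // Q v = a}))
    (x : Matrix ι ι F) (hiso : ∀ v, Q (x *ᵥ v) = Q v) (hxx : x * x = 1) (M : ℕ) (η : ℤ)
    (hfam : IC2Fam e ε M η) :
    ∃ W : Submodule F (ι → F), SpNd (QuadraticMap.polarBilin Q) W ∧ finrank F W = 2 * M ∧
      SrTy Q W η ∧ W.map (Matrix.toLin' x) ≤ W := by
  have hT : ∀ v, Q (Matrix.toLin' x v) = Q v := by
    intro v
    rw [Matrix.toLin'_apply]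
    exact hiso v
  have hT2 : (Matrix.toLin' x : Module.End F (ι → F)) * Matrix.toLin' x = 1 := by
    rw [Module.End.mul_eq_comp, ← Matrix.toLin'_mul, hxx, Matrix.toLin'_one]
    rfl
  have hnd' := forall_of_nondegenerate Q hnd
  have htop : SpNd (QuadraticMap.polarBilin Q) (⊤ : Submodule F (ι → F)) := by
    intro u _ hu
    apply hnd' u
    intro w
    have := hu w Submodule.mem_top
    rwa [QuadraticMap.polarBilin_apply_apply] at this
  have hdim : finrank F (⊤ : Submodule F (ι → F)) = 2 * e := by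
    rw [finrank_top, Module.finrank_fintype_fun_eq_card, hι]
  have htyt : SrTy Q (⊤ : Submodule F (ι → F)) ε := by
    unfold SrTy
    rw [sro_nu_top, hdim, Nat.mul_div_cancel_left _ (by norm_num : 0 < 2)]
    exact hty
  obtain ⟨W, -, hWnd, hWinv, hWdim, hWty⟩ := h49_ic2_suff Q h2 (Matrix.toLin' x) hT hT2 hPT e ⊤
    htop (fun x _ => Submodule.mem_top) hdim ε htyt M η hfam
  refine ⟨W, hWnd, hWdim, hWty, ?_⟩
  rintro _ ⟨w, hw, rfl⟩
  exact hWinv w hw

end mat

end Cfsg.Agent.Lib.helper49
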