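import Mathlib
import Cfsg.Agent.Lib.helper49.InvC2B
import Cfsg.Agent.Lib.helper99.SrePT
import Cfsg.Agent.Lib.helper7.NonsingMinus

/-!
helper49: the `r = p = 2` clause of S5974 (`Ω⁺_{2d}(q)`, `q` even, hyperbolic `m`-spaces):
`s74_invol_suff`, `s74_invol_nec`; and two general helpers `h49_ic2_sq_one`, `h49_ic2_toLin`.
-/

set_option autoImplicit false
set_option linter.unusedSectionVars false
set_option linter.unusedVariables false

namespace Cfsg.Agent.Lib.helper49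

open Module Matrix Cfsg.Agent.Lib.helper24 Cfsg.Agent.Lib.helper45

universe u

section ic2p

variable {F : Type u} [Field F] [Fintype F]

/-- an isometry with scalar square is an involution, in characteristic 2 -/
theorem h49_ic2_sq_one {ι : Type} [Fintype ι] [DecidableEq ι] [Nonempty ι] (h2 : (2 : F) = 0)
    (Q : QuadraticForm F (ι → F)) (hnd : (QuadraticMap.polarBilin Q).Nondegenerate)
    (x : GL ι F) (hiso : ∀ v, Q ((x : Matrix ι ι F) *ᵥ v) = Q v)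
    (hx2 : ∃ z : F, ((x ^ 2 : GL ι F) : Matrix ι ι F) = z • (1 : Matrix ι ι F)) :
    (x : Matrix ι ι F) * (x : Matrix ι ι F) = 1 := by
  obtain ⟨z, hz⟩ := hx2
  rw [Units.val_pow_eq_pow_val, pow_two] at hz
  have hnd' := forall_of_nondegenerate Q hnd
  have htop : SpNd (QuadraticMap.polarBilin Q) (⊤ : Submodule F (ι → F)) := by
    intro u _ hu
    apply hnd' u
    intro w
    have := hu w Submodule.mem_top
    rwa [QuadraticMap.polarBilin_apply_apply] at this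
  obtain ⟨u, -, hu⟩ := sr_exists_nonsing Q ⊤ htop top_ne_bot
  exact Cfsg.Agent.Lib.helper7.NonsingPt.sq_eq_one_of_scalar h2 Q _ hiso u hu z hz

/-- the endomorphism of an involutory isometry matrix -/
theorem h49_ic2_toLin {ι : Type} [Fintype ι] [DecidableEq ι] (Q : QuadraticForm F (ι → F))
    (x : Matrix ι ι F) (hiso : ∀ v, Q (x *ᵥ v) = Q v) (hxx : x * x = 1) :
    (∀ v, Q (Matrix.toLin' x v) = Q v) ∧
      (Matrix.toLin' x : Module.End F (ι → F)) * Matrix.toLin' x = 1 := by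
  refine ⟨?_, ?_⟩
  · intro v
    rw [Matrix.toLin'_apply]
    exact hiso v
  · rw [Module.End.mul_eq_comp, ← Matrix.toLin'_mul, hxx, Matrix.toLin'_one]
    rfl

/-- S5974, `r = p = 2`, sufficiency: if `2d ≡ 2 (mod 4)` or `4 ∣ m`, every element of `Ω⁺_{2d}(q)`
(`q` even) with scalar square fixes a hyperbolic `m`-space. -/
theorem s74_invol_suff (h2 : (2 : F) = 0) (d m : ℕ) (hd : 4 ≤ d) (hm : 2 ≤ m) (hme : Even m)
    (hmd : m < d) (hcond : (2 * d) % 4 = 2 ∨ m % 4 = 0)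
    (x : GL (Fin d ⊕ Fin d) F) (hx : x ∈ Cfsg.Geo.omegaGL (Cfsg.quadFormPlus d F))
    (hx2 : ∃ z : F, ((x ^ 2 : GL (Fin d ⊕ Fin d) F) : Matrix (Fin d ⊕ Fin d) (Fin d ⊕ Fin d) F)
      = z • (1 : Matrix (Fin d ⊕ Fin d) (Fin d ⊕ Fin d) F)) :
    ∃ W : Submodule F (Fin d ⊕ Fin d → F), (Module.finrank F ↥W = m ∧
        (∀ u ∈ W, u ≠ 0 → ∃ v ∈ W, QuadraticMap.polar (Cfsg.quadFormPlus d F) u v ≠ 0) ∧
          ∃ U : Submodule F (Fin d ⊕ Fin d → F), U ≤ W ∧ 2 * Module.finrank F ↥U = m ∧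
            ∀ u ∈ U, Cfsg.quadFormPlus d F u = 0) ∧
        W.map (Matrix.toLin' (x : Matrix (Fin d ⊕ Fin d) (Fin d ⊕ Fin d) F)) ≤ W := by
  classical
  haveI : Nonempty (Fin d ⊕ Fin d) := ⟨Sum.inl ⟨0, by omega⟩⟩
  have hiso : ∀ v, plusForm d F ((x : Matrix (Fin d ⊕ Fin d) (Fin d ⊕ Fin d) F) *ᵥ v)
      = plusForm d F v := (Cfsg.Agent.Lib.helper7.NonsingPt.of_mem_omegaGL_plus h2 d hd x hx).1
  have hnd := Cfsg.Agent.Lib.helper42.plusForm_nondegenerate (F := F) d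
  have hxx := h49_ic2_sq_one h2 (plusForm d F) hnd x hiso hx2
  obtain ⟨k, hk⟩ := hme
  have hι : Fintype.card (Fin d ⊕ Fin d) = 2 * d := by
    rw [Fintype.card_sum, Fintype.card_fin]
    omega
  have hty : Unif ((1 : ℤ) * (Fintype.card F : ℤ) ^ d)
      (fun a : F => Nat.card {v : Fin d ⊕ Fin d → F // plusForm d F v = a}) := by
    rw [one_mul]
    exact unif_plus_std d
  obtain ⟨W, hWnd, hWdim, hWty, hWinv⟩ := h49_ic2_mat_suff h2 (plusForm d F) hnd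
    (fun W hW hpl => Cfsg.Agent.Lib.helper99.sre_plus_ty (plusForm d F) W hW hpl) d hι 1 hty
    (x : Matrix (Fin d ⊕ Fin d) (Fin d ⊕ Fin d) F) hiso hxx k 1
    (Or.inl ⟨rfl, rfl, by omega, by omega⟩)
  have hWm : finrank F W = m := by omega
  obtain ⟨U, hUW, hUs, hUdim⟩ := sr_ty_plus (plusForm d F) W hWnd
    (by rw [hWdim]; exact even_two_mul k) hWty
  refine ⟨W, ⟨hWm, ?_, U, hUW, by omega, hUs⟩, hWinv⟩
  intro u hu hu0
  by_contra hcon
  push Not at hcon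
  apply hu0
  apply hWnd u hu
  intro v hv
  rw [QuadraticMap.polarBilin_apply_apply]
  exact hcon v hv

/-- S5974, `r = p = 2`, necessity: for `d` even and `m ≡ 2 (mod 4)` there is an involution in
`Ω⁺_{2d}(q)` (`q` even) without any invariant nondegenerate `m`-space. -/
theorem s74_invol_nec (h2 : (2 : F) = 0) (d m : ℕ) (hd : 4 ≤ d) (hde : Even d)
    (hm4 : m % 4 = 2) :
    ∃ x : GL (Fin d ⊕ Fin d) F, x ∈ Cfsg.Geo.omegaGL (Cfsg.quadFormPlus d F) ∧ x ^ 2 = 1 ∧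
      (∀ z : F, (x : Matrix (Fin d ⊕ Fin d) (Fin d ⊕ Fin d) F)
        ≠ z • (1 : Matrix (Fin d ⊕ Fin d) (Fin d ⊕ Fin d) F)) ∧
      ∀ W : Submodule F (Fin d ⊕ Fin d → F), Module.finrank F ↥W = m →
        (∀ u ∈ W, u ≠ 0 → ∃ v ∈ W, QuadraticMap.polar (Cfsg.quadFormPlus d F) u v ≠ 0) →
        ¬ W.map (Matrix.toLin' (x : Matrix (Fin d ⊕ Fin d) (Fin d ⊕ Fin d) F)) ≤ W := by
  classical
  obtain ⟨x, hxΩ, hx2, hxns, hxfix⟩ := Cfsg.Agent.Lib.helper7.NonsingPt.plus_invol h2 d hd hde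
  refine ⟨x, hxΩ, hx2, hxns, ?_⟩
  intro W hWm hWnd hWinv
  have hiso : ∀ v, plusForm d F ((x : Matrix (Fin d ⊕ Fin d) (Fin d ⊕ Fin d) F) *ᵥ v)
      = plusForm d F v := (Cfsg.Agent.Lib.helper7.NonsingPt.of_mem_omegaGL_plus h2 d hd x hxΩ).1
  have hxx : (x : Matrix (Fin d ⊕ Fin d) (Fin d ⊕ Fin d) F)
      * (x : Matrix (Fin d ⊕ Fin d) (Fin d ⊕ Fin d) F) = 1 := by
    have := congrArg Units.val hx2
    rwa [Units.val_pow_eq_pow_val, pow_two, Units.val_one] at this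
  obtain ⟨hT, hT2⟩ := h49_ic2_toLin (plusForm d F) _ hiso hxx
  have hW : SpNd (QuadraticMap.polarBilin (plusForm d F)) W := by
    intro u hu hu2
    by_contra hu0
    obtain ⟨v, hv, hne⟩ := hWnd u hu hu0
    apply hne
    have := hu2 v hv
    rwa [QuadraticMap.polarBilin_apply_apply] at this
  have h4 := h49_ic2_dvd4 (plusForm d F) h2 _ hT hT2 m W hWm hW
    (fun w hw => hWinv ⟨w, hw, rfl⟩)
    (fun v hv hfix => hxfix v (by rw [← Matrix.toLin'_apply]; exact hfix))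
  omega

end ic2p

end Cfsg.Agent.Lib.helper49
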