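import Mathlib
import Cfsg.Agent.Lib.helper49.InvC2P

/-!
helper49: the `r = p = 2` clause of S5990 (`Ω⁻_{2d}(q)`, `q` even, elliptic `m`-spaces):
`s90_invol_suff`, `s90_invol_nec`.
-/

set_option autoImplicit false
set_option linter.unusedSectionVars false
set_option linter.unusedVariables false

namespace Cfsg.Agent.Lib.helper49

open Module Matrix Cfsg.Agent.Lib.helper24 Cfsg.Agent.Lib.helper45

universe u

section ic2m

variable {F : Type u} [Field F] [Fintype F]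

/-- S5990, `r = p = 2`, sufficiency: if `d` is even or `m ≡ 2 (mod 4)`, every element of
`Ω⁻_{2d}(q)` (`q` even) with scalar square fixes an elliptic `m`-space. -/
theorem s90_invol_suff (h2 : (2 : F) = 0) (d m : ℕ) (hd : 4 ≤ d) (hm : 2 ≤ m) (hme : Even m)
    (hmn : m + 2 ≤ 2 * d) (a b : F)
    (hab : ∀ x y : F, x ^ 2 + a * x * y + b * y ^ 2 = 0 → x = 0 ∧ y = 0)
    (hcond : Even d ∨ m % 4 = 2)
    (x : GL ((Fin (d - 1) ⊕ Fin (d - 1)) ⊕ Fin 2) F)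
    (hx : x ∈ Cfsg.Geo.omegaGL (Cfsg.quadFormMinus (d - 1) F a b))
    (hx2 : ∃ z : F, ((x ^ 2 : GL ((Fin (d - 1) ⊕ Fin (d - 1)) ⊕ Fin 2) F) :
        Matrix ((Fin (d - 1) ⊕ Fin (d - 1)) ⊕ Fin 2) ((Fin (d - 1) ⊕ Fin (d - 1)) ⊕ Fin 2) F)
      = z • (1 : Matrix ((Fin (d - 1) ⊕ Fin (d - 1)) ⊕ Fin 2)
          ((Fin (d - 1) ⊕ Fin (d - 1)) ⊕ Fin 2) F)) :
    ∃ W : Submodule F ((Fin (d - 1) ⊕ Fin (d - 1)) ⊕ Fin 2 → F),
      (Module.finrank F ↥W = m ∧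
        Cfsg.Geo.IsNondegenerateOn (QuadraticMap.polar (Cfsg.quadFormMinus (d - 1) F a b)) W ∧
        ¬ Cfsg.Geo.IsPlusTypeOn (Cfsg.quadFormMinus (d - 1) F a b) W) ∧
      W.map (Matrix.toLin' (x : Matrix ((Fin (d - 1) ⊕ Fin (d - 1)) ⊕ Fin 2)
        ((Fin (d - 1) ⊕ Fin (d - 1)) ⊕ Fin 2) F)) ≤ W := by
  classical
  haveI : Nonempty ((Fin (d - 1) ⊕ Fin (d - 1)) ⊕ Fin 2) := ⟨Sum.inr 0⟩
  have hiso : ∀ v, minusForm (d - 1) F a b ((x : Matrix ((Fin (d - 1) ⊕ Fin (d - 1)) ⊕ Fin 2)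
      ((Fin (d - 1) ⊕ Fin (d - 1)) ⊕ Fin 2) F) *ᵥ v) = minusForm (d - 1) F a b v :=
    Cfsg.Agent.Lib.helper7.NonsingPt.of_mem_omegaGL_minus (d - 1) a b x hx
  have hnd := Cfsg.Agent.Lib.helper42.minusForm_nondegenerate (F := F) (d - 1) a b hab
  have hxx := h49_ic2_sq_one h2 (minusForm (d - 1) F a b) hnd x hiso hx2
  obtain ⟨k, hk⟩ := hme
  have hι : Fintype.card ((Fin (d - 1) ⊕ Fin (d - 1)) ⊕ Fin 2) = 2 * d := by
    rw [Fintype.card_sum, Fintype.card_sum, Fintype.card_fin, Fintype.card_fin]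
    omega
  have hty : Unif ((-1 : ℤ) * (Fintype.card F : ℤ) ^ d)
      (fun a₀ : F => Nat.card {v : (Fin (d - 1) ⊕ Fin (d - 1)) ⊕ Fin 2 → F //
        minusForm (d - 1) F a b v = a₀}) := by
    have h5 := unif_minus_std (d - 1) a b hab
    rw [show d - 1 + 1 = d by omega] at h5
    rw [neg_one_mul]
    exact h5
  have hdpar : d % 2 = 0 ∨ k % 2 = 1 := by
    rcases hcond with h | h
    · left
      exact Nat.even_iff.mp h
    · right
      omega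
  obtain ⟨W, hWnd, hWdim, hWty, hWinv⟩ := h49_ic2_mat_suff h2 (minusForm (d - 1) F a b) hnd
    (fun W hW hpl => Cfsg.Agent.Lib.helper99.sre_plus_ty (minusForm (d - 1) F a b) W hW hpl)
    d hι (-1) hty
    (x : Matrix ((Fin (d - 1) ⊕ Fin (d - 1)) ⊕ Fin 2) ((Fin (d - 1) ⊕ Fin (d - 1)) ⊕ Fin 2) F)
    hiso hxx k (-1) (Or.inr (Or.inl ⟨rfl, rfl, by omega, by omega, hdpar⟩))
  have hWm : finrank F W = m := by omega
  refine ⟨W, ⟨hWm, (sro_ndOn (minusForm (d - 1) F a b) W).mpr hWnd, ?_⟩, hWinv⟩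
  rintro ⟨U, hUW, hUs, hUdim⟩
  have h4 := Cfsg.Agent.Lib.helper99.sre_plus_ty (minusForm (d - 1) F a b) W hWnd
    ⟨U, hUW, hUs, hUdim⟩
  have := h49_ic2_ty_unique (minusForm (d - 1) F a b) W 1 (-1) h4 hWty
  omega

/-- S5990, `r = p = 2`, necessity: for `d` odd and `4 ∣ m` there is an involution in
`Ω⁻_{2d}(q)` (`q` even) all of whose invariant nondegenerate `m`-spaces are of plus type. -/
theorem s90_invol_nec (h2 : (2 : F) = 0) (d m : ℕ) (hd : 4 ≤ d) (hdo : Odd d) (hm4 : m % 4 = 0)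
    (a b : F) (hab : ∀ x y : F, x ^ 2 + a * x * y + b * y ^ 2 = 0 → x = 0 ∧ y = 0) :
    ∃ x : GL ((Fin (d - 1) ⊕ Fin (d - 1)) ⊕ Fin 2) F,
      x ∈ Cfsg.Geo.omegaGL (Cfsg.quadFormMinus (d - 1) F a b) ∧ x ^ 2 = 1 ∧
      (∀ z : F, (x : Matrix ((Fin (d - 1) ⊕ Fin (d - 1)) ⊕ Fin 2)
          ((Fin (d - 1) ⊕ Fin (d - 1)) ⊕ Fin 2) F)
        ≠ z • (1 : Matrix ((Fin (d - 1) ⊕ Fin (d - 1)) ⊕ Fin 2)
          ((Fin (d - 1) ⊕ Fin (d - 1)) ⊕ Fin 2) F)) ∧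
      ∀ W : Submodule F ((Fin (d - 1) ⊕ Fin (d - 1)) ⊕ Fin 2 → F), Module.finrank F ↥W = m →
        Cfsg.Geo.IsNondegenerateOn (QuadraticMap.polar (Cfsg.quadFormMinus (d - 1) F a b)) W →
        W.map (Matrix.toLin' (x : Matrix ((Fin (d - 1) ⊕ Fin (d - 1)) ⊕ Fin 2)
          ((Fin (d - 1) ⊕ Fin (d - 1)) ⊕ Fin 2) F)) ≤ W →
        Cfsg.Geo.IsPlusTypeOn (Cfsg.quadFormMinus (d - 1) F a b) W := by
  classical
  obtain ⟨k, hkd⟩ : ∃ k, k = d - 1 := ⟨_, rfl⟩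
  rw [← hkd]
  have hk4 : 4 ≤ k := by
    obtain ⟨j, hj⟩ := hdo
    omega
  have hke : Even k := by
    obtain ⟨j, hj⟩ := hdo
    exact ⟨j, by omega⟩
  obtain ⟨x₀, hx₀Ω, hx₀2, hx₀ns, hx₀fix⟩ :=
    Cfsg.Agent.Lib.helper7.NonsingPt.plus_invol (F := F) h2 k hk4 hke
  have hiso₀ : ∀ v, Cfsg.quadFormPlus k F ((x₀ : Matrix (Fin k ⊕ Fin k) (Fin k ⊕ Fin k) F) *ᵥ v)
      = Cfsg.quadFormPlus k F v :=
    (Cfsg.Agent.Lib.helper7.NonsingPt.of_mem_omegaGL_plus h2 k hk4 x₀ hx₀Ω).1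
  have hx₀x₀ : (x₀ : Matrix (Fin k ⊕ Fin k) (Fin k ⊕ Fin k) F)
      * (x₀ : Matrix (Fin k ⊕ Fin k) (Fin k ⊕ Fin k) F) = 1 := by
    have := congrArg Units.val hx₀2
    rwa [Units.val_pow_eq_pow_val, pow_two, Units.val_one] at this
  obtain ⟨A, hA⟩ : ∃ A : Matrix (Fin k ⊕ Fin k) (Fin k ⊕ Fin k) F,
      A = (x₀ : Matrix (Fin k ⊕ Fin k) (Fin k ⊕ Fin k) F) := ⟨_, rfl⟩
  rw [← hA] at hiso₀ hx₀x₀ hx₀ns hx₀fix
  obtain ⟨M, hM⟩ : ∃ M : Matrix ((Fin k ⊕ Fin k) ⊕ Fin 2) ((Fin k ⊕ Fin k) ⊕ Fin 2) F,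
      M = fromBlocks A 0 0 1 := ⟨_, rfl⟩
  have hMM : M * M = 1 := by
    rw [hM, Matrix.fromBlocks_multiply]
    simp [hx₀x₀, Matrix.fromBlocks_one]
  have hMv : ∀ v : (Fin k ⊕ Fin k) ⊕ Fin 2 → F,
      M *ᵥ v = Sum.elim (A *ᵥ (v ∘ Sum.inl)) (v ∘ Sum.inr) := by
    intro v
    rw [hM, Matrix.fromBlocks_mulVec]
    simp
  have hQsplit : ∀ v : (Fin k ⊕ Fin k) ⊕ Fin 2 → F, Cfsg.quadFormMinus k F a b v
      = Cfsg.quadFormPlus k F (v ∘ Sum.inl)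
        + (v (Sum.inr 0) ^ 2 + a * v (Sum.inr 0) * v (Sum.inr 1) + b * v (Sum.inr 1) ^ 2) :=
    fun v => rfl
  have hiso : ∀ v, Cfsg.quadFormMinus k F a b (M *ᵥ v) = Cfsg.quadFormMinus k F a b v := by
    intro v
    rw [hQsplit, hQsplit, hMv]
    have e1 : (Sum.elim (A *ᵥ (v ∘ Sum.inl)) (v ∘ Sum.inr)) ∘ Sum.inl = A *ᵥ (v ∘ Sum.inl) := rfl
    rw [e1, hiso₀]
    rfl
  have hrank : (M - 1).rank = k := by
    have e1 : M - 1 = fromBlocks (A - 1) 0 0 0 := by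
      rw [hM]
      ext (i | i) (j | j) <;> simp [Matrix.one_apply]
    rw [e1, h49_rank_fromBlocks_diag, Matrix.rank_zero, add_zero]
    have h1 := (Cfsg.Agent.Lib.helper7.NonsingPt.invol_no_fixed h2 (plusForm k F)
      (Cfsg.Agent.Lib.helper42.plusForm_nondegenerate k) A hx₀x₀ hx₀fix).1
    rw [Fintype.card_sum, Fintype.card_fin] at h1
    omega
  let x : GL ((Fin k ⊕ Fin k) ⊕ Fin 2) F := ⟨M, M, hMM, hMM⟩
  have hxM : (x : Matrix ((Fin k ⊕ Fin k) ⊕ Fin 2) ((Fin k ⊕ Fin k) ⊕ Fin 2) F) = M := rfl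
  refine ⟨x, ?_, ?_, ?_, ?_⟩
  · apply Cfsg.Agent.Lib.helper7.NonsingPt.mem_omegaGL_minus h2 k (by omega) a b hab x hiso
    rw [hxM, hrank]
    exact hke
  · apply Units.ext
    rw [Units.val_pow_eq_pow_val, Units.val_one, hxM, pow_two, hMM]
  · intro z hz
    rw [hxM] at hz
    apply hx₀ns z
    ext i j
    have h1 := congrFun (congrFun hz (Sum.inl i)) (Sum.inl j)
    rw [hM] at h1
    simpa [Matrix.one_apply] using h1
  · intro W hWm hWnd hWinv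
    rw [hxM] at hWinv
    obtain ⟨hT, hT2⟩ := h49_ic2_toLin (minusForm k F a b) M hiso hMM
    obtain ⟨hTT, hsymT, hself, hFF, hVV, hQN⟩ :=
      h49_ic2_basic (minusForm k F a b) h2 (Matrix.toLin' M) hT hT2
    have hW : SpNd (QuadraticMap.polarBilin (minusForm k F a b)) W :=
      (sro_ndOn (minusForm k F a b) W).mp hWnd
    -- fixed vectors of `A` are singular, hence pairwise orthogonal sums are singular
    have hfixA : ∀ u : Fin k ⊕ Fin k → F, A *ᵥ (A *ᵥ u + u) = A *ᵥ u + u := by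
      intro u
      rw [Matrix.mulVec_add, Matrix.mulVec_mulVec, hx₀x₀, Matrix.one_mulVec, add_comm]
    -- `polar v (T v) = 0`
    have ha : ∀ v : (Fin k ⊕ Fin k) ⊕ Fin 2 → F,
        QuadraticMap.polar (minusForm k F a b) v (Matrix.toLin' M v) = 0 := by
      intro v
      rw [← hQN]
      show Cfsg.quadFormMinus k F a b (Matrix.toLin' M v + v) = 0
      rw [Matrix.toLin'_apply, hMv, hQsplit]
      have e1 : (Sum.elim (A *ᵥ (v ∘ Sum.inl)) (v ∘ Sum.inr) + v) ∘ Sum.inl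
          = A *ᵥ (v ∘ Sum.inl) + v ∘ Sum.inl := rfl
      rw [e1, hx₀fix _ (hfixA _)]
      have e2 : ∀ j : Fin 2, (Sum.elim (A *ᵥ (v ∘ Sum.inl)) (v ∘ Sum.inr) + v) (Sum.inr j) = 0 := by
        intro j
        show v (Sum.inr j) + v (Sum.inr j) = 0
        exact hFF _
      rw [e2, e2]
      ring
    -- pointwise fixed nondegenerate subspaces have dimension at most 2
    have hsmall : ∀ Z : Submodule F ((Fin k ⊕ Fin k) ⊕ Fin 2 → F),
        SpNd (QuadraticMap.polarBilin (minusForm k F a b)) Z →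
        (∀ z ∈ Z, Matrix.toLin' M z = z) → finrank F Z ≤ 2 := by
      intro Z hZ hZfix
      have hfixl : ∀ z ∈ Z, A *ᵥ (z ∘ Sum.inl) = z ∘ Sum.inl := by
        intro z hz
        have h1 := hZfix z hz
        rw [Matrix.toLin'_apply, hMv] at h1
        have h3 := congrArg (fun w : (Fin k ⊕ Fin k) ⊕ Fin 2 → F => w ∘ Sum.inl) h1
        exact h3
      let φ : Z →ₗ[F] (Fin 2 → F) :=
        (LinearMap.funLeft F F (Sum.inr : Fin 2 → (Fin k ⊕ Fin k) ⊕ Fin 2)).comp Z.subtype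
      have hφ : Function.Injective φ := by
        rw [← LinearMap.ker_eq_bot, LinearMap.ker_eq_bot']
        intro z hz
        have hz0 : ∀ j : Fin 2, (z : (Fin k ⊕ Fin k) ⊕ Fin 2 → F) (Sum.inr j) = 0 := by
          intro j
          exact congrFun hz j
        apply Subtype.ext
        apply hZ z.1 z.2
        intro z' hz'
        rw [QuadraticMap.polarBilin_apply_apply]
        show QuadraticMap.polar (Cfsg.quadFormMinus k F a b) z.1 z' = 0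
        unfold QuadraticMap.polar
        rw [hQsplit, hQsplit, hQsplit]
        have e1 : ((z : (Fin k ⊕ Fin k) ⊕ Fin 2 → F) + z') ∘ Sum.inl
            = (z : (Fin k ⊕ Fin k) ⊕ Fin 2 → F) ∘ Sum.inl + z' ∘ Sum.inl := rfl
        have f1 := hfixl z.1 z.2
        have f2 := hfixl z' hz'
        have f3 : A *ᵥ ((z : (Fin k ⊕ Fin k) ⊕ Fin 2 → F) ∘ Sum.inl + z' ∘ Sum.inl)
            = (z : (Fin k ⊕ Fin k) ⊕ Fin 2 → F) ∘ Sum.inl + z' ∘ Sum.inl := by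
          rw [Matrix.mulVec_add, f1, f2]
        rw [e1, hx₀fix _ f3, hx₀fix _ f1, hx₀fix _ f2]
        have e2 : ∀ j : Fin 2, ((z : (Fin k ⊕ Fin k) ⊕ Fin 2 → F) + z') (Sum.inr j)
            = z' (Sum.inr j) := by
          intro j
          show (z : (Fin k ⊕ Fin k) ⊕ Fin 2 → F) (Sum.inr j) + z' (Sum.inr j) = z' (Sum.inr j)
          rw [hz0, zero_add]
        rw [e2, e2, hz0, hz0]
        ring
      have h5 := LinearMap.finrank_le_finrank_of_injective hφ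
      rw [Module.finrank_fin_fun] at h5
      exact h5
    obtain ⟨n, hn⟩ : ∃ n, m = 4 * n := ⟨m / 4, by omega⟩
    obtain ⟨U, hUW, hUs, hUdim⟩ := h49_ic2_plus_of (minusForm k F a b) h2 (Matrix.toLin' M) hT hT2
      hsmall n W (by rw [hWm, hn]) hW (fun w hw => hWinv ⟨w, hw, rfl⟩) (fun v _ => ha v)
    exact ⟨U, hUW, hUs, hUdim⟩

end ic2m

end Cfsg.Agent.Lib.helper49
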