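import Mathlib
import Cfsg.Agent.Lib.helper33.M24BDefs
import Cfsg.Agent.S5425

/-!
helper49: S5006 piece STAR_A (`star_oct`): for an involution `t` of the group of the length-24
code whose fixed points form an octad, `Q = O_2(C(t))` is a 2-group normalized by `C(t)` and no
nontrivial element of odd order centralizes it (from the landed S5425).
-/

set_option autoImplicit false
open Cfsg Cfsg.Agent.Lib.helper33.M24B

namespace Cfsg.Agent.Lib.helper49.M24B

/-- STAR_A -/
theorem star_oct (t : ↥M24) (h2 : orderOf t = 2)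
    (h8 : (Finset.univ.filter fun p : GolayPt => (t : Equiv.Perm GolayPt) p = p) ∈ octads) :
    Star t := by
  set C := Subgroup.centralizer ({t} : Set ↥M24) with hC
  set Q : Subgroup ↥M24 := (pCore 2 ↥C).map C.subtype with hQ
  obtain ⟨-, hcard, -, hL, -⟩ := Cfsg.Agent.S5425.result t h2 h8 Q hQ
  have hQp : IsPGroup 2 Q := IsPGroup.of_card hcard
  have hn : (pCore 2 ↥C).Normal := Subgroup.sSup_normal _ (fun _ h => h.1)
  refine ⟨Q, hQp, ?_, ?_⟩
  · intro c hc
    have hcC : c ∈ C := by
      rw [hC, Subgroup.mem_centralizer_iff]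
      intro y hy
      rw [Set.mem_singleton_iff] at hy
      rw [hy]; exact hc.symm
    have key : ∀ d ∈ C, ∀ q ∈ Q, d * q * d⁻¹ ∈ Q := by
      intro d hd q hq
      rw [hQ, Subgroup.mem_map] at hq ⊢
      obtain ⟨q', hq', rfl⟩ := hq
      exact ⟨⟨d, hd⟩ * q' * ⟨d, hd⟩⁻¹, hn.conj_mem q' hq' ⟨d, hd⟩, rfl⟩
    rw [Subgroup.mem_normalizer_iff]
    intro q
    constructor
    · exact key c hcC q
    · intro h
      have := key c⁻¹ (C.inv_mem hcC) _ h
      simpa [mul_assoc] using this
  · intro x hx hcomm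
    have hxc : x ∈ Subgroup.centralizer (Q : Set ↥M24) := by
      rw [Subgroup.mem_centralizer_iff]
      intro q hq
      exact (hcomm q hq).symm
    rw [hL.2.1] at hxc
    obtain ⟨y, -, rfl⟩ := Subgroup.mem_map.mp hxc
    have hdvd : orderOf ((y : ↥Q) : ↥M24) ∣ 2 ^ 7 := by
      rw [← hcard, Subgroup.orderOf_coe]
      exact orderOf_dvd_natCard y
    obtain ⟨k, -, hk⟩ := (Nat.dvd_prime_pow Nat.prime_two).mp hdvd
    cases k with
    | zero =>
      rw [pow_zero, orderOf_eq_one_iff] at hk
      exact hk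
    | succ k =>
      have h2dvd : 2 ∣ orderOf ((y : ↥Q) : ↥M24) := by
        rw [hk]; exact dvd_pow_self 2 (Nat.succ_ne_zero k)
      exact absurd h2dvd hx

end Cfsg.Agent.Lib.helper49.M24B
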