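import Mathlib
import Cfsg.Agent.Lib.helper33.M24BDefs
import Cfsg.Agent.Lib.helper33.SextetStab
import Cfsg.Agent.S5607

/-!
helper49: S5006 piece STAR_B (`star_fpf`): for a fixed-point-free involution `t` of the group of
the length-24 code, the elementary abelian group `tetN S` of order 64 attached to the sextet `S`
fixed by `C(t)` (S5607) is normalized by `C(t)`, and no nontrivial element of odd order
centralizes it.
-/

set_option autoImplicit false
open Cfsg Cfsg.Agent.Lib.helper33.M24B
open scoped Pointwise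

namespace Cfsg.Agent.Lib.helper49.M24B

open Cfsg.Agent.Lib.helper33 (tetN mem_tetN tetN_conj tetN_sq tetN_fix tetN_trivial card_tetN
  mem_iff_of_smul_eq)
open Cfsg.Agent.Lib.helper94 (sextet_cover sextet_disjoint)
open Cfsg.Agent.Lib.helper9 (card_le_of_orbit card_eq_orbit_mul_stab mem_orbit_subgroup_iff)

/-- a third member of a sextet -/
theorem h49_third {S : Finset (Finset GolayPt)} (hS : S ∈ sextets) (T T' : Finset GolayPt) :
    ∃ T'' ∈ S, T'' ≠ T ∧ T'' ≠ T' := by
  classical
  by_contra hcon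
  push Not at hcon
  have hsub : S ⊆ ({T, T'} : Finset (Finset GolayPt)) := by
    intro u hu
    by_cases h : u = T
    · rw [h]; exact Finset.mem_insert_self _ _
    · rw [hcon u hu h]
      exact Finset.mem_insert_of_mem (Finset.mem_singleton_self _)
  have h1 := Finset.card_le_card hsub
  have h2 : ({T, T'} : Finset (Finset GolayPt)).card ≤ 2 := Finset.card_le_two
  rw [hS.1] at h1
  omega

/-- an element of odd order centralizing `tetN S` is trivial -/
theorem h49_tetN_core {S : Finset (Finset GolayPt)} (hS : S ∈ sextets) (x : Equiv.Perm GolayPt)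
    (hodd : ¬ 2 ∣ orderOf x) (hcomm : ∀ g ∈ tetN S, x * g = g * x) : x = 1 := by
  classical
  have hN : Nat.card (tetN S) = 64 := card_tetN hS
  have hpres : ∀ g ∈ tetN S, ∀ T ∈ S, ∀ p ∈ T, g p ∈ T := fun g hg T hT p hp =>
    (mem_iff_of_smul_eq (hg.2 T hT).1 p).2 hp
  have hcommp : ∀ g ∈ tetN S, ∀ p : GolayPt, x (g p) = g (x p) := fun g hg p =>
    Equiv.congr_fun (hcomm g hg) p
  have hne : ∀ T ∈ S, T.Nonempty := fun T hT => by
    rw [← Finset.card_pos, hS.2.1 T hT]; norm_num
  -- Step 1 : `x` preserves every tetrad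
  have step1 : ∀ (p : GolayPt) (T : Finset GolayPt), T ∈ S → p ∈ T → x p ∈ T := by
    intro p T hT hp
    obtain ⟨T', hT', hxp⟩ := sextet_cover hS (x p)
    by_cases hTT : T' = T
    · rw [← hTT]; exact hxp
    exfalso
    obtain ⟨T'', hT'', h1, h2⟩ := h49_third hS T T'
    obtain ⟨r, hr⟩ := hne T'' hT''
    have u1 := card_le_of_orbit (tetN S) p T (fun g hg => hpres g hg T hT p hp)
    have u2 := card_le_of_orbit (tetN S ⊓ MulAction.stabilizer (Equiv.Perm GolayPt) p) r T''
      (fun g hg => hpres g hg.1 T'' hT'' r hr)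
    have c3 : Nat.card ↥((tetN S ⊓ MulAction.stabilizer (Equiv.Perm GolayPt) p) ⊓
        MulAction.stabilizer (Equiv.Perm GolayPt) r) = 1 := by
      have key : ∀ a : Equiv.Perm GolayPt,
          a ∈ (tetN S ⊓ MulAction.stabilizer (Equiv.Perm GolayPt) p) ⊓
            MulAction.stabilizer (Equiv.Perm GolayPt) r → a = 1 := by
        rintro a ⟨⟨haN, hap⟩, har⟩
        have hap' : a p = p := hap
        have har' : a r = r := har
        have haxp : a (x p) = x p := by rw [← hcommp a haN p, hap']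
        exact tetN_trivial hS haN hT hT' hT'' (Ne.symm hTT) (Ne.symm h1) (Ne.symm h2) hp hxp hr
          hap' haxp har'
      have : Subsingleton ↥((tetN S ⊓ MulAction.stabilizer (Equiv.Perm GolayPt) p) ⊓
          MulAction.stabilizer (Equiv.Perm GolayPt) r) :=
        ⟨fun a b => Subtype.ext (by rw [key a.1 a.2, key b.1 b.2])⟩
      exact Nat.card_unique
    rw [hN, hS.2.1 T hT] at u1
    rw [hS.2.1 T'' hT'', c3] at u2
    omega
  -- Step 2 : `tetN S` is transitive on every tetrad
  have step2 : ∀ (T : Finset GolayPt), T ∈ S → ∀ p ∈ T, ∀ y ∈ T, ∃ g ∈ tetN S, g p = y := by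
    intro T hT p hp y hy
    obtain ⟨T', hT', h1, -⟩ := h49_third hS T T
    obtain ⟨T'', hT'', h2, h3⟩ := h49_third hS T T'
    obtain ⟨q, hq⟩ := hne T' hT'
    obtain ⟨r, hr⟩ := hne T'' hT''
    have u2 := card_le_of_orbit (tetN S ⊓ MulAction.stabilizer (Equiv.Perm GolayPt) p) q T'
      (fun g hg => hpres g hg.1 T' hT' q hq)
    have u3 := card_le_of_orbit ((tetN S ⊓ MulAction.stabilizer (Equiv.Perm GolayPt) p) ⊓
        MulAction.stabilizer (Equiv.Perm GolayPt) q) r T''
      (fun g hg => hpres g hg.1.1 T'' hT'' r hr)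
    have c3 : Nat.card ↥(((tetN S ⊓ MulAction.stabilizer (Equiv.Perm GolayPt) p) ⊓
        MulAction.stabilizer (Equiv.Perm GolayPt) q) ⊓
        MulAction.stabilizer (Equiv.Perm GolayPt) r) = 1 := by
      have key : ∀ a : Equiv.Perm GolayPt,
          a ∈ ((tetN S ⊓ MulAction.stabilizer (Equiv.Perm GolayPt) p) ⊓
            MulAction.stabilizer (Equiv.Perm GolayPt) q) ⊓
            MulAction.stabilizer (Equiv.Perm GolayPt) r → a = 1 := by
        rintro a ⟨⟨⟨haN, hap⟩, haq⟩, har⟩
        exact tetN_trivial hS haN hT hT' hT'' (Ne.symm h1) (Ne.symm h2) (Ne.symm h3) hp hq hr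
          hap haq har
      have : Subsingleton ↥(((tetN S ⊓ MulAction.stabilizer (Equiv.Perm GolayPt) p) ⊓
          MulAction.stabilizer (Equiv.Perm GolayPt) q) ⊓
          MulAction.stabilizer (Equiv.Perm GolayPt) r) :=
        ⟨fun a b => Subtype.ext (by rw [key a.1 a.2, key b.1 b.2])⟩
      exact Nat.card_unique
    rw [hS.2.1 T' hT'] at u2
    rw [hS.2.1 T'' hT'', c3] at u3
    have e := card_eq_orbit_mul_stab (tetN S) p
    rw [hN, Nat.card_coe_set_eq] at e
    have hsub : MulAction.orbit (tetN S) p ⊆ (T : Set GolayPt) := by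
      intro z hz
      obtain ⟨g, hg, rfl⟩ := (mem_orbit_subgroup_iff (tetN S) p z).1 hz
      exact hpres g hg T hT p hp
    have hle : (MulAction.orbit (tetN S) p).ncard ≤ 4 := by
      have := Set.ncard_le_ncard hsub (Finset.finite_toSet T)
      rwa [Set.ncard_coe_finset, hS.2.1 T hT] at this
    have hge : 4 ≤ (MulAction.orbit (tetN S) p).ncard := by
      by_contra hlt
      push Not at hlt
      have h16 : Nat.card ↥(tetN S ⊓ MulAction.stabilizer (Equiv.Perm GolayPt) p) ≤ 16 := by
        omega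
      have : (MulAction.orbit (tetN S) p).ncard *
          Nat.card ↥(tetN S ⊓ MulAction.stabilizer (Equiv.Perm GolayPt) p) ≤ 3 * 16 :=
        Nat.mul_le_mul (by omega) h16
      omega
    have heq : MulAction.orbit (tetN S) p = (T : Set GolayPt) :=
      Set.eq_of_subset_of_ncard_le hsub
        (by rw [Set.ncard_coe_finset, hS.2.1 T hT]; exact hge) (Finset.finite_toSet T)
    have hy' : y ∈ MulAction.orbit (tetN S) p := by rw [heq]; exact hy
    exact (mem_orbit_subgroup_iff (tetN S) p y).1 hy'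
  -- Step 3 : `x * x = 1`
  have hxx : x * x = 1 := by
    apply Equiv.ext
    intro p
    obtain ⟨T, hT, hp⟩ := sextet_cover hS p
    obtain ⟨g, hg, hgp⟩ := step2 T hT p hp (x p) (step1 p T hT hp)
    show x (x p) = p
    rw [← hgp, hcommp g hg p, ← hgp]
    exact Equiv.congr_fun (tetN_sq hS hg) p
  have hdvd : orderOf x ∣ 2 := orderOf_dvd_of_pow_eq_one (by rw [pow_two]; exact hxx)
  have h12 : orderOf x = 1 ∨ orderOf x = 2 := (Nat.dvd_prime Nat.prime_two).mp hdvd
  rcases h12 with h | h
  · exact orderOf_eq_one_iff.mp h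
  · exact absurd (by rw [h]) hodd

/-- STAR_B -/
theorem star_fpf (t : ↥M24) (h2 : orderOf t = 2)
    (h0 : ∀ p : GolayPt, (t : Equiv.Perm GolayPt) p ≠ p) : Star t := by
  have h2' : orderOf (t : Equiv.Perm GolayPt) = 2 := by rw [Subgroup.orderOf_coe]; exact h2
  obtain ⟨-, -, S, hS, -, hcS⟩ := Cfsg.Agent.S5607.result (t : Equiv.Perm GolayPt) t.2 h2' h0
  refine ⟨(tetN S).subgroupOf M24, ?_, ?_, ?_⟩
  · intro g
    have h1 : ((g : ↥M24) : Equiv.Perm GolayPt) * ((g : ↥M24) : Equiv.Perm GolayPt) = 1 :=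
      tetN_sq hS (Subgroup.mem_subgroupOf.mp g.2)
    refine ⟨1, Subtype.ext (Subtype.ext ?_)⟩
    simpa [pow_two] using h1
  · intro c hc
    have hcS' : (c : Equiv.Perm GolayPt) • S = S := hcS c c.2 (by
      have := congrArg Subtype.val hc
      simpa using this)
    have key : ∀ d : ↥M24, (d : Equiv.Perm GolayPt) • S = S →
        ∀ q ∈ (tetN S).subgroupOf M24, d * q * d⁻¹ ∈ (tetN S).subgroupOf M24 := by
      intro d hd q hq
      rw [Subgroup.mem_subgroupOf] at hq ⊢
      have := tetN_conj d.2 hq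
      rw [hd] at this
      simpa using this
    rw [Subgroup.mem_normalizer_iff]
    intro q
    constructor
    · exact key c hcS' q
    · intro h
      have hinv : ((c⁻¹ : ↥M24) : Equiv.Perm GolayPt) • S = S := by
        rw [Subgroup.coe_inv, inv_smul_eq_iff, hcS']
      have := key c⁻¹ hinv _ h
      simpa [mul_assoc] using this
  · intro x hx hcomm
    have hodd : ¬ 2 ∣ orderOf (x : Equiv.Perm GolayPt) := by rwa [Subgroup.orderOf_coe]
    have : (x : Equiv.Perm GolayPt) = 1 := h49_tetN_core hS x hodd (fun g hg => by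
      have := hcomm ⟨g, hg.1⟩ (Subgroup.mem_subgroupOf.mpr hg)
      exact congrArg Subtype.val this)
    exact Subtype.ext this

end Cfsg.Agent.Lib.helper49.M24B
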