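/-
The "nonsquare" case of the orthogonal balance lemmas: a similarity `g` of a quadratic space with
`g ∘ g = c`, `c` a nonsquare, makes the space a quadratic space over `F[√c]`; odd-order groups of
isometries commuting with `g` and normalised by the derived group of the centraliser of `g` are
trivial, and semilinear similarities centralising that derived group are `κ` or `κ g`.
-/
import Mathlib
import Cfsg.Agent.Lib.helper51.OBalC

set_option autoImplicit false
set_option linter.unusedSectionVars false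
set_option linter.unusedVariables false
set_option linter.unusedSimpArgs false

namespace Cfsg.Agent.Lib.helper49

open QuadraticMap
open Cfsg.Agent.Lib.helper51
open scoped commutatorElement

section CaseBGen

variable {F : Type*} [Field F] {E : Type*} [Field E] [Algebra F E]
  {V : Type*} [AddCommGroup V] [Module F V] [Module E V] [IsScalarTower F E V]

/-- `E = F[ω]` with `ω² = c` a nonsquare, acting on `V`, `ω` a similarity of `Q` with factor `c` -/
structure QExt (ω : E) (c : F) (Q : QuadraticForm F V) : Prop where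
  h2 : (2 : F) ≠ 0
  hc : ¬ IsSquare c
  hω : ω * ω = algebraMap F E c
  hdec : ∀ z : E, ∃ α β : F, z = algebraMap F E α + ω * algebraMap F E β
  hind : ∀ α β : F, algebraMap F E α + ω * algebraMap F E β = 0 → α = 0 ∧ β = 0
  hgQ : ∀ v : V, Q (ω • v) = c * Q v

theorem QExt.c_ne {ω : E} {c : F} {Q : QuadraticForm F V} (hx : QExt ω c Q) : c ≠ 0 := by
  intro h
  exact hx.hc ⟨0, by rw [h, mul_zero]⟩

theorem QExt.two_ne {ω : E} {c : F} {Q : QuadraticForm F V} (hx : QExt ω c Q) : (2 : E) ≠ 0 := by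
  intro h
  have h' : algebraMap F E 2 = algebraMap F E 0 := by
    rw [map_ofNat, map_zero]
    exact h
  exact hx.h2 ((algebraMap F E).injective h')

theorem QExt.smul_eq {ω : E} {c : F} {Q : QuadraticForm F V} (hx : QExt ω c Q) (α β : F) (v : V) :
    (algebraMap F E α + ω * algebraMap F E β) • v = α • v + β • (ω • v) := by
  rw [add_smul, mul_smul, algebraMap_smul, algebraMap_smul, smul_comm]

theorem QExt.omega_omega {ω : E} {c : F} {Q : QuadraticForm F V} (hx : QExt ω c Q) (v : V) :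
    ω • (ω • v) = c • v := by
  rw [smul_smul, hx.hω, algebraMap_smul]

theorem QExt.inj {ω : E} {c : F} {Q : QuadraticForm F V} (hx : QExt ω c Q) (α β α' β' : F)
    (h : algebraMap F E α + ω * algebraMap F E β = algebraMap F E α' + ω * algebraMap F E β') :
    α = α' ∧ β = β' := by
  have h' : algebraMap F E (α - α') + ω * algebraMap F E (β - β') = 0 := by
    rw [map_sub, map_sub]
    linear_combination h
  obtain ⟨h1, h2⟩ := hx.hind _ _ h'
  exact ⟨sub_eq_zero.mp h1, sub_eq_zero.mp h2⟩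

theorem QExt.polar_omega {ω : E} {c : F} {Q : QuadraticForm F V} (hx : QExt ω c Q) (u v : V) :
    polar Q (ω • u) (ω • v) = c * polar Q u v := by
  unfold polar
  rw [← smul_add, hx.hgQ, hx.hgQ, hx.hgQ]
  ring

/-- `ω` is self-adjoint -/
theorem QExt.adj {ω : E} {c : F} {Q : QuadraticForm F V} (hx : QExt ω c Q) (u v : V) :
    polar Q (ω • u) v = polar Q u (ω • v) := by
  have h1 := hx.polar_omega u (ω • v)
  rw [hx.omega_omega, polar_smul_right, smul_eq_mul] at h1
  exact mul_left_cancel₀ hx.c_ne h1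

/-- half of the `E`-bilinear form -/
noncomputable def bh (ω : E) (Q : QuadraticForm F V) (u v : V) : E :=
  algebraMap F E (polar Q (ω • u) v / 2) + ω * algebraMap F E (polar Q u v / 2)

theorem bh_add_left (ω : E) (Q : QuadraticForm F V) (u u' v : V) :
    bh ω Q (u + u') v = bh ω Q u v + bh ω Q u' v := by
  unfold bh
  rw [smul_add, polar_add_left, polar_add_left, add_div, add_div, map_add, map_add]
  ring

theorem QExt.bh_symm {ω : E} {c : F} {Q : QuadraticForm F V} (hx : QExt ω c Q) (u v : V) :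
    bh ω Q u v = bh ω Q v u := by
  unfold bh
  rw [hx.adj u v, polar_comm (⇑Q) u (ω • v), polar_comm (⇑Q) u v]

theorem QExt.bh_smul_left {ω : E} {c : F} {Q : QuadraticForm F V} (hx : QExt ω c Q) (z : E)
    (u v : V) : bh ω Q (z • u) v = z * bh ω Q u v := by
  obtain ⟨α, β, rfl⟩ := hx.hdec z
  unfold bh
  rw [hx.smul_eq, smul_add, smul_comm ω α u, smul_comm ω β (ω • u), hx.omega_omega]
  simp only [polar_add_left, polar_smul_left, smul_eq_mul]
  have e1 : (α * polar Q (ω • u) v + β * (c * polar Q u v)) / 2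
      = α * (polar Q (ω • u) v / 2) + c * β * (polar Q u v / 2) := by ring
  have e2 : (α * polar Q u v + β * polar Q (ω • u) v) / 2
      = α * (polar Q u v / 2) + β * (polar Q (ω • u) v / 2) := by ring
  rw [e1, e2]
  simp only [map_add, map_mul]
  linear_combination (-(algebraMap F E β * algebraMap F E (polar Q u v / 2))) * hx.hω

/-- the quadratic form over `E` -/
theorem QExt.exists_QE {ω : E} {c : F} {Q : QuadraticForm F V} (hx : QExt ω c Q) :
    ∃ Q' : QuadraticForm E V,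
      (∀ v, Q' v = algebraMap F E (polar Q (ω • v) v / 2) + ω * algebraMap F E (Q v)) ∧
      (∀ x y, polar Q' x y
        = algebraMap F E (polar Q (ω • x) y) + ω * algebraMap F E (polar Q x y)) := by
  have hsr : ∀ (z : E) (u v : V), bh ω Q u (z • v) = z * bh ω Q u v := by
    intro z u v
    rw [hx.bh_symm, hx.bh_smul_left, hx.bh_symm]
  have har : ∀ (u v v' : V), bh ω Q u (v + v') = bh ω Q u v + bh ω Q u v' := by
    intro u v v'
    rw [hx.bh_symm, bh_add_left, hx.bh_symm v u, hx.bh_symm v' u]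
  obtain ⟨B, hB⟩ : ∃ B : LinearMap.BilinMap E V E, ∀ u v, B u v = bh ω Q u v :=
    ⟨LinearMap.mk₂ E (bh ω Q) (bh_add_left ω Q) (fun z u v => by
        rw [smul_eq_mul]; exact hx.bh_smul_left z u v) har (fun z u v => by
        rw [smul_eq_mul]; exact hsr z u v), fun u v => rfl⟩
  have h2 := hx.h2
  refine ⟨B.toQuadraticMap, ?_, ?_⟩
  · intro v
    rw [LinearMap.BilinMap.toQuadraticMap_apply, hB]
    unfold bh
    rw [polar_self]
    congr 2
    rw [nsmul_eq_mul, Nat.cast_ofNat]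
    field_simp
  · intro x y
    rw [LinearMap.BilinMap.polar_toQuadraticMap, hB, hB, hx.bh_symm y x]
    unfold bh
    have e1 : polar Q (ω • x) y = polar Q (ω • x) y / 2 + polar Q (ω • x) y / 2 := by
      field_simp; ring
    have e2 : polar Q x y = polar Q x y / 2 + polar Q x y / 2 := by
      field_simp; ring
    nth_rewrite 3 [e1]
    nth_rewrite 3 [e2]
    rw [map_add, map_add]
    ring

end CaseBGen

section Refl

variable {E : Type*} [Field E] {V : Type*} [AddCommGroup V] [Module E V]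

theorem orf_neg_vec (Q : QuadraticForm E V) (u v : V) : orf Q (-u) v = orf Q u v := by
  unfold orf
  rw [QuadraticMap.map_neg, polar_neg_left, mul_neg, neg_smul, smul_neg, neg_neg]

theorem orfE_neg_vec (Q : QuadraticForm E V) (u : V) : orfE Q (-u) = orfE Q u := by
  ext v
  rw [orfE_apply, orfE_apply, orf_neg_vec]

/-- the product of two reflections of equal norm is a commutator of reflections -/
theorem refl_comm (h2 : (2 : E) ≠ 0) (Q : QuadraticForm E V) (u u' : V) (h : Q u = Q u')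
    (hu : Q u ≠ 0) : ∃ w : V, orfE Q u * orfE Q u' = ⁅orfE Q u, orfE Q w⁆ := by
  have hm : Q (u - u') = 2 * Q u - polar Q u u' := by
    rw [sub_eq_add_neg, QuadraticMap.map_add (⇑Q) u, QuadraticMap.map_neg, polar_neg_right, ← h]
    ring
  have hp : Q (u + u') = 2 * Q u + polar Q u u' := by
    rw [QuadraticMap.map_add (⇑Q) u, ← h]
    ring
  have huu : polar Q u u = 2 * Q u := by rw [polar_self, nsmul_eq_mul, Nat.cast_ofNat]
  have key : ∀ w : V, (orfE Q w u = u' ∨ orfE Q w u = -u') →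
      orfE Q u * orfE Q u' = ⁅orfE Q u, orfE Q w⁆ := by
    intro w hw
    have hc := orfE_conj Q (orfE Q w) (fun v => orf_Q Q w v) u
    rw [orfE_inv] at hc
    have hc' : orfE Q w * orfE Q u * orfE Q w = orfE Q u' := by
      rw [hc]
      rcases hw with hw | hw
      · rw [hw]
      · rw [hw, orfE_neg_vec]
    rw [commutatorElement_def, orfE_inv, orfE_inv, ← hc']
    simp only [mul_assoc]
  by_cases hw : Q (u - u') = 0
  · have hpu : polar Q u u' = 2 * Q u := by
      rw [hm] at hw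
      linear_combination -hw
    have hw2 : Q (u + u') ≠ 0 := by
      rw [hp, hpu]
      intro h0
      have : (2 * 2) * Q u = 0 := by linear_combination h0
      rcases mul_eq_zero.mp this with h' | h'
      · exact (mul_ne_zero h2 h2) h'
      · exact hu h'
    refine ⟨u + u', key _ (Or.inr ?_)⟩
    rw [orfE_apply]
    unfold orf
    have e1 : polar Q (u + u') u = Q (u + u') := by
      rw [polar_add_left, huu, polar_comm (⇑Q) u' u, hp]
    rw [e1, inv_mul_cancel₀ hw2, one_smul]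
    abel
  · refine ⟨u - u', key _ (Or.inl ?_)⟩
    rw [orfE_apply]
    unfold orf
    have e1 : polar Q (u - u') u = Q (u - u') := by
      rw [polar_sub_left, huu, polar_comm (⇑Q) u' u, hm]
    rw [e1, inv_mul_cancel₀ hw, one_smul]
    abel

end Refl

section CaseBCore

variable {F : Type*} [Field F] {E : Type*} [Field E] [Algebra F E]
  {V : Type*} [AddCommGroup V] [Module F V] [Module E V] [IsScalarTower F E V]

/-- restriction of scalars as a group homomorphism -/
def obResHom (F : Type*) {E V : Type*} [Field F] [Field E] [Algebra F E] [AddCommGroup V]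
    [Module F V] [Module E V] [IsScalarTower F E V] : (V ≃ₗ[E] V) →* (V ≃ₗ[F] V) where
  toFun m := m.restrictScalars F
  map_one' := rfl
  map_mul' _ _ := rfl

theorem obResHom_apply (m : V ≃ₗ[E] V) (v : V) : obResHom F m v = m v := rfl

theorem obResHom_injective : Function.Injective (obResHom F : (V ≃ₗ[E] V) →* (V ≃ₗ[F] V)) := by
  intro m₁ m₂ h
  ext v
  have := congrArg (fun m : V ≃ₗ[F] V => m v) h
  exact this

theorem QExt.exists_lin {ω : E} {c : F} {Q : QuadraticForm F V} (hx : QExt ω c Q)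
    (m : V ≃ₗ[F] V) (hm : ∀ v, m (ω • v) = ω • m v) :
    ∃ m' : V ≃ₗ[E] V, obResHom F m' = m := by
  refine ⟨{ toFun := m, map_add' := map_add m, map_smul' := ?_, invFun := m.symm,
            left_inv := m.left_inv, right_inv := m.right_inv }, ?_⟩
  · intro z v
    obtain ⟨α, β, rfl⟩ := hx.hdec z
    simp only [RingHom.id_apply]
    rw [hx.smul_eq, hx.smul_eq, map_add, map_smul, map_smul, hm]
  · ext v
    rfl

/-- a reflection of the `E`-form of norm `κ₁ + ω` is a product of two `F`-reflections -/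
theorem QExt.refl_split {ω : E} {c : F} {Q : QuadraticForm F V} (hx : QExt ω c Q)
    (Q' : QuadraticForm E V)
    (hQ' : ∀ v, Q' v = algebraMap F E (polar Q (ω • v) v / 2) + ω * algebraMap F E (Q v))
    (hP' : ∀ x y, polar Q' x y
        = algebraMap F E (polar Q (ω • x) y) + ω * algebraMap F E (polar Q x y))
    (κ₁ t : F) (hκ : κ₁ ^ 2 + t ^ 2 = c) (u : V)
    (hu : Q' u = algebraMap F E κ₁ + ω * algebraMap F E 1) :
    Q u = 1 ∧ Q (ω • u - κ₁ • u) = t ^ 2 ∧
      ∀ v, orf Q' u v = orf Q u (orf Q (ω • u - κ₁ • u) v) := by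
  have h2 := hx.h2
  have ht : t ≠ 0 := by
    intro h0
    apply hx.hc
    refine ⟨κ₁, ?_⟩
    rw [← hκ, h0]
    ring
  have ht2 : t ^ 2 ≠ 0 := pow_ne_zero 2 ht
  have hu' := hu
  rw [hQ'] at hu'
  obtain ⟨h1, hQu⟩ := hx.inj _ _ _ _ hu'
  have hP1 : polar Q (ω • u) u = 2 * κ₁ := by
    rw [← h1]
    field_simp
  have huu : polar Q u u = 2 := by
    rw [polar_self, hQu, nsmul_eq_mul, Nat.cast_ofNat, mul_one]
  have hQb : Q (ω • u - κ₁ • u) = t ^ 2 := by
    rw [sub_eq_add_neg, ← neg_smul, QuadraticMap.map_add (⇑Q) (ω • u), QuadraticMap.map_smul,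
      polar_smul_right, hx.hgQ, hQu, hP1, smul_eq_mul, smul_eq_mul]
    linear_combination -hκ
  have hub : polar Q u (ω • u - κ₁ • u) = 0 := by
    rw [polar_sub_right, polar_smul_right, huu, polar_comm (⇑Q) u (ω • u), hP1, smul_eq_mul]
    ring
  refine ⟨hQu, hQb, ?_⟩
  intro v
  have hc₀ : algebraMap F E κ₁ + ω * algebraMap F E 1 ≠ 0 := by
    intro h0
    exact one_ne_zero (hx.hind _ _ h0).2
  obtain ⟨α, β, hαβ⟩ := hx.hdec ((Q' u)⁻¹ * polar Q' u v)
  have hmul : (algebraMap F E κ₁ + ω * algebraMap F E 1)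
      * (algebraMap F E α + ω * algebraMap F E β)
      = algebraMap F E (polar Q (ω • u) v) + ω * algebraMap F E (polar Q u v) := by
    rw [← hαβ, hu, ← mul_assoc, mul_inv_cancel₀ hc₀, one_mul, hP']
  have hmul' : algebraMap F E (κ₁ * α + c * β) + ω * algebraMap F E (α + κ₁ * β)
      = algebraMap F E (polar Q (ω • u) v) + ω * algebraMap F E (polar Q u v) := by
    rw [← hmul]
    simp only [map_add, map_mul, map_one]
    linear_combination (-(algebraMap F E β)) * hx.hω
  obtain ⟨e1, e2⟩ := hx.inj _ _ _ _ hmul'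
  have hbv : polar Q (ω • u - κ₁ • u) v = t ^ 2 * β := by
    rw [polar_sub_left, polar_smul_left, smul_eq_mul, ← e1, ← e2, ← hκ]
    ring
  have hL : orf Q' u v = v - α • u - β • (ω • u) := by
    unfold orf
    rw [hαβ, hx.smul_eq]
    abel
  rw [hL]
  unfold orf
  rw [hQb, hbv, hQu, polar_sub_right, polar_smul_right, hub, ← e2]
  have e3 : (t ^ 2)⁻¹ * (t ^ 2 * β) = β := by field_simp
  rw [e3]
  simp only [inv_one, one_mul, smul_eq_mul, mul_zero, sub_zero]
  module

theorem caseB_core_gen [Finite F] [Finite E] {ω : E} {c : F} {Q : QuadraticForm F V}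
    (hx : QExt ω c Q)
    (hnd : ∀ x : V, x ≠ 0 → ∃ y, polar Q x y ≠ 0)
    (h5 : ∀ f : V →ₗ[F] (Fin 4 → F), ∃ z : V, z ≠ 0 ∧ f z = 0)
    (M : Subgroup (V ≃ₗ[F] V)) [Finite M] (hodd : Odd (Nat.card M))
    (hiso : ∀ m ∈ M, ∀ v, Q (m v) = Q v) (hcomm : ∀ m ∈ M, ∀ v, m (ω • v) = ω • m v)
    (hN1 : ∀ s t : V ≃ₗ[F] V, (∀ v, Q (s v) = Q v) → (∀ v, Q (t v) = Q v) →
      (∀ v, s (ω • v) = ω • s v) → (∀ v, t (ω • v) = ω • t v) →
      ∀ m ∈ M, ⁅s, t⁆ * m * ⁅s, t⁆⁻¹ ∈ M)
    (hN2 : ∀ u b : V, IsSquare (Q u * Q b) → Q u * Q b ≠ 0 →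
      (∀ v, orf Q u (orf Q b (ω • v)) = ω • orf Q u (orf Q b v)) →
      ∀ m ∈ M, orfE Q u * orfE Q b * m * (orfE Q u * orfE Q b)⁻¹ ∈ M) :
    ∀ m ∈ M, m = 1 := by
  classical
  obtain ⟨Q', hQ', hP'⟩ := hx.exists_QE
  have h2E := hx.two_ne
  have h2 := hx.h2
  have hQQ : ∀ x y : V, Q' x = Q' y → Q x = Q y := by
    intro x y h
    rw [hQ', hQ'] at h
    exact (hx.inj _ _ _ _ h).2
  obtain ⟨M', hM'⟩ : ∃ M' : Subgroup (V ≃ₗ[E] V), ∀ m', m' ∈ M' ↔ obResHom F m' ∈ M :=
    ⟨M.comap (obResHom F), fun m' => Iff.rfl⟩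
  obtain ⟨φ, hφ⟩ : ∃ φ : M' →* M, ∀ x : M', ((φ x : M) : V ≃ₗ[F] V) = obResHom F (x : V ≃ₗ[E] V) :=
    ⟨((obResHom F).comp M'.subtype).codRestrict M (fun x => (hM' _).mp x.2), fun x => rfl⟩
  have hφi : Function.Injective φ := by
    intro x y hxy
    apply Subtype.ext
    apply obResHom_injective (F := F)
    rw [← hφ, ← hφ, hxy]
  have : Finite M' := Finite.of_injective φ hφi
  have hodd' : Odd (Nat.card M') := Odd.of_dvd_nat hodd (Subgroup.card_dvd_of_injective φ hφi)
  have hiso' : ∀ m ∈ M', ∀ v, Q' (m v) = Q' v := by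
    intro m hm v
    have hm' := (hM' m).mp hm
    have h1 : Q (m v) = Q v := hiso _ hm' v
    have h3 : polar Q (ω • m v) (m v) = polar Q (ω • v) v := by
      rw [← map_smul m ω v]
      exact obal_polar_of_iso Q (fun x => m x) (map_add m) (hiso _ hm') (ω • v) v
    rw [hQ', hQ', h1, h3]
  have hnd' : ∀ x ∈ (⊤ : Submodule E V), x ≠ 0 → ∃ y ∈ (⊤ : Submodule E V), polar Q' x y ≠ 0 := by
    intro x _ hx0
    obtain ⟨y, hy⟩ := hnd x hx0
    refine ⟨y, trivial, ?_⟩
    rw [hP']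
    intro h0
    exact hy (hx.hind _ _ h0).2
  have h3' : ∀ u ∈ (⊤ : Submodule E V), ∀ u' ∈ (⊤ : Submodule E V),
      ∃ z ∈ (⊤ : Submodule E V), z ≠ 0 ∧ polar Q' z u = 0 ∧ polar Q' z u' = 0 := by
    intro u _ u' _
    obtain ⟨ωm, hωm⟩ : ∃ ωm : V →ₗ[F] V, ∀ v, ωm v = ω • v :=
      ⟨{ toFun := fun v => ω • v, map_add' := smul_add ω,
         map_smul' := fun a v => smul_comm ω a v }, fun v => rfl⟩
    obtain ⟨z, hz0, hz⟩ := h5 (LinearMap.pi ![Q.polarBilin u, (Q.polarBilin u).comp ωm,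
      Q.polarBilin u', (Q.polarBilin u').comp ωm])
    have k0 := congrFun hz 0
    have k1 := congrFun hz 1
    have k2 := congrFun hz 2
    have k3 := congrFun hz 3
    simp only [LinearMap.pi_apply, Matrix.cons_val_zero, Matrix.cons_val_one, Matrix.cons_val,
      LinearMap.comp_apply, hωm, QuadraticMap.polarBilin_apply_apply, Pi.zero_apply] at k0 k1 k2 k3
    refine ⟨z, trivial, hz0, ?_, ?_⟩
    · rw [hP', polar_comm (⇑Q) (ω • z) u, polar_comm (⇑Q) z u, k0, k1]
      simp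
    · rw [hP', polar_comm (⇑Q) (ω • z) u', polar_comm (⇑Q) z u', k2, k3]
      simp
  have hisoE : ∀ (w v : V), Q (obResHom F (orfE Q' w) v) = Q v := fun w v =>
    hQQ _ _ (orf_Q Q' w v)
  have hcommE : ∀ (w v : V), obResHom F (orfE Q' w) (ω • v) = ω • obResHom F (orfE Q' w) v :=
    fun w v => map_smul (orfE Q' w) ω v
  have hnorm' : ∀ u ∈ (⊤ : Submodule E V), ∀ u' ∈ (⊤ : Submodule E V), Q' u = Q' u' → Q' u ≠ 0 →
      ∀ m ∈ M', orfE Q' u * orfE Q' u' * m * (orfE Q' u * orfE Q' u')⁻¹ ∈ M' := by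
    intro u _ u' _ h hu m hm
    obtain ⟨w, hw⟩ := refl_comm h2E Q' u u' h hu
    rw [hw, hM', map_mul, map_mul, map_inv, map_commutatorElement]
    exact hN1 _ _ (hisoE u) (hisoE w) (hcommE u) (hcommE w) _ ((hM' m).mp hm)
  obtain ⟨κ₁, t, hκ⟩ : ∃ κ₁ t : F, κ₁ ^ 2 + t ^ 2 = c := by
    obtain ⟨x, y, hxy⟩ := obal_sq_add_sq h2 (1 : F) 1 c one_ne_zero one_ne_zero
    exact ⟨x, y, by rw [← hxy]; ring⟩
  have ht : t ≠ 0 := by
    intro h0
    apply hx.hc
    refine ⟨κ₁, ?_⟩
    rw [← hκ, h0]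
    ring
  have hc₀ : algebraMap F E κ₁ + ω * algebraMap F E 1 ≠ 0 := by
    intro h0
    exact one_ne_zero (hx.hind _ _ h0).2
  have hrefl' : ∀ u ∈ (⊤ : Submodule E V), Q' u = algebraMap F E κ₁ + ω * algebraMap F E 1 →
      ∀ m ∈ M', orfE Q' u * m * (orfE Q' u)⁻¹ ∈ M' := by
    intro u _ hu m hm
    obtain ⟨hQu, hQb, hsplit⟩ := hx.refl_split Q' hQ' hP' κ₁ t hκ u hu
    have hres : obResHom F (orfE Q' u) = orfE Q u * orfE Q (ω • u - κ₁ • u) := by
      ext v
      rw [obResHom_apply, orfE_apply, hsplit v]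
      rfl
    rw [hM', map_mul, map_mul, map_inv, hres]
    apply hN2 u (ω • u - κ₁ • u) ?_ ?_ ?_ _ ((hM' m).mp hm)
    · rw [hQu, hQb, one_mul]
      exact ⟨t, sq t⟩
    · rw [hQu, hQb, one_mul]
      exact pow_ne_zero 2 ht
    · intro v
      rw [← hsplit, ← hsplit, orf_smul]
  have main := obal_core h2E Q' ⊤ hnd' h3' M' hodd' hiso' (fun _ _ _ _ => trivial) hnorm'
    _ hc₀ hrefl'
  intro m hm
  obtain ⟨m', hm'⟩ := hx.exists_lin m (hcomm m hm)
  have hmM' : m' ∈ M' := by
    rw [hM', hm']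
    exact hm
  ext v
  rw [← hm', obResHom_apply, main m' hmM' v trivial]
  rfl

end CaseBCore

section CaseBInst

/-- the `F[√c]`-module structure defined by `g` -/
theorem exists_qext {F : Type*} [Field F] (h2 : (2 : F) ≠ 0) {V : Type*} [AddCommGroup V]
    [Module F V] (Q : QuadraticForm F V) (g : V →ₗ[F] V) (c : F) (hc : ¬ IsSquare c)
    (hgg : ∀ v, g (g v) = c • v) (hgQ : ∀ v, Q (g v) = c * Q v)
    [Fact (∀ r : F, r ^ 2 ≠ c + 0 * r)] :
    ∃ (_ : Module (QuadraticAlgebra F c 0) V) (_ : IsScalarTower F (QuadraticAlgebra F c 0) V),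
      QExt (QuadraticAlgebra.omega : QuadraticAlgebra F c 0) c Q ∧
      (∀ v : V, (QuadraticAlgebra.omega : QuadraticAlgebra F c 0) • v = g v) := by
  have hg2 : g * g = c • (1 : Module.End F V) + (0 : F) • g := by
    ext v
    simp [hgg]
  obtain ⟨φ, hφ⟩ : ∃ φ : QuadraticAlgebra F c 0 →ₐ[F] Module.End F V,
      ∀ z, φ z = z.re • (1 : Module.End F V) + z.im • g :=
    ⟨QuadraticAlgebra.lift ⟨g, hg2⟩, fun z => rfl⟩
  let inst : Module (QuadraticAlgebra F c 0) V :=
    Module.compHom V (φ : QuadraticAlgebra F c 0 →+* Module.End F V)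
  have hsm : ∀ (z : QuadraticAlgebra F c 0) (v : V), z • v = z.re • v + z.im • g v := by
    intro z v
    show (φ z) v = _
    rw [hφ]
    simp
  have hωg : ∀ v : V, (QuadraticAlgebra.omega : QuadraticAlgebra F c 0) • v = g v := by
    intro v
    rw [hsm]
    simp
  have hst : IsScalarTower F (QuadraticAlgebra F c 0) V := by
    refine ⟨fun a z v => ?_⟩
    rw [hsm, hsm]
    simp only [QuadraticAlgebra.re_smul, QuadraticAlgebra.im_smul, smul_eq_mul, smul_add, mul_smul]
  refine ⟨inst, hst, ?_, hωg⟩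
  refine ⟨h2, hc, ?_, ?_, ?_, ?_⟩
  · ext <;> simp
  · intro z
    refine ⟨z.re, z.im, ?_⟩
    ext <;> simp
  · intro α β h
    have h1 := congrArg QuadraticAlgebra.re h
    have h2' := congrArg QuadraticAlgebra.im h
    simp at h1 h2'
    exact ⟨h1, h2'⟩
  · intro v
    rw [hωg]
    exact hgQ v

theorem obal_caseB_core {F : Type*} [Field F] [Finite F] (h2 : (2 : F) ≠ 0) {V : Type*}
    [AddCommGroup V] [Module F V]
    (Q : QuadraticForm F V) (hnd : ∀ x : V, x ≠ 0 → ∃ y, polar Q x y ≠ 0)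
    (h5 : ∀ f : V →ₗ[F] (Fin 4 → F), ∃ z : V, z ≠ 0 ∧ f z = 0)
    (g : V →ₗ[F] V) (c : F) (hc : ¬ IsSquare c) (hgg : ∀ v, g (g v) = c • v)
    (hgQ : ∀ v, Q (g v) = c * Q v)
    (M : Subgroup (V ≃ₗ[F] V)) [Finite M] (hodd : Odd (Nat.card M))
    (hiso : ∀ m ∈ M, ∀ v, Q (m v) = Q v) (hcomm : ∀ m ∈ M, ∀ v, m (g v) = g (m v))
    (hN1 : ∀ s t : V ≃ₗ[F] V, (∀ v, Q (s v) = Q v) → (∀ v, Q (t v) = Q v) →
      (∀ v, s (g v) = g (s v)) →
      (∀ v, t (g v) = g (t v)) → ∀ m ∈ M, ⁅s, t⁆ * m * ⁅s, t⁆⁻¹ ∈ M)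
    (hN2 : ∀ u b : V, IsSquare (Q u * Q b) → Q u * Q b ≠ 0 →
      (∀ v, orf Q u (orf Q b (g v)) = g (orf Q u (orf Q b v))) →
      ∀ m ∈ M, orfE Q u * orfE Q b * m * (orfE Q u * orfE Q b)⁻¹ ∈ M) :
    ∀ m ∈ M, m = 1 := by
  have : Fact (∀ r : F, r ^ 2 ≠ c + 0 * r) :=
    ⟨fun r h => hc ⟨r, by linear_combination (-1 : F) * h⟩⟩
  obtain ⟨inst, hst, hx, hωg⟩ := exists_qext h2 Q g c hc hgg hgQ
  have : Finite (QuadraticAlgebra F c 0) :=
    Finite.of_equiv _ (QuadraticAlgebra.equivProd c 0).symm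
  refine caseB_core_gen hx hnd h5 M hodd hiso ?_ ?_ ?_
  · intro m hm v
    rw [hωg, hωg]
    exact hcomm m hm v
  · intro s t hs ht hsg htg
    apply hN1 s t hs ht
    · intro v
      rw [← hωg, ← hωg]
      exact hsg v
    · intro v
      rw [← hωg, ← hωg]
      exact htg v
  · intro u b hsq hne hub
    apply hN2 u b hsq hne
    intro v
    rw [← hωg, ← hωg]
    exact hub v

end CaseBInst

end Cfsg.Agent.Lib.helper49
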