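/-
The "nonsquare" case, centraliser part: a semilinear similarity `m` with `m g = lam g m` which
centralises the derived group of the centraliser of `g` in the isometry group is `κ` or `κ g`.
-/
import Mathlib
import Cfsg.Agent.Lib.helper49.OBalCaseB
import Cfsg.Agent.Lib.helper51.OBalD

set_option autoImplicit false
set_option linter.unusedSectionVars false
set_option linter.unusedVariables false
set_option linter.unusedSimpArgs false

namespace Cfsg.Agent.Lib.helper49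

open QuadraticMap
open Cfsg.Agent.Lib.helper51
open scoped commutatorElement

section CaseBCent

variable {F : Type*} [Field F] {E : Type*} [Field E] [Algebra F E]
  {V : Type*} [AddCommGroup V] [Module F V] [Module E V] [IsScalarTower F E V]

theorem caseB_cent_gen [Finite F] [Finite E] {ω : E} {c : F} {Q : QuadraticForm F V}
    (hx : QExt ω c Q)
    (hnd : ∀ x : V, x ≠ 0 → ∃ y, polar Q x y ≠ 0)
    (h5 : ∀ f : V →ₗ[F] (Fin 4 → F), ∃ z : V, z ≠ 0 ∧ f z = 0)
    (m : V → V) (hadd : ∀ u v, m (u + v) = m u + m v) (τ : F →+* F)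
    (hτ : ∀ (l : F) (v : V), m (l • v) = τ l • m v)
    (hinj : ∀ v, m v = 0 → v = 0) (lam : F) (hmg : ∀ v, m (ω • v) = lam • (ω • m v))
    (μ : F) (hsim : ∀ v, Q (m v) = μ * τ (Q v))
    (τ' : E →+* E) (hτ'1 : ∀ α : F, τ' (algebraMap F E α) = algebraMap F E (τ α))
    (hτ'ω : τ' ω = algebraMap F E lam * ω)
    (hS : ∀ s t : V ≃ₗ[F] V, (∀ v, Q (s v) = Q v) → (∀ v, Q (t v) = Q v) →
      (∀ v, s (ω • v) = ω • s v) → (∀ v, t (ω • v) = ω • t v) →
      ∀ v, m (⁅s, t⁆ v) = ⁅s, t⁆ (m v)) :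
    (∀ l, τ l = l) ∧ ∃ κ : F, (∀ v, m v = κ • v) ∨ (∀ v, m v = κ • (ω • v)) := by
  classical
  obtain ⟨Q', hQ', hP'⟩ := hx.exists_QE
  have h2E := hx.two_ne
  have h2 := hx.h2
  have hQQ : ∀ x y : V, Q' x = Q' y → Q x = Q y := by
    intro x y h
    rw [hQ', hQ'] at h
    exact (hx.inj _ _ _ _ h).2
  have hnd' : ∀ x ∈ (⊤ : Submodule E V), x ≠ 0 → ∃ y ∈ (⊤ : Submodule E V), polar Q' x y ≠ 0 := by
    intro x _ hx0
    obtain ⟨y, hy⟩ := hnd x hx0
    refine ⟨y, trivial, ?_⟩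
    rw [hP']
    intro h0
    exact hy (hx.hind _ _ h0).2
  have h3' : ∀ u ∈ (⊤ : Submodule E V), ∀ u' ∈ (⊤ : Submodule E V),
      ∃ z ∈ (⊤ : Submodule E V), z ≠ 0 ∧ polar Q' z u = 0 ∧ polar Q' z u' = 0 := by
    intro u _ u' _
    obtain ⟨ωm, hωm⟩ : ∃ ωm : V →ₗ[F] V, ∀ v, ωm v = ω • v :=
      ⟨{ toFun := fun v => ω • v, map_add' := smul_add ω,
         map_smul' := fun a v => smul_comm ω a v }, fun v => rfl⟩
    obtain ⟨z, hz0, hz⟩ := h5 (LinearMap.pi ![Q.polarBilin u, (Q.polarBilin u).comp ωm,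
      Q.polarBilin u', (Q.polarBilin u').comp ωm])
    have k0 := congrFun hz 0
    have k1 := congrFun hz 1
    have k2 := congrFun hz 2
    have k3 := congrFun hz 3
    simp only [LinearMap.pi_apply, Matrix.cons_val_zero, Matrix.cons_val_one, Matrix.cons_val,
      LinearMap.comp_apply, hωm, QuadraticMap.polarBilin_apply_apply, Pi.zero_apply] at k0 k1 k2 k3
    refine ⟨z, trivial, hz0, ?_, ?_⟩
    · rw [hP', polar_comm (⇑Q) (ω • z) u, polar_comm (⇑Q) z u, k0, k1]
      simp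
    · rw [hP', polar_comm (⇑Q) (ω • z) u', polar_comm (⇑Q) z u', k2, k3]
      simp
  have hisoE : ∀ (w v : V), Q (obResHom F (orfE Q' w) v) = Q v := fun w v =>
    hQQ _ _ (orf_Q Q' w v)
  have hcommE : ∀ (w v : V), obResHom F (orfE Q' w) (ω • v) = ω • obResHom F (orfE Q' w) v :=
    fun w v => map_smul (orfE Q' w) ω v
  have hτ' : ∀ (z : E) (v : V), m (z • v) = τ' z • m v := by
    intro z v
    obtain ⟨α, β, rfl⟩ := hx.hdec z
    rw [hx.smul_eq, hadd, hτ, hτ, hmg, map_add, map_mul, hτ'1, hτ'1, hτ'ω, add_smul, mul_smul,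
      mul_smul, algebraMap_smul, algebraMap_smul, algebraMap_smul, smul_comm ω (τ β) (m v),
      smul_comm (τ β) lam]
  have hcomm' : ∀ u ∈ (⊤ : Submodule E V), ∀ u' ∈ (⊤ : Submodule E V), Q' u = Q' u' → Q' u ≠ 0 →
      ∀ v, m (orf Q' u (orf Q' u' v)) = orf Q' u (orf Q' u' (m v)) := by
    intro u _ u' _ h hu v
    obtain ⟨w, hw⟩ := refl_comm h2E Q' u u' h hu
    have h1 := hS _ _ (hisoE u) (hisoE w) (hcommE u) (hcommE w) v
    rw [← map_commutatorElement, ← hw] at h1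
    exact h1
  obtain ⟨hid, α, hα⟩ := obal_semilinear_scalar h2E Q' ⊤ hnd' h3' m hadd τ' hτ' hinj hcomm'
  have hτid : ∀ l, τ l = l := by
    intro l
    have := hid (algebraMap F E l)
    rw [hτ'1] at this
    exact (algebraMap F E).injective this
  refine ⟨hτid, ?_⟩
  obtain ⟨a, b, rfl⟩ := hx.hdec α
  have hm : ∀ v, m v = a • v + b • (ω • v) := by
    intro v
    rw [hα v trivial, hx.smul_eq]
  have hQm : ∀ v, Q (m v) = (a ^ 2 + b ^ 2 * c) * Q v + a * b * polar Q v (ω • v) := by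
    intro v
    rw [hm, QuadraticMap.map_add (⇑Q) (a • v), QuadraticMap.map_smul, QuadraticMap.map_smul,
      hx.hgQ, polar_smul_left, polar_smul_right, smul_eq_mul, smul_eq_mul]
    ring
  by_cases hab : a * b = 0
  · rcases mul_eq_zero.mp hab with ha | hb
    · refine ⟨b, Or.inr fun v => ?_⟩
      rw [hm, ha, zero_smul, zero_add]
    · refine ⟨a, Or.inl fun v => ?_⟩
      rw [hm, hb, zero_smul, add_zero]
  · exfalso
    obtain ⟨κ, hκ⟩ : ∃ κ : F, ∀ v, polar Q v (ω • v) = κ * Q v := by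
      refine ⟨(μ - a ^ 2 - b ^ 2 * c) / (a * b), fun v => ?_⟩
      have h1 := hQm v
      rw [hsim, hτid] at h1
      rw [div_mul_eq_mul_div, eq_div_iff hab]
      linear_combination -h1
    have hpol : ∀ u v : V, 2 * polar Q u (ω • v) = κ * polar Q u v := by
      intro u v
      have h1 := hκ (u + v)
      rw [smul_add, polar_add_left, polar_add_right, polar_add_right, hκ u, hκ v,
        QuadraticMap.map_add (⇑Q) u] at h1
      have h3 : polar Q v (ω • u) = polar Q u (ω • v) := by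
        rw [polar_comm (⇑Q) v (ω • u), hx.adj]
      rw [h3] at h1
      linear_combination h1
    have hsc : ∀ v : V, (2 : F) • (ω • v) = κ • v := by
      intro v
      by_contra hne
      have hne' : (2 : F) • (ω • v) - κ • v ≠ 0 := sub_ne_zero.mpr hne
      obtain ⟨y, hy⟩ := hnd _ hne'
      apply hy
      rw [polar_comm, polar_sub_right, polar_smul_right, polar_smul_right, smul_eq_mul,
        smul_eq_mul, hpol, sub_self]
    obtain ⟨z, hz0, -⟩ := h5 0
    have h4 : (4 * c) • z = (κ ^ 2) • z := by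
      have e1 : (4 * c) • z = (2 : F) • (ω • ((2 : F) • (ω • z))) := by
        rw [smul_comm ω (2 : F) (ω • z), hx.omega_omega, smul_smul, smul_smul]
        congr 1
        ring
      rw [e1, hsc z, smul_comm ω κ z, smul_comm (2 : F) κ (ω • z), hsc z, smul_smul, _root_.sq]
    have h5' : 4 * c = κ ^ 2 := by
      have h6 : (4 * c - κ ^ 2) • z = 0 := by
        rw [sub_smul, h4, sub_self]
      rcases smul_eq_zero.mp h6 with h7 | h7
      · exact sub_eq_zero.mp h7
      · exact absurd h7 hz0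
    apply hx.hc
    refine ⟨κ / 2, ?_⟩
    field_simp
    linear_combination h5'

end CaseBCent

section CaseBCentInst

/-- the ring endomorphism `α + β ω ↦ τ α + lam τ β ω` of `F[√c]` -/
theorem exists_tau' {F : Type*} [Field F] (c : F) (τ : F →+* F) (lam : F)
    (hlam : τ c = lam ^ 2 * c) [Fact (∀ r : F, r ^ 2 ≠ c + 0 * r)] :
    ∃ τ' : QuadraticAlgebra F c 0 →+* QuadraticAlgebra F c 0,
      (∀ α : F, τ' (algebraMap F (QuadraticAlgebra F c 0) α)
        = algebraMap F (QuadraticAlgebra F c 0) (τ α)) ∧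
      τ' (QuadraticAlgebra.omega : QuadraticAlgebra F c 0)
        = algebraMap F (QuadraticAlgebra F c 0) lam * QuadraticAlgebra.omega := by
  refine ⟨{ toFun := fun z => ⟨τ z.re, lam * τ z.im⟩, map_one' := ?_, map_mul' := ?_,
            map_zero' := ?_, map_add' := ?_ }, ?_, ?_⟩
  · ext <;> simp [QuadraticAlgebra.re_one, QuadraticAlgebra.im_one]
  · intro z w
    ext
    · simp only [QuadraticAlgebra.re_mul, map_add, map_mul, hlam]
      ring
    · simp only [QuadraticAlgebra.im_mul, map_add, map_mul, map_zero]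
      ring
  · ext <;> simp
  · intro z w
    ext
    · simp
    · simp [mul_add]
  · intro α
    ext <;> simp
  · ext <;> simp

theorem obal_caseB_cent {F : Type*} [Field F] [Finite F] (h2 : (2 : F) ≠ 0) {V : Type*}
    [AddCommGroup V] [Module F V]
    (Q : QuadraticForm F V) (hnd : ∀ x : V, x ≠ 0 → ∃ y, polar Q x y ≠ 0)
    (h5 : ∀ f : V →ₗ[F] (Fin 4 → F), ∃ z : V, z ≠ 0 ∧ f z = 0)
    (g : V →ₗ[F] V) (c : F) (hc : ¬ IsSquare c) (hgg : ∀ v, g (g v) = c • v)
    (hgQ : ∀ v, Q (g v) = c * Q v)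
    (m : V → V) (hadd : ∀ u v, m (u + v) = m u + m v) (τ : F →+* F)
    (hτ : ∀ (l : F) (v : V), m (l • v) = τ l • m v)
    (hinj : ∀ v, m v = 0 → v = 0) (lam : F) (hmg : ∀ v, m (g v) = lam • g (m v))
    (μ : F) (hsim : ∀ v, Q (m v) = μ * τ (Q v))
    (hS : ∀ s t : V ≃ₗ[F] V, (∀ v, Q (s v) = Q v) → (∀ v, Q (t v) = Q v) →
      (∀ v, s (g v) = g (s v)) →
      (∀ v, t (g v) = g (t v)) → ∀ v, m (⁅s, t⁆ v) = ⁅s, t⁆ (m v)) :
    (∀ l, τ l = l) ∧ ∃ κ : F, (∀ v, m v = κ • v) ∨ (∀ v, m v = κ • g v) := by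
  have : Fact (∀ r : F, r ^ 2 ≠ c + 0 * r) :=
    ⟨fun r h => hc ⟨r, by linear_combination (-1 : F) * h⟩⟩
  obtain ⟨inst, hst, hx, hωg⟩ := exists_qext h2 Q g c hc hgg hgQ
  have : Finite (QuadraticAlgebra F c 0) :=
    Finite.of_equiv _ (QuadraticAlgebra.equivProd c 0).symm
  have hlam : τ c = lam ^ 2 * c := by
    obtain ⟨z, hz0, -⟩ := h5 0
    have h1 : m (g (g z)) = τ c • m z := by rw [hgg, hτ]
    have h3 : m (g (g z)) = (lam ^ 2 * c) • m z := by
      rw [hmg, hmg, map_smul, hgg, smul_smul, smul_smul]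
      congr 1
      ring
    have h4 : (τ c - lam ^ 2 * c) • m z = 0 := by
      rw [sub_smul, ← h1, ← h3, sub_self]
    rcases smul_eq_zero.mp h4 with h6 | h6
    · exact sub_eq_zero.mp h6
    · exact absurd (hinj z h6) hz0
  obtain ⟨τ', hτ'1, hτ'ω⟩ := exists_tau' c τ lam hlam
  obtain ⟨hid, κ, hκ⟩ := caseB_cent_gen hx hnd h5 m hadd τ hτ hinj lam
    (fun v => by rw [hωg, hωg]; exact hmg v) μ hsim τ' hτ'1 hτ'ω
    (fun s t hs ht hsg htg => hS s t hs ht
      (fun v => by rw [← hωg, ← hωg]; exact hsg v)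
      (fun v => by rw [← hωg, ← hωg]; exact htg v))
  refine ⟨hid, κ, ?_⟩
  rcases hκ with hκ | hκ
  · exact Or.inl hκ
  · refine Or.inr fun v => ?_
    rw [hκ v, hωg]

end CaseBCentInst

end Cfsg.Agent.Lib.helper49
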