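/-
Shared lemmas (helper49): the symplectic subfield subgroup `Sp_n(q)` is a maximal subgroup of `SU_n(q)`
(transvection-set argument).  Part 1: transitivity of symplectic transvections on ordered bases of
totally isotropic lines, in the abstract form needed.
-/
import Mathlib
import Cfsg.Prelude.Def_GeometricClasses
import Cfsg.Agent.Lib.helper95.SuMax

set_option autoImplicit false
set_option linter.unusedSectionVars false
set_option linter.style.haveILetI false

namespace Cfsg.Agent.Lib.helper49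

open Matrix Module

section SpPairs

variable {K E : Type*} [Field K] [AddCommGroup E] [Module K E]

theorem alt_skew (f : LinearMap.BilinForm K E) (halt : ∀ x, f x x = 0) (x y : E) : f x y = -f y x := by
  have h := halt (x + y)
  simp only [map_add, LinearMap.add_apply, halt, zero_add, add_zero] at h
  rw [add_comm] at h
  exact eq_neg_of_add_eq_zero_left h

/-- A vector outside the line `⟨b⟩` is not orthogonal to the whole of `b^⊥`. -/
theorem exists_perp_ne_of_notMem_span (f : LinearMap.BilinForm K E) (hnd : f.Nondegenerate) (a b : E)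
    (ha : a ∉ Submodule.span K {b}) : ∃ w, f b w = 0 ∧ f a w ≠ 0 := by
  by_contra hcon
  push Not at hcon
  apply ha
  by_cases hb : b = 0
  · have h0 : a = 0 := hnd.1 a (fun w => hcon w (by rw [hb]; simp))
    rw [h0]
    exact Submodule.zero_mem _
  · obtain ⟨w₀, hw₀⟩ : ∃ w₀, f b w₀ ≠ 0 := by
      by_contra h'
      push Not at h'
      exact hb (hnd.1 b h')
    have key : a = (f a w₀ / f b w₀) • b := by
      rw [← sub_eq_zero]
      apply hnd.1
      intro w
      have h1 := hcon (w - (f b w / f b w₀) • w₀) (by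
        rw [map_sub, map_smul, smul_eq_mul, div_mul_cancel₀ _ hw₀, sub_self])
      rw [map_sub, map_smul, smul_eq_mul] at h1
      rw [map_sub, LinearMap.sub_apply, map_smul, LinearMap.smul_apply, smul_eq_mul]
      have h2 : f a w = f b w / f b w₀ * f a w₀ := sub_eq_zero.mp h1
      rw [h2]
      field_simp
      ring
    rw [key]
    exact Submodule.smul_mem _ _ (Submodule.mem_span_singleton_self b)

/-- One step: changing the first member of a pair in `𝒮` to a vector not orthogonal to it. -/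
theorem sp_step_ne (f : LinearMap.BilinForm K E) (halt : ∀ x, f x x = 0) (𝒮 : Set (E × E))
    (inv : ∀ a b v t, (a, b) ∈ 𝒮 → (a + (t * f a v) • v, b + (t * f b v) • v) ∈ 𝒮)
    (a b a' : E) (hab : (a, b) ∈ 𝒮) (h1 : f a b = 0) (h2 : f a' b = 0) (h3 : f a a' ≠ 0) :
    (a', b) ∈ 𝒮 := by
  have hbv : f b (a' - a) = 0 := by
    rw [map_sub, alt_skew f halt b a', alt_skew f halt b a, h1, h2]
    simp
  have hav : f a (a' - a) = f a a' := by
    rw [map_sub, halt, sub_zero]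
  have := inv a b (a' - a) (f a a')⁻¹ hab
  rw [hbv, hav, inv_mul_cancel₀ h3, mul_zero, one_smul, zero_smul, add_zero, add_sub_cancel] at this
  exact this

/-- Changing the first member of a pair in `𝒮` within `b^⊥ ∖ ⟨b⟩`. -/
theorem sp_step (f : LinearMap.BilinForm K E) (halt : ∀ x, f x x = 0) (hnd : f.Nondegenerate)
    (𝒮 : Set (E × E))
    (inv : ∀ a b v t, (a, b) ∈ 𝒮 → (a + (t * f a v) • v, b + (t * f b v) • v) ∈ 𝒮)
    (a b a' : E) (hab : (a, b) ∈ 𝒮) (h1 : f a b = 0) (h2 : f a' b = 0)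
    (ha : a ∉ Submodule.span K {b}) (ha' : a' ∉ Submodule.span K {b}) :
    (a', b) ∈ 𝒮 := by
  by_cases h3 : f a a' = 0
  swap
  · exact sp_step_ne f halt 𝒮 inv a b a' hab h1 h2 h3
  obtain ⟨w₁, hw₁b, hw₁⟩ := exists_perp_ne_of_notMem_span f hnd a b ha
  obtain ⟨w₂, hw₂b, hw₂⟩ := exists_perp_ne_of_notMem_span f hnd a' b ha'
  have hw₁b' : f w₁ b = 0 := by rw [alt_skew f halt, hw₁b, neg_zero]
  have hw₂b' : f w₂ b = 0 := by rw [alt_skew f halt, hw₂b, neg_zero]
  have hw₂' : f w₂ a' ≠ 0 := by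
    rw [alt_skew f halt]
    exact neg_ne_zero.mpr hw₂
  obtain ⟨a'', h4, h5, h6⟩ : ∃ a'', f a'' b = 0 ∧ f a a'' ≠ 0 ∧ f a'' a' ≠ 0 := by
    by_cases e1 : f w₁ a' = 0
    swap
    · exact ⟨w₁, hw₁b', hw₁, e1⟩
    by_cases e2 : f a w₂ = 0
    swap
    · exact ⟨w₂, hw₂b', e2, hw₂'⟩
    refine ⟨w₁ + w₂, ?_, ?_, ?_⟩
    · rw [map_add, LinearMap.add_apply, hw₁b', hw₂b', add_zero]
    · rw [map_add, e2, add_zero]
      exact hw₁
    · rw [map_add, LinearMap.add_apply, e1, zero_add]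
      exact hw₂'
  have hstep := sp_step_ne f halt 𝒮 inv a b a'' hab h1 h4 h5
  exact sp_step_ne f halt 𝒮 inv a'' b a' hstep h4 h2 h6

/-- **Transitivity.** A set of pairs invariant under the diagonal action of all symplectic
transvections and containing one ordered basis of a totally isotropic line contains all of them. -/
theorem sp_pairs [FiniteDimensional K E] (f : LinearMap.BilinForm K E) (halt : ∀ x, f x x = 0)
    (hnd : f.Nondegenerate) (hdim : 5 ≤ finrank K E) (𝒮 : Set (E × E))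
    (inv : ∀ a b v t, (a, b) ∈ 𝒮 → (a + (t * f a v) • v, b + (t * f b v) • v) ∈ 𝒮)
    (x₀ x₁ : E) (hx : (x₀, x₁) ∈ 𝒮) (hx₁ : x₁ ≠ 0) (hx₀ : x₀ ∉ Submodule.span K {x₁})
    (hfx : f x₀ x₁ = 0)
    (y₀ y₁ : E) (hy₁ : y₁ ≠ 0) (hy₀ : y₀ ∉ Submodule.span K {y₁}) (hfy : f y₀ y₁ = 0) :
    (y₀, y₁) ∈ 𝒮 := by
  classical
  -- a vector orthogonal to `x₁` and `y₁` outside their span
  obtain ⟨z₀, hz₀x, hz₀y, hz₀⟩ : ∃ z₀, f x₁ z₀ = 0 ∧ f y₁ z₀ = 0 ∧
      z₀ ∉ Submodule.span K (Set.range ![x₁, y₁]) := by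
    set φ : E →ₗ[K] K × K := (f x₁).prod (f y₁) with hφ
    have h1 := LinearMap.finrank_range_add_finrank_ker φ
    have h2 : finrank K ↥(LinearMap.range φ) ≤ 2 := by
      have := Submodule.finrank_le (LinearMap.range φ)
      rw [Module.finrank_prod, Module.finrank_self] at this
      exact this
    have h3 : finrank K ↥(Submodule.span K (Set.range ![x₁, y₁])) ≤ 2 := by
      have := finrank_range_le_card (R := K) ![x₁, y₁]
      rw [Fintype.card_fin] at this
      exact this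
    have h4 : ¬ LinearMap.ker φ ≤ Submodule.span K (Set.range ![x₁, y₁]) := by
      intro hle
      have := Submodule.finrank_mono hle
      omega
    obtain ⟨z₀, hz₀k, hz₀⟩ := SetLike.not_le_iff_exists.mp h4
    have h5 : φ z₀ = 0 := LinearMap.mem_ker.mp hz₀k
    have h5a : f x₁ z₀ = 0 := congrArg Prod.fst h5
    have h5b : f y₁ z₀ = 0 := congrArg Prod.snd h5
    exact ⟨z₀, h5a, h5b, hz₀⟩
  have hz₀x' : f z₀ x₁ = 0 := by rw [alt_skew f halt, hz₀x, neg_zero]
  have hz₀y' : f z₀ y₁ = 0 := by rw [alt_skew f halt, hz₀y, neg_zero]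
  have hzx : z₀ ∉ Submodule.span K {x₁} := by
    intro hmem
    apply hz₀
    exact Submodule.span_mono (by
      rintro _ rfl
      exact ⟨0, rfl⟩) hmem
  have hzy : z₀ ∉ Submodule.span K {y₁} := by
    intro hmem
    apply hz₀
    exact Submodule.span_mono (by
      rintro _ rfl
      exact ⟨1, rfl⟩) hmem
  have hxz : x₁ ∉ Submodule.span K {z₀} := by
    intro hmem
    obtain ⟨c, hc⟩ := Submodule.mem_span_singleton.mp hmem
    have hc0 : c ≠ 0 := by
      rintro rfl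
      rw [zero_smul] at hc
      exact hx₁ hc.symm
    apply hzx
    rw [Submodule.mem_span_singleton]
    exact ⟨c⁻¹, by rw [← hc, smul_smul, inv_mul_cancel₀ hc0, one_smul]⟩
  have hyz : y₁ ∉ Submodule.span K {z₀} := by
    intro hmem
    obtain ⟨c, hc⟩ := Submodule.mem_span_singleton.mp hmem
    have hc0 : c ≠ 0 := by
      rintro rfl
      rw [zero_smul] at hc
      exact hy₁ hc.symm
    apply hzy
    rw [Submodule.mem_span_singleton]
    exact ⟨c⁻¹, by rw [← hc, smul_smul, inv_mul_cancel₀ hc0, one_smul]⟩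
  -- first step
  have s1 : (z₀, x₁) ∈ 𝒮 := sp_step f halt hnd 𝒮 inv x₀ x₁ z₀ hx hfx hz₀x' hx₀ hzx
  -- second step, on the swapped set
  have s2 : (z₀, y₁) ∈ 𝒮 := by
    have key := sp_step f halt hnd {p : E × E | (p.2, p.1) ∈ 𝒮}
      (fun a b v t hab => inv b a v t hab) x₁ z₀ y₁ s1 hz₀x hz₀y hxz hyz
    exact key
  exact sp_step f halt hnd 𝒮 inv z₀ y₁ y₀ s2 hz₀y' hfy hzy hy₀

end SpPairs

section Extra

variable {K E : Type*} [Field K] [AddCommGroup E] [Module K E]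

/-- In dimension at least three, `b^⊥` is not contained in the line `⟨b⟩`. -/
theorem exists_perp_notMem_span [FiniteDimensional K E] (f : LinearMap.BilinForm K E)
    (hdim : 3 ≤ finrank K E) (b : E) : ∃ a, f b a = 0 ∧ a ∉ Submodule.span K {b} := by
  classical
  have h1 := LinearMap.finrank_range_add_finrank_ker (f b)
  have h2 : finrank K ↥(LinearMap.range (f b)) ≤ 1 := by
    have := Submodule.finrank_le (LinearMap.range (f b))
    rw [Module.finrank_self] at this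
    exact this
  have h3 : finrank K ↥(Submodule.span K {b}) ≤ 1 := by
    have := finrank_span_finset_le_card (R := K) ({b} : Finset E)
    rw [Finset.card_singleton, Finset.coe_singleton] at this
    exact this
  have h4 : ¬ LinearMap.ker (f b) ≤ Submodule.span K {b} := by
    intro hle
    have := Submodule.finrank_mono hle
    omega
  obtain ⟨a, hak, ha⟩ := SetLike.not_le_iff_exists.mp h4
  exact ⟨a, LinearMap.mem_ker.mp hak, ha⟩

end Extra

section Field

open Cfsg.Agent.Lib.helper17 Cfsg.Agent.Lib.helper95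

variable {F : Type*} [Field F] [Fintype F] {q : ℕ} (hF : Fintype.card F = q ^ 2)
  (F₀ : Subfield F) (hcard : Fintype.card F = Nat.card F₀ ^ 2)
include hF hcard

theorem natCard_subfield_eq : Nat.card F₀ = q := by
  have h : Nat.card F₀ ^ 2 = q ^ 2 := by rw [← hcard, hF]
  exact Nat.pow_left_injective (by norm_num) h

/-- The subfield of order `q` of the field of order `q²` is the fixed field of `x ↦ x^q`. -/
theorem mem_subfield_iff_pow (a : F) : a ∈ F₀ ↔ a ^ q = a := by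
  classical
  have hq := natCard_subfield_eq hF F₀ hcard
  have hq2 := two_le_of_card_eq_sq hF
  have fwd : ∀ a : F, a ∈ F₀ → a ^ q = a := by
    intro a ha
    letI : Fintype ↥F₀ := Fintype.ofFinite _
    have h1 : (⟨a, ha⟩ : ↥F₀) ^ Fintype.card ↥F₀ = ⟨a, ha⟩ := FiniteField.pow_card _
    rw [← Nat.card_eq_fintype_card, hq] at h1
    exact congrArg Subtype.val h1
  refine ⟨fwd a, fun ha => ?_⟩
  have hne : (Polynomial.X ^ q - Polynomial.X : Polynomial F) ≠ 0 :=
    FiniteField.X_pow_card_sub_X_ne_zero F (by omega)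
  have hsub : (F₀ : Set F) ⊆ {a : F | a ^ q = a} := fun a ha => fwd a ha
  have hle : ({a : F | a ^ q = a} : Set F).ncard ≤ (F₀ : Set F).ncard := by
    have h1 : ({a : F | a ^ q = a} : Set F) ⊆
        ↑((Polynomial.X ^ q - Polynomial.X : Polynomial F).roots.toFinset) := by
      intro a ha
      simp only [Finset.mem_coe, Multiset.mem_toFinset, Polynomial.mem_roots hne, Polynomial.IsRoot,
        Polynomial.eval_sub, Polynomial.eval_pow, Polynomial.eval_X]
      exact sub_eq_zero.mpr ha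
    calc ({a : F | a ^ q = a} : Set F).ncard
        ≤ (↑((Polynomial.X ^ q - Polynomial.X : Polynomial F).roots.toFinset) : Set F).ncard :=
          Set.ncard_le_ncard h1 (Finset.finite_toSet _)
      _ = ((Polynomial.X ^ q - Polynomial.X : Polynomial F).roots.toFinset).card :=
          Set.ncard_coe_finset _
      _ ≤ Multiset.card (Polynomial.X ^ q - Polynomial.X : Polynomial F).roots :=
          Multiset.toFinset_card_le _
      _ ≤ (Polynomial.X ^ q - Polynomial.X : Polynomial F).natDegree := Polynomial.card_roots' _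
      _ = q := FiniteField.X_pow_card_sub_X_natDegree_eq F (by omega)
      _ = (F₀ : Set F).ncard := by
          rw [← hq]
          exact (Nat.card_coe_set_eq _).symm
  have heq := Set.eq_of_subset_of_ncard_le hsub hle (Set.toFinite _)
  have hmem : a ∈ ({a : F | a ^ q = a} : Set F) := ha
  rw [← heq] at hmem
  exact hmem

theorem div_mem_subfield_of_trace_zero (ζ : F) (hζ : ζ + ζ ^ q = 0) (c : F)
    (hc : c + c ^ q = 0) : c / ζ ∈ F₀ := by
  rw [mem_subfield_iff_pow hF F₀ hcard, div_pow]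
  have h1 : c ^ q = -c := by linear_combination hc
  have h2 : ζ ^ q = -ζ := by linear_combination hζ
  rw [h1, h2, neg_div_neg_eq]

theorem subfield_decomp (ω : F) (hω : ω ^ q ≠ ω) (a : F) :
    ∃ a₀ a₁ : ↥F₀, a = (a₀ : F) + ω * (a₁ : F) := by
  have hd : ω ^ q - ω ≠ 0 := sub_ne_zero.mpr hω
  have hd' : ω - ω ^ q ≠ 0 := sub_ne_zero.mpr (Ne.symm hω)
  have h1 : (a ^ q - a) / (ω ^ q - ω) ∈ F₀ := by
    rw [mem_subfield_iff_pow hF F₀ hcard, div_pow, sub_pow_q hF, sub_pow_q hF, pow_q_pow_q hF,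
      pow_q_pow_q hF]
    field_simp
    ring
  have h0 : a - ω * ((a ^ q - a) / (ω ^ q - ω)) ∈ F₀ := by
    rw [mem_subfield_iff_pow hF F₀ hcard, sub_pow_q hF, mul_pow,
      (mem_subfield_iff_pow hF F₀ hcard _).mp h1]
    field_simp
    ring
  exact ⟨⟨_, h0⟩, ⟨_, h1⟩, by simp⟩

theorem subfield_decomp_unique (ω : F) (hω : ω ^ q ≠ ω) (a₀ a₁ b₀ b₁ : ↥F₀)
    (h : (a₀ : F) + ω * (a₁ : F) = (b₀ : F) + ω * (b₁ : F)) : a₀ = b₀ ∧ a₁ = b₁ := by
  have hd : ω ^ q - ω ≠ 0 := sub_ne_zero.mpr hω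
  have e := fun (x : ↥F₀) => (mem_subfield_iff_pow hF F₀ hcard (x : F)).mp x.2
  have h' := congrArg (· ^ q) h
  simp only [add_pow_q hF, mul_pow, e] at h'
  have h1 : (ω ^ q - ω) * ((a₁ : F) - b₁) = 0 := by linear_combination h' - h
  have h2 : (a₁ : F) = b₁ := sub_eq_zero.mp ((mul_eq_zero.mp h1).resolve_left hd)
  have h3 : (a₀ : F) = b₀ := by
    rw [h2] at h
    exact add_right_cancel h
  exact ⟨Subtype.ext h3, Subtype.ext h2⟩

end Field

section Vec

open Cfsg Cfsg.Geo Cfsg.Agent.Lib.helper17 Cfsg.Agent.Lib.helper95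

/-- A vector with entries in the subfield, as a vector over the big field. -/
def cu {F : Type*} [Field F] {n : ℕ} (F₀ : Subfield F) (u : Fin n → ↥F₀) : Fin n → F :=
  fun i => (u i : F)

section
variable {F : Type*} [Field F] {n : ℕ} (F₀ : Subfield F)

theorem cu_add (u v : Fin n → ↥F₀) : cu F₀ (u + v) = cu F₀ u + cu F₀ v := rfl
theorem cu_sub (u v : Fin n → ↥F₀) : cu F₀ (u - v) = cu F₀ u - cu F₀ v := rfl
theorem cu_smul (a : ↥F₀) (u : Fin n → ↥F₀) : cu F₀ (a • u) = (a : F) • cu F₀ u := rfl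
theorem cu_zero : cu F₀ (0 : Fin n → ↥F₀) = 0 := rfl
theorem cu_mem (u : Fin n → ↥F₀) (i : Fin n) : cu F₀ u i ∈ F₀ := (u i).2
theorem cu_injective : Function.Injective (cu F₀ (n := n)) :=
  fun _ _ h => funext fun i => Subtype.ext (congrFun h i)
theorem cu_single (j : Fin n) : cu F₀ (Pi.single j 1) = Pi.single j 1 := by
  funext i
  by_cases h : i = j
  · subst h
    simp [cu]
  · simp [cu, h]

end

theorem glmv_inj {F : Type*} [Field F] {n : ℕ} (g : GL (Fin n) F) {a b : Fin n → F}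
    (h : (g : Matrix (Fin n) (Fin n) F) *ᵥ a = (g : Matrix (Fin n) (Fin n) F) *ᵥ b) : a = b := by
  have h2 := congrArg (fun z => ((g⁻¹ : GL (Fin n) F) : Matrix (Fin n) (Fin n) F) *ᵥ z) h
  simp only [gl_inv_mulVec_mulVec] at h2
  exact h2

/-- The data of the symplectic subfield subgroup of the special unitary group. -/
structure SFData (F : Type*) [Field F] [Fintype F] (n q : ℕ) where
  hF : Fintype.card F = q ^ 2
  F₀ : Subfield F
  hcard : Fintype.card F = Nat.card F₀ ^ 2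
  ζ : F
  hζ0 : ζ ≠ 0
  hζ : ζ + ζ ^ q = 0
  P : GL (Fin n) F
  hP : Cfsg.Geo.IsFormRationalStructure (Cfsg.hermForm n F q) F₀ ζ P
  halt : ∀ u : Fin n → F, (∀ i, u i ∈ F₀) →
    Cfsg.hermForm n F q ((P : Matrix (Fin n) (Fin n) F) *ᵥ u)
      ((P : Matrix (Fin n) (Fin n) F) *ᵥ u) = 0
  ω : F
  hω : ω ^ q ≠ ω

namespace SFData

variable {F : Type*} [Field F] [Fintype F] {n q : ℕ} (D : SFData F n q)

/-- The rational vector with coordinates `u`. -/
def rat (u : Fin n → ↥D.F₀) : Fin n → F := (D.P : Matrix (Fin n) (Fin n) F) *ᵥ cu D.F₀ u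

/-- The vector with coordinates `u₀ + ω u₁`. -/
def vec (u₀ u₁ : Fin n → ↥D.F₀) : Fin n → F :=
  (D.P : Matrix (Fin n) (Fin n) F) *ᵥ (cu D.F₀ u₀ + D.ω • cu D.F₀ u₁)

theorem vec_eq (u₀ u₁ : Fin n → ↥D.F₀) : D.vec u₀ u₁ = D.rat u₀ + D.ω • D.rat u₁ := by
  unfold vec rat
  rw [Matrix.mulVec_add, Matrix.mulVec_smul]

theorem rat_add (u v : Fin n → ↥D.F₀) : D.rat (u + v) = D.rat u + D.rat v := by
  unfold rat
  rw [cu_add, Matrix.mulVec_add]

theorem rat_sub (u v : Fin n → ↥D.F₀) : D.rat (u - v) = D.rat u - D.rat v := by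
  unfold rat
  rw [cu_sub, Matrix.mulVec_sub]

theorem rat_smul (a : ↥D.F₀) (u : Fin n → ↥D.F₀) : D.rat (a • u) = (a : F) • D.rat u := by
  unfold rat
  rw [cu_smul, Matrix.mulVec_smul]

theorem rat_zero : D.rat 0 = 0 := by
  unfold rat
  rw [cu_zero, Matrix.mulVec_zero]

theorem rat_injective : Function.Injective D.rat := by
  intro u v h
  exact cu_injective D.F₀ (glmv_inj D.P h)

theorem vec_zero_right (u : Fin n → ↥D.F₀) : D.vec u 0 = D.rat u := by
  rw [vec_eq, rat_zero, smul_zero, add_zero]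

theorem pow_coe (a : ↥D.F₀) : (a : F) ^ q = a :=
  (mem_subfield_iff_pow D.hF D.F₀ D.hcard _).mp a.2

theorem rat_isotropic (v : Fin n → ↥D.F₀) : hermForm n F q (D.rat v) (D.rat v) = 0 :=
  D.halt _ (cu_mem D.F₀ v)

/-- The alternating form over the subfield: `ζ` times the hermitian form on rational vectors. -/
noncomputable def form : LinearMap.BilinForm ↥D.F₀ (Fin n → ↥D.F₀) :=
  LinearMap.mk₂ ↥D.F₀
    (fun u v => (⟨D.ζ * hermForm n F q (D.rat u) (D.rat v),
      D.hP _ _ (cu_mem D.F₀ u) (cu_mem D.F₀ v)⟩ : ↥D.F₀))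
    (fun u u' v => Subtype.ext (by
      show D.ζ * hermForm n F q (D.rat (u + u')) (D.rat v) =
        D.ζ * hermForm n F q (D.rat u) (D.rat v) + D.ζ * hermForm n F q (D.rat u') (D.rat v)
      rw [rat_add, hermForm_add_left, mul_add]))
    (fun a u v => Subtype.ext (by
      show D.ζ * hermForm n F q (D.rat (a • u)) (D.rat v) =
        (a : F) * (D.ζ * hermForm n F q (D.rat u) (D.rat v))
      rw [rat_smul, hermForm_smul_left]
      ring))
    (fun u v v' => Subtype.ext (by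
      show D.ζ * hermForm n F q (D.rat u) (D.rat (v + v')) =
        D.ζ * hermForm n F q (D.rat u) (D.rat v) + D.ζ * hermForm n F q (D.rat u) (D.rat v')
      rw [rat_add, hermForm_add_right D.hF, mul_add]))
    (fun a u v => Subtype.ext (by
      show D.ζ * hermForm n F q (D.rat u) (D.rat (a • v)) =
        (a : F) * (D.ζ * hermForm n F q (D.rat u) (D.rat v))
      rw [rat_smul, hermForm_smul_right, pow_coe]
      ring))

theorem form_apply (u v : Fin n → ↥D.F₀) :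
    ((D.form u v : ↥D.F₀) : F) = D.ζ * hermForm n F q (D.rat u) (D.rat v) := rfl

theorem herm_rat (u v : Fin n → ↥D.F₀) :
    hermForm n F q (D.rat u) (D.rat v) = D.ζ⁻¹ * (D.form u v : F) := by
  rw [form_apply, inv_mul_cancel_left₀ D.hζ0]

theorem form_self (u : Fin n → ↥D.F₀) : D.form u u = 0 := by
  apply Subtype.ext
  rw [form_apply, rat_isotropic, mul_zero]
  rfl

theorem form_skew (u v : Fin n → ↥D.F₀) : D.form u v = -D.form v u :=
  alt_skew D.form D.form_self u v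

theorem herm_vec_rat (u₀ u₁ v : Fin n → ↥D.F₀) :
    hermForm n F q (D.vec u₀ u₁) (D.rat v) =
      D.ζ⁻¹ * ((D.form u₀ v : F) + D.ω * (D.form u₁ v : F)) := by
  rw [vec_eq, hermForm_add_left, hermForm_smul_left, herm_rat, herm_rat]
  ring

theorem herm_rat_vec (v u₀ u₁ : Fin n → ↥D.F₀) :
    hermForm n F q (D.rat v) (D.vec u₀ u₁) =
      D.ζ⁻¹ * ((D.form v u₀ : F) + D.ω ^ q * (D.form v u₁ : F)) := by
  rw [vec_eq, hermForm_add_right D.hF, hermForm_smul_right, herm_rat, herm_rat]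
  ring

theorem herm_vec_self (u₀ u₁ : Fin n → ↥D.F₀) :
    hermForm n F q (D.vec u₀ u₁) (D.vec u₀ u₁) =
      D.ζ⁻¹ * (D.ω ^ q - D.ω) * (D.form u₀ u₁ : F) := by
  calc hermForm n F q (D.vec u₀ u₁) (D.vec u₀ u₁)
      = hermForm n F q (D.rat u₀ + D.ω • D.rat u₁) (D.vec u₀ u₁) := by rw [← vec_eq]
    _ = D.ζ⁻¹ * (D.ω ^ q - D.ω) * (D.form u₀ u₁ : F) := by
      rw [hermForm_add_left, hermForm_smul_left, herm_rat_vec, herm_rat_vec, form_self, form_self,
        D.form_skew u₁ u₀]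
      push_cast
      ring

theorem isotropic_iff (u₀ u₁ : Fin n → ↥D.F₀) :
    hermForm n F q (D.vec u₀ u₁) (D.vec u₀ u₁) = 0 ↔ D.form u₀ u₁ = 0 := by
  rw [herm_vec_self]
  constructor
  · intro h
    have h1 : (D.form u₀ u₁ : F) = 0 :=
      (mul_eq_zero.mp h).resolve_left
        (mul_ne_zero (inv_ne_zero D.hζ0) (sub_ne_zero.mpr D.hω))
    exact Subtype.ext h1
  · intro h
    rw [h]
    simp

/-- A rational transvection acts on coordinates by the corresponding symplectic transvection. -/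
theorem uT_rat_vec (v : Fin n → ↥D.F₀) (t : ↥D.F₀) (u₀ u₁ : Fin n → ↥D.F₀) :
    ((uE n q (D.rat v) 0 ((t : F) * D.ζ) : GL (Fin n) F) : Matrix (Fin n) (Fin n) F) *ᵥ
        D.vec u₀ u₁ =
      D.vec (u₀ + (t * D.form u₀ v) • v) (u₁ + (t * D.form u₁ v) • v) := by
  have hz : ∀ a b : F, (t : F) * D.ζ * (D.ζ⁻¹ * (a + D.ω * b)) =
      (t : F) * a + D.ω * ((t : F) * b) := by
    intro a b
    have := D.hζ0
    field_simp
  rw [uT_mulVec D.hF n _ _ (D.rat_isotropic v), herm_vec_rat, hz, vec_eq, vec_eq, rat_add, rat_add,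
    rat_smul, rat_smul]
  funext i
  simp only [Pi.add_apply, Pi.smul_apply, smul_eq_mul, Subfield.coe_mul]
  ring

theorem exists_vec (x : Fin n → F) : ∃ u₀ u₁ : Fin n → ↥D.F₀, x = D.vec u₀ u₁ := by
  choose a₀ a₁ h using fun i => subfield_decomp D.hF D.F₀ D.hcard D.ω D.hω
    (((((D.P)⁻¹ : GL (Fin n) F) : Matrix (Fin n) (Fin n) F) *ᵥ x) i)
  refine ⟨a₀, a₁, ?_⟩
  have h2 : (((D.P)⁻¹ : GL (Fin n) F) : Matrix (Fin n) (Fin n) F) *ᵥ x =
      cu D.F₀ a₀ + D.ω • cu D.F₀ a₁ := by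
    funext i
    rw [h i]
    rfl
  unfold vec
  rw [← h2, gl_mulVec_inv_mulVec]

theorem vec_eq_smul_rat (u₀ u₁ : Fin n → ↥D.F₀)
    (h : u₁ = 0 ∨ u₀ ∈ Submodule.span ↥D.F₀ {u₁}) :
    ∃ (a : F) (v : Fin n → ↥D.F₀), D.vec u₀ u₁ = a • D.rat v := by
  rcases h with h | h
  · refine ⟨1, u₀, ?_⟩
    rw [h, vec_zero_right, one_smul]
  · obtain ⟨a, ha⟩ := Submodule.mem_span_singleton.mp h
    refine ⟨(a : F) + D.ω, u₁, ?_⟩
    rw [vec_eq, ← ha, rat_smul, add_smul]

theorem vec_eq_rat (u₀ u₁ w : Fin n → ↥D.F₀) (h : D.vec u₀ u₁ = D.rat w) : u₁ = 0 := by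
  have h1 : cu D.F₀ u₀ + D.ω • cu D.F₀ u₁ = cu D.F₀ w := glmv_inj D.P h
  funext i
  have h2 := congrFun h1 i
  have h3 : (u₀ i : F) + D.ω * (u₁ i : F) = (w i : F) + D.ω * ((0 : ↥D.F₀) : F) := by
    rw [ZeroMemClass.coe_zero, mul_zero, add_zero]
    exact h2
  exact (subfield_decomp_unique D.hF D.F₀ D.hcard D.ω D.hω _ _ _ _ h3).2

theorem form_nondegenerate : D.form.Nondegenerate := by
  have hq2 := two_le_of_card_eq_sq D.hF
  have left : ∀ u : Fin n → ↥D.F₀, (∀ v, D.form u v = 0) → u = 0 := by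
    intro u hu
    by_contra hne
    have hr : D.rat u ≠ 0 := by
      intro h0
      apply hne
      apply D.rat_injective
      rw [h0, rat_zero]
    obtain ⟨z, -, hz⟩ := herm_exists_perp_ne D.hF n ⊥ (D.rat u) (by simpa using hr)
    obtain ⟨z₀, z₁, rfl⟩ := D.exists_vec z
    apply hz
    rw [herm_rat_vec, hu z₀, hu z₁]
    simp
  refine ⟨left, ?_⟩
  intro v hv
  apply left
  intro u
  rw [form_skew, hv u, neg_zero]


/-! ### Group-level lemmas -/

theorem map_mulVec_cu (B₀ : GL (Fin n) ↥D.F₀) (v : Fin n → ↥D.F₀) :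
    ((Matrix.GeneralLinearGroup.map (D.F₀.subtype : D.F₀ →+* F) B₀ : GL (Fin n) F) :
        Matrix (Fin n) (Fin n) F) *ᵥ cu D.F₀ v =
      cu D.F₀ ((B₀ : Matrix (Fin n) (Fin n) ↥D.F₀) *ᵥ v) := by
  funext i
  exact (RingHom.map_mulVec (D.F₀.subtype : D.F₀ →+* F) (B₀ : Matrix (Fin n) (Fin n) ↥D.F₀) v i).symm

/-- Elements of the subfield subgroup map rational vectors to a fixed multiple of rational vectors. -/
theorem of_mem_subfieldSubgroup (g : GL (Fin n) F) (hg : g ∈ subfieldSubgroup D.F₀ D.P) :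
    ∃ c : F, ∀ v : Fin n → ↥D.F₀, ∃ v' : Fin n → ↥D.F₀,
      (g : Matrix (Fin n) (Fin n) F) *ᵥ D.rat v = c • D.rat v' := by
  unfold subfieldSubgroup at hg
  obtain ⟨B, hB, rfl⟩ := Subgroup.mem_map.mp hg
  obtain ⟨B₁, ⟨B₀, rfl⟩, s, hs, rfl⟩ := Subgroup.mem_sup_of_normal_right.mp hB
  obtain ⟨c, hc⟩ := (mem_scalars_iff s).mp hs
  refine ⟨c, fun v => ⟨(B₀ : Matrix (Fin n) (Fin n) ↥D.F₀) *ᵥ v, ?_⟩⟩
  show ((D.P * (Matrix.GeneralLinearGroup.map (D.F₀.subtype : D.F₀ →+* F) B₀ * s) * (D.P)⁻¹ :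
    GL (Fin n) F) : Matrix (Fin n) (Fin n) F) *ᵥ D.rat v = _
  unfold rat
  rw [Units.val_mul, Units.val_mul, ← Matrix.mulVec_mulVec, gl_inv_mulVec_mulVec, Units.val_mul, hc,
    ← Matrix.mulVec_mulVec, ← Matrix.mulVec_mulVec, Matrix.smul_mulVec, Matrix.one_mulVec,
    Matrix.mulVec_smul, Matrix.mulVec_smul, map_mulVec_cu]

/-- A matrix mapping every rational vector to a multiple of a rational vector is a scalar multiple
of a rational matrix. -/
theorem mem_range_sup_scalars (hn : 0 < n) (B : GL (Fin n) F)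
    (hB : ∀ v : Fin n → ↥D.F₀, ∃ (c : F) (v' : Fin n → ↥D.F₀),
      (B : Matrix (Fin n) (Fin n) F) *ᵥ cu D.F₀ v = c • cu D.F₀ v') :
    B ∈ (Matrix.GeneralLinearGroup.map (D.F₀.subtype : D.F₀ →+* F)).range ⊔ scalars (Fin n) F := by
  classical
  choose c r hcr using hB
  set e : Fin n → (Fin n → ↥D.F₀) := fun j => Pi.single j 1 with he
  have hcol : ∀ j, (B : Matrix (Fin n) (Fin n) F) *ᵥ Pi.single j 1 =
      c (e j) • cu D.F₀ (r (e j)) := by
    intro j
    rw [← hcr (e j), he]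
    simp only
    rw [cu_single]
  have hc0 : ∀ j, c (e j) ≠ 0 := by
    intro j h0
    have h1 := hcol j
    rw [h0, zero_smul] at h1
    have h2 : (Pi.single j 1 : Fin n → F) = 0 := glmv_inj B (by rw [h1, Matrix.mulVec_zero])
    have h3 := congrFun h2 j
    simp at h3
  have hr : ∀ j, cu D.F₀ (r (e j)) =
      (B : Matrix (Fin n) (Fin n) F) *ᵥ ((c (e j))⁻¹ • Pi.single j 1) := by
    intro j
    rw [Matrix.mulVec_smul, hcol, smul_smul, inv_mul_cancel₀ (hc0 j), one_smul]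
  let j₀ : Fin n := ⟨0, hn⟩
  have hratio : ∀ j, c (e j) / c (e j₀) ∈ D.F₀ := by
    intro j
    by_cases hj : j = j₀
    · rw [hj, div_self (hc0 j₀)]
      exact D.F₀.one_mem
    have h1 := hcr (e j₀ + e j)
    rw [cu_add, Matrix.mulVec_add] at h1
    have hμ0 : c (e j₀ + e j) ≠ 0 := by
      intro h0
      rw [h0, zero_smul, ← Matrix.mulVec_add] at h1
      have h2 : cu D.F₀ (e j₀) + cu D.F₀ (e j) = 0 := glmv_inj B (by rw [h1, Matrix.mulVec_zero])
      have h3 := congrFun h2 j₀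
      simp [he, cu_single, Ne.symm hj] at h3
    have h1' : c (e j₀) • cu D.F₀ (r (e j₀)) + c (e j) • cu D.F₀ (r (e j)) =
        c (e j₀ + e j) • cu D.F₀ (r (e j₀ + e j)) := by
      rw [← hcol, ← hcol, ← h1, he]
      simp only [cu_single]
    generalize c (e j₀ + e j) = μ at h1' hμ0
    generalize r (e j₀ + e j) = s at h1'
    have h2 : c (e j₀) ^ q • cu D.F₀ (r (e j₀)) + c (e j) ^ q • cu D.F₀ (r (e j)) =
        μ ^ q • cu D.F₀ s := by
      funext i
      have h := congrArg (· ^ q) (congrFun h1' i)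
      simp only [Pi.add_apply, Pi.smul_apply, smul_eq_mul, add_pow_q D.hF, mul_pow] at h
      have e1 : ∀ x : Fin n → ↥D.F₀, cu D.F₀ x i ^ q = cu D.F₀ x i := fun x => D.pow_coe _
      rw [e1, e1, e1] at h
      simp only [Pi.add_apply, Pi.smul_apply, smul_eq_mul]
      exact h
    have h3 : (μ ^ q * c (e j₀) - μ * c (e j₀) ^ q) • cu D.F₀ (r (e j₀)) +
        (μ ^ q * c (e j) - μ * c (e j) ^ q) • cu D.F₀ (r (e j)) = 0 := by
      have ha := congrArg (fun z => μ ^ q • z) h1'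
      have hb := congrArg (fun z => μ • z) h2
      simp only [smul_add, smul_smul] at ha hb
      calc (μ ^ q * c (e j₀) - μ * c (e j₀) ^ q) • cu D.F₀ (r (e j₀)) +
            (μ ^ q * c (e j) - μ * c (e j) ^ q) • cu D.F₀ (r (e j))
          = ((μ ^ q * c (e j₀)) • cu D.F₀ (r (e j₀)) + (μ ^ q * c (e j)) • cu D.F₀ (r (e j))) -
            ((μ * c (e j₀) ^ q) • cu D.F₀ (r (e j₀)) + (μ * c (e j) ^ q) • cu D.F₀ (r (e j))) := by
            rw [sub_smul, sub_smul]
            abel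
        _ = 0 := by rw [ha, hb, mul_comm μ, sub_self]
    rw [hr j₀, hr j, ← Matrix.mulVec_smul, ← Matrix.mulVec_smul, ← Matrix.mulVec_add] at h3
    have h4 := glmv_inj B (h3.trans (Matrix.mulVec_zero _).symm)
    have h5 := congrFun h4 j₀
    have h6 := congrFun h4 j
    simp [hj, Ne.symm hj, hc0] at h5 h6
    have m0 : c (e j₀) / μ ∈ D.F₀ := by
      rw [mem_subfield_iff_pow D.hF D.F₀ D.hcard, div_pow]
      have hμq : μ ^ q ≠ 0 := pow_ne_zero _ hμ0
      field_simp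
      linear_combination -h5
    have m1 : c (e j) / μ ∈ D.F₀ := by
      rw [mem_subfield_iff_pow D.hF D.F₀ D.hcard, div_pow]
      have hμq : μ ^ q ≠ 0 := pow_ne_zero _ hμ0
      field_simp
      linear_combination -h6
    have := D.F₀.div_mem m1 m0
    rwa [div_div_div_cancel_right₀ hμ0] at this
  let B₀m : Matrix (Fin n) (Fin n) ↥D.F₀ :=
    Matrix.of fun i j => (⟨c (e j) / c (e j₀), hratio j⟩ : ↥D.F₀) * r (e j) i
  have hB₀ : (B : Matrix (Fin n) (Fin n) F) =
      c (e j₀) • B₀m.map (D.F₀.subtype : D.F₀ →+* F) := by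
    ext i j
    have h := congrFun (hcol j) i
    rw [Matrix.mulVec_single_one] at h
    have hj0 := hc0 j₀
    simp only [Matrix.col_apply, Pi.smul_apply, smul_eq_mul] at h
    rw [h]
    simp only [B₀m, Matrix.smul_apply, Matrix.map_apply, Matrix.of_apply, smul_eq_mul,
      Subfield.coe_subtype, Subfield.coe_mul]
    show _ = c (e j₀) * (c (e j) / c (e j₀) * cu D.F₀ (r (e j)) i)
    field_simp
  have hdet : B₀m.det ≠ 0 := by
    intro h0
    have hB0 : (B : Matrix (Fin n) (Fin n) F).det = 0 := by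
      rw [hB₀, Matrix.det_smul, ← RingHom.mapMatrix_apply, ← RingHom.map_det, h0, map_zero,
        mul_zero]
    have hu : IsUnit (B : Matrix (Fin n) (Fin n) F).det :=
      (Matrix.isUnit_iff_isUnit_det _).mp B.isUnit
    rw [hB0] at hu
    exact not_isUnit_zero hu
  let sc : GL (Fin n) F := Units.map (Matrix.scalar (Fin n) : F →+* Matrix (Fin n) (Fin n) F).toMonoidHom
    (Units.mk0 (c (e j₀)) (hc0 j₀))
  have hsc : sc ∈ scalars (Fin n) F := ⟨_, rfl⟩
  have hscv : (sc : Matrix (Fin n) (Fin n) F) = c (e j₀) • (1 : Matrix (Fin n) (Fin n) F) := by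
    simp [sc, Matrix.smul_one_eq_diagonal]
  have hprod : B = Matrix.GeneralLinearGroup.map (D.F₀.subtype : D.F₀ →+* F)
      (Matrix.GeneralLinearGroup.mkOfDetNeZero B₀m hdet) * sc := by
    apply Units.ext
    rw [Units.val_mul, hscv, Matrix.mul_smul, Matrix.mul_one, hB₀]
    rfl
  rw [hprod]
  exact Subgroup.mul_mem_sup ⟨_, rfl⟩ hsc

/-- Converse: a GL element mapping every rational vector to a multiple of a rational vector lies in
the subfield subgroup. -/
theorem mem_subfieldSubgroup_of (hn : 0 < n) (g : GL (Fin n) F)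
    (hg : ∀ v : Fin n → ↥D.F₀, ∃ (c : F) (v' : Fin n → ↥D.F₀),
      (g : Matrix (Fin n) (Fin n) F) *ᵥ D.rat v = c • D.rat v') :
    g ∈ subfieldSubgroup D.F₀ D.P := by
  unfold subfieldSubgroup
  refine Subgroup.mem_map.mpr ⟨(D.P)⁻¹ * g * D.P, D.mem_range_sup_scalars hn _ ?_, ?_⟩
  · intro v
    obtain ⟨c, v', h⟩ := hg v
    refine ⟨c, v', ?_⟩
    rw [Units.val_mul, Units.val_mul, ← Matrix.mulVec_mulVec, ← Matrix.mulVec_mulVec]
    have h' : (g : Matrix (Fin n) (Fin n) F) *ᵥ ((D.P : Matrix (Fin n) (Fin n) F) *ᵥ cu D.F₀ v) =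
        c • ((D.P : Matrix (Fin n) (Fin n) F) *ᵥ cu D.F₀ v') := h
    rw [h', Matrix.mulVec_smul, gl_inv_mulVec_mulVec]
  · show D.P * ((D.P)⁻¹ * g * D.P) * (D.P)⁻¹ = g
    group

theorem trace_zero_mul (t : ↥D.F₀) : (t : F) * D.ζ + ((t : F) * D.ζ) ^ q = 0 := by
  rw [mul_pow, D.pow_coe, ← mul_add, D.hζ, mul_zero]

theorem uT_rat_rat (v : Fin n → ↥D.F₀) (t : ↥D.F₀) (w : Fin n → ↥D.F₀) :
    ((uE n q (D.rat v) 0 ((t : F) * D.ζ) : GL (Fin n) F) : Matrix (Fin n) (Fin n) F) *ᵥ D.rat w =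
      D.rat (w + (t * D.form w v) • v) := by
  have h := D.uT_rat_vec v t w 0
  rw [vec_zero_right] at h
  rw [h]
  simp only [map_zero, LinearMap.zero_apply, mul_zero, zero_smul, add_zero]
  rw [vec_zero_right]

theorem uT_rat_mem (hn : 0 < n) (v : Fin n → ↥D.F₀) (c : F) (hc : c + c ^ q = 0) :
    uE n q (D.rat v) 0 c ∈ subfieldSubgroup D.F₀ D.P := by
  have hc₀ := div_mem_subfield_of_trace_zero D.hF D.F₀ D.hcard D.ζ D.hζ c hc
  have hc' : c = ((⟨c / D.ζ, hc₀⟩ : ↥D.F₀) : F) * D.ζ := by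
    show c = c / D.ζ * D.ζ
    rw [div_mul_cancel₀ _ D.hζ0]
  rw [hc']
  apply D.mem_subfieldSubgroup_of hn
  intro w
  exact ⟨1, _, by rw [uT_rat_rat, one_smul]⟩

/-- The transvection-set argument: an overgroup of the subfield subgroup not contained in it contains
all unitary transvections. -/
theorem all_transv (hn : 5 ≤ n) (M : Subgroup (GL (Fin n) F))
    (hNM : subfieldSubgroup D.F₀ D.P ⊓ (GU n F q ⊓ specialLinear (Fin n) F) ≤ M)
    (hMG : M ≤ GU n F q ⊓ specialLinear (Fin n) F)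
    (g : GL (Fin n) F) (hgM : g ∈ M) (hg : g ∉ subfieldSubgroup D.F₀ D.P)
    (y : Fin n → F) (c : F) (hyy : hermForm n F q y y = 0) (hc : c + c ^ q = 0) :
    uE n q y 0 c ∈ M := by
  set S : Set (Fin n → F) :=
    {x | hermForm n F q x x = 0 ∧ ∀ c, c + c ^ q = 0 → uE n q x 0 c ∈ M} with hS
  have hrat : ∀ v, D.rat v ∈ S := fun v => ⟨D.rat_isotropic v, fun c hc =>
    hNM ⟨D.uT_rat_mem (by omega) v c hc, uT_mem D.hF n _ c (D.rat_isotropic v) hc⟩⟩
  have hsmul : ∀ (a : F) (x : Fin n → F), x ∈ S → a • x ∈ S := by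
    rintro a x ⟨hx, hxM⟩
    refine ⟨by rw [hermForm_smul_left, hermForm_smul_right, hx, mul_zero, mul_zero],
      fun c hc => ?_⟩
    rw [uT_smul D.hF n a x c hx]
    apply hxM
    rw [mul_pow, mul_pow, pow_q_pow_q D.hF]
    have hcq : c ^ q = -c := by linear_combination hc
    rw [hcq]
    ring
  have hinv : ∀ k ∈ M, ∀ x ∈ S, (k : Matrix (Fin n) (Fin n) F) *ᵥ x ∈ S := by
    rintro k hk x ⟨hx, hxM⟩
    have hkU : k ∈ GU n F q := (hMG hk).1
    refine ⟨by rw [(mem_GU_iff n q k).mp hkU, hx], fun c hc => ?_⟩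
    rw [← uT_conj D.hF n k hkU x c hx]
    exact M.mul_mem (M.mul_mem hk (hxM c hc)) (M.inv_mem hk)
  obtain ⟨v, hv⟩ : ∃ v, ∀ (a : F) (v' : Fin n → ↥D.F₀),
      (g : Matrix (Fin n) (Fin n) F) *ᵥ D.rat v ≠ a • D.rat v' := by
    by_contra hcon
    push Not at hcon
    exact hg (D.mem_subfieldSubgroup_of (by omega) g hcon)
  obtain ⟨x₀, x₁, hx⟩ := D.exists_vec ((g : Matrix (Fin n) (Fin n) F) *ᵥ D.rat v)
  have hxS : D.vec x₀ x₁ ∈ S := by
    rw [← hx]
    exact hinv g hgM _ (hrat v)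
  have hx₁ : x₁ ≠ 0 := by
    intro h0
    obtain ⟨a, v', h⟩ := D.vec_eq_smul_rat x₀ x₁ (Or.inl h0)
    exact hv a v' (by rw [hx, h])
  have hx₀ : x₀ ∉ Submodule.span ↥D.F₀ {x₁} := by
    intro hmem
    obtain ⟨a, v', h⟩ := D.vec_eq_smul_rat x₀ x₁ (Or.inr hmem)
    exact hv a v' (by rw [hx, h])
  have hfx : D.form x₀ x₁ = 0 := (D.isotropic_iff x₀ x₁).mp hxS.1
  set 𝒮 : Set ((Fin n → ↥D.F₀) × (Fin n → ↥D.F₀)) := {p | D.vec p.1 p.2 ∈ S} with h𝒮
  have inv𝒮 : ∀ (a b v : Fin n → ↥D.F₀) (t : ↥D.F₀), (a, b) ∈ 𝒮 →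
      (a + (t * D.form a v) • v, b + (t * D.form b v) • v) ∈ 𝒮 := by
    intro a b v t hab
    show D.vec _ _ ∈ S
    rw [← D.uT_rat_vec v t a b]
    exact hinv _ ((hrat v).2 _ (D.trace_zero_mul t)) _ hab
  have hfin : 5 ≤ finrank ↥D.F₀ (Fin n → ↥D.F₀) := by
    rw [Module.finrank_fin_fun]
    exact hn
  obtain ⟨y₀, y₁, rfl⟩ := D.exists_vec y
  by_cases hdep : y₁ = 0 ∨ y₀ ∈ Submodule.span ↥D.F₀ {y₁}
  · obtain ⟨a, v', h⟩ := D.vec_eq_smul_rat y₀ y₁ hdep
    rw [h]
    exact (hsmul a _ (hrat v')).2 c hc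
  · push Not at hdep
    have hfy : D.form y₀ y₁ = 0 := (D.isotropic_iff y₀ y₁).mp hyy
    have hmem : (y₀, y₁) ∈ 𝒮 := sp_pairs D.form D.form_self D.form_nondegenerate hfin 𝒮 inv𝒮
      x₀ x₁ hxS hx₁ hx₀ hfx y₀ y₁ hdep.1 hdep.2 hfy
    exact hmem.2 c hc

/-- The special unitary group is not contained in the subfield subgroup. -/
theorem exists_not_mem (hn : 5 ≤ n) :
    ∃ g ∈ GU n F q ⊓ specialLinear (Fin n) F, g ∉ subfieldSubgroup D.F₀ D.P := by
  classical
  have hfin : 3 ≤ finrank ↥D.F₀ (Fin n → ↥D.F₀) := by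
    rw [Module.finrank_fin_fun]
    omega
  let j₀ : Fin n := ⟨0, by omega⟩
  let u₁ : Fin n → ↥D.F₀ := Pi.single j₀ 1
  have hu₁ : u₁ ≠ 0 := by
    intro h
    have := congrFun h j₀
    simp [u₁] at this
  obtain ⟨u₀, hu₀, hu₀s⟩ := exists_perp_notMem_span D.form hfin u₁
  have hf : D.form u₀ u₁ = 0 := by rw [D.form_skew, hu₀, neg_zero]
  have hyy : hermForm n F q (D.vec u₀ u₁) (D.vec u₀ u₁) = 0 := (D.isotropic_iff u₀ u₁).mpr hf
  obtain ⟨w, hw₁, hw₀⟩ :=
    exists_perp_ne_of_notMem_span D.form D.form_nondegenerate u₀ u₁ hu₀s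
  refine ⟨uE n q (D.vec u₀ u₁) 0 D.ζ, uT_mem D.hF n _ _ hyy D.hζ, fun hmem => ?_⟩
  obtain ⟨c, hc⟩ := D.of_mem_subfieldSubgroup _ hmem
  obtain ⟨v₁, hv₁⟩ := hc u₁
  rw [uT_mulVec D.hF n _ _ hyy, herm_rat_vec, hu₀, D.form_self] at hv₁
  simp only [ZeroMemClass.coe_zero, mul_zero, add_zero, zero_smul] at hv₁
  have hcF : c ∈ D.F₀ := by
    have h1 : cu D.F₀ u₁ = c • cu D.F₀ v₁ := by
      apply glmv_inj D.P
      rw [Matrix.mulVec_smul]
      exact hv₁
    have h2 := congrFun h1 j₀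
    have h3 : (1 : F) = c * (v₁ j₀ : F) := by
      simpa [u₁, cu] using h2
    have h4 : c = ((v₁ j₀ : F))⁻¹ := eq_inv_of_mul_eq_one_left h3.symm
    rw [h4]
    exact D.F₀.inv_mem (v₁ j₀).2
  obtain ⟨v₂, hv₂⟩ := hc w
  rw [uT_mulVec D.hF n _ _ hyy, herm_rat_vec, D.form_skew w u₁, hw₁, D.form_skew w u₀] at hv₂
  have ha0 : (D.form u₀ w : F) ≠ 0 := fun h => hw₀ (Subtype.ext h)
  have key : D.vec u₀ u₁ = D.rat ((D.form u₀ w)⁻¹ • (w - (⟨c, hcF⟩ : ↥D.F₀) • v₂)) := by
    rw [rat_smul, rat_sub, rat_smul]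
    have h1 : (D.ζ * (D.ζ⁻¹ * (((-(D.form u₀ w) : ↥D.F₀) : F) +
        D.ω ^ q * (((-0 : ↥D.F₀)) : F)))) = -(D.form u₀ w : F) := by
      have := D.hζ0
      push_cast
      field_simp
      ring
    rw [h1] at hv₂
    have h2 : (D.form u₀ w : F) • D.vec u₀ u₁ = D.rat w - c • D.rat v₂ := by
      rw [← hv₂]
      simp only [neg_smul]
      abel
    show D.vec u₀ u₁ = (((D.form u₀ w)⁻¹ : ↥D.F₀) : F) • (D.rat w - c • D.rat v₂)
    rw [← h2, smul_smul]
    push_cast
    rw [inv_mul_cancel₀ ha0, one_smul]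
  exact hu₁ (D.vec_eq_rat _ _ _ key)

/-- **Maximality of the symplectic subfield subgroup** in the special unitary group, given that `SU` is
generated by the unitary transvections. -/
theorem su_subfield_maximal (hn : 5 ≤ n)
    (hgen : Subgroup.closure {A : ↥(Cfsg.SU n F q) | ∃ (v : Fin n → F) (c : F),
      Cfsg.hermForm n F q v v = 0 ∧
      ((A : Matrix.SpecialLinearGroup (Fin n) F) : Matrix (Fin n) (Fin n) F) =
        Cfsg.unitaryTransvection n q v c} = ⊤) :
    IsMaximalIn (GU n F q ⊓ specialLinear (Fin n) F)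
      (subfieldSubgroup D.F₀ D.P ⊓ (GU n F q ⊓ specialLinear (Fin n) F)) := by
  refine ⟨?_, ?_⟩
  · refine lt_of_le_of_ne inf_le_right ?_
    intro heq
    obtain ⟨g, hgG, hg⟩ := D.exists_not_mem hn
    rw [← heq] at hgG
    exact hg hgG.1
  · intro M hPM hMG
    by_cases hM : M ≤ subfieldSubgroup D.F₀ D.P
    · left
      exact le_antisymm (le_inf hM hMG) hPM
    · right
      obtain ⟨g, hgM, hg⟩ := SetLike.not_le_iff_exists.mp hM
      exact le_antisymm hMG (suGL_le_of_transv D.hF n hgen M (fun v c hvv hc =>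
        D.all_transv hn M hPM hMG g hgM hg v c hvv hc))

end SFData

end Vec

end Cfsg.Agent.Lib.helper49
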