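/-
Shared lemmas (helper49): the orthogonal subfield subgroup `O_n(q)` is a maximal subgroup of
`SU_n(q)` for odd `q` (Eichler-commutator argument producing a unitary transvection, then the
transvection-set argument).
-/
import Mathlib
import Cfsg.Prelude.Def_GeometricClasses
import Cfsg.Agent.Lib.helper95.SuMax
import Cfsg.Agent.Lib.helper49.SuSubfield
import Cfsg.Agent.Lib.helper49.Eichler

set_option autoImplicit false
set_option linter.unusedSectionVars false
set_option linter.style.haveILetI false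

namespace Cfsg.Agent.Lib.helper49

open Matrix Module

section OrthGeomAbstract

variable {K E : Type*} [Field K] [AddCommGroup E] [Module K E]

/-- In dimension at least five, `{x, y}^⊥` is not contained in the span of `x, y`. -/
theorem exists_perp₂_notMem_span [FiniteDimensional K E] (f : LinearMap.BilinForm K E)
    (hdim : 5 ≤ finrank K E) (x y : E) :
    ∃ z, f x z = 0 ∧ f y z = 0 ∧ z ∉ Submodule.span K ({x, y} : Set E) := by
  classical
  set φ : E →ₗ[K] K × K := (f x).prod (f y) with hφ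
  have h1 := LinearMap.finrank_range_add_finrank_ker φ
  have h2 : finrank K ↥(LinearMap.range φ) ≤ 2 := by
    have := Submodule.finrank_le (LinearMap.range φ)
    rw [Module.finrank_prod, Module.finrank_self] at this
    exact this
  have h3 : finrank K ↥(Submodule.span K ({x, y} : Set E)) ≤ 2 := by
    have := finrank_span_finset_le_card (R := K) ({x, y} : Finset E)
    rw [Finset.coe_insert, Finset.coe_singleton] at this
    exact this.trans Finset.card_le_two
  have h4 : ¬ LinearMap.ker φ ≤ Submodule.span K ({x, y} : Set E) := by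
    intro hle
    have := Submodule.finrank_mono hle
    omega
  obtain ⟨z, hzk, hz⟩ := SetLike.not_le_iff_exists.mp h4
  have h5 : φ z = 0 := LinearMap.mem_ker.mp hzk
  exact ⟨z, congrArg Prod.fst h5, congrArg Prod.snd h5, hz⟩

/-- `{a, b, c}^⊥` is not contained in a subspace of codimension more than three. -/
theorem exists_perp₃_notMem [FiniteDimensional K E] (f : LinearMap.BilinForm K E) (a b c : E)
    (T : Submodule K E) (hT : finrank K T + 3 < finrank K E) :
    ∃ z, f a z = 0 ∧ f b z = 0 ∧ f c z = 0 ∧ z ∉ T := by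
  classical
  set φ : E →ₗ[K] K × (K × K) := (f a).prod ((f b).prod (f c)) with hφ
  have h1 := LinearMap.finrank_range_add_finrank_ker φ
  have h2 : finrank K ↥(LinearMap.range φ) ≤ 3 := by
    have := Submodule.finrank_le (LinearMap.range φ)
    rw [Module.finrank_prod, Module.finrank_prod, Module.finrank_self] at this
    exact this
  have h4 : ¬ LinearMap.ker φ ≤ T := by
    intro hle
    have := Submodule.finrank_mono hle
    omega
  obtain ⟨z, hzk, hz⟩ := SetLike.not_le_iff_exists.mp h4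
  have h5 : φ z = 0 := LinearMap.mem_ker.mp hzk
  exact ⟨z, congrArg Prod.fst h5, congrArg (fun p => p.2.1) h5, congrArg (fun p => p.2.2) h5, hz⟩

theorem finrank_span_pair_le (x y : E) : finrank K ↥(Submodule.span K ({x, y} : Set E)) ≤ 2 := by
  classical
  have := finrank_span_finset_le_card (R := K) ({x, y} : Finset E)
  rw [Finset.coe_insert, Finset.coe_singleton] at this
  exact this.trans Finset.card_le_two

theorem finrank_span_singleton_le_one (x : E) : finrank K ↥(Submodule.span K ({x} : Set E)) ≤ 1 := by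
  classical
  have := finrank_span_finset_le_card (R := K) ({x} : Finset E)
  rw [Finset.card_singleton, Finset.coe_singleton] at this
  exact this

end OrthGeomAbstract

section OrthGeomQuad

variable {F : Type*} [Field F] [Fintype F] {ι : Type} [Fintype ι] [DecidableEq ι]

/-- For `v` outside a small subspace `U` there is a singular vector orthogonal to `U` but not to `v`. -/
theorem exists_singular_orth_sub_polar_ne (Q : QuadraticForm F (ι → F))
    (hQ : (QuadraticMap.polarBilin Q).Nondegenerate) (U : Submodule F (ι → F))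
    (hU : 2 * finrank F U + 3 ≤ Fintype.card ι) (v : ι → F) (hv : v ∉ U) :
    ∃ z, Q z = 0 ∧ (∀ u ∈ U, QuadraticMap.polar Q u z = 0) ∧ QuadraticMap.polar Q z v ≠ 0 := by
  obtain ⟨p, q, hp, hq, hpq, hUp, hUq⟩ := exists_hyp_pair_orth_sub Q hQ U hU
  by_cases h1 : QuadraticMap.polar Q p v = 0
  swap
  · exact ⟨p, hp, hUp, h1⟩
  by_cases h2 : QuadraticMap.polar Q q v = 0
  swap
  · exact ⟨q, hq, hUq, h2⟩
  obtain ⟨t₀, ht₀U, ht₀v⟩ := exists_orth_polar_ne Q hQ U v hv
  obtain ⟨htp, htq⟩ := polar_hypComp Q p q t₀ hp hq hpq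
  set t := t₀ - QuadraticMap.polar Q t₀ q • p - QuadraticMap.polar Q t₀ p • q with ht
  refine ⟨t + q - Q t • p, singular_of_orth_hyp Q p q t hp hq hpq htp htq, ?_, ?_⟩
  · intro u hu
    rw [QuadraticMap.polar_sub_right, QuadraticMap.polar_add_right, QuadraticMap.polar_smul_right, ht,
      QuadraticMap.polar_sub_right, QuadraticMap.polar_sub_right, QuadraticMap.polar_smul_right,
      QuadraticMap.polar_smul_right, ht₀U u hu, hUp u hu, hUq u hu]
    simp
  · rw [QuadraticMap.polar_sub_left, QuadraticMap.polar_add_left, QuadraticMap.polar_smul_left, ht,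
      QuadraticMap.polar_sub_left, QuadraticMap.polar_sub_left, QuadraticMap.polar_smul_left,
      QuadraticMap.polar_smul_left, h1, h2]
    simpa using ht₀v

end OrthGeomQuad

section UnitaryEichler

open Cfsg Cfsg.Geo Cfsg.Agent.Lib.helper17 Cfsg.Agent.Lib.helper95

variable {F : Type*} [Field F] [Fintype F] {q : ℕ} (hF : Fintype.card F = q ^ 2)
include hF

theorem herm_uE_left (n : ℕ) (v y : Fin n → F) (β : F) (hvv : hermForm n F q v v = 0)
    (hyv : hermForm n F q y v = 0) (z t : Fin n → F) :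
    hermForm n F q (((uE n q v y β : GL (Fin n) F) : Matrix (Fin n) (Fin n) F) *ᵥ z) t =
      hermForm n F q z t + hermForm n F q z v * hermForm n F q y t -
        hermForm n F q z y * hermForm n F q v t + β * hermForm n F q z v * hermForm n F q v t := by
  rw [uE_mulVec hF n v y β hvv hyv, hermForm_add_left, hermForm_sub_left, hermForm_add_left,
    hermForm_smul_left, hermForm_smul_left, hermForm_smul_left]

theorem uE_conj (n : ℕ) (g : GL (Fin n) F) (hg : g ∈ GU n F q) (v y : Fin n → F) (β : F)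
    (hvv : hermForm n F q v v = 0) (hyv : hermForm n F q y v = 0) :
    g * uE n q v y β * g⁻¹ =
      uE n q ((g : Matrix (Fin n) (Fin n) F) *ᵥ v) ((g : Matrix (Fin n) (Fin n) F) *ᵥ y) β := by
  have hgv : hermForm n F q ((g : Matrix (Fin n) (Fin n) F) *ᵥ v)
      ((g : Matrix (Fin n) (Fin n) F) *ᵥ v) = 0 := by
    rw [(mem_GU_iff n q g).mp hg, hvv]
  have hgy : hermForm n F q ((g : Matrix (Fin n) (Fin n) F) *ᵥ y)
      ((g : Matrix (Fin n) (Fin n) F) *ᵥ v) = 0 := by
    rw [(mem_GU_iff n q g).mp hg, hyv]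
  apply gl_ext_mulVec
  intro x
  rw [Units.val_mul, Units.val_mul, ← Matrix.mulVec_mulVec, ← Matrix.mulVec_mulVec,
    uE_mulVec hF n v y β hvv hyv, uE_mulVec hF n _ _ β hgv hgy, Matrix.mulVec_add,
    Matrix.mulVec_sub, Matrix.mulVec_add, Matrix.mulVec_smul, Matrix.mulVec_smul,
    Matrix.mulVec_smul, gl_mulVec_inv_mulVec, hermForm_inv_left hF n g hg,
    hermForm_inv_left hF n g hg]

theorem uE_mul (n : ℕ) (v a b : Fin n → F) (α β : F) (hvv : hermForm n F q v v = 0)
    (hav : hermForm n F q a v = 0) (hbv : hermForm n F q b v = 0) :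
    uE n q v a α * uE n q v b β = uE n q v (a + b) (α + β - hermForm n F q b a) := by
  have hva : hermForm n F q v a = 0 := hermForm_swap_zero hF n a v hav
  have habv : hermForm n F q (a + b) v = 0 := by rw [hermForm_add_left, hav, hbv, add_zero]
  apply gl_ext_mulVec
  intro x
  rw [Units.val_mul, ← Matrix.mulVec_mulVec, uE_mulVec hF n v a α hvv hav,
    herm_uE_left hF n v b β hvv hbv, herm_uE_left hF n v b β hvv hbv,
    uE_mulVec hF n v b β hvv hbv, uE_mulVec hF n v (a + b) _ hvv habv, hvv, hbv, hva,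
    hermForm_add_right hF]
  funext i
  simp only [Pi.add_apply, Pi.sub_apply, Pi.smul_apply, smul_eq_mul]
  ring

/-- The commutator formula for two Eichler elements with orthogonal isotropic centres. -/
theorem uE_comm_eq (n : ℕ) (x y w y' : Fin n → F) (β β' : F)
    (hxx : hermForm n F q x x = 0) (hyx : hermForm n F q y x = 0)
    (hww : hermForm n F q w w = 0) (hy'w : hermForm n F q y' w = 0)
    (hxw : hermForm n F q x w = 0) (hyw : hermForm n F q y w = 0)
    (hy'x : hermForm n F q y' x = 0) :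
    uE n q x y β * uE n q w y' β' =
      uE n q w (-(hermForm n F q y y') ^ q • x) 0 * (uE n q w y' β' * uE n q x y β) := by
  have hwx : hermForm n F q w x = 0 := hermForm_swap_zero hF n x w hxw
  have hwy : hermForm n F q w y = 0 := hermForm_swap_zero hF n y w hyw
  have hxy' : hermForm n F q x y' = 0 := hermForm_swap_zero hF n y' x hy'x
  have hcq : hermForm n F q y y' ^ q = hermForm n F q y' y := hermForm_conj hF n y y'
  have hŷw : hermForm n F q (-(hermForm n F q y y') ^ q • x) w = 0 := by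
    rw [hermForm_smul_left, hxw, mul_zero]
  have hŷ : ∀ t, hermForm n F q t (-(hermForm n F q y y') ^ q • x) =
      -(hermForm n F q y y') * hermForm n F q t x := by
    intro t
    rw [hermForm_smul_right, neg_pow_q hF, pow_q_pow_q hF]
  apply gl_ext_mulVec
  intro z
  rw [Units.val_mul, Units.val_mul, Units.val_mul, ← Matrix.mulVec_mulVec, ← Matrix.mulVec_mulVec,
    ← Matrix.mulVec_mulVec]
  simp only [uE_mulVec hF n x y β hxx hyx, uE_mulVec hF n w y' β' hww hy'w,
    uE_mulVec hF n w _ 0 hww hŷw, hermForm_add_left, hermForm_sub_left, hermForm_smul_left, hŷ,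
    hxx, hyx, hww, hy'w, hxw, hyw, hy'x, hwx, hwy, hxy']
  funext i
  simp only [Pi.add_apply, Pi.sub_apply, Pi.smul_apply, smul_eq_mul, hcq]
  ring

end UnitaryEichler

section OrthSub

open Cfsg Cfsg.Geo Cfsg.Agent.Lib.helper17 Cfsg.Agent.Lib.helper95

/-- The data of the orthogonal subfield subgroup of the special unitary group (`q` odd). -/
structure OFData (F : Type*) [Field F] [Fintype F] (n q : ℕ) where
  hF : Fintype.card F = q ^ 2
  hodd : Odd q
  F₀ : Subfield F
  hcard : Fintype.card F = Nat.card F₀ ^ 2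
  P : GL (Fin n) F
  hP : Cfsg.Geo.IsFormRationalStructure (Cfsg.hermForm n F q) F₀ 1 P
  ω : F
  hω0 : ω ≠ 0
  hω : ω + ω ^ q = 0

namespace OFData

variable {F : Type*} [Field F] [Fintype F] {n q : ℕ} (D : OFData F n q)
include D

theorem two_ne : (2 : F) ≠ 0 := by
  intro h2
  have hchar : ringChar F = 2 := by
    have h := ringChar.dvd (R := F) (x := 2) (by exact_mod_cast h2)
    rcases (Nat.dvd_prime Nat.prime_two).mp h with h1 | h1
    · exact absurd h1 (CharP.ringChar_ne_one)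
    · exact h1
  have h3 := FiniteField.even_card_of_char_two hchar
  rw [D.hF] at h3
  have h4 : Odd (q ^ 2) := D.hodd.pow
  rw [Nat.odd_iff] at h4
  omega

theorem two_ne₀ : (2 : ↥D.F₀) ≠ 0 := by
  intro h
  apply D.two_ne
  have h1 : ((1 + 1 : ↥D.F₀) : F) = 0 := by
    rw [one_add_one_eq_two, h]
    rfl
  have h2 : ((1 + 1 : ↥D.F₀) : F) = 1 + 1 := rfl
  rw [h2, one_add_one_eq_two] at h1
  exact h1

theorem ω_pow : D.ω ^ q = -D.ω := by
  linear_combination D.hω

theorem ω_pow_ne : D.ω ^ q ≠ D.ω := by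
  rw [D.ω_pow]
  intro h
  have h2 : (2 : F) * D.ω = 0 := by linear_combination -h
  rcases mul_eq_zero.mp h2 with h3 | h3
  · exact D.two_ne h3
  · exact D.hω0 h3

theorem pow_coe (a : ↥D.F₀) : (a : F) ^ q = a :=
  (mem_subfield_iff_pow D.hF D.F₀ D.hcard _).mp a.2

theorem ω_sq_mem : D.ω ^ 2 ∈ D.F₀ := by
  rw [mem_subfield_iff_pow D.hF D.F₀ D.hcard, ← pow_mul, mul_comm, pow_mul, D.ω_pow]
  ring

/-- `ω²` as an element of the subfield. -/
def dω : ↥D.F₀ := ⟨D.ω ^ 2, D.ω_sq_mem⟩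

theorem coe_dω : (D.dω : F) = D.ω ^ 2 := rfl

theorem trace_zero_mul (t : ↥D.F₀) : (t : F) * D.ω + ((t : F) * D.ω) ^ q = 0 := by
  rw [mul_pow, D.pow_coe, ← mul_add, D.hω, mul_zero]

theorem exists_of_trace_zero (c : F) (hc : c + c ^ q = 0) : ∃ s : ↥D.F₀, c = (s : F) * D.ω :=
  ⟨⟨c / D.ω, div_mem_subfield_of_trace_zero D.hF D.F₀ D.hcard D.ω D.hω c hc⟩,
    (div_mul_cancel₀ c D.hω0).symm⟩

/-- Uniqueness of the decomposition `a + ω b`. -/
theorem coe_add_mul_eq_zero (a b : ↥D.F₀) (h : (a : F) + D.ω * (b : F) = 0) : a = 0 ∧ b = 0 := by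
  have h' : (a : F) + D.ω * (b : F) = ((0 : ↥D.F₀) : F) + D.ω * ((0 : ↥D.F₀) : F) := by
    rw [h]
    simp
  exact subfield_decomp_unique D.hF D.F₀ D.hcard D.ω D.ω_pow_ne _ _ _ _ h'

/-- The rational vector with coordinates `u`. -/
def rat (u : Fin n → ↥D.F₀) : Fin n → F := (D.P : Matrix (Fin n) (Fin n) F) *ᵥ cu D.F₀ u

/-- The vector with coordinates `u₀ + ω u₁`. -/
def vec (u₀ u₁ : Fin n → ↥D.F₀) : Fin n → F :=
  (D.P : Matrix (Fin n) (Fin n) F) *ᵥ (cu D.F₀ u₀ + D.ω • cu D.F₀ u₁)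

theorem vec_eq (u₀ u₁ : Fin n → ↥D.F₀) : D.vec u₀ u₁ = D.rat u₀ + D.ω • D.rat u₁ := by
  unfold vec rat
  rw [Matrix.mulVec_add, Matrix.mulVec_smul]

theorem rat_add (u v : Fin n → ↥D.F₀) : D.rat (u + v) = D.rat u + D.rat v := by
  unfold rat
  rw [cu_add, Matrix.mulVec_add]

theorem rat_sub (u v : Fin n → ↥D.F₀) : D.rat (u - v) = D.rat u - D.rat v := by
  unfold rat
  rw [cu_sub, Matrix.mulVec_sub]

theorem rat_smul (a : ↥D.F₀) (u : Fin n → ↥D.F₀) : D.rat (a • u) = (a : F) • D.rat u := by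
  unfold rat
  rw [cu_smul, Matrix.mulVec_smul]

theorem rat_zero : D.rat 0 = 0 := by
  unfold rat
  rw [cu_zero, Matrix.mulVec_zero]

theorem rat_injective : Function.Injective D.rat := by
  intro u v h
  exact cu_injective D.F₀ (glmv_inj D.P h)

theorem vec_zero_right (u : Fin n → ↥D.F₀) : D.vec u 0 = D.rat u := by
  rw [vec_eq, rat_zero, smul_zero, add_zero]

theorem vec_add (a b a' b' : Fin n → ↥D.F₀) : D.vec a b + D.vec a' b' = D.vec (a + a') (b + b') := by
  rw [vec_eq, vec_eq, vec_eq, rat_add, rat_add, smul_add]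
  abel

theorem vec_inj {a b a' b' : Fin n → ↥D.F₀} (h : D.vec a b = D.vec a' b') : a = a' ∧ b = b' := by
  have h1 : cu D.F₀ a + D.ω • cu D.F₀ b = cu D.F₀ a' + D.ω • cu D.F₀ b' := glmv_inj D.P h
  have h2 : ∀ i, a i = a' i ∧ b i = b' i := fun i =>
    subfield_decomp_unique D.hF D.F₀ D.hcard D.ω D.ω_pow_ne _ _ _ _ (congrFun h1 i)
  exact ⟨funext fun i => (h2 i).1, funext fun i => (h2 i).2⟩

theorem exists_vec (x : Fin n → F) : ∃ u₀ u₁ : Fin n → ↥D.F₀, x = D.vec u₀ u₁ := by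
  choose a₀ a₁ h using fun i => subfield_decomp D.hF D.F₀ D.hcard D.ω D.ω_pow_ne
    (((((D.P)⁻¹ : GL (Fin n) F) : Matrix (Fin n) (Fin n) F) *ᵥ x) i)
  refine ⟨a₀, a₁, ?_⟩
  have h2 : (((D.P)⁻¹ : GL (Fin n) F) : Matrix (Fin n) (Fin n) F) *ᵥ x =
      cu D.F₀ a₀ + D.ω • cu D.F₀ a₁ := by
    funext i
    rw [h i]
    rfl
  unfold vec
  rw [← h2, gl_mulVec_inv_mulVec]

theorem vec_eq_smul_rat (u₀ u₁ : Fin n → ↥D.F₀)
    (h : u₁ = 0 ∨ u₀ ∈ Submodule.span ↥D.F₀ {u₁}) :
    ∃ (a : F) (v : Fin n → ↥D.F₀), D.vec u₀ u₁ = a • D.rat v := by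
  rcases h with h | h
  · refine ⟨1, u₀, ?_⟩
    rw [h, vec_zero_right, one_smul]
  · obtain ⟨a, ha⟩ := Submodule.mem_span_singleton.mp h
    refine ⟨(a : F) + D.ω, u₁, ?_⟩
    rw [vec_eq, ← ha, rat_smul, add_smul]

theorem coe_add_mul_smul_rat (a b : ↥D.F₀) (t : Fin n → ↥D.F₀) :
    ((a : F) + D.ω * (b : F)) • D.rat t = D.vec (a • t) (b • t) := by
  rw [vec_eq, rat_smul, rat_smul, add_smul, smul_smul]

theorem coe_add_mul_smul_vec (a b : ↥D.F₀) (t₀ t₁ : Fin n → ↥D.F₀) :
    ((a : F) + D.ω * (b : F)) • D.vec t₀ t₁ =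
      D.vec (a • t₀ + (b * D.dω) • t₁) (b • t₀ + a • t₁) := by
  rw [vec_eq, vec_eq, rat_add, rat_add, rat_smul, rat_smul, rat_smul, rat_smul]
  funext i
  simp only [Pi.add_apply, Pi.smul_apply, smul_eq_mul, Subfield.coe_mul, coe_dω]
  ring

/-- The symmetric form over the subfield: the hermitian form on rational vectors. -/
noncomputable def form : LinearMap.BilinForm ↥D.F₀ (Fin n → ↥D.F₀) :=
  LinearMap.mk₂ ↥D.F₀
    (fun u v => (⟨hermForm n F q (D.rat u) (D.rat v), by
      have h := D.hP _ _ (cu_mem D.F₀ u) (cu_mem D.F₀ v)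
      rwa [one_mul] at h⟩ : ↥D.F₀))
    (fun u u' v => Subtype.ext (by
      show hermForm n F q (D.rat (u + u')) (D.rat v) =
        hermForm n F q (D.rat u) (D.rat v) + hermForm n F q (D.rat u') (D.rat v)
      rw [rat_add, hermForm_add_left]))
    (fun a u v => Subtype.ext (by
      show hermForm n F q (D.rat (a • u)) (D.rat v) =
        (a : F) * (hermForm n F q (D.rat u) (D.rat v))
      rw [rat_smul, hermForm_smul_left]))
    (fun u v v' => Subtype.ext (by
      show hermForm n F q (D.rat u) (D.rat (v + v')) =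
        hermForm n F q (D.rat u) (D.rat v) + hermForm n F q (D.rat u) (D.rat v')
      rw [rat_add, hermForm_add_right D.hF]))
    (fun a u v => Subtype.ext (by
      show hermForm n F q (D.rat u) (D.rat (a • v)) =
        (a : F) * (hermForm n F q (D.rat u) (D.rat v))
      rw [rat_smul, hermForm_smul_right, pow_coe]))

theorem herm_rat (u v : Fin n → ↥D.F₀) :
    hermForm n F q (D.rat u) (D.rat v) = (D.form u v : F) := rfl

theorem form_symm (u v : Fin n → ↥D.F₀) : D.form u v = D.form v u := by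
  apply Subtype.ext
  rw [← herm_rat, ← herm_rat, ← hermForm_conj D.hF, herm_rat, pow_coe]

theorem herm_vec_rat (u₀ u₁ v : Fin n → ↥D.F₀) :
    hermForm n F q (D.vec u₀ u₁) (D.rat v) = (D.form u₀ v : F) + D.ω * (D.form u₁ v : F) := by
  rw [vec_eq, hermForm_add_left, hermForm_smul_left, herm_rat, herm_rat]

theorem herm_rat_vec (v u₀ u₁ : Fin n → ↥D.F₀) :
    hermForm n F q (D.rat v) (D.vec u₀ u₁) = (D.form v u₀ : F) - D.ω * (D.form v u₁ : F) := by
  rw [vec_eq, hermForm_add_right D.hF, hermForm_smul_right, herm_rat, herm_rat, D.ω_pow]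
  ring

theorem herm_vec_self (u₀ u₁ : Fin n → ↥D.F₀) :
    hermForm n F q (D.vec u₀ u₁) (D.vec u₀ u₁) =
      (D.form u₀ u₀ : F) - D.ω ^ 2 * (D.form u₁ u₁ : F) := by
  calc hermForm n F q (D.vec u₀ u₁) (D.vec u₀ u₁)
      = hermForm n F q (D.rat u₀ + D.ω • D.rat u₁) (D.vec u₀ u₁) := by rw [← vec_eq]
    _ = (D.form u₀ u₀ : F) - D.ω ^ 2 * (D.form u₁ u₁ : F) := by
      rw [hermForm_add_left, hermForm_smul_left, herm_rat_vec, herm_rat_vec, D.form_symm u₁ u₀]
      ring

theorem form_nondegenerate : D.form.Nondegenerate := by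
  have left : ∀ u : Fin n → ↥D.F₀, (∀ v, D.form u v = 0) → u = 0 := by
    intro u hu
    by_contra hne
    have hr : D.rat u ≠ 0 := by
      intro h0
      apply hne
      apply D.rat_injective
      rw [h0, rat_zero]
    obtain ⟨z, -, hz⟩ := herm_exists_perp_ne D.hF n ⊥ (D.rat u) (by simpa using hr)
    obtain ⟨z₀, z₁, rfl⟩ := D.exists_vec z
    apply hz
    rw [herm_rat_vec, hu z₀, hu z₁]
    simp
  refine ⟨left, ?_⟩
  intro v hv
  apply left
  intro u
  rw [form_symm, hv u]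

/-- The quadratic form `u ↦ form u u / 2`, whose polar form is `form`. -/
noncomputable def qf : QuadraticForm ↥D.F₀ (Fin n → ↥D.F₀) :=
  LinearMap.BilinMap.toQuadraticMap ((2 : ↥D.F₀)⁻¹ • D.form)

theorem qf_apply (u : Fin n → ↥D.F₀) : D.qf u = 2⁻¹ * D.form u u := by
  simp [qf]

theorem polar_qf (u v : Fin n → ↥D.F₀) : QuadraticMap.polar D.qf u v = D.form u v := by
  have h2 := D.two_ne₀
  simp only [QuadraticMap.polar, qf_apply, map_add, LinearMap.add_apply]
  rw [D.form_symm v u]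
  field_simp
  ring

theorem polarBilin_qf : QuadraticMap.polarBilin D.qf = D.form :=
  LinearMap.ext₂ D.polar_qf

theorem qf_eq_zero_iff (u : Fin n → ↥D.F₀) : D.qf u = 0 ↔ D.form u u = 0 := by
  rw [qf_apply]
  constructor
  · intro h
    exact (mul_eq_zero.mp h).resolve_left (inv_ne_zero D.two_ne₀)
  · intro h
    rw [h, mul_zero]

theorem qf_nondegenerate : (QuadraticMap.polarBilin D.qf).Nondegenerate := by
  rw [polarBilin_qf]
  exact D.form_nondegenerate


/-! ### Geometry of the rational orthogonal space -/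

theorem exists_perp_ne_sub (U : Submodule ↥D.F₀ (Fin n → ↥D.F₀)) (a : Fin n → ↥D.F₀) (ha : a ∉ U) :
    ∃ z, (∀ u ∈ U, D.form u z = 0) ∧ D.form a z ≠ 0 := by
  obtain ⟨t, h1, h2⟩ := exists_orth_polar_ne D.qf D.qf_nondegenerate U a ha
  refine ⟨t, fun u hu => ?_, ?_⟩
  · rw [← D.polar_qf]
    exact h1 u hu
  · rw [D.form_symm, ← D.polar_qf]
    exact h2

theorem exists_singular_perp_sub_ne (U : Submodule ↥D.F₀ (Fin n → ↥D.F₀))
    (hU : 2 * finrank ↥D.F₀ U + 3 ≤ n) (a : Fin n → ↥D.F₀) (ha : a ∉ U) :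
    ∃ z, D.form z z = 0 ∧ (∀ u ∈ U, D.form u z = 0) ∧ D.form z a ≠ 0 := by
  letI : Fintype ↥D.F₀ := Fintype.ofFinite _
  obtain ⟨z, h1, h2, h3⟩ := exists_singular_orth_sub_polar_ne D.qf D.qf_nondegenerate U
    (by rw [Fintype.card_fin]; exact hU) a ha
  refine ⟨z, (D.qf_eq_zero_iff z).mp h1, fun u hu => ?_, ?_⟩
  · rw [← D.polar_qf]
    exact h2 u hu
  · rw [← D.polar_qf]
    exact h3

theorem exists_singular_ne (hn : 3 ≤ n) (a : Fin n → ↥D.F₀) (ha : a ≠ 0) :
    ∃ z, D.form z z = 0 ∧ D.form z a ≠ 0 := by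
  obtain ⟨z, h1, -, h3⟩ := D.exists_singular_perp_sub_ne ⊥ (by rw [finrank_bot]; omega) a
    (by simpa using ha)
  exact ⟨z, h1, h3⟩

theorem exists_singular_perp₁_ne (hn : 5 ≤ n) (u a : Fin n → ↥D.F₀)
    (ha : a ∉ Submodule.span ↥D.F₀ ({u} : Set (Fin n → ↥D.F₀))) :
    ∃ z, D.form z z = 0 ∧ D.form u z = 0 ∧ D.form z a ≠ 0 := by
  have hfin := finrank_span_singleton_le_one (K := ↥D.F₀) u
  obtain ⟨z, h1, h2, h3⟩ := D.exists_singular_perp_sub_ne _ (by omega) a ha
  exact ⟨z, h1, h2 u (Submodule.mem_span_singleton_self u), h3⟩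

theorem exists_singular_perp₂_ne (hn : 7 ≤ n) (u₁ u₂ a : Fin n → ↥D.F₀)
    (ha : a ∉ Submodule.span ↥D.F₀ ({u₁, u₂} : Set (Fin n → ↥D.F₀))) :
    ∃ z, D.form z z = 0 ∧ D.form u₁ z = 0 ∧ D.form u₂ z = 0 ∧ D.form z a ≠ 0 := by
  have hfin := finrank_span_pair_le (K := ↥D.F₀) u₁ u₂
  obtain ⟨z, h1, h2, h3⟩ := D.exists_singular_perp_sub_ne _ (by omega) a ha
  exact ⟨z, h1, h2 u₁ (Submodule.subset_span (by simp)), h2 u₂ (Submodule.subset_span (by simp)), h3⟩

theorem exists_singular_perp₂_notMem (hn : 7 ≤ n) (u₁ u₂ : Fin n → ↥D.F₀) :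
    ∃ z, D.form z z = 0 ∧ D.form u₁ z = 0 ∧ D.form u₂ z = 0 ∧
      z ∉ Submodule.span ↥D.F₀ ({u₁, u₂} : Set (Fin n → ↥D.F₀)) := by
  obtain ⟨a, ha1, ha2, ha⟩ := exists_perp₂_notMem_span D.form
    (by rw [Module.finrank_fin_fun]; omega) u₁ u₂
  obtain ⟨z, h1, h2, h3, h4⟩ := D.exists_singular_perp₂_ne hn u₁ u₂ a ha
  refine ⟨z, h1, h2, h3, fun hz => ?_⟩
  obtain ⟨α, β, rfl⟩ := Submodule.mem_span_pair.mp hz
  apply h4
  rw [map_add, LinearMap.add_apply, map_smul, map_smul, LinearMap.smul_apply, LinearMap.smul_apply,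
    ha1, ha2]
  simp

/-! ### Group-level lemmas -/

theorem map_mulVec_cu (B₀ : GL (Fin n) ↥D.F₀) (v : Fin n → ↥D.F₀) :
    ((Matrix.GeneralLinearGroup.map (D.F₀.subtype : D.F₀ →+* F) B₀ : GL (Fin n) F) :
        Matrix (Fin n) (Fin n) F) *ᵥ cu D.F₀ v =
      cu D.F₀ ((B₀ : Matrix (Fin n) (Fin n) ↥D.F₀) *ᵥ v) := by
  funext i
  exact (RingHom.map_mulVec (D.F₀.subtype : D.F₀ →+* F) (B₀ : Matrix (Fin n) (Fin n) ↥D.F₀) v i).symm

/-- Elements of the subfield subgroup map rational vectors to a fixed multiple of rational vectors. -/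
theorem of_mem_subfieldSubgroup (g : GL (Fin n) F) (hg : g ∈ subfieldSubgroup D.F₀ D.P) :
    ∃ c : F, ∀ v : Fin n → ↥D.F₀, ∃ v' : Fin n → ↥D.F₀,
      (g : Matrix (Fin n) (Fin n) F) *ᵥ D.rat v = c • D.rat v' := by
  unfold subfieldSubgroup at hg
  obtain ⟨B, hB, rfl⟩ := Subgroup.mem_map.mp hg
  obtain ⟨B₁, ⟨B₀, rfl⟩, s, hs, rfl⟩ := Subgroup.mem_sup_of_normal_right.mp hB
  obtain ⟨c, hc⟩ := (mem_scalars_iff s).mp hs
  refine ⟨c, fun v => ⟨(B₀ : Matrix (Fin n) (Fin n) ↥D.F₀) *ᵥ v, ?_⟩⟩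
  show ((D.P * (Matrix.GeneralLinearGroup.map (D.F₀.subtype : D.F₀ →+* F) B₀ * s) * (D.P)⁻¹ :
    GL (Fin n) F) : Matrix (Fin n) (Fin n) F) *ᵥ D.rat v = _
  unfold rat
  rw [Units.val_mul, Units.val_mul, ← Matrix.mulVec_mulVec, gl_inv_mulVec_mulVec, Units.val_mul, hc,
    ← Matrix.mulVec_mulVec, ← Matrix.mulVec_mulVec, Matrix.smul_mulVec, Matrix.one_mulVec,
    Matrix.mulVec_smul, Matrix.mulVec_smul, map_mulVec_cu]

/-- A matrix mapping every rational vector to a multiple of a rational vector is a scalar multiple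
of a rational matrix. -/
theorem mem_range_sup_scalars (hn : 0 < n) (B : GL (Fin n) F)
    (hB : ∀ v : Fin n → ↥D.F₀, ∃ (c : F) (v' : Fin n → ↥D.F₀),
      (B : Matrix (Fin n) (Fin n) F) *ᵥ cu D.F₀ v = c • cu D.F₀ v') :
    B ∈ (Matrix.GeneralLinearGroup.map (D.F₀.subtype : D.F₀ →+* F)).range ⊔ scalars (Fin n) F := by
  classical
  choose c r hcr using hB
  set e : Fin n → (Fin n → ↥D.F₀) := fun j => Pi.single j 1 with he
  have hcol : ∀ j, (B : Matrix (Fin n) (Fin n) F) *ᵥ Pi.single j 1 =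
      c (e j) • cu D.F₀ (r (e j)) := by
    intro j
    rw [← hcr (e j), he]
    simp only
    rw [cu_single]
  have hc0 : ∀ j, c (e j) ≠ 0 := by
    intro j h0
    have h1 := hcol j
    rw [h0, zero_smul] at h1
    have h2 : (Pi.single j 1 : Fin n → F) = 0 := glmv_inj B (by rw [h1, Matrix.mulVec_zero])
    have h3 := congrFun h2 j
    simp at h3
  have hr : ∀ j, cu D.F₀ (r (e j)) =
      (B : Matrix (Fin n) (Fin n) F) *ᵥ ((c (e j))⁻¹ • Pi.single j 1) := by
    intro j
    rw [Matrix.mulVec_smul, hcol, smul_smul, inv_mul_cancel₀ (hc0 j), one_smul]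
  let j₀ : Fin n := ⟨0, hn⟩
  have hratio : ∀ j, c (e j) / c (e j₀) ∈ D.F₀ := by
    intro j
    by_cases hj : j = j₀
    · rw [hj, div_self (hc0 j₀)]
      exact D.F₀.one_mem
    have h1 := hcr (e j₀ + e j)
    rw [cu_add, Matrix.mulVec_add] at h1
    have hμ0 : c (e j₀ + e j) ≠ 0 := by
      intro h0
      rw [h0, zero_smul, ← Matrix.mulVec_add] at h1
      have h2 : cu D.F₀ (e j₀) + cu D.F₀ (e j) = 0 := glmv_inj B (by rw [h1, Matrix.mulVec_zero])
      have h3 := congrFun h2 j₀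
      simp [he, cu_single, Ne.symm hj] at h3
    have h1' : c (e j₀) • cu D.F₀ (r (e j₀)) + c (e j) • cu D.F₀ (r (e j)) =
        c (e j₀ + e j) • cu D.F₀ (r (e j₀ + e j)) := by
      rw [← hcol, ← hcol, ← h1, he]
      simp only [cu_single]
    generalize c (e j₀ + e j) = μ at h1' hμ0
    generalize r (e j₀ + e j) = s at h1'
    have h2 : c (e j₀) ^ q • cu D.F₀ (r (e j₀)) + c (e j) ^ q • cu D.F₀ (r (e j)) =
        μ ^ q • cu D.F₀ s := by
      funext i
      have h := congrArg (· ^ q) (congrFun h1' i)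
      simp only [Pi.add_apply, Pi.smul_apply, smul_eq_mul, add_pow_q D.hF, mul_pow] at h
      have e1 : ∀ x : Fin n → ↥D.F₀, cu D.F₀ x i ^ q = cu D.F₀ x i := fun x => D.pow_coe _
      rw [e1, e1, e1] at h
      simp only [Pi.add_apply, Pi.smul_apply, smul_eq_mul]
      exact h
    have h3 : (μ ^ q * c (e j₀) - μ * c (e j₀) ^ q) • cu D.F₀ (r (e j₀)) +
        (μ ^ q * c (e j) - μ * c (e j) ^ q) • cu D.F₀ (r (e j)) = 0 := by
      have ha := congrArg (fun z => μ ^ q • z) h1'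
      have hb := congrArg (fun z => μ • z) h2
      simp only [smul_add, smul_smul] at ha hb
      calc (μ ^ q * c (e j₀) - μ * c (e j₀) ^ q) • cu D.F₀ (r (e j₀)) +
            (μ ^ q * c (e j) - μ * c (e j) ^ q) • cu D.F₀ (r (e j))
          = ((μ ^ q * c (e j₀)) • cu D.F₀ (r (e j₀)) + (μ ^ q * c (e j)) • cu D.F₀ (r (e j))) -
            ((μ * c (e j₀) ^ q) • cu D.F₀ (r (e j₀)) + (μ * c (e j) ^ q) • cu D.F₀ (r (e j))) := by
            rw [sub_smul, sub_smul]
            abel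
        _ = 0 := by rw [ha, hb, mul_comm μ, sub_self]
    rw [hr j₀, hr j, ← Matrix.mulVec_smul, ← Matrix.mulVec_smul, ← Matrix.mulVec_add] at h3
    have h4 := glmv_inj B (h3.trans (Matrix.mulVec_zero _).symm)
    have h5 := congrFun h4 j₀
    have h6 := congrFun h4 j
    simp [hj, Ne.symm hj, hc0] at h5 h6
    have m0 : c (e j₀) / μ ∈ D.F₀ := by
      rw [mem_subfield_iff_pow D.hF D.F₀ D.hcard, div_pow]
      have hμq : μ ^ q ≠ 0 := pow_ne_zero _ hμ0
      field_simp
      linear_combination -h5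
    have m1 : c (e j) / μ ∈ D.F₀ := by
      rw [mem_subfield_iff_pow D.hF D.F₀ D.hcard, div_pow]
      have hμq : μ ^ q ≠ 0 := pow_ne_zero _ hμ0
      field_simp
      linear_combination -h6
    have := D.F₀.div_mem m1 m0
    rwa [div_div_div_cancel_right₀ hμ0] at this
  let B₀m : Matrix (Fin n) (Fin n) ↥D.F₀ :=
    Matrix.of fun i j => (⟨c (e j) / c (e j₀), hratio j⟩ : ↥D.F₀) * r (e j) i
  have hB₀ : (B : Matrix (Fin n) (Fin n) F) =
      c (e j₀) • B₀m.map (D.F₀.subtype : D.F₀ →+* F) := by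
    ext i j
    have h := congrFun (hcol j) i
    rw [Matrix.mulVec_single_one] at h
    have hj0 := hc0 j₀
    simp only [Matrix.col_apply, Pi.smul_apply, smul_eq_mul] at h
    rw [h]
    simp only [B₀m, Matrix.smul_apply, Matrix.map_apply, Matrix.of_apply, smul_eq_mul,
      Subfield.coe_subtype, Subfield.coe_mul]
    show _ = c (e j₀) * (c (e j) / c (e j₀) * cu D.F₀ (r (e j)) i)
    field_simp
  have hdet : B₀m.det ≠ 0 := by
    intro h0
    have hB0 : (B : Matrix (Fin n) (Fin n) F).det = 0 := by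
      rw [hB₀, Matrix.det_smul, ← RingHom.mapMatrix_apply, ← RingHom.map_det, h0, map_zero,
        mul_zero]
    have hu : IsUnit (B : Matrix (Fin n) (Fin n) F).det :=
      (Matrix.isUnit_iff_isUnit_det _).mp B.isUnit
    rw [hB0] at hu
    exact not_isUnit_zero hu
  let sc : GL (Fin n) F := Units.map (Matrix.scalar (Fin n) : F →+* Matrix (Fin n) (Fin n) F).toMonoidHom
    (Units.mk0 (c (e j₀)) (hc0 j₀))
  have hsc : sc ∈ scalars (Fin n) F := ⟨_, rfl⟩
  have hscv : (sc : Matrix (Fin n) (Fin n) F) = c (e j₀) • (1 : Matrix (Fin n) (Fin n) F) := by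
    simp [sc, Matrix.smul_one_eq_diagonal]
  have hprod : B = Matrix.GeneralLinearGroup.map (D.F₀.subtype : D.F₀ →+* F)
      (Matrix.GeneralLinearGroup.mkOfDetNeZero B₀m hdet) * sc := by
    apply Units.ext
    rw [Units.val_mul, hscv, Matrix.mul_smul, Matrix.mul_one, hB₀]
    rfl
  rw [hprod]
  exact Subgroup.mul_mem_sup ⟨_, rfl⟩ hsc

/-- Converse: a GL element mapping every rational vector to a multiple of a rational vector lies in
the subfield subgroup. -/
theorem mem_subfieldSubgroup_of (hn : 0 < n) (g : GL (Fin n) F)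
    (hg : ∀ v : Fin n → ↥D.F₀, ∃ (c : F) (v' : Fin n → ↥D.F₀),
      (g : Matrix (Fin n) (Fin n) F) *ᵥ D.rat v = c • D.rat v') :
    g ∈ subfieldSubgroup D.F₀ D.P := by
  unfold subfieldSubgroup
  refine Subgroup.mem_map.mpr ⟨(D.P)⁻¹ * g * D.P, D.mem_range_sup_scalars hn _ ?_, ?_⟩
  · intro v
    obtain ⟨c, v', h⟩ := hg v
    refine ⟨c, v', ?_⟩
    rw [Units.val_mul, Units.val_mul, ← Matrix.mulVec_mulVec, ← Matrix.mulVec_mulVec]
    have h' : (g : Matrix (Fin n) (Fin n) F) *ᵥ ((D.P : Matrix (Fin n) (Fin n) F) *ᵥ cu D.F₀ v) =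
        c • ((D.P : Matrix (Fin n) (Fin n) F) *ᵥ cu D.F₀ v') := h
    rw [h', Matrix.mulVec_smul, gl_inv_mulVec_mulVec]
  · show D.P * ((D.P)⁻¹ * g * D.P) * (D.P)⁻¹ = g
    group

/-! ### Rational Eichler elements -/

theorem two_mem : (2 : F) ∈ D.F₀ := by
  have := D.F₀.add_mem D.F₀.one_mem D.F₀.one_mem
  rwa [one_add_one_eq_two] at this

/-- `1/2` as an element of the subfield. -/
def half : ↥D.F₀ := ⟨2⁻¹, D.F₀.inv_mem D.two_mem⟩

theorem coe_half : (D.half : F) = 2⁻¹ := rfl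

/-- The parameter `-f(y,y)/2` of a rational Eichler element. -/
noncomputable def bet (y : Fin n → ↥D.F₀) : ↥D.F₀ := -(D.half * D.form y y)

theorem coe_bet (y : Fin n → ↥D.F₀) : (D.bet y : F) = -(2⁻¹ * (D.form y y : F)) := rfl

/-- The rational Eichler element with centre `v` and direction `y`. -/
noncomputable def ratE (v y : Fin n → ↥D.F₀) : GL (Fin n) F :=
  uE n q (D.rat v) (D.rat y) (D.bet y : F)

theorem rat_isotropic (v : Fin n → ↥D.F₀) (hv : D.form v v = 0) :
    hermForm n F q (D.rat v) (D.rat v) = 0 := by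
  rw [herm_rat, hv]
  rfl

theorem herm_rat_zero (y v : Fin n → ↥D.F₀) (hyv : D.form y v = 0) :
    hermForm n F q (D.rat y) (D.rat v) = 0 := by
  rw [herm_rat, hyv]
  rfl

theorem ratE_rat (v y : Fin n → ↥D.F₀) (hv : D.form v v = 0) (hyv : D.form y v = 0)
    (z : Fin n → ↥D.F₀) :
    ((D.ratE v y : GL (Fin n) F) : Matrix (Fin n) (Fin n) F) *ᵥ D.rat z =
      D.rat (z + D.form z v • y - D.form z y • v + (D.bet y * D.form z v) • v) := by
  unfold ratE
  rw [uE_mulVec D.hF n _ _ _ (D.rat_isotropic v hv) (D.herm_rat_zero y v hyv), herm_rat, herm_rat,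
    rat_add, rat_sub, rat_add, rat_smul, rat_smul, rat_smul, Subfield.coe_mul]

theorem ratE_mem (hn : 0 < n) (v y : Fin n → ↥D.F₀) (hv : D.form v v = 0) (hyv : D.form y v = 0) :
    D.ratE v y ∈ subfieldSubgroup D.F₀ D.P ⊓ (GU n F q ⊓ specialLinear (Fin n) F) := by
  refine ⟨?_, ?_⟩
  · apply D.mem_subfieldSubgroup_of hn
    intro z
    exact ⟨1, _, by rw [ratE_rat D v y hv hyv, one_smul]⟩
  · unfold ratE
    apply uE_mem D.hF n _ _ _ (D.rat_isotropic v hv) (D.herm_rat_zero y v hyv)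
    have h2 := D.two_ne
    rw [D.pow_coe, herm_rat, coe_bet]
    field_simp
    ring

end OFData

end OrthSub

end Cfsg.Agent.Lib.helper49
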