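/-
Shared lemmas (helper49): the normaliser in `Ω(Q)` of a quadratic extension field `K = F[J]` whose
elements are similitudes of `Q` and on which the adjoint induces the non-trivial automorphism (the
unitary group `GU_{n/2}(q).2`) is a maximal subgroup of `Ω(Q)`.
Part 1: the structure `JData`, unitary transvections as Siegel elements, root-group submodules.
-/
import Mathlib
import Cfsg.Prelude.Def_Classical
import Cfsg.Prelude.Def_ClassicalGeometry
import Cfsg.Prelude.Def_GeometricClasses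
import Cfsg.Agent.Lib.helper49.NondegMax
import Cfsg.Agent.Lib.helper49.SuOrth

set_option autoImplicit false
set_option linter.unusedSectionVars false

namespace Cfsg.Agent.Lib.helper49

open Matrix Module

section OmegaUnitary

variable {F : Type*} [Field F] [Fintype F] {ι : Type} [Fintype ι] [DecidableEq ι]

/-- A singular vector orthogonal to a small subspace `U` and not orthogonal to two given vectors
outside `U`. -/
theorem exists_singular_orth_sub_polar_ne₂ (Q : QuadraticForm F (ι → F))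
    (hQ : (QuadraticMap.polarBilin Q).Nondegenerate) (U : Submodule F (ι → F))
    (hU : 2 * finrank F U + 7 ≤ Fintype.card ι) (x₁ x₂ : ι → F) (h₁ : x₁ ∉ U) (h₂ : x₂ ∉ U) :
    ∃ z, Q z = 0 ∧ (∀ u ∈ U, QuadraticMap.polar Q u z = 0) ∧ QuadraticMap.polar Q z x₁ ≠ 0 ∧
      QuadraticMap.polar Q z x₂ ≠ 0 := by
  obtain ⟨s₁, hs₁, hs₁U, hs₁x⟩ := exists_singular_orth_sub_polar_ne Q hQ U (by omega) x₁ h₁
  by_cases hA : QuadraticMap.polar Q s₁ x₂ = 0
  swap
  · exact ⟨s₁, hs₁, hs₁U, hs₁x, hA⟩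
  obtain ⟨s₂, hs₂, hs₂U, hs₂x⟩ := exists_singular_orth_sub_polar_ne Q hQ U (by omega) x₂ h₂
  by_cases hB : QuadraticMap.polar Q s₂ x₁ = 0
  swap
  · exact ⟨s₂, hs₂, hs₂U, hB, hs₂x⟩
  by_cases hπ : QuadraticMap.polar Q s₁ s₂ = 0
  · refine ⟨s₁ + s₂, ?_, fun u hu => ?_, ?_, ?_⟩
    · rw [QuadraticMap.map_add Q, hs₁, hs₂, hπ]
      simp
    · rw [QuadraticMap.polar_add_right, hs₁U u hu, hs₂U u hu, add_zero]
    · rw [QuadraticMap.polar_add_left, hB, add_zero]
      exact hs₁x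
    · rw [QuadraticMap.polar_add_left, hA, zero_add]
      exact hs₂x
  obtain ⟨U', hU'⟩ : ∃ U' : Submodule F (ι → F),
      U' = U ⊔ Submodule.span F ({s₁, s₂} : Set (ι → F)) := ⟨_, rfl⟩
  have hU'fin : finrank F ↥U' ≤ finrank F U + 2 := by
    have h1 := Submodule.finrank_add_le_finrank_add_finrank U (Submodule.span F ({s₁, s₂} : Set (ι → F)))
    have h2 := finrank_span_pair_le (K := F) s₁ s₂
    rw [hU']
    omega
  have hUle : U ≤ U' := by rw [hU']; exact le_sup_left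
  have hs₁U' : s₁ ∈ U' := by
    rw [hU']
    exact (le_sup_right : _ ≤ U ⊔ Submodule.span F ({s₁, s₂} : Set (ι → F)))
      (Submodule.subset_span (by simp))
  have hs₂U' : s₂ ∈ U' := by
    rw [hU']
    exact (le_sup_right : _ ≤ U ⊔ Submodule.span F ({s₁, s₂} : Set (ι → F)))
      (Submodule.subset_span (by simp))
  by_cases hx₂ : x₂ ∈ U'
  swap
  · obtain ⟨s₃, hs₃, hs₃U, hs₃x⟩ := exists_singular_orth_sub_polar_ne Q hQ U' (by omega) x₂ hx₂
    have h31 : QuadraticMap.polar Q s₃ s₁ = 0 := by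
      rw [QuadraticMap.polar_comm]; exact hs₃U s₁ hs₁U'
    by_cases h3 : QuadraticMap.polar Q s₃ x₁ = 0
    · refine ⟨s₃ + s₁, ?_, fun u hu => ?_, ?_, ?_⟩
      · rw [QuadraticMap.map_add Q, hs₁, hs₃, h31]
        simp
      · rw [QuadraticMap.polar_add_right, hs₁U u hu, hs₃U u (hUle hu), add_zero]
      · rw [QuadraticMap.polar_add_left, h3, zero_add]
        exact hs₁x
      · rw [QuadraticMap.polar_add_left, hA, add_zero]
        exact hs₃x
    · exact ⟨s₃, hs₃, fun u hu => hs₃U u (hUle hu), h3, hs₃x⟩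
  by_cases hx₁ : x₁ ∈ U'
  swap
  · obtain ⟨s₃, hs₃, hs₃U, hs₃x⟩ := exists_singular_orth_sub_polar_ne Q hQ U' (by omega) x₁ hx₁
    have h32 : QuadraticMap.polar Q s₃ s₂ = 0 := by
      rw [QuadraticMap.polar_comm]; exact hs₃U s₂ hs₂U'
    by_cases h3 : QuadraticMap.polar Q s₃ x₂ = 0
    · refine ⟨s₃ + s₂, ?_, fun u hu => ?_, ?_, ?_⟩
      · rw [QuadraticMap.map_add Q, hs₂, hs₃, h32]
        simp
      · rw [QuadraticMap.polar_add_right, hs₂U u hu, hs₃U u (hUle hu), add_zero]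
      · rw [QuadraticMap.polar_add_left, hB, add_zero]
        exact hs₃x
      · rw [QuadraticMap.polar_add_left, h3, zero_add]
        exact hs₂x
    · exact ⟨s₃, hs₃, fun u hu => hs₃U u (hUle hu), hs₃x, h3⟩
  obtain ⟨p, q, hp, hq, hpq, hpU, hqU⟩ := exists_hyp_pair_orth_sub Q hQ U' (by omega)
  have hwU : ∀ u ∈ U', QuadraticMap.polar Q u (p - QuadraticMap.polar Q s₁ s₂ • q) = 0 := by
    intro u hu
    rw [QuadraticMap.polar_sub_right, QuadraticMap.polar_smul_right, hpU u hu, hqU u hu]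
    simp
  have hQw : Q (p - QuadraticMap.polar Q s₁ s₂ • q) = -QuadraticMap.polar Q s₁ s₂ := by
    rw [sub_eq_add_neg, ← neg_smul, QuadraticMap.map_add Q, QuadraticMap.map_smul, hp, hq,
      QuadraticMap.polar_smul_right, hpq]
    simp
  refine ⟨s₁ + s₂ + (p - QuadraticMap.polar Q s₁ s₂ • q), ?_, fun u hu => ?_, ?_, ?_⟩
  · rw [QuadraticMap.map_add Q, QuadraticMap.map_add Q, hs₁, hs₂, hQw, QuadraticMap.polar_add_left,
      hwU s₁ hs₁U', hwU s₂ hs₂U']
    ring
  · rw [QuadraticMap.polar_add_right, QuadraticMap.polar_add_right, hs₁U u hu, hs₂U u hu,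
      hwU u (hUle hu)]
    simp
  · rw [QuadraticMap.polar_add_left, QuadraticMap.polar_add_left, hB,
      QuadraticMap.polar_comm Q (p - QuadraticMap.polar Q s₁ s₂ • q) x₁, hwU x₁ hx₁]
    simpa using hs₁x
  · rw [QuadraticMap.polar_add_left, QuadraticMap.polar_add_left, hA,
      QuadraticMap.polar_comm Q (p - QuadraticMap.polar Q s₁ s₂ • q) x₂, hwU x₂ hx₂]
    simpa using hs₂x

/-- A singular vector orthogonal to a small subspace `U` and outside it. -/
theorem exists_singular_orth_sub_notMem (Q : QuadraticForm F (ι → F))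
    (hQ : (QuadraticMap.polarBilin Q).Nondegenerate) (U : Submodule F (ι → F))
    (hU : 2 * finrank F U + 3 ≤ Fintype.card ι) :
    ∃ z, Q z = 0 ∧ (∀ u ∈ U, QuadraticMap.polar Q u z = 0) ∧ z ∉ U := by
  obtain ⟨p, q, hp, hq, hpq, hpU, hqU⟩ := exists_hyp_pair_orth_sub Q hQ U hU
  refine ⟨p, hp, hpU, fun hpmem => ?_⟩
  have := hqU p hpmem
  rw [hpq] at this
  exact one_ne_zero this

/-- The data of a quadratic extension field `F[J]` of matrices acting on the quadratic space by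
similitudes, the adjoint for the polar form being the non-trivial automorphism `J ↦ t - J`. -/
structure JData (Q : QuadraticForm F (ι → F)) where
  J : Matrix ι ι F
  t : F
  d : F
  hJ2 : J * J = t • J - d • (1 : Matrix ι ι F)
  hadj : ∀ u v : ι → F, QuadraticMap.polar Q (J *ᵥ u) v + QuadraticMap.polar Q u (J *ᵥ v) =
    t * QuadraticMap.polar Q u v
  hQJ : ∀ v : ι → F, Q (J *ᵥ v) = d * Q v
  hpJ : ∀ v : ι → F, QuadraticMap.polar Q v (J *ᵥ v) = t * Q v
  hirr : ∀ r : F, r * r - t * r + d ≠ 0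

namespace JData

variable {Q : QuadraticForm F (ι → F)} (D : JData Q)

theorem J_J (v : ι → F) : D.J *ᵥ (D.J *ᵥ v) = D.t • (D.J *ᵥ v) - D.d • v := by
  rw [Matrix.mulVec_mulVec, D.hJ2, Matrix.sub_mulVec, Matrix.smul_mulVec, Matrix.smul_mulVec,
    Matrix.one_mulVec]

theorem polar_J_right (u v : ι → F) : QuadraticMap.polar Q u (D.J *ᵥ v) =
    D.t * QuadraticMap.polar Q u v - QuadraticMap.polar Q (D.J *ᵥ u) v := by
  linear_combination D.hadj u v

theorem polar_J_left (u v : ι → F) : QuadraticMap.polar Q (D.J *ᵥ u) v =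
    D.t * QuadraticMap.polar Q u v - QuadraticMap.polar Q u (D.J *ᵥ v) := by
  linear_combination D.hadj u v

theorem polar_J_J (u v : ι → F) : QuadraticMap.polar Q (D.J *ᵥ u) (D.J *ᵥ v) =
    D.d * QuadraticMap.polar Q u v := by
  unfold QuadraticMap.polar
  rw [← Matrix.mulVec_add, D.hQJ, D.hQJ, D.hQJ]
  ring

theorem norm_ne (α β : F) (h : α ≠ 0 ∨ β ≠ 0) : α * α + α * β * D.t + β * β * D.d ≠ 0 := by
  by_cases hβ : β = 0
  · subst hβ
    have hα : α ≠ 0 := by tauto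
    simpa using hα
  · intro h0
    apply D.hirr (-α / β)
    field_simp
    linear_combination h0

/-- The action of `α + β J` on a vector. -/
def km (α β : F) (v : ι → F) : ι → F := α • v + β • D.J *ᵥ v

theorem km_add (α β : F) (v w : ι → F) : D.km α β (v + w) = D.km α β v + D.km α β w := by
  unfold km
  rw [Matrix.mulVec_add]
  module

theorem km_add' (α β α' β' : F) (v : ι → F) : D.km α β v + D.km α' β' v = D.km (α + α') (β + β') v := by
  unfold km
  module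

theorem km_smul' (c α β : F) (v : ι → F) : c • D.km α β v = D.km (c * α) (c * β) v := by
  unfold km
  module

theorem km_zero (α β : F) : D.km α β 0 = 0 := by
  unfold km
  rw [Matrix.mulVec_zero]
  simp

theorem km_zero_zero (v : ι → F) : D.km 0 0 v = 0 := by
  unfold km
  simp

theorem J_km (α β : F) (v : ι → F) : D.J *ᵥ D.km α β v = D.km (-(β * D.d)) (α + β * D.t) v := by
  unfold km
  rw [Matrix.mulVec_add, Matrix.mulVec_smul, Matrix.mulVec_smul, D.J_J]
  module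

theorem km_inv (α β : F) (v : ι → F) (h : α ≠ 0 ∨ β ≠ 0) :
    v = (α * α + α * β * D.t + β * β * D.d)⁻¹ •
      ((α + β * D.t) • D.km α β v - β • D.J *ᵥ D.km α β v) := by
  have hN := D.norm_ne α β h
  rw [J_km]
  unfold km
  have e : (α + β * D.t) • (α • v + β • D.J *ᵥ v) -
      β • (-(β * D.d) • v + (α + β * D.t) • D.J *ᵥ v) =
      (α * α + α * β * D.t + β * β * D.d) • v := by
    module
  rw [e, smul_smul, inv_mul_cancel₀ hN, one_smul]

theorem J_km_inv (α β : F) (v : ι → F) (h : α ≠ 0 ∨ β ≠ 0) :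
    D.J *ᵥ v = (α * α + α * β * D.t + β * β * D.d)⁻¹ •
      ((β * D.d) • D.km α β v + α • D.J *ᵥ D.km α β v) := by
  have hN := D.norm_ne α β h
  rw [J_km]
  unfold km
  have e : (β * D.d) • (α • v + β • D.J *ᵥ v) +
      α • (-(β * D.d) • v + (α + β * D.t) • D.J *ᵥ v) =
      (α * α + α * β * D.t + β * β * D.d) • D.J *ᵥ v := by
    module
  rw [e, smul_smul, inv_mul_cancel₀ hN, one_smul]

theorem km_ne_zero (α β : F) (v : ι → F) (h : α ≠ 0 ∨ β ≠ 0) (hv : v ≠ 0) : D.km α β v ≠ 0 := by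
  intro h0
  apply hv
  rw [D.km_inv α β v h, h0, Matrix.mulVec_zero]
  simp

theorem km_eq_zero (α β : F) (v : ι → F) (hv : v ≠ 0) (h0 : D.km α β v = 0) : α = 0 ∧ β = 0 := by
  by_contra hcon
  have h : α ≠ 0 ∨ β ≠ 0 := by tauto
  exact D.km_ne_zero α β v h hv h0

/-- A submodule stable under `J` which contains `(α + β J) v` contains `v`. -/
theorem mem_of_km_mem (B : Submodule F (ι → F)) (hB : ∀ x ∈ B, D.J *ᵥ x ∈ B) (α β : F)
    (h : α ≠ 0 ∨ β ≠ 0) (v : ι → F) (hv : D.km α β v ∈ B) : v ∈ B := by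
  rw [D.km_inv α β v h]
  exact B.smul_mem _ (B.sub_mem (B.smul_mem _ hv) (B.smul_mem _ (hB _ hv)))

/-- If `(α + β J) v` and `J (α + β J) v` lie in a submodule, so do `v` and `J v`. -/
theorem mem_and_J_mem_of_km (B : Submodule F (ι → F)) (α β : F) (h : α ≠ 0 ∨ β ≠ 0) (v : ι → F)
    (h1 : D.km α β v ∈ B) (h2 : D.J *ᵥ D.km α β v ∈ B) : v ∈ B ∧ D.J *ᵥ v ∈ B := by
  constructor
  · rw [D.km_inv α β v h]
    exact B.smul_mem _ (B.sub_mem (B.smul_mem _ h1) (B.smul_mem _ h2))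
  · rw [D.J_km_inv α β v h]
    exact B.smul_mem _ (B.add_mem (B.smul_mem _ h1) (B.smul_mem _ h2))

/-- The `K`-line of a vector, as an `F`-subspace. -/
def Kl (v : ι → F) : Submodule F (ι → F) := Submodule.span F {v, D.J *ᵥ v}

theorem mem_Kl (v w : ι → F) : w ∈ D.Kl v ↔ ∃ α β : F, w = D.km α β v := by
  unfold Kl km
  rw [Submodule.mem_span_pair]
  constructor
  · rintro ⟨α, β, h⟩
    exact ⟨α, β, h.symm⟩
  · rintro ⟨α, β, h⟩
    exact ⟨α, β, h.symm⟩

theorem self_mem_Kl (v : ι → F) : v ∈ D.Kl v := Submodule.subset_span (by simp)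

theorem J_self_mem_Kl (v : ι → F) : D.J *ᵥ v ∈ D.Kl v := Submodule.subset_span (by simp)

theorem km_mem_Kl (α β : F) (v : ι → F) : D.km α β v ∈ D.Kl v := (D.mem_Kl v _).mpr ⟨α, β, rfl⟩

theorem J_mem_Kl (v w : ι → F) (hw : w ∈ D.Kl v) : D.J *ᵥ w ∈ D.Kl v := by
  obtain ⟨α, β, rfl⟩ := (D.mem_Kl v w).mp hw
  rw [J_km]
  exact D.km_mem_Kl _ _ v

theorem finrank_Kl_le (v : ι → F) : finrank F ↥(D.Kl v) ≤ 2 := finrank_span_pair_le _ _

theorem Kl_symm (v w : ι → F) (hw0 : w ≠ 0) (hw : w ∈ D.Kl v) : v ∈ D.Kl w := by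
  obtain ⟨α, β, rfl⟩ := (D.mem_Kl v w).mp hw
  have h : α ≠ 0 ∨ β ≠ 0 := by
    by_contra hcon
    push Not at hcon
    apply hw0
    rw [hcon.1, hcon.2, km_zero_zero]
  exact D.mem_of_km_mem (D.Kl (D.km α β v)) (fun x hx => D.J_mem_Kl _ x hx) α β h v (D.self_mem_Kl _)

theorem Kl_le_of_mem (B : Submodule F (ι → F)) (v : ι → F) (h1 : v ∈ B) (h2 : D.J *ᵥ v ∈ B) :
    D.Kl v ≤ B := by
  unfold Kl
  rw [Submodule.span_le]
  rintro x (rfl | rfl)
  · exact h1
  · exact h2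

/-- Four-term independence: `u₁, J u₁, u₂, J u₂` are independent when `u₁ ≠ 0` and `u₂ ∉ K u₁`. -/
theorem indep4 (u₁ u₂ : ι → F) (h₁ : u₁ ≠ 0) (h₂ : u₂ ∉ D.Kl u₁) (α β γ δ : F)
    (h : D.km α β u₁ + D.km γ δ u₂ = 0) : α = 0 ∧ β = 0 ∧ γ = 0 ∧ δ = 0 := by
  have hγδ : γ = 0 ∧ δ = 0 := by
    by_contra hcon
    have h' : γ ≠ 0 ∨ δ ≠ 0 := by tauto
    apply h₂
    apply D.mem_of_km_mem (D.Kl u₁) (fun x hx => D.J_mem_Kl _ x hx) γ δ h' u₂
    have e : D.km γ δ u₂ = -D.km α β u₁ := eq_neg_of_add_eq_zero_right h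
    rw [e]
    exact (D.Kl u₁).neg_mem (D.km_mem_Kl _ _ _)
  rw [hγδ.1, hγδ.2, km_zero_zero, add_zero] at h
  obtain ⟨hα, hβ⟩ := D.km_eq_zero α β u₁ h₁ h
  exact ⟨hα, hβ, hγδ.1, hγδ.2⟩

theorem Q_km (α β : F) (v : ι → F) (hv : Q v = 0) : Q (D.km α β v) = 0 := by
  unfold km
  rw [QuadraticMap.map_add Q, QuadraticMap.map_smul, QuadraticMap.map_smul, D.hQJ, hv,
    QuadraticMap.polar_smul_left, QuadraticMap.polar_smul_right, D.hpJ, hv]
  simp

theorem polar_km_right (a : ι → F) (α β : F) (v : ι → F) :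
    QuadraticMap.polar Q a (D.km α β v) =
      α * QuadraticMap.polar Q a v + β * QuadraticMap.polar Q a (D.J *ᵥ v) := by
  unfold km
  rw [QuadraticMap.polar_add_right, QuadraticMap.polar_smul_right, QuadraticMap.polar_smul_right]
  simp

/-- Vectors of `K v` are orthogonal to `a` when `v` and `J v` are. -/
theorem polar_Kl (a v w : ι → F) (h1 : QuadraticMap.polar Q a v = 0)
    (h2 : QuadraticMap.polar Q a (D.J *ᵥ v) = 0) (hw : w ∈ D.Kl v) : QuadraticMap.polar Q a w = 0 := by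
  obtain ⟨α, β, rfl⟩ := (D.mem_Kl v w).mp hw
  rw [polar_km_right, h1, h2]
  simp

/-- If `v ⊥ a, J a` then `J v ⊥ a`. -/
theorem polar_J_of_perp (a v : ι → F) (h1 : QuadraticMap.polar Q a v = 0)
    (h2 : QuadraticMap.polar Q (D.J *ᵥ a) v = 0) : QuadraticMap.polar Q a (D.J *ᵥ v) = 0 := by
  rw [polar_J_right, h1, h2]
  simp

/-- If `v ⊥ a` and `J v ⊥ a` then `v ⊥ J a`. -/
theorem polar_J_of_perp' (a v : ι → F) (h1 : QuadraticMap.polar Q a v = 0)
    (h2 : QuadraticMap.polar Q a (D.J *ᵥ v) = 0) : QuadraticMap.polar Q (D.J *ᵥ a) v = 0 := by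
  rw [polar_J_left, h1, h2]
  simp

/-! ### Unitary transvections -/

/-- The unitary transvection `x ↦ x + c (f(J v, x) v - f(v, x) J v)`, a Siegel element. -/
noncomputable def tau (v : ι → F) (c : F) : ↥(Cfsg.isometryGroup F ⇑Q) :=
  eichG Q v (c • D.J *ᵥ v)

theorem isoAct_tau (v : ι → F) (c : F) (hv : Q v = 0) (x : ι → F) :
    isoAct (⇑Q) (D.tau v c) x = x + c • (QuadraticMap.polar Q (D.J *ᵥ v) x • v -
      QuadraticMap.polar Q v x • D.J *ᵥ v) := by
  unfold tau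
  rw [isoAct_eichG Q v _ hv (by rw [QuadraticMap.polar_smul_right, D.hpJ, hv]; simp),
    QuadraticMap.polar_smul_left, QuadraticMap.map_smul, D.hQJ, hv]
  simp only [smul_eq_mul, mul_zero, zero_mul, sub_zero]
  module

theorem tau_J (v : ι → F) (c : F) (hv : Q v = 0) (x : ι → F) :
    D.J *ᵥ isoAct (⇑Q) (D.tau v c) x = isoAct (⇑Q) (D.tau v c) (D.J *ᵥ x) := by
  rw [isoAct_tau D v c hv, isoAct_tau D v c hv, Matrix.mulVec_add, Matrix.mulVec_smul,
    Matrix.mulVec_sub, Matrix.mulVec_smul, Matrix.mulVec_smul, D.J_J, D.polar_J_J,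
    D.polar_J_right v x]
  module

end JData

/-! ### Root-group submodules -/

/-- The vectors `w ⊥ a` all of whose Eichler transformations `E(a, c w)` lie in `M` (for singular `a`). -/
def BSub (Q : QuadraticForm F (ι → F)) (M : Subgroup ↥(Cfsg.isometryGroup F ⇑Q)) (a : ι → F)
    (ha : Q a = 0) : Submodule F (ι → F) where
  carrier := {w | QuadraticMap.polar Q a w = 0 ∧ ∀ c : F, eichG Q a (c • w) ∈ M}
  add_mem' := by
    rintro w w' ⟨h1, h2⟩ ⟨h1', h2'⟩
    refine ⟨by rw [QuadraticMap.polar_add_right, h1, h1', add_zero], fun c => ?_⟩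
    rw [smul_add, ← eichG_mul Q a (c • w) (c • w') ha
      (by rw [QuadraticMap.polar_smul_right, h1, smul_zero])
      (by rw [QuadraticMap.polar_smul_right, h1', smul_zero])]
    exact mul_mem (h2 c) (h2' c)
  zero_mem' := by
    refine ⟨by simp, fun c => ?_⟩
    rw [smul_zero, eichG_zero]
    exact one_mem _
  smul_mem' := by
    rintro k w ⟨h1, h2⟩
    refine ⟨by rw [QuadraticMap.polar_smul_right, h1, smul_zero], fun c => ?_⟩
    rw [smul_smul]
    exact h2 (c * k)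

theorem mem_BSub (Q : QuadraticForm F (ι → F)) (M : Subgroup ↥(Cfsg.isometryGroup F ⇑Q)) (a : ι → F)
    (ha : Q a = 0) (w : ι → F) :
    w ∈ BSub Q M a ha ↔ QuadraticMap.polar Q a w = 0 ∧ ∀ c : F, eichG Q a (c • w) ∈ M := Iff.rfl

theorem self_mem_BSub (Q : QuadraticForm F (ι → F)) (M : Subgroup ↥(Cfsg.isometryGroup F ⇑Q))
    (a : ι → F) (ha : Q a = 0) : a ∈ BSub Q M a ha := by
  refine ⟨by rw [QuadraticMap.polar_self, ha, smul_zero], fun c => ?_⟩
  have h := eichG_add_smul Q a 0 c ha (by simp)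
  rw [zero_add] at h
  rw [h, eichG_zero]
  exact one_mem _

theorem isoAct_mem_BSub (Q : QuadraticForm F (ι → F)) (M : Subgroup ↥(Cfsg.isometryGroup F ⇑Q))
    (a : ι → F) (ha : Q a = 0) (g : ↥(Cfsg.isometryGroup F ⇑Q)) (hg : g ∈ M) (w : ι → F)
    (hw : w ∈ BSub Q M a ha) :
    isoAct (⇑Q) g w ∈ BSub Q M (isoAct (⇑Q) g a) ((Q_isoAct (⇑Q) g a).trans ha) := by
  obtain ⟨h1, h2⟩ := hw
  refine ⟨by rw [polar_isoAct, h1], fun c => ?_⟩
  rw [← isoAct_smul, ← eichG_conj]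
  exact mul_mem (mul_mem hg (h2 c)) (inv_mem hg)

theorem isoAct_mem_BSub_of_fix (Q : QuadraticForm F (ι → F)) (M : Subgroup ↥(Cfsg.isometryGroup F ⇑Q))
    (a : ι → F) (ha : Q a = 0) (g : ↥(Cfsg.isometryGroup F ⇑Q)) (hg : g ∈ M)
    (hga : isoAct (⇑Q) g a = a) (w : ι → F) (hw : w ∈ BSub Q M a ha) :
    isoAct (⇑Q) g w ∈ BSub Q M a ha := by
  obtain ⟨h1, h2⟩ := hw
  refine ⟨?_, fun c => ?_⟩
  · nth_rewrite 1 [← hga]
    rw [polar_isoAct, h1]
  · have h3 : eichG Q a (c • isoAct (⇑Q) g w) = g * eichG Q a (c • w) * g⁻¹ := by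
      rw [eichG_conj, hga, isoAct_smul]
    rw [h3]
    exact mul_mem (mul_mem hg (h2 c)) (inv_mem hg)

/-- Symmetry of Siegel elements: `E(a, c b) = E(b, -c a)` for a totally singular pair. -/
theorem eichG_siegel_symm (Q : QuadraticForm F (ι → F)) (a b : ι → F) (ha : Q a = 0) (hb : Q b = 0)
    (hab : QuadraticMap.polar Q a b = 0) (c : F) : eichG Q b (c • a) = eichG Q a ((-c) • b) := by
  have hba : QuadraticMap.polar Q b a = 0 := by rw [QuadraticMap.polar_comm]; exact hab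
  apply isoAct_ext
  intro x
  rw [isoAct_eichG Q b _ hb (by rw [QuadraticMap.polar_smul_right, hba, smul_zero]),
    isoAct_eichG Q a _ ha (by rw [QuadraticMap.polar_smul_right, hab, smul_zero]),
    QuadraticMap.map_smul, QuadraticMap.map_smul, ha, hb, QuadraticMap.polar_smul_left,
    QuadraticMap.polar_smul_left]
  simp only [smul_eq_mul, mul_zero, zero_mul, sub_zero]
  module

theorem BSub_symm (Q : QuadraticForm F (ι → F)) (M : Subgroup ↥(Cfsg.isometryGroup F ⇑Q))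
    (a b : ι → F) (ha : Q a = 0) (hb : Q b = 0) (h : b ∈ BSub Q M a ha) : a ∈ BSub Q M b hb := by
  obtain ⟨h1, h2⟩ := h
  refine ⟨by rw [QuadraticMap.polar_comm]; exact h1, fun c => ?_⟩
  rw [eichG_siegel_symm Q a b ha hb h1 c]
  exact h2 (-c)

end OmegaUnitary

end Cfsg.Agent.Lib.helper49
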