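/-
Shared lemmas (helper49): the normaliser in `Ω(Q)` of a quadratic extension field `K = F[J]`
(unitary group `GU_{n/2}(q).2`) is a maximal subgroup of `Ω(Q)`.
Part 2: the root-group submodules `BSub a` of an overgroup fill up `a^⊥`.
-/
import Mathlib
import Cfsg.Prelude.Def_Classical
import Cfsg.Prelude.Def_ClassicalGeometry
import Cfsg.Prelude.Def_GeometricClasses
import Cfsg.Agent.Lib.helper49.OmegaUnitary

set_option autoImplicit false
set_option linter.unusedSectionVars false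

namespace Cfsg.Agent.Lib.helper49

open Matrix Module

section OmegaUnitaryChain

variable {F : Type*} [Field F] [Fintype F] {ι : Type} [Fintype ι] [DecidableEq ι]
variable {Q : QuadraticForm F (ι → F)} (D : JData Q)

namespace JData

theorem J_mem_BSub (M : Subgroup ↥(Cfsg.isometryGroup F ⇑Q))
    (hτ : ∀ (v : ι → F) (c : F), Q v = 0 → D.tau v c ∈ M) (a : ι → F) (ha : Q a = 0) :
    D.J *ᵥ a ∈ BSub Q M a ha :=
  ⟨by rw [D.hpJ, ha, mul_zero], fun c => hτ a c ha⟩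

theorem Kl_le_BSub (M : Subgroup ↥(Cfsg.isometryGroup F ⇑Q))
    (hτ : ∀ (v : ι → F) (c : F), Q v = 0 → D.tau v c ∈ M) (a : ι → F) (ha : Q a = 0) :
    D.Kl a ≤ BSub Q M a ha :=
  D.Kl_le_of_mem _ a (self_mem_BSub Q M a ha) (D.J_mem_BSub M hτ a ha)

/-- The bracket move: for singular `v` with `v, J v ⊥ a`, the root-group submodule of `a` is stable
under `b ↦ f(J v, b) v - f(v, b) J v`. -/
theorem br_mem_BSub (M : Subgroup ↥(Cfsg.isometryGroup F ⇑Q))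
    (hτ : ∀ (v : ι → F) (c : F), Q v = 0 → D.tau v c ∈ M) (a : ι → F) (ha : Q a = 0)
    (v : ι → F) (hv : Q v = 0) (hav : QuadraticMap.polar Q a v = 0)
    (haJv : QuadraticMap.polar Q a (D.J *ᵥ v) = 0) (b : ι → F) (hb : b ∈ BSub Q M a ha) :
    QuadraticMap.polar Q (D.J *ᵥ v) b • v - QuadraticMap.polar Q v b • D.J *ᵥ v ∈ BSub Q M a ha := by
  have hg := hτ v 1 hv
  have hga : isoAct (⇑Q) (D.tau v 1) a = a := by
    rw [D.isoAct_tau v 1 hv, QuadraticMap.polar_comm Q (D.J *ᵥ v) a, haJv,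
      QuadraticMap.polar_comm Q v a, hav]
    simp
  have h1 := isoAct_mem_BSub_of_fix Q M a ha _ hg hga b hb
  rw [D.isoAct_tau v 1 hv, one_smul] at h1
  have h2 := (BSub Q M a ha).sub_mem h1 hb
  rwa [add_sub_cancel_left] at h2

theorem mem_BSub_of_br (M : Subgroup ↥(Cfsg.isometryGroup F ⇑Q))
    (hτ : ∀ (v : ι → F) (c : F), Q v = 0 → D.tau v c ∈ M) (a : ι → F) (ha : Q a = 0)
    (v : ι → F) (hv : Q v = 0) (hav : QuadraticMap.polar Q a v = 0)
    (haJv : QuadraticMap.polar Q a (D.J *ᵥ v) = 0) (b : ι → F) (hb : b ∈ BSub Q M a ha)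
    (h1 : QuadraticMap.polar Q v b = 0) (h2 : QuadraticMap.polar Q (D.J *ᵥ v) b ≠ 0) :
    v ∈ BSub Q M a ha := by
  have h := D.br_mem_BSub M hτ a ha v hv hav haJv b hb
  rw [h1, zero_smul, sub_zero] at h
  have h3 := (BSub Q M a ha).smul_mem (QuadraticMap.polar Q (D.J *ᵥ v) b)⁻¹ h
  rwa [smul_smul, inv_mul_cancel₀ h2, one_smul] at h3

theorem J_mem_BSub_of_br (M : Subgroup ↥(Cfsg.isometryGroup F ⇑Q))
    (hτ : ∀ (v : ι → F) (c : F), Q v = 0 → D.tau v c ∈ M) (a : ι → F) (ha : Q a = 0)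
    (v : ι → F) (hv : Q v = 0) (hav : QuadraticMap.polar Q a v = 0)
    (haJv : QuadraticMap.polar Q a (D.J *ᵥ v) = 0) (b : ι → F) (hb : b ∈ BSub Q M a ha)
    (hvB : v ∈ BSub Q M a ha) (h : QuadraticMap.polar Q v b ≠ 0) :
    D.J *ᵥ v ∈ BSub Q M a ha := by
  have h1 := D.br_mem_BSub M hτ a ha v hv hav haJv b hb
  have h3 := (BSub Q M a ha).sub_mem
    ((BSub Q M a ha).smul_mem (QuadraticMap.polar Q (D.J *ᵥ v) b) hvB) h1
  rw [sub_sub_cancel] at h3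
  have h4 := (BSub Q M a ha).smul_mem (QuadraticMap.polar Q v b)⁻¹ h3
  rwa [smul_smul, inv_mul_cancel₀ h, one_smul] at h4

theorem both_mem_of_br (M : Subgroup ↥(Cfsg.isometryGroup F ⇑Q))
    (hτ : ∀ (v : ι → F) (c : F), Q v = 0 → D.tau v c ∈ M) (a : ι → F) (ha : Q a = 0)
    (v : ι → F) (hv : Q v = 0) (hav : QuadraticMap.polar Q a v = 0)
    (haJv : QuadraticMap.polar Q a (D.J *ᵥ v) = 0) (b : ι → F) (hb : b ∈ BSub Q M a ha)
    (hJb : D.J *ᵥ b ∈ BSub Q M a ha) (h : QuadraticMap.polar Q v b ≠ 0) :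
    v ∈ BSub Q M a ha ∧ D.J *ᵥ v ∈ BSub Q M a ha := by
  have h1 := D.br_mem_BSub M hτ a ha v hv hav haJv b hb
  have h2 := D.br_mem_BSub M hτ a ha v hv hav haJv (D.J *ᵥ b) hJb
  have e1 : QuadraticMap.polar Q (D.J *ᵥ v) b • v - QuadraticMap.polar Q v b • D.J *ᵥ v =
      D.km (QuadraticMap.polar Q (D.J *ᵥ v) b) (-QuadraticMap.polar Q v b) v := by
    unfold km
    module
  have e2 : QuadraticMap.polar Q (D.J *ᵥ v) (D.J *ᵥ b) • v -
      QuadraticMap.polar Q v (D.J *ᵥ b) • D.J *ᵥ v =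
      D.J *ᵥ D.km (QuadraticMap.polar Q (D.J *ᵥ v) b) (-QuadraticMap.polar Q v b) v := by
    rw [D.J_km, D.polar_J_J, D.polar_J_right v b]
    unfold km
    module
  rw [e1] at h1
  rw [e2] at h2
  exact D.mem_and_J_mem_of_km _ _ _ (Or.inr (neg_ne_zero.mpr h)) v h1 h2

/-- From a singular `b ∈ BSub a` with `b, J b ⊥ a` outside `K a`, a whole `K`-line in `BSub a`. -/
theorem exists_K_mem_BSub (hQ : (QuadraticMap.polarBilin Q).Nondegenerate)
    (hn : 13 ≤ Fintype.card ι) (M : Subgroup ↥(Cfsg.isometryGroup F ⇑Q))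
    (hτ : ∀ (v : ι → F) (c : F), Q v = 0 → D.tau v c ∈ M) (a : ι → F) (ha : Q a = 0)
    (b : ι → F) (hb : b ∈ BSub Q M a ha) (hQb : Q b = 0)
    (haJb : QuadraticMap.polar Q a (D.J *ᵥ b) = 0) (hbK : b ∉ D.Kl a) :
    ∃ v, Q v = 0 ∧ QuadraticMap.polar Q a v = 0 ∧ QuadraticMap.polar Q a (D.J *ᵥ v) = 0 ∧
      v ∉ D.Kl a ∧ v ∈ BSub Q M a ha ∧ D.J *ᵥ v ∈ BSub Q M a ha := by
  have hab : QuadraticMap.polar Q a b = 0 := hb.1
  obtain ⟨U, hUdef⟩ : ∃ U : Submodule F (ι → F), U = D.Kl a ⊔ Submodule.span F {b} := ⟨_, rfl⟩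
  have hUfin : finrank F U ≤ 3 := by
    rw [hUdef]
    have h1 := Submodule.finrank_add_le_finrank_add_finrank (D.Kl a) (Submodule.span F {b})
    have h2 := D.finrank_Kl_le a
    have h3 := finrank_span_singleton_le_one (K := F) b
    omega
  have hKU : D.Kl a ≤ U := by rw [hUdef]; exact le_sup_left
  have haU : a ∈ U := hKU (D.self_mem_Kl a)
  have hJaU : D.J *ᵥ a ∈ U := hKU (D.J_self_mem_Kl a)
  have hbU : b ∈ U := by
    rw [hUdef]
    exact (le_sup_right : Submodule.span F {b} ≤ D.Kl a ⊔ Submodule.span F {b})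
      (Submodule.mem_span_singleton_self b)
  have hJbK : ∀ k ∈ D.Kl a, QuadraticMap.polar Q (D.J *ᵥ b) k = 0 := by
    intro k hk
    exact D.polar_Kl (D.J *ᵥ b) a k (by rw [QuadraticMap.polar_comm]; exact haJb)
      (by rw [D.polar_J_J, QuadraticMap.polar_comm, hab, mul_zero]) hk
  have hJb : D.J *ᵥ b ∉ U := by
    intro hmem
    rw [hUdef] at hmem
    obtain ⟨k, hk, y, hy, hky⟩ := Submodule.mem_sup.mp hmem
    obtain ⟨γ, rfl⟩ := Submodule.mem_span_singleton.mp hy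
    apply hbK
    apply D.mem_of_km_mem (D.Kl a) (fun x hx => D.J_mem_Kl _ x hx) (-γ) 1 (Or.inr one_ne_zero) b
    have e : D.km (-γ) 1 b = k := by
      unfold km
      rw [← hky]
      module
    rw [e]
    exact hk
  have key : ∀ z, Q z = 0 → (∀ u ∈ U, QuadraticMap.polar Q u z = 0) →
      QuadraticMap.polar Q z (D.J *ᵥ b) ≠ 0 →
      QuadraticMap.polar Q a z = 0 ∧ QuadraticMap.polar Q a (D.J *ᵥ z) = 0 ∧ z ∉ D.Kl a ∧
        z ∈ BSub Q M a ha := by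
    intro z hz hzU hzb
    have h1 : QuadraticMap.polar Q a z = 0 := hzU a haU
    have h2 : QuadraticMap.polar Q a (D.J *ᵥ z) = 0 := D.polar_J_of_perp a z h1 (hzU _ hJaU)
    refine ⟨h1, h2, ?_, ?_⟩
    · intro hzK
      apply hzb
      rw [QuadraticMap.polar_comm]
      exact hJbK z hzK
    · apply D.mem_BSub_of_br M hτ a ha z hz h1 h2 b hb
      · rw [QuadraticMap.polar_comm]
        exact hzU b hbU
      · rw [D.polar_J_left, QuadraticMap.polar_comm Q z b, hzU b hbU]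
        simpa using hzb
  obtain ⟨v, hv, hvU, hvb⟩ := exists_singular_orth_sub_polar_ne Q hQ U (by omega) (D.J *ᵥ b) hJb
  obtain ⟨hv1, hv2, hv3, hv4⟩ := key v hv hvU hvb
  have hvU' : v ∉ U := by
    intro hmem
    rw [hUdef] at hmem
    obtain ⟨k, hk, y, hy, hky⟩ := Submodule.mem_sup.mp hmem
    obtain ⟨γ, rfl⟩ := Submodule.mem_span_singleton.mp hy
    apply hvb
    rw [← hky, QuadraticMap.polar_add_left, QuadraticMap.polar_smul_left, D.hpJ, hQb,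
      QuadraticMap.polar_comm Q k, hJbK k hk]
    simp
  obtain ⟨v', hv', hv'U, hv'b, hv'v⟩ :=
    exists_singular_orth_sub_polar_ne₂ Q hQ U (by omega) (D.J *ᵥ b) v hJb hvU'
  obtain ⟨h1, h2, h3, h4⟩ := key v' hv' hv'U hv'b
  exact ⟨v', hv', h1, h2, h3, h4, D.J_mem_BSub_of_br M hτ a ha v' hv' h1 h2 v hv4 h4 hv'v⟩

/-- All singular vectors `v` with `v, J v ⊥ a` lie in `BSub a`, together with `J v`. -/
theorem singular_hperp_mem_BSub (hQ : (QuadraticMap.polarBilin Q).Nondegenerate)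
    (hn : 13 ≤ Fintype.card ι) (M : Subgroup ↥(Cfsg.isometryGroup F ⇑Q))
    (hτ : ∀ (v : ι → F) (c : F), Q v = 0 → D.tau v c ∈ M) (a : ι → F) (ha : Q a = 0)
    (v' : ι → F) (h3 : v' ∉ D.Kl a) (h4 : v' ∈ BSub Q M a ha) (h5 : D.J *ᵥ v' ∈ BSub Q M a ha)
    (v : ι → F) (hv : Q v = 0) (hav : QuadraticMap.polar Q a v = 0)
    (haJv : QuadraticMap.polar Q a (D.J *ᵥ v) = 0) :
    v ∈ BSub Q M a ha ∧ D.J *ᵥ v ∈ BSub Q M a ha := by
  by_cases hvK : v ∈ D.Kl a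
  · exact ⟨D.Kl_le_BSub M hτ a ha hvK, D.Kl_le_BSub M hτ a ha (D.J_mem_Kl a v hvK)⟩
  have hfin := D.finrank_Kl_le a
  obtain ⟨z, hz, hzU, hzv', hzv⟩ :=
    exists_singular_orth_sub_polar_ne₂ Q hQ (D.Kl a) (by omega) v' v h3 hvK
  have hz1 : QuadraticMap.polar Q a z = 0 := hzU a (D.self_mem_Kl a)
  have hz2 : QuadraticMap.polar Q a (D.J *ᵥ z) = 0 :=
    D.polar_J_of_perp a z hz1 (hzU _ (D.J_self_mem_Kl a))
  obtain ⟨hz3, hz4⟩ := D.both_mem_of_br M hτ a ha z hz hz1 hz2 v' h4 h5 hzv'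
  exact D.both_mem_of_br M hτ a ha v hv hav haJv z hz3 hz4
    (by rw [QuadraticMap.polar_comm]; exact hzv)

/-- If all singular vectors `v` with `v, J v ⊥ a` lie in `BSub a`, so do all vectors with this
property. -/
theorem hperp_mem_BSub (hQ : (QuadraticMap.polarBilin Q).Nondegenerate)
    (hn : 13 ≤ Fintype.card ι) (M : Subgroup ↥(Cfsg.isometryGroup F ⇑Q))
    (hτ : ∀ (v : ι → F) (c : F), Q v = 0 → D.tau v c ∈ M) (a : ι → F) (ha : Q a = 0)
    (hs : ∀ v, Q v = 0 → QuadraticMap.polar Q a v = 0 → QuadraticMap.polar Q a (D.J *ᵥ v) = 0 →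
      v ∈ BSub Q M a ha)
    (x : ι → F) (hax : QuadraticMap.polar Q a x = 0)
    (haJx : QuadraticMap.polar Q a (D.J *ᵥ x) = 0) : x ∈ BSub Q M a ha := by
  by_cases hxK : x ∈ D.Kl a
  · exact D.Kl_le_BSub M hτ a ha hxK
  have hfin := D.finrank_Kl_le a
  obtain ⟨z, hz, hzU, hzx⟩ := exists_singular_orth_sub_polar_ne Q hQ (D.Kl a) (by omega) x hxK
  have hz1 : QuadraticMap.polar Q a z = 0 := hzU a (D.self_mem_Kl a)
  have hz2 : QuadraticMap.polar Q a (D.J *ᵥ z) = 0 :=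
    D.polar_J_of_perp a z hz1 (hzU _ (D.J_self_mem_Kl a))
  have hs2 : Q (x - (Q x / QuadraticMap.polar Q z x) • z) = 0 := by
    rw [sub_eq_add_neg, ← neg_smul, QuadraticMap.map_add Q, QuadraticMap.map_smul, hz,
      QuadraticMap.polar_smul_right, QuadraticMap.polar_comm Q x z]
    simp only [smul_eq_mul, mul_zero, add_zero]
    field_simp
    ring
  have e : x = (Q x / QuadraticMap.polar Q z x) • z + (x - (Q x / QuadraticMap.polar Q z x) • z) := by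
    abel
  rw [e]
  refine (BSub Q M a ha).add_mem ((BSub Q M a ha).smul_mem _ (hs z hz hz1 hz2)) (hs _ hs2 ?_ ?_)
  · rw [QuadraticMap.polar_sub_right, QuadraticMap.polar_smul_right, hax, hz1]
    simp
  · rw [Matrix.mulVec_sub, Matrix.mulVec_smul, QuadraticMap.polar_sub_right,
      QuadraticMap.polar_smul_right, haJx, hz2]
    simp

/-- One partner `b ∈ BSub a` with `b, J b ⊥ a` outside `K a` forces `BSub a ⊇ (K a)^⊥`. -/
theorem hperp_le_of_partner (hQ : (QuadraticMap.polarBilin Q).Nondegenerate)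
    (hn : 13 ≤ Fintype.card ι) (M : Subgroup ↥(Cfsg.isometryGroup F ⇑Q))
    (hτ : ∀ (v : ι → F) (c : F), Q v = 0 → D.tau v c ∈ M) (a : ι → F) (ha : Q a = 0)
    (b : ι → F) (hb : b ∈ BSub Q M a ha) (hQb : Q b = 0)
    (haJb : QuadraticMap.polar Q a (D.J *ᵥ b) = 0) (hbK : b ∉ D.Kl a) :
    ∀ x, QuadraticMap.polar Q a x = 0 → QuadraticMap.polar Q a (D.J *ᵥ x) = 0 →
      x ∈ BSub Q M a ha := by
  obtain ⟨v', -, -, -, h3, h4, h5⟩ := D.exists_K_mem_BSub hQ hn M hτ a ha b hb hQb haJb hbK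
  exact fun x hx1 hx2 => D.hperp_mem_BSub hQ hn M hτ a ha
    (fun v hv h1 h2 => (D.singular_hperp_mem_BSub hQ hn M hτ a ha v' h3 h4 h5 v hv h1 h2).1)
    x hx1 hx2

theorem full_step (hQ : (QuadraticMap.polarBilin Q).Nondegenerate)
    (hn : 13 ≤ Fintype.card ι) (M : Subgroup ↥(Cfsg.isometryGroup F ⇑Q))
    (hτ : ∀ (v : ι → F) (c : F), Q v = 0 → D.tau v c ∈ M) (a : ι → F) (ha : Q a = 0) (ha0 : a ≠ 0)
    (hfull : ∀ x, QuadraticMap.polar Q a x = 0 → QuadraticMap.polar Q a (D.J *ᵥ x) = 0 →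
      x ∈ BSub Q M a ha)
    (a' : ι → F) (ha' : Q a' = 0) (h1 : QuadraticMap.polar Q a a' = 0)
    (h2 : QuadraticMap.polar Q a (D.J *ᵥ a') = 0) (h3 : a' ∉ D.Kl a) :
    ∀ x, QuadraticMap.polar Q a' x = 0 → QuadraticMap.polar Q a' (D.J *ᵥ x) = 0 →
      x ∈ BSub Q M a' ha' := by
  have hmem := BSub_symm Q M a a' ha ha' (hfull a' h1 h2)
  apply D.hperp_le_of_partner hQ hn M hτ a' ha' a hmem ha
  · exact D.polar_J_of_perp a' a (by rw [QuadraticMap.polar_comm]; exact h1)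
      (by rw [QuadraticMap.polar_comm]; exact h2)
  · intro haK
    exact h3 (D.Kl_symm a' a ha0 haK)

theorem full_all (hQ : (QuadraticMap.polarBilin Q).Nondegenerate)
    (hn : 13 ≤ Fintype.card ι) (M : Subgroup ↥(Cfsg.isometryGroup F ⇑Q))
    (hτ : ∀ (v : ι → F) (c : F), Q v = 0 → D.tau v c ∈ M) (a₀ : ι → F) (ha₀ : Q a₀ = 0)
    (ha₀0 : a₀ ≠ 0)
    (hfull : ∀ x, QuadraticMap.polar Q a₀ x = 0 → QuadraticMap.polar Q a₀ (D.J *ᵥ x) = 0 →
      x ∈ BSub Q M a₀ ha₀)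
    (a : ι → F) (ha : Q a = 0) (ha0 : a ≠ 0) :
    ∀ x, QuadraticMap.polar Q a x = 0 → QuadraticMap.polar Q a (D.J *ᵥ x) = 0 →
      x ∈ BSub Q M a ha := by
  have hfin : finrank F ↥(D.Kl a₀ ⊔ D.Kl a) ≤ 4 := by
    have h1 := Submodule.finrank_add_le_finrank_add_finrank (D.Kl a₀) (D.Kl a)
    have h2 := D.finrank_Kl_le a₀
    have h3 := D.finrank_Kl_le a
    omega
  obtain ⟨p, hp, hpU, hpn⟩ := exists_singular_orth_sub_notMem Q hQ (D.Kl a₀ ⊔ D.Kl a) (by omega)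
  have hl : D.Kl a₀ ≤ D.Kl a₀ ⊔ D.Kl a := le_sup_left
  have hr : D.Kl a ≤ D.Kl a₀ ⊔ D.Kl a := le_sup_right
  have hp1 : QuadraticMap.polar Q a₀ p = 0 := hpU a₀ (hl (D.self_mem_Kl a₀))
  have hp2 : QuadraticMap.polar Q a₀ (D.J *ᵥ p) = 0 :=
    D.polar_J_of_perp a₀ p hp1 (hpU _ (hl (D.J_self_mem_Kl a₀)))
  have hp3 : p ∉ D.Kl a₀ := fun h => hpn (hl h)
  have hp0 : p ≠ 0 := fun h => hpn (by rw [h]; exact Submodule.zero_mem _)
  have hfullp := D.full_step hQ hn M hτ a₀ ha₀ ha₀0 hfull p hp hp1 hp2 hp3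
  apply D.full_step hQ hn M hτ p hp hp0 hfullp a ha
  · rw [QuadraticMap.polar_comm]
    exact hpU a (hr (D.self_mem_Kl a))
  · rw [QuadraticMap.polar_comm]
    exact hpU _ (hr (D.J_self_mem_Kl a))
  · intro haK
    exact hpn (hr (D.Kl_symm p a ha0 haK))

/-- If every `BSub a` contains `(K a)^⊥`, then every `BSub a` is all of `a^⊥`. -/
theorem perp_le_BSub (hQ : (QuadraticMap.polarBilin Q).Nondegenerate)
    (hn : 13 ≤ Fintype.card ι) (M : Subgroup ↥(Cfsg.isometryGroup F ⇑Q))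
    (hfull : ∀ (a : ι → F) (ha : Q a = 0), a ≠ 0 → ∀ x, QuadraticMap.polar Q a x = 0 →
      QuadraticMap.polar Q a (D.J *ᵥ x) = 0 → x ∈ BSub Q M a ha)
    (a : ι → F) (ha : Q a = 0) (ha0 : a ≠ 0) (y : ι → F) (hy : QuadraticMap.polar Q a y = 0) :
    y ∈ BSub Q M a ha := by
  have hJa : D.J *ᵥ a ∉ Submodule.span F {a} := by
    intro h
    obtain ⟨c, hc⟩ := Submodule.mem_span_singleton.mp h
    have h0 : D.km (-c) 1 a = 0 := by
      unfold km
      rw [← hc]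
      module
    exact one_ne_zero (D.km_eq_zero _ _ a ha0 h0).2
  have hfin1 := finrank_span_singleton_le_one (K := F) a
  obtain ⟨a', ha', ha'U, ha'J⟩ :=
    exists_singular_orth_sub_polar_ne Q hQ (Submodule.span F {a}) (by omega) (D.J *ᵥ a) hJa
  have haa' : QuadraticMap.polar Q a a' = 0 := ha'U a (Submodule.mem_span_singleton_self a)
  have ha'0 : a' ≠ 0 := by
    rintro rfl
    apply ha'J
    simp
  have hfin4 : finrank F ↥(D.Kl a ⊔ D.Kl a') ≤ 4 := by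
    have h1 := Submodule.finrank_add_le_finrank_add_finrank (D.Kl a) (D.Kl a')
    have h2 := D.finrank_Kl_le a
    have h3 := D.finrank_Kl_le a'
    omega
  obtain ⟨b, hb, hbU, hbn⟩ := exists_singular_orth_sub_notMem Q hQ (D.Kl a ⊔ D.Kl a') (by omega)
  have hl : D.Kl a ≤ D.Kl a ⊔ D.Kl a' := le_sup_left
  have hr : D.Kl a' ≤ D.Kl a ⊔ D.Kl a' := le_sup_right
  obtain ⟨U₃, hU₃⟩ : ∃ U₃ : Submodule F (ι → F), U₃ = Submodule.span F {a} ⊔ D.Kl a' := ⟨_, rfl⟩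
  have hU₃fin : finrank F ↥U₃ ≤ 3 := by
    rw [hU₃]
    have h1 := Submodule.finrank_add_le_finrank_add_finrank (Submodule.span F {a}) (D.Kl a')
    have h3 := D.finrank_Kl_le a'
    omega
  have hU₃le : U₃ ≤ D.Kl a ⊔ D.Kl a' := by
    rw [hU₃]
    exact sup_le_sup_right ((Submodule.span_singleton_le_iff_mem a _).mpr (D.self_mem_Kl a)) _
  have haU₃ : a ∈ U₃ := by
    rw [hU₃]
    exact (le_sup_left : Submodule.span F {a} ≤ Submodule.span F {a} ⊔ D.Kl a')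
      (Submodule.mem_span_singleton_self a)
  have hKU₃ : D.Kl a' ≤ U₃ := by
    rw [hU₃]
    exact le_sup_right
  have hbU₃ : b ∉ U₃ := fun h => hbn (hU₃le h)
  obtain ⟨b', hb', hb'U, hb'b⟩ := exists_singular_orth_sub_polar_ne Q hQ U₃ (by omega) b hbU₃
  have h1 : QuadraticMap.polar Q a' b' = 0 := hb'U a' (hKU₃ (D.self_mem_Kl a'))
  have h2 : QuadraticMap.polar Q a' (D.J *ᵥ b') = 0 :=
    D.polar_J_of_perp a' b' h1 (hb'U _ (hKU₃ (D.J_self_mem_Kl a')))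
  have hb'B := hfull a' ha' ha'0 b' h1 h2
  have hg : eichG Q a' b' ∈ M := by
    have h := hb'B.2 1
    rwa [one_smul] at h
  have hb'a : QuadraticMap.polar Q b' a = 0 := by
    rw [QuadraticMap.polar_comm]
    exact hb'U a haU₃
  have hga : isoAct (⇑Q) (eichG Q a' b') a = a := by
    rw [isoAct_eichG Q a' b' ha' h1, hb'a, QuadraticMap.polar_comm Q a' a, haa']
    simp
  have hb1 : QuadraticMap.polar Q a b = 0 := hbU a (hl (D.self_mem_Kl a))
  have hb2 : QuadraticMap.polar Q a (D.J *ᵥ b) = 0 :=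
    D.polar_J_of_perp a b hb1 (hbU _ (hl (D.J_self_mem_Kl a)))
  have hbB := hfull a ha ha0 b hb1 hb2
  have h3 := isoAct_mem_BSub_of_fix Q M a ha _ hg hga b hbB
  rw [isoAct_eichG Q a' b' ha' h1, hb', hbU a' (hr (D.self_mem_Kl a'))] at h3
  have h4 : QuadraticMap.polar Q b' b • a' ∈ BSub Q M a ha := by
    have h5 := (BSub Q M a ha).sub_mem h3 hbB
    simpa using h5
  have ha'B : a' ∈ BSub Q M a ha := by
    have h5 := (BSub Q M a ha).smul_mem (QuadraticMap.polar Q b' b)⁻¹ h4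
    rwa [smul_smul, inv_mul_cancel₀ hb'b, one_smul] at h5
  have hlam : QuadraticMap.polar Q (D.J *ᵥ a) a' ≠ 0 := by
    rw [QuadraticMap.polar_comm]
    exact ha'J
  have e : y = (QuadraticMap.polar Q (D.J *ᵥ a) y / QuadraticMap.polar Q (D.J *ᵥ a) a') • a' +
      (y - (QuadraticMap.polar Q (D.J *ᵥ a) y / QuadraticMap.polar Q (D.J *ᵥ a) a') • a') := by
    abel
  rw [e]
  have hy0 : QuadraticMap.polar Q a
      (y - (QuadraticMap.polar Q (D.J *ᵥ a) y / QuadraticMap.polar Q (D.J *ᵥ a) a') • a') = 0 := by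
    rw [QuadraticMap.polar_sub_right, QuadraticMap.polar_smul_right, hy, haa']
    simp
  refine (BSub Q M a ha).add_mem ((BSub Q M a ha).smul_mem _ ha'B) (hfull a ha ha0 _ hy0 ?_)
  apply D.polar_J_of_perp _ _ hy0
  rw [QuadraticMap.polar_sub_right, QuadraticMap.polar_smul_right]
  simp only [smul_eq_mul]
  field_simp
  ring

/-- A partner outside `K a` can be replaced by one orthogonal to `K a`. -/
theorem exists_partner_I (hQ : (QuadraticMap.polarBilin Q).Nondegenerate)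
    (hn : 13 ≤ Fintype.card ι) (M : Subgroup ↥(Cfsg.isometryGroup F ⇑Q))
    (hτ : ∀ (v : ι → F) (c : F), Q v = 0 → D.tau v c ∈ M) (a : ι → F) (ha : Q a = 0)
    (b : ι → F) (hb : b ∈ BSub Q M a ha) (hQb : Q b = 0) (hbK : b ∉ D.Kl a) :
    ∃ b', b' ∈ BSub Q M a ha ∧ Q b' = 0 ∧ QuadraticMap.polar Q a (D.J *ᵥ b') = 0 ∧ b' ∉ D.Kl a := by
  by_cases h : QuadraticMap.polar Q a (D.J *ᵥ b) = 0
  · exact ⟨b, hb, hQb, h, hbK⟩
  have hfin := D.finrank_Kl_le a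
  obtain ⟨y, hy, hyU, hyn⟩ := exists_singular_orth_sub_notMem Q hQ (D.Kl a) (by omega)
  obtain ⟨v, hv, hvU, hvb, hvy⟩ :=
    exists_singular_orth_sub_polar_ne₂ Q hQ (D.Kl a) (by omega) b y hbK hyn
  have hv1 : QuadraticMap.polar Q a v = 0 := hvU a (D.self_mem_Kl a)
  have hv2 : QuadraticMap.polar Q a (D.J *ᵥ v) = 0 :=
    D.polar_J_of_perp a v hv1 (hvU _ (D.J_self_mem_Kl a))
  have hvK : v ∉ D.Kl a := fun hmem => hvy (hyU v hmem)
  have hw := D.br_mem_BSub M hτ a ha v hv hv1 hv2 b hb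
  have e : QuadraticMap.polar Q (D.J *ᵥ v) b • v - QuadraticMap.polar Q v b • D.J *ᵥ v =
      D.km (QuadraticMap.polar Q (D.J *ᵥ v) b) (-QuadraticMap.polar Q v b) v := by
    unfold km
    module
  rw [e] at hw
  refine ⟨_, hw, D.Q_km _ _ v hv, ?_, ?_⟩
  · rw [D.J_km, D.polar_km_right, hv1, hv2]
    simp
  · intro hmem
    exact hvK (D.mem_of_km_mem (D.Kl a) (fun x hx => D.J_mem_Kl _ x hx) _ _
      (Or.inr (neg_ne_zero.mpr hvb)) v hmem)

end JData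

end OmegaUnitaryChain

end Cfsg.Agent.Lib.helper49
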