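/-
Shared lemmas (helper49): the normaliser in `Ω(Q)` of a quadratic extension field `K = F[J]`
(unitary group `GU_{n/2}(q).2`) is a maximal subgroup of `Ω(Q)`.
Part 3: elements not normalising `K`, the main theorem, and the maximality statement.
-/
import Mathlib
import Cfsg.Prelude.Def_Classical
import Cfsg.Prelude.Def_ClassicalGeometry
import Cfsg.Prelude.Def_GeometricClasses
import Cfsg.Agent.Lib.helper49.OmegaUnitary2

set_option autoImplicit false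
set_option linter.unusedSectionVars false

namespace Cfsg.Agent.Lib.helper49

open Matrix Module

section OmegaUnitaryMain

variable {F : Type*} [Field F] [Fintype F] {ι : Type} [Fintype ι] [DecidableEq ι]
variable {Q : QuadraticForm F (ι → F)} (D : JData Q)

namespace JData

/-- A matrix mapping every singular vector into its `K`-line lies in `K`. -/
theorem eq_km_of_singular (hQ : (QuadraticMap.polarBilin Q).Nondegenerate)
    (hn : 11 ≤ Fintype.card ι) (T : Matrix ι ι F)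
    (hT : ∀ u, Q u = 0 → T *ᵥ u ∈ D.Kl u) : ∃ α β : F, T = α • (1 : Matrix ι ι F) + β • D.J := by
  obtain ⟨u₀, q₀, hu₀, -, hpq₀⟩ := exists_hyp_pair Q hQ (by omega)
  have hu₀0 : u₀ ≠ 0 := by
    rintro rfl
    simp at hpq₀
  obtain ⟨α₀, β₀, h₀⟩ := (D.mem_Kl u₀ _).mp (hT u₀ hu₀)
  have coeff : ∀ u₁ u₂ : ι → F, Q u₁ = 0 → Q u₂ = 0 → QuadraticMap.polar Q u₁ u₂ = 0 → u₁ ≠ 0 →
      u₂ ∉ D.Kl u₁ → ∀ α₁ β₁ α₂ β₂ : F, T *ᵥ u₁ = D.km α₁ β₁ u₁ → T *ᵥ u₂ = D.km α₂ β₂ u₂ →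
      α₁ = α₂ ∧ β₁ = β₂ := by
    intro u₁ u₂ h1 h2 h12 hu₁ hu₂ α₁ β₁ α₂ β₂ e1 e2
    have h3 : Q (u₁ + u₂) = 0 := by
      rw [QuadraticMap.map_add Q, h1, h2, h12]
      simp
    obtain ⟨α₃, β₃, e3⟩ := (D.mem_Kl _ _).mp (hT _ h3)
    rw [Matrix.mulVec_add, e1, e2, D.km_add] at e3
    have e4 : D.km (α₁ - α₃) (β₁ - β₃) u₁ + D.km (α₂ - α₃) (β₂ - β₃) u₂ = 0 := by
      have e5 : D.km (α₁ - α₃) (β₁ - β₃) u₁ + D.km (α₂ - α₃) (β₂ - β₃) u₂ =
          (D.km α₁ β₁ u₁ + D.km α₂ β₂ u₂) - (D.km α₃ β₃ u₁ + D.km α₃ β₃ u₂) := by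
        unfold km
        module
      rw [e5, e3, sub_self]
    obtain ⟨ha, hb, hc, hd⟩ := D.indep4 u₁ u₂ hu₁ hu₂ _ _ _ _ e4
    exact ⟨by linear_combination ha - hc, by linear_combination hb - hd⟩
  have hsing : ∀ u, Q u = 0 → T *ᵥ u = D.km α₀ β₀ u := by
    intro u hu
    by_cases hu0 : u = 0
    · rw [hu0, Matrix.mulVec_zero, km_zero]
    have hfin : finrank F ↥(D.Kl u₀ ⊔ D.Kl u) ≤ 4 := by
      have h1 := Submodule.finrank_add_le_finrank_add_finrank (D.Kl u₀) (D.Kl u)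
      have h2 := D.finrank_Kl_le u₀
      have h3 := D.finrank_Kl_le u
      omega
    obtain ⟨p, hp, hpU, hpn⟩ := exists_singular_orth_sub_notMem Q hQ (D.Kl u₀ ⊔ D.Kl u) (by omega)
    have hl : D.Kl u₀ ≤ D.Kl u₀ ⊔ D.Kl u := le_sup_left
    have hr : D.Kl u ≤ D.Kl u₀ ⊔ D.Kl u := le_sup_right
    obtain ⟨α, β, e⟩ := (D.mem_Kl u _).mp (hT u hu)
    obtain ⟨α', β', e'⟩ := (D.mem_Kl p _).mp (hT p hp)
    obtain ⟨c1, c2⟩ := coeff u₀ p hu₀ hp (hpU u₀ (hl (D.self_mem_Kl u₀))) hu₀0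
      (fun h => hpn (hl h)) _ _ _ _ h₀ e'
    obtain ⟨c3, c4⟩ := coeff u p hu hp (hpU u (hr (D.self_mem_Kl u))) hu0
      (fun h => hpn (hr h)) _ _ _ _ e e'
    rw [e, c3, c4, ← c1, ← c2]
  have hall : ∀ x, T *ᵥ x = D.km α₀ β₀ x := by
    intro x
    by_cases hx0 : x = 0
    · rw [hx0, Matrix.mulVec_zero, km_zero]
    obtain ⟨z, hz, -, hzx⟩ := exists_singular_orth_sub_polar_ne Q hQ ⊥
      (by rw [finrank_bot]; omega) x (by simpa using hx0)
    obtain ⟨c, hc⟩ : ∃ c : F, c = Q x / QuadraticMap.polar Q z x := ⟨_, rfl⟩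
    have hs1 : Q (c • z) = 0 := by rw [QuadraticMap.map_smul, hz, smul_zero]
    have hs2 : Q (x - c • z) = 0 := by
      rw [sub_eq_add_neg, ← neg_smul, QuadraticMap.map_add Q, QuadraticMap.map_smul, hz,
        QuadraticMap.polar_smul_right, QuadraticMap.polar_comm Q x z, hc]
      simp only [smul_eq_mul, mul_zero, add_zero]
      field_simp
      ring
    have key : T *ᵥ (c • z + (x - c • z)) = D.km α₀ β₀ (c • z + (x - c • z)) := by
      rw [Matrix.mulVec_add, D.km_add, hsing _ hs1, hsing _ hs2]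
    have e : c • z + (x - c • z) = x := by abel
    rwa [e] at key
  refine ⟨α₀, β₀, Matrix.ext_iff_mulVec.mpr (fun x => ?_)⟩
  rw [hall x, Matrix.add_mulVec, Matrix.smul_mulVec, Matrix.smul_mulVec, Matrix.one_mulVec]
  rfl

/-- An element of `M` not normalising `K` produces a singular pair outside the `K`-lines. -/
theorem exists_partner_of_not_norm (hQ : (QuadraticMap.polarBilin Q).Nondegenerate)
    (hn : 11 ≤ Fintype.card ι) (M : Subgroup ↥(Cfsg.isometryGroup F ⇑Q))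
    (hτ : ∀ (v : ι → F) (c : F), Q v = 0 → D.tau v c ∈ M)
    (g : ↥(Cfsg.isometryGroup F ⇑Q)) (hg : g ∈ M)
    (hgJ : ¬ ∃ α β : F, ((g : Matrix.GeneralLinearGroup ι F) : Matrix ι ι F) * D.J *
      (((g : Matrix.GeneralLinearGroup ι F)⁻¹ : Matrix.GeneralLinearGroup ι F) : Matrix ι ι F) =
        α • (1 : Matrix ι ι F) + β • D.J) :
    ∃ (a : ι → F) (ha : Q a = 0), a ≠ 0 ∧ ∃ b, b ∈ BSub Q M a ha ∧ Q b = 0 ∧ b ∉ D.Kl a := by
  by_contra hcon
  push Not at hcon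
  apply hgJ
  apply D.eq_km_of_singular hQ hn
  intro u hu
  by_cases hu0 : u = 0
  · rw [hu0, Matrix.mulVec_zero]
    exact Submodule.zero_mem _
  obtain ⟨v, hv⟩ : ∃ v, v = isoAct (⇑Q) g⁻¹ u := ⟨_, rfl⟩
  have hQv : Q v = 0 := by rw [hv]; exact (Q_isoAct (⇑Q) g⁻¹ u).trans hu
  have hgv : isoAct (⇑Q) g v = u := by rw [hv]; exact isoAct_isoAct_inv (⇑Q) g u
  have hJv := D.J_mem_BSub M hτ v hQv
  have h1 := isoAct_mem_BSub Q M v hQv g hg _ hJv
  have h2 := hcon (isoAct (⇑Q) g v) ((Q_isoAct (⇑Q) g v).trans hQv) (by rw [hgv]; exact hu0)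
    (isoAct (⇑Q) g (D.J *ᵥ v)) h1
    ((Q_isoAct (⇑Q) g _).trans (by rw [D.hQJ, hQv, mul_zero]))
  rw [hgv] at h2
  have e : (((g : Matrix.GeneralLinearGroup ι F) : Matrix ι ι F) * D.J *
      (((g : Matrix.GeneralLinearGroup ι F)⁻¹ : Matrix.GeneralLinearGroup ι F) : Matrix ι ι F)) *ᵥ u =
      isoAct (⇑Q) g (D.J *ᵥ v) := by
    rw [← Matrix.mulVec_mulVec, ← Matrix.mulVec_mulVec, hv]
    rfl
  rw [e]
  exact h2

/-- **Main theorem.** A subgroup `M` of the isometry group containing all unitary transvections and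
an element not normalising `K` contains `Ω`. -/
theorem Omega_le_of_JData (hQ : (QuadraticMap.polarBilin Q).Nondegenerate)
    (hn : 13 ≤ Fintype.card ι) (M : Subgroup ↥(Cfsg.isometryGroup F ⇑Q))
    (hτ : ∀ (v : ι → F) (c : F), Q v = 0 → D.tau v c ∈ M)
    (g : ↥(Cfsg.isometryGroup F ⇑Q)) (hg : g ∈ M)
    (hgJ : ¬ ∃ α β : F, ((g : Matrix.GeneralLinearGroup ι F) : Matrix ι ι F) * D.J *
      (((g : Matrix.GeneralLinearGroup ι F)⁻¹ : Matrix.GeneralLinearGroup ι F) : Matrix ι ι F) =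
        α • (1 : Matrix ι ι F) + β • D.J) :
    Cfsg.Omega F ⇑Q ≤ M := by
  obtain ⟨a₀, ha₀, ha₀0, b₀, hb₀, hQb₀, hb₀K⟩ :=
    D.exists_partner_of_not_norm hQ (by omega) M hτ g hg hgJ
  obtain ⟨b, hb, hQb, haJb, hbK⟩ := D.exists_partner_I hQ hn M hτ a₀ ha₀ b₀ hb₀ hQb₀ hb₀K
  have hfull₀ := D.hperp_le_of_partner hQ hn M hτ a₀ ha₀ b hb hQb haJb hbK
  have hfull : ∀ (a : ι → F) (ha : Q a = 0), a ≠ 0 → ∀ x, QuadraticMap.polar Q a x = 0 →
      QuadraticMap.polar Q a (D.J *ᵥ x) = 0 → x ∈ BSub Q M a ha :=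
    fun a ha ha0 => D.full_all hQ hn M hτ a₀ ha₀ ha₀0 hfull₀ a ha ha0
  have hall := D.perp_le_BSub hQ hn M hfull
  refine (Omega_le_eichGroup Q hQ (by omega)).trans ?_
  apply (Subgroup.closure_le _).mpr
  rintro x ⟨⟨e, w⟩, rfl⟩
  show eichG Q e w ∈ M
  by_cases h : Q e = 0 ∧ QuadraticMap.polar Q e w = 0
  · by_cases he0 : e = 0
    · rw [he0, eichG_zero_left]
      exact one_mem _
    · have h1 := (hall e h.1 he0 w h.2).2 1
      rwa [one_smul] at h1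
  · rw [eichG_of_not Q e w h]
    exact one_mem _

/-- Some element of `Ω` does not normalise `K`. -/
theorem exists_not_norm (hQ : (QuadraticMap.polarBilin Q).Nondegenerate)
    (hn : 13 ≤ Fintype.card ι) :
    ∃ g ∈ Cfsg.Omega F ⇑Q, ¬ ∃ α β : F, ((g : Matrix.GeneralLinearGroup ι F) : Matrix ι ι F) * D.J *
      (((g : Matrix.GeneralLinearGroup ι F)⁻¹ : Matrix.GeneralLinearGroup ι F) : Matrix ι ι F) =
        α • (1 : Matrix ι ι F) + β • D.J := by
  obtain ⟨a, q₀, ha, -, hpq₀⟩ := exists_hyp_pair Q hQ (by omega)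
  have ha0 : a ≠ 0 := by
    rintro rfl
    simp at hpq₀
  have hfin := D.finrank_Kl_le a
  obtain ⟨b, hb, hbU, hbn⟩ := exists_singular_orth_sub_notMem Q hQ (D.Kl a) (by omega)
  have hab : QuadraticMap.polar Q a b = 0 := hbU a (D.self_mem_Kl a)
  refine ⟨eichG Q a b, eichG_mem_Omega Q hQ (by omega) a b, ?_⟩
  rintro ⟨α, β, h⟩
  have hE : ∀ y, isoAct (⇑Q) (eichG Q a b) y =
      y + QuadraticMap.polar Q b y • a - QuadraticMap.polar Q a y • b := by
    intro y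
    rw [isoAct_eichG Q a b ha hab, hb]
    simp
  have key : ∀ y, isoAct (⇑Q) (eichG Q a b) (D.J *ᵥ y) =
      α • isoAct (⇑Q) (eichG Q a b) y + β • D.J *ᵥ isoAct (⇑Q) (eichG Q a b) y := by
    intro y
    have h1 := congrArg (fun T : Matrix ι ι F => T *ᵥ isoAct (⇑Q) (eichG Q a b) y) h
    simp only [Matrix.add_mulVec, Matrix.smul_mulVec, Matrix.one_mulVec] at h1
    rw [← h1, ← Matrix.mulVec_mulVec, ← Matrix.mulVec_mulVec]
    have h2 : ((((eichG Q a b : ↥(Cfsg.isometryGroup F ⇑Q)) : Matrix.GeneralLinearGroup ι F)⁻¹ :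
        Matrix.GeneralLinearGroup ι F) : Matrix ι ι F) *ᵥ isoAct (⇑Q) (eichG Q a b) y = y :=
      isoAct_inv_isoAct (⇑Q) (eichG Q a b) y
    rw [h2]
    rfl
  have hfin2 := D.finrank_Kl_le b
  have hfin4 : finrank F ↥(D.Kl a ⊔ D.Kl b) ≤ 4 := by
    have h1 := Submodule.finrank_add_le_finrank_add_finrank (D.Kl a) (D.Kl b)
    omega
  obtain ⟨x, hx, hxU, hxn⟩ := exists_singular_orth_sub_notMem Q hQ (D.Kl a ⊔ D.Kl b) (by omega)
  have hl : D.Kl a ≤ D.Kl a ⊔ D.Kl b := le_sup_left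
  have hr : D.Kl b ≤ D.Kl a ⊔ D.Kl b := le_sup_right
  have hx0 : x ≠ 0 := fun h0 => hxn (by rw [h0]; exact Submodule.zero_mem _)
  have hax : QuadraticMap.polar Q a x = 0 := hxU a (hl (D.self_mem_Kl a))
  have hbx : QuadraticMap.polar Q b x = 0 := hxU b (hr (D.self_mem_Kl b))
  have haJx : QuadraticMap.polar Q a (D.J *ᵥ x) = 0 :=
    D.polar_J_of_perp a x hax (hxU _ (hl (D.J_self_mem_Kl a)))
  have hbJx : QuadraticMap.polar Q b (D.J *ᵥ x) = 0 :=
    D.polar_J_of_perp b x hbx (hxU _ (hr (D.J_self_mem_Kl b)))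
  have k1 := key x
  rw [hE, hE, hbx, hax, haJx, hbJx] at k1
  simp only [zero_smul, add_zero, sub_zero] at k1
  have h0 : D.km α (β - 1) x = 0 := by
    unfold km
    rw [sub_smul, one_smul]
    nth_rewrite 2 [k1]
    abel
  obtain ⟨hα, hβ⟩ := D.km_eq_zero _ _ x hx0 h0
  have hβ1 : β = 1 := sub_eq_zero.mp hβ
  obtain ⟨y, hyU, hyb⟩ := exists_orth_polar_ne Q hQ (D.Kl a) b hbn
  have hay : QuadraticMap.polar Q a y = 0 := hyU a (D.self_mem_Kl a)
  have haJy : QuadraticMap.polar Q a (D.J *ᵥ y) = 0 :=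
    D.polar_J_of_perp a y hay (hyU _ (D.J_self_mem_Kl a))
  have k2 := key y
  rw [hE, hE, hay, haJy, hα, hβ1] at k2
  simp only [zero_smul, sub_zero, zero_add, one_smul, Matrix.mulVec_add, Matrix.mulVec_smul] at k2
  have h3 : D.km (QuadraticMap.polar Q b (D.J *ᵥ y)) (-(QuadraticMap.polar Q b y)) a = 0 := by
    unfold km
    have h4 := add_left_cancel k2
    rw [h4]
    module
  have h5 := (D.km_eq_zero _ _ a ha0 h3).2
  apply hyb
  rw [QuadraticMap.polar_comm]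
  exact neg_eq_zero.mp h5

/-- **Maximality** of the normaliser of `K` in `Ω`, given the description of the normaliser in terms of
the generator `J`. -/
theorem isMaximalIn_normalizer (hQ : (QuadraticMap.polarBilin Q).Nondegenerate)
    (hn : 13 ≤ Fintype.card ι) (K : Subalgebra F (Matrix ι ι F))
    (hK : ∀ g : Matrix.GeneralLinearGroup ι F, g ∈ Cfsg.Geo.subalgebraNormalizer K ↔
      ∃ α β : F, (g : Matrix ι ι F) * D.J * ((g⁻¹ : Matrix.GeneralLinearGroup ι F) : Matrix ι ι F) =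
        α • (1 : Matrix ι ι F) + β • D.J) :
    Cfsg.Geo.IsMaximalIn (Cfsg.Geo.omegaGL ⇑Q)
      (Cfsg.Geo.subalgebraNormalizer K ⊓ Cfsg.Geo.omegaGL ⇑Q) := by
  have hn7 : 7 ≤ Fintype.card ι := by omega
  constructor
  · refine lt_of_le_of_ne inf_le_right ?_
    intro heq
    obtain ⟨g, hgΩ, hg⟩ := D.exists_not_norm hQ hn
    have h1 : ((g : ↥(Cfsg.isometryGroup F ⇑Q)) : Matrix.GeneralLinearGroup ι F) ∈
        Cfsg.Geo.subalgebraNormalizer K ⊓ Cfsg.Geo.omegaGL ⇑Q := by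
      rw [heq]
      exact ⟨g, hgΩ, rfl⟩
    exact hg ((hK _).mp h1.1)
  · intro M hPM hMG
    by_cases hM : M ≤ Cfsg.Geo.subalgebraNormalizer K
    · left
      exact le_antisymm (le_inf hM hMG) hPM
    · right
      refine le_antisymm hMG ?_
      obtain ⟨k, hkM, hkN⟩ := SetLike.not_le_iff_exists.mp hM
      obtain ⟨k'', hk''Ω, rfl⟩ := hMG hkM
      have hτ : ∀ (v : ι → F) (c : F), Q v = 0 →
          D.tau v c ∈ M.comap (Cfsg.isometryGroup F ⇑Q).subtype := by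
        intro v c hv
        show ((D.tau v c : ↥(Cfsg.isometryGroup F ⇑Q)) : Matrix.GeneralLinearGroup ι F) ∈ M
        apply hPM
        refine ⟨(hK _).mpr ⟨0, 1, ?_⟩, ⟨_, eichG_mem_Omega Q hQ hn7 _ _, rfl⟩⟩
        rw [zero_smul, zero_add, one_smul]
        have hcomm : (((D.tau v c : ↥(Cfsg.isometryGroup F ⇑Q)) : Matrix.GeneralLinearGroup ι F) :
            Matrix ι ι F) * D.J = D.J *
            (((D.tau v c : ↥(Cfsg.isometryGroup F ⇑Q)) : Matrix.GeneralLinearGroup ι F) :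
              Matrix ι ι F) := by
          apply Matrix.ext_iff_mulVec.mpr
          intro x
          rw [← Matrix.mulVec_mulVec, ← Matrix.mulVec_mulVec]
          exact (D.tau_J v c hv x).symm
        rw [hcomm, Matrix.mul_assoc, ← Units.val_mul, mul_inv_cancel, Units.val_one, Matrix.mul_one]
      have key := D.Omega_le_of_JData hQ hn (M.comap (Cfsg.isometryGroup F ⇑Q).subtype) hτ k'' hkM
        (fun h => hkN ((hK _).mpr h))
      rintro _ ⟨g, hg, rfl⟩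
      exact key hg

end JData

end OmegaUnitaryMain

end Cfsg.Agent.Lib.helper49
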