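/-
Shared lemmas (helper49): the normaliser in `Ω(Q)` of a quadratic extension field `K`
(unitary group `GU_{n/2}(q).2`) is a maximal subgroup of `Ω(Q)`.
Part 4: extracting the generator `J` and its relations from the hypotheses on the subalgebra `K`.
-/
import Mathlib
import Cfsg.Prelude.Def_Classical
import Cfsg.Prelude.Def_ClassicalGeometry
import Cfsg.Prelude.Def_GeometricClasses
import Cfsg.Agent.Lib.helper49.OmegaUnitary3

set_option autoImplicit false
set_option linter.unusedSectionVars false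

namespace Cfsg.Agent.Lib.helper49

open Matrix Module

section OmegaUnitaryGlue

variable {F : Type*} [Field F] [Fintype F] {ι : Type} [Fintype ι] [DecidableEq ι]

/-- A field subalgebra `K` of degree two, closed under adjoints but not self-adjoint, whose elements
rescale `Q`, is `F[J]` for a generator `J` satisfying the relations of `JData`; the normaliser of `K`
consists of the `g` with `g J g⁻¹ ∈ K`. -/
theorem exists_JData [Nonempty ι] (Q : QuadraticForm F (ι → F))
    (hQ : (QuadraticMap.polarBilin Q).Nondegenerate)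
    (K : Subalgebra F (Matrix ι ι F)) (hK : Cfsg.Geo.IsFieldSubalgebra 2 K)
    (hac : Cfsg.Geo.IsAdjointClosedFor (QuadraticMap.polar ⇑Q) K)
    (hnsa : ¬ Cfsg.Geo.IsSelfAdjointFor (QuadraticMap.polar ⇑Q) K)
    (hsc : ∀ k ∈ K, ∃ c : F, ∀ v : ι → F, Q (k *ᵥ v) = c * Q v) :
    ∃ D : JData Q, ∀ g : Matrix.GeneralLinearGroup ι F, g ∈ Cfsg.Geo.subalgebraNormalizer K ↔
      ∃ α β : F, (g : Matrix ι ι F) * D.J * ((g⁻¹ : Matrix.GeneralLinearGroup ι F) : Matrix ι ι F) =
        α • (1 : Matrix ι ι F) + β • D.J := by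
  have h1ne : (1 : Matrix ι ι F) ≠ 0 := one_ne_zero
  obtain ⟨J, hJK, hJns⟩ : ∃ J ∈ K, ∀ c : F, J ≠ c • (1 : Matrix ι ι F) := by
    by_contra hcon
    push Not at hcon
    have h1 : Module.finrank F ↥K ≤ 1 := by
      apply finrank_le_one (1 : ↥K)
      intro w
      obtain ⟨c, hc⟩ := hcon w.1 w.2
      exact ⟨c, Subtype.ext (by rw [hc]; rfl)⟩
    rw [hK.finrank_eq] at h1
    omega
  have hspan : ∀ k ∈ K, ∃ α β : F, k = α • (1 : Matrix ι ι F) + β • J := by
    have hli : LinearIndependent F ![(1 : Matrix ι ι F), J] := by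
      rw [LinearIndependent.pair_iff]
      intro s t hst
      have ht : t = 0 := by
        by_contra ht
        apply hJns (-s / t)
        have h2 : t • J = -(s • (1 : Matrix ι ι F)) := eq_neg_of_add_eq_zero_right hst
        calc J = t⁻¹ • (t • J) := by rw [smul_smul, inv_mul_cancel₀ ht, one_smul]
          _ = (-s / t) • (1 : Matrix ι ι F) := by
            rw [h2, smul_neg, smul_smul, ← neg_smul]
            congr 1
            field_simp
      rw [ht, zero_smul, add_zero] at hst
      exact ⟨(smul_eq_zero.mp hst).resolve_right h1ne, ht⟩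
    have hfin : finrank F ↥(Submodule.span F (Set.range ![(1 : Matrix ι ι F), J])) = 2 := by
      rw [finrank_span_eq_card hli]
      simp
    have hle : Submodule.span F (Set.range ![(1 : Matrix ι ι F), J]) ≤ Subalgebra.toSubmodule K := by
      rw [Submodule.span_le]
      rintro x ⟨i, rfl⟩
      fin_cases i
      · exact K.one_mem
      · exact hJK
    have heq := Submodule.eq_of_le_of_finrank_eq hle
      (by rw [hfin, Subalgebra.finrank_toSubmodule, hK.finrank_eq])
    intro k hk
    have hk' : k ∈ Submodule.span F (Set.range ![(1 : Matrix ι ι F), J]) := by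
      rw [heq]
      exact hk
    obtain ⟨c, hc⟩ := (Submodule.mem_span_range_iff_exists_fun F).mp hk'
    rw [Fin.sum_univ_two] at hc
    exact ⟨c 0, c 1, hc.symm⟩
  obtain ⟨J', hJ'K, hJ'⟩ := hac J hJK
  obtain ⟨α', β', hJ'eq⟩ := hspan J' hJ'K
  have hX : ∀ u v : ι → F, QuadraticMap.polar Q (J *ᵥ u) v =
      α' * QuadraticMap.polar Q u v + β' * QuadraticMap.polar Q u (J *ᵥ v) := by
    intro u v
    rw [hJ' u v, hJ'eq, Matrix.add_mulVec, Matrix.smul_mulVec, Matrix.smul_mulVec, Matrix.one_mulVec,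
      QuadraticMap.polar_add_right, QuadraticMap.polar_smul_right, QuadraticMap.polar_smul_right]
    simp only [smul_eq_mul]
  have hβ' : β' = -1 := by
    by_contra hne
    apply hnsa
    have hJsa : ∀ u v : ι → F, QuadraticMap.polar Q (J *ᵥ u) v = QuadraticMap.polar Q u (J *ᵥ v) := by
      intro u v
      have h1 := hX u v
      have h2 := hX v u
      rw [QuadraticMap.polar_comm Q (J *ᵥ v) u, QuadraticMap.polar_comm Q v u,
        QuadraticMap.polar_comm Q v (J *ᵥ u)] at h2
      have h3 : (1 + β') * (QuadraticMap.polar Q (J *ᵥ u) v - QuadraticMap.polar Q u (J *ᵥ v)) = 0 := by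
        linear_combination h1 - h2
      have h4 : 1 + β' ≠ 0 := fun h => hne (by linear_combination h)
      exact sub_eq_zero.mp ((mul_eq_zero.mp h3).resolve_left h4)
    intro k hk u v
    obtain ⟨a, b, rfl⟩ := hspan k hk
    simp only [Matrix.add_mulVec, Matrix.smul_mulVec, Matrix.one_mulVec, QuadraticMap.polar_add_left,
      QuadraticMap.polar_add_right, QuadraticMap.polar_smul_left, QuadraticMap.polar_smul_right, hJsa]
  have hadj : ∀ u v : ι → F, QuadraticMap.polar Q (J *ᵥ u) v + QuadraticMap.polar Q u (J *ᵥ v) =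
      α' * QuadraticMap.polar Q u v := by
    intro u v
    rw [hX u v, hβ']
    ring
  obtain ⟨d, hd⟩ := hsc J hJK
  have hpJJ : ∀ u v : ι → F, QuadraticMap.polar Q (J *ᵥ u) (J *ᵥ v) = d * QuadraticMap.polar Q u v := by
    intro u v
    unfold QuadraticMap.polar
    rw [← Matrix.mulVec_add, hd, hd, hd]
    ring
  have hJJ : ∀ v : ι → F, J *ᵥ (J *ᵥ v) = α' • (J *ᵥ v) - d • v := by
    intro v
    have h0 : J *ᵥ (J *ᵥ v) - (α' • (J *ᵥ v) - d • v) = 0 := by
      apply hQ.2
      intro u
      show QuadraticMap.polar Q u (J *ᵥ (J *ᵥ v) - (α' • J *ᵥ v - d • v)) = 0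
      rw [QuadraticMap.polar_sub_right, QuadraticMap.polar_sub_right, QuadraticMap.polar_smul_right,
        QuadraticMap.polar_smul_right]
      have h1 := hadj u (J *ᵥ v)
      rw [hpJJ] at h1
      simp only [smul_eq_mul]
      linear_combination h1
    exact sub_eq_zero.mp h0
  have hJ2 : J * J = α' • J - d • (1 : Matrix ι ι F) := by
    apply Matrix.ext_iff_mulVec.mpr
    intro v
    rw [← Matrix.mulVec_mulVec, hJJ, Matrix.sub_mulVec, Matrix.smul_mulVec, Matrix.smul_mulVec,
      Matrix.one_mulVec]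
  obtain ⟨c₁, hc₁⟩ := hsc (1 + J) (K.add_mem K.one_mem hJK)
  have hc₁' : ∀ v : ι → F, Q (v + J *ᵥ v) = c₁ * Q v := by
    intro v
    have h := hc₁ v
    rwa [Matrix.add_mulVec, Matrix.one_mulVec] at h
  obtain ⟨u₀, v₀, huv⟩ : ∃ u v : ι → F, QuadraticMap.polar Q u v ≠ 0 := by
    obtain ⟨i⟩ := ‹Nonempty ι›
    by_contra hcon
    push Not at hcon
    have h : (Pi.single i 1 : ι → F) = 0 := hQ.1 _ (fun y => hcon _ y)
    have h' := congrFun h i
    simp at h'
  have hc₁eq : c₁ = 1 + α' + d := by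
    have h1 : QuadraticMap.polar Q (u₀ + J *ᵥ u₀) (v₀ + J *ᵥ v₀) = c₁ * QuadraticMap.polar Q u₀ v₀ := by
      unfold QuadraticMap.polar
      have e : u₀ + J *ᵥ u₀ + (v₀ + J *ᵥ v₀) = (u₀ + v₀) + J *ᵥ (u₀ + v₀) := by
        rw [Matrix.mulVec_add]
        abel
      rw [e, hc₁', hc₁', hc₁']
      ring
    rw [QuadraticMap.polar_add_left, QuadraticMap.polar_add_right, QuadraticMap.polar_add_right,
      hpJJ] at h1
    have h2 := hadj u₀ v₀
    have h3 : (c₁ - (1 + α' + d)) * QuadraticMap.polar Q u₀ v₀ = 0 := by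
      linear_combination h2 - h1
    exact sub_eq_zero.mp ((mul_eq_zero.mp h3).resolve_right huv)
  have hpJ : ∀ v : ι → F, QuadraticMap.polar Q v (J *ᵥ v) = α' * Q v := by
    intro v
    have h1 := hc₁' v
    rw [QuadraticMap.map_add Q, hd, hc₁eq] at h1
    linear_combination h1
  have hirr : ∀ r : F, r * r - α' * r + d ≠ 0 := by
    intro r hr
    have hne : J - r • (1 : Matrix ι ι F) ≠ 0 := fun h => hJns r (sub_eq_zero.mp h)
    have hmemK : J - r • (1 : Matrix ι ι F) ∈ K := K.sub_mem hJK (K.smul_mem K.one_mem r)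
    obtain ⟨y, hyK, hy⟩ := hK.inv _ hmemK hne
    have hy' : y * (J - r • (1 : Matrix ι ι F)) = 1 := by
      rw [← hK.comm _ hmemK y hyK]
      exact hy
    have hprod : (J - r • (1 : Matrix ι ι F)) * (J - (α' - r) • (1 : Matrix ι ι F)) = 0 := by
      rw [sub_mul, mul_sub, mul_sub, hJ2]
      simp only [Matrix.smul_mul, Matrix.mul_smul, Matrix.one_mul, Matrix.mul_one, smul_smul]
      have e : (α' • J - d • (1 : Matrix ι ι F) - (α' - r) • J - (r • J - ((α' - r) * r) • (1 : Matrix ι ι F))) =
          (-(r * r - α' * r + d)) • (1 : Matrix ι ι F) := by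
        module
      rw [e, hr, neg_zero, zero_smul]
    apply hJns (α' - r)
    have h0 : J - (α' - r) • (1 : Matrix ι ι F) = 0 := by
      calc J - (α' - r) • (1 : Matrix ι ι F)
          = (y * (J - r • (1 : Matrix ι ι F))) * (J - (α' - r) • (1 : Matrix ι ι F)) := by
            rw [hy', one_mul]
        _ = 0 := by rw [mul_assoc, hprod, mul_zero]
    exact sub_eq_zero.mp h0
  refine ⟨⟨J, α', d, hJ2, hadj, hd, hpJ, hirr⟩, fun g => ⟨fun hg => ?_, fun hg => ?_⟩⟩
  · exact hspan _ ((hg J).mp hJK)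
  · obtain ⟨α, β, hαβ⟩ := hg
    have hP : ∀ k ∈ K, (g : Matrix ι ι F) * k *
        ((g⁻¹ : Matrix.GeneralLinearGroup ι F) : Matrix ι ι F) ∈ K := by
      intro k hk
      obtain ⟨a, b, rfl⟩ := hspan k hk
      have e : (g : Matrix ι ι F) * (a • (1 : Matrix ι ι F) + b • J) *
          ((g⁻¹ : Matrix.GeneralLinearGroup ι F) : Matrix ι ι F) =
          a • (1 : Matrix ι ι F) + b • (α • (1 : Matrix ι ι F) + β • J) := by
        rw [mul_add, add_mul, Matrix.mul_smul, Matrix.smul_mul, Matrix.mul_one, ← Units.val_mul,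
          mul_inv_cancel, Units.val_one, Matrix.mul_smul, Matrix.smul_mul, hαβ]
      rw [e]
      exact K.add_mem (K.smul_mem K.one_mem a)
        (K.smul_mem (K.add_mem (K.smul_mem K.one_mem α) (K.smul_mem hJK β)) b)
    have hPpow : ∀ j : ℕ, ∀ k ∈ K, ((g ^ j : Matrix.GeneralLinearGroup ι F) : Matrix ι ι F) * k *
        (((g ^ j)⁻¹ : Matrix.GeneralLinearGroup ι F) : Matrix ι ι F) ∈ K := by
      intro j
      induction j with
      | zero =>
        intro k hk
        simpa using hk
      | succ j ih =>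
        intro k hk
        have h := ih _ (hP k hk)
        have e : ((g ^ (j + 1) : Matrix.GeneralLinearGroup ι F) : Matrix ι ι F) * k *
            (((g ^ (j + 1))⁻¹ : Matrix.GeneralLinearGroup ι F) : Matrix ι ι F) =
            ((g ^ j : Matrix.GeneralLinearGroup ι F) : Matrix ι ι F) * ((g : Matrix ι ι F) * k *
              ((g⁻¹ : Matrix.GeneralLinearGroup ι F) : Matrix ι ι F)) *
            (((g ^ j)⁻¹ : Matrix.GeneralLinearGroup ι F) : Matrix ι ι F) := by
          rw [pow_succ, _root_.mul_inv_rev, Units.val_mul, Units.val_mul]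
          simp only [Matrix.mul_assoc]
        rw [e]
        exact h
    intro k
    constructor
    · exact hP k
    · intro hk
      obtain ⟨m, hm⟩ : ∃ m : ℕ, g ^ m = g⁻¹ := by
        refine ⟨orderOf g - 1, ?_⟩
        have hpos := orderOf_pos g
        apply eq_inv_of_mul_eq_one_left
        rw [← pow_succ, Nat.sub_add_cancel hpos, pow_orderOf_eq_one]
      have h1 := hPpow m _ hk
      rw [hm, inv_inv] at h1
      have e : ((g⁻¹ : Matrix.GeneralLinearGroup ι F) : Matrix ι ι F) * ((g : Matrix ι ι F) * k *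
          ((g⁻¹ : Matrix.GeneralLinearGroup ι F) : Matrix ι ι F)) * (g : Matrix ι ι F) = k := by
        have e1 : ((g⁻¹ : Matrix.GeneralLinearGroup ι F) : Matrix ι ι F) * (g : Matrix ι ι F) = 1 := by
          rw [← Units.val_mul, inv_mul_cancel, Units.val_one]
        calc ((g⁻¹ : Matrix.GeneralLinearGroup ι F) : Matrix ι ι F) * ((g : Matrix ι ι F) * k *
            ((g⁻¹ : Matrix.GeneralLinearGroup ι F) : Matrix ι ι F)) * (g : Matrix ι ι F)
            = (((g⁻¹ : Matrix.GeneralLinearGroup ι F) : Matrix ι ι F) * (g : Matrix ι ι F)) * k *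
              (((g⁻¹ : Matrix.GeneralLinearGroup ι F) : Matrix ι ι F) * (g : Matrix ι ι F)) := by
              simp only [Matrix.mul_assoc]
          _ = k := by rw [e1, Matrix.one_mul, Matrix.mul_one]
      rwa [e] at h1

end OmegaUnitaryGlue

end Cfsg.Agent.Lib.helper49
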