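import Mathlib
import Cfsg.Prelude.Def_Solvable
import Cfsg.Agent.Lib.helper38.RO1
import Cfsg.Agent.Lib.helper49.ROR2
import Cfsg.Agent.Lib.helper39.ROExT

/-!
# S4330, piece EX-A: a regular vector for a nonabelian "extraspecial-like" group of exponent `p`
-/

set_option autoImplicit false
open Pointwise

namespace Cfsg.Agent.Lib.helper38.RO

universe u v

section EXA
variable {M : Type v} [CommGroup M]

/-- the subgroup of fixed points of one automorphism -/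
def h49_fixOf (c : MulAut M) : Subgroup M where
  carrier := {m | c m = m}
  one_mem' := map_one c
  mul_mem' := fun {x y} hx hy => by
    have hx' : c x = x := hx
    have hy' : c y = y := hy
    show c (x * y) = x * y
    rw [map_mul, hx', hy']
  inv_mem' := fun {x} hx => by
    have hx' : c x = x := hx
    show c x⁻¹ = x⁻¹
    rw [map_inv, hx']

theorem h49_mem_fixOf {c : MulAut M} {m : M} : m ∈ h49_fixOf c ↔ c m = m := Iff.rfl

theorem h49_pow_fix (c : MulAut M) (m : M) (h : c m = m) (t : ℕ) : (c ^ t) m = m := by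
  induction t with
  | zero => rfl
  | succ t ih => rw [pow_succ, MulAut.mul_apply, h, ih]

/-- a fixed point of `c` is killed by the cyclic product of `c * ζ`, `ζ` fixed point free -/
theorem h49_cycProd_mul_fpf (p : ℕ) (c ζ : MulAut M) (hc : c * ζ = ζ * c) (hζp : ζ ^ p = 1)
    (hζ : ∀ m : M, ζ m = m → m = 1) (m : M) (hm : c m = m) : cycProd (c * ζ) p m = 1 := by
  have hcomm : Commute c ζ := hc
  have h2 : cycProd (c * ζ) p m = cycProd ζ p m := by
    unfold cycProd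
    refine Finset.prod_congr rfl (fun i _ => ?_)
    rw [hcomm.mul_pow, (hcomm.pow_pow i i).eq, MulAut.mul_apply, h49_pow_fix c m hm i]
  rw [h2]
  exact hζ _ (cycProd_fixed ζ p hζp m)

theorem h49_eq_one_of_pow (p : ℕ) [Fact p.Prime] [Finite M] (hcop : ¬ p ∣ Nat.card M) (x : M)
    (h : x ^ p = 1) : x = 1 := by
  have hp : p.Prime := Fact.out
  have h1 : orderOf x ∣ p := orderOf_dvd_of_pow_eq_one h
  rcases (Nat.dvd_prime hp).mp h1 with h2 | h2
  · exact orderOf_eq_one_iff.mp h2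
  · exact absurd (h2 ▸ orderOf_dvd_natCard x) hcop

theorem h49_ex_nonabelian_spare (p : ℕ) [Fact p.Prime] (hp : p ≠ 2) {M : Type v} [CommGroup M] [Finite M]
    (hcop : ¬ p ∣ Nat.card M) (k : ℕ) (ih : EXGoal.{v} p k)
    (E Z : Subgroup (MulAut M)) (hk : Nat.card ↥E ≤ k + 1) (hZE : Z ≤ E)
    (hZcard : Nat.card ↥Z = p)
    (hZc : ∀ z ∈ Z, ∀ e ∈ E, z * e = e * z) (hEp : ∀ e ∈ E, e ^ p = 1)
    (hEcomm : ∀ e ∈ E, ∀ f ∈ E, e * f * e⁻¹ * f⁻¹ ∈ Z) (hZfix : fixedPts Z = ⊥)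
    (hna : ∃ a ∈ E, ∃ b ∈ E, a * b ≠ b * a) :
    ∃ m : M, ∀ e ∈ E, e m = m → e = 1 := by
  classical
  have hpp : p.Prime := Fact.out
  obtain ⟨a, haE, b, hbE, hab⟩ := hna
  obtain ⟨z, hzdef⟩ : ∃ z : MulAut M, z = a * b * a⁻¹ * b⁻¹ := ⟨_, rfl⟩
  have hzZ : z ∈ Z := hzdef ▸ hEcomm a haE b hbE
  have hzE : z ∈ E := hZE hzZ
  have hz1 : z ≠ 1 := by
    intro h
    apply hab
    have h1 : a * b * a⁻¹ * b⁻¹ = 1 := by rw [← hzdef, h]
    have h2 : a * b = (a * b * a⁻¹ * b⁻¹) * (b * a) := by group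
    rw [h2, h1, one_mul]
  have hzp : z ^ p = 1 := hEp z hzE
  have hap : a ^ p = 1 := hEp a haE
  have cz_a : Commute z a := hZc z hzZ a haE
  have cz_b : Commute z b := hZc z hzZ b hbE
  have haz : a * z = z * a := cz_a.eq.symm
  -- elements of `Z` are powers of any nontrivial element of `Z`
  have hZpow : ∀ ζ ∈ Z, ζ ≠ 1 → ∀ y ∈ Z, ∃ t : ℕ, ζ ^ t = y := by
    intro ζ hζ hζ1 y hy
    have h1 : (⟨ζ, hζ⟩ : ↥Z) ≠ 1 := fun h => hζ1 (congrArg Subtype.val h)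
    obtain ⟨t, ht⟩ := mem_powers_of_prime_card (G := ↥Z) hZcard (g' := ⟨y, hy⟩) h1
    exact ⟨t, congrArg Subtype.val ht⟩
  -- nontrivial elements of `Z` are fixed point free
  have hfpf : ∀ ζ ∈ Z, ζ ≠ 1 → ∀ m : M, ζ m = m → m = 1 := by
    intro ζ hζ hζ1 m hm
    have h1 : m ∈ fixedPts Z := by
      intro y hy
      obtain ⟨t, rfl⟩ := hZpow ζ hζ hζ1 y hy
      exact h49_pow_fix ζ m hm t
    rw [hZfix] at h1
    exact Subgroup.mem_bot.mp h1
  -- relations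
  have hab' : a * b = z * (b * a) := by rw [hzdef]; group
  have hA : ∀ j : ℕ, a * z ^ j * b = b * (a * z ^ (j + 1)) := by
    intro j
    calc a * z ^ j * b = z ^ j * (a * b) := by rw [← (cz_a.pow_left j).eq, mul_assoc]
      _ = z ^ (j + 1) * b * a := by rw [hab', pow_succ]; simp only [mul_assoc]
      _ = b * (a * z ^ (j + 1)) := by
          rw [(cz_b.pow_left (j + 1)).eq, mul_assoc, (cz_a.pow_left (j + 1)).eq]
  have hR3 : ∀ i : ℕ, a ^ i * b = z ^ i * b * a ^ i := by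
    intro i
    induction i with
    | zero => simp
    | succ i ihi =>
      calc a ^ (i + 1) * b = a * (a ^ i * b) := by rw [pow_succ', mul_assoc]
        _ = a * (z ^ i * b * a ^ i) := by rw [ihi]
        _ = z ^ i * (a * b) * a ^ i := by
            rw [← mul_assoc, ← mul_assoc, ← (cz_a.pow_left i).eq]; simp only [mul_assoc]
        _ = z ^ (i + 1) * b * a ^ (i + 1) := by
            rw [hab', pow_succ, pow_succ']; simp only [mul_assoc]
  -- the fixed points of `a`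
  obtain ⟨M₁, hM₁def⟩ : ∃ M₁ : Subgroup M, M₁ = h49_fixOf a := ⟨_, rfl⟩
  have hM₁mem : ∀ m : M, m ∈ M₁ ↔ a m = m := by
    intro m; rw [hM₁def]; exact h49_mem_fixOf
  have hclaim : ∀ j : ℕ, ∀ m : M, (a * z ^ j) m = m → a ((b ^ j) m) = (b ^ j) m := by
    intro j
    induction j with
    | zero =>
      intro m hm
      simpa using hm
    | succ j ihj =>
      intro m hm
      have h0 : (a * z ^ j * b) m = (b * (a * z ^ (j + 1))) m := by rw [hA j]
      have h1 : (a * z ^ j) (b m) = b m := by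
        have h0' : (a * z ^ j) (b m) = b ((a * z ^ (j + 1)) m) := h0
        rw [h0', hm]
      have h2 := ihj (b m) h1
      have h3 : (b ^ (j + 1)) m = (b ^ j) (b m) := by rw [pow_succ]; rfl
      rw [h3]
      exact h2
  have hM₁ : M₁ ≠ ⊥ := by
    intro hbot
    have hS : (⊥ : Subgroup M) = ⊤ := by
      apply gen_rank_two' p hcop a z haz hap hzp (hfpf z hzZ hz1) ⊥
      intro j _ m hm
      have h1 : (b ^ j) m ∈ M₁ := (hM₁mem _).mpr (hclaim j m hm)
      rw [hbot, Subgroup.mem_bot] at h1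
      rw [Subgroup.mem_bot]
      exact (MulEquiv.map_eq_one_iff (b ^ j)).mp h1
    apply hz1
    apply MulEquiv.ext
    intro m
    have hm : m ∈ (⊥ : Subgroup M) := hS ▸ Subgroup.mem_top m
    rw [Subgroup.mem_bot.mp hm, map_one, map_one]
  -- the subgroup `E'` of the elements commuting with `a` and `b`
  obtain ⟨E', hE'def⟩ : ∃ E' : Subgroup (MulAut M),
      E' = E ⊓ Subgroup.centralizer ({a, b} : Set (MulAut M)) := ⟨_, rfl⟩
  have hE'mem : ∀ e : MulAut M, e ∈ E' ↔ e ∈ E ∧ a * e = e * a ∧ b * e = e * b := by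
    intro e
    rw [hE'def, Subgroup.mem_inf, Subgroup.mem_centralizer_iff]
    constructor
    · rintro ⟨h1, h2⟩
      exact ⟨h1, h2 a (Set.mem_insert _ _), h2 b (Set.mem_insert_of_mem _ rfl)⟩
    · rintro ⟨h1, h2, h3⟩
      refine ⟨h1, ?_⟩
      intro x hx
      rcases Set.mem_insert_iff.mp hx with hxa | hxb
      · rw [hxa]; exact h2
      · rw [Set.mem_singleton_iff.mp hxb]; exact h3
  have hE'E : E' ≤ E := fun e he => ((hE'mem e).mp he).1
  have hZE' : Z ≤ E' := by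
    intro ζ hζ
    exact (hE'mem ζ).mpr ⟨hZE hζ, (hZc ζ hζ a haE).symm, (hZc ζ hζ b hbE).symm⟩
  have hbE' : b ∉ E' := fun h => hab ((hE'mem b).mp h).2.1
  have hcardE' : Nat.card ↥E' ≤ k := by
    by_contra hcon
    have h1 : Nat.card ↥E ≤ Nat.card ↥E' := by omega
    have h2 : E' = E := Subgroup.eq_of_le_of_card_ge hE'E h1
    exact hbE' (h2 ▸ hbE)
  have hinv : ∀ e ∈ E', ∀ m ∈ M₁, e m ∈ M₁ := by
    intro e he m hm
    rw [hM₁mem] at hm ⊢
    have h1 : (a * e) m = (e * a) m := by rw [((hE'mem e).mp he).2.1]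
    have h2 : a (e m) = e (a m) := h1
    rw [h2, hm]
  obtain ⟨w₀, hw₀M, hw₀⟩ := ex_transport p hcop k ih E' Z hZE' hZcard
    (fun ζ hζ e he => hZc ζ hζ e (hE'E he)) (fun e he => hEp e (hE'E he))
    (fun e he f hf => hEcomm e (hE'E he) f (hE'E hf)) hZfix M₁ hinv hM₁ (Or.inl hcardE')
  have haw₀ : a w₀ = w₀ := (hM₁mem w₀).mp hw₀M
  have hw₀1 : w₀ ≠ 1 := by
    intro h
    have h1 : ∀ m ∈ M₁, z m = m := hw₀ z (hZE' hzZ) (by rw [h, map_one])
    apply hM₁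
    rw [eq_bot_iff]
    intro m hm
    exact Subgroup.mem_bot.mpr (hfpf z hzZ hz1 m (h1 m hm))
  have hbw₀1 : b w₀ ≠ 1 := fun h => hw₀1 ((MulEquiv.map_eq_one_iff b).mp h)
  have hzinvZ : z⁻¹ ∈ Z := Z.inv_mem hzZ
  have hzinv1 : z⁻¹ ≠ 1 := fun h => hz1 (inv_eq_one.mp h)
  -- `b w₀` is fixed by `a * z⁻¹`
  have hbw₀ : (a * z⁻¹) (b w₀) = b w₀ := by
    have h1 : a * z⁻¹ * b = b * a := by
      calc a * z⁻¹ * b = z⁻¹ * (a * b) := by rw [← (cz_a.inv_left).eq, mul_assoc]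
        _ = b * a := by rw [hab', inv_mul_cancel_left]
    have h2 : (a * z⁻¹ * b) w₀ = (b * a) w₀ := by rw [h1]
    have h3 : (a * z⁻¹) (b w₀) = b (a w₀) := h2
    rw [h3, haw₀]
  -- the components of `w`
  obtain ⟨w, hwdef⟩ : ∃ w : M, w = w₀ * b w₀ := ⟨_, rfl⟩
  have hπ1 : cycProd (a * 1) p w₀ = w₀ ^ p :=
    cycProd_of_fixed (a * 1) p w₀ (by rw [mul_one]; exact haw₀)
  have hπ2 : ∀ ζ ∈ Z, ζ ≠ 1 → cycProd (a * ζ) p w₀ = 1 := by
    intro ζ hζ hζ1
    exact h49_cycProd_mul_fpf p a ζ (hZc ζ hζ a haE).symm (hEp ζ (hZE hζ)) (hfpf ζ hζ hζ1) w₀ haw₀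
  have hπ3 : cycProd (a * z⁻¹) p (b w₀) = (b w₀) ^ p := cycProd_of_fixed (a * z⁻¹) p (b w₀) hbw₀
  have hπ4 : ∀ ζ ∈ Z, ζ ≠ z⁻¹ → cycProd (a * ζ) p (b w₀) = 1 := by
    intro ζ hζ hζ1
    have h1 : a * ζ = (a * z⁻¹) * (z * ζ) := by group
    have h2 : z * ζ ∈ Z := Z.mul_mem hzZ hζ
    have h3 : z * ζ ≠ 1 := by
      intro h
      apply hζ1
      exact eq_inv_of_mul_eq_one_right h
    rw [h1]
    exact h49_cycProd_mul_fpf p (a * z⁻¹) (z * ζ)
      (hZc (z * ζ) h2 (a * z⁻¹) (E.mul_mem haE (E.inv_mem hzE))).symm (hEp _ (hZE h2))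
      (hfpf _ h2 h3) (b w₀) hbw₀
  have hw1 : cycProd (a * 1) p w = w₀ ^ p := by
    rw [hwdef, cycProd_mul, hπ1, hπ4 1 Z.one_mem (fun h => hzinv1 h.symm), mul_one]
  have hw2 : cycProd (a * z⁻¹) p w = (b w₀) ^ p := by
    rw [hwdef, cycProd_mul, hπ3, hπ2 z⁻¹ hzinvZ hzinv1, one_mul]
  have hw3 : ∀ ζ ∈ Z, ζ ≠ 1 → ζ ≠ z⁻¹ → cycProd (a * ζ) p w = 1 := by
    intro ζ hζ h1 h2
    rw [hwdef, cycProd_mul, hπ2 ζ hζ h1, hπ4 ζ hζ h2, mul_one]
  -- `a` acts as `z` on the fixed points of `a * z⁻¹`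
  have haz_fix : ∀ i : ℕ, ∀ x : M, (a * z⁻¹) x = x → (a ^ i) x = (z ^ i) x := by
    intro i
    induction i with
    | zero => intro x _; rfl
    | succ i ihi =>
      intro x hx
      have h1 : (a * z⁻¹) (z x) = z x := by
        have e1 : a * z⁻¹ * z = z * (a * z⁻¹) := by
          rw [inv_mul_cancel_right, ← mul_assoc, ← haz, mul_inv_cancel_right]
        have e2 : (a * z⁻¹ * z) x = (z * (a * z⁻¹)) x := by rw [e1]
        have e3 : (a * z⁻¹) (z x) = z ((a * z⁻¹) x) := e2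
        rw [e3, hx]
      have h2 : a x = z x := by
        have e1 : a = a * z⁻¹ * z := by rw [inv_mul_cancel_right]
        have e2 : a x = (a * z⁻¹ * z) x := by rw [← e1]
        have e3 : a x = (a * z⁻¹) (z x) := e2
        rw [e3, h1]
      have h3 : (a ^ (i + 1)) x = (a ^ i) (a x) := by rw [pow_succ]; rfl
      have h4 : (z ^ (i + 1)) x = (z ^ i) (z x) := by rw [pow_succ]; rfl
      rw [h3, h4, h2]
      exact ihi (z x) h1
  refine ⟨w, ?_⟩
  intro e heE hew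
  obtain ⟨τ, hτdef⟩ : ∃ τ : MulAut M, τ = e * a * e⁻¹ * a⁻¹ := ⟨_, rfl⟩
  have hτZ : τ ∈ Z := hτdef ▸ hEcomm e heE a haE
  have hconj : ∀ ζ ∈ Z, e * (a * ζ) * e⁻¹ = a * (τ * ζ) := by
    intro ζ hζ
    have h1 : e * ζ * e⁻¹ = ζ := by rw [← hZc ζ hζ e heE, mul_inv_cancel_right]
    have h2 : e * a * e⁻¹ = τ * a := by rw [hτdef]; group
    calc e * (a * ζ) * e⁻¹ = (e * a * e⁻¹) * (e * ζ * e⁻¹) := by group
      _ = τ * a * ζ := by rw [h1, h2]
      _ = a * (τ * ζ) := by rw [hZc τ hτZ a haE, mul_assoc]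
  have hcomp : ∀ ζ ∈ Z, e (cycProd (a * ζ) p w) = cycProd (a * (τ * ζ)) p w := by
    intro ζ hζ
    rw [cycProd_conj, hconj ζ hζ, hew]
  -- step 1
  have hs1 : τ = 1 ∨ τ = z⁻¹ := by
    by_contra hcon
    rw [not_or] at hcon
    have h1 := hcomp 1 Z.one_mem
    rw [hw1, mul_one, hw3 τ hτZ hcon.1 hcon.2] at h1
    have h2 : w₀ ^ p = 1 := (MulEquiv.map_eq_one_iff e).mp h1
    exact hw₀1 (h49_eq_one_of_pow p hcop w₀ h2)
  -- step 2
  have hs2 : τ * z⁻¹ = 1 ∨ τ * z⁻¹ = z⁻¹ := by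
    by_contra hcon
    rw [not_or] at hcon
    have h1 := hcomp z⁻¹ hzinvZ
    rw [hw2, hw3 (τ * z⁻¹) (Z.mul_mem hτZ hzinvZ) hcon.1 hcon.2] at h1
    have h2 : (b w₀) ^ p = 1 := (MulEquiv.map_eq_one_iff e).mp h1
    exact hbw₀1 (h49_eq_one_of_pow p hcop (b w₀) h2)
  -- step 3
  have hτ1 : τ = 1 := by
    rcases hs1 with h | h
    · exact h
    · exfalso
      rw [h] at hs2
      rcases hs2 with h2 | h2
      · -- z⁻¹ * z⁻¹ = 1
        have h3 : z ^ 2 = 1 := by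
          have : (z⁻¹ * z⁻¹)⁻¹ = 1 := by rw [h2, inv_one]
          rw [mul_inv_rev, inv_inv] at this
          rw [pow_two]; exact this
        obtain ⟨r, hr⟩ := (hpp.eq_two_or_odd'.resolve_left hp)
        have h4 : z ^ p = z := by
          rw [hr, pow_succ, pow_mul, h3, one_pow, one_mul]
        exact hz1 (h4 ▸ hzp)
      · exact hzinv1 (mul_eq_right.mp h2)
  -- step 4
  have hea : e * a = a * e := by
    have h1 : e * a * e⁻¹ * a⁻¹ = 1 := by rw [← hτdef, hτ1]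
    have h2 : e * a = (e * a * e⁻¹ * a⁻¹) * (a * e) := by group
    rw [h2, h1, one_mul]
  -- step 5
  have hew₀ : e w₀ = w₀ := by
    have h1 := hcomp 1 Z.one_mem
    rw [hw1, hτ1, mul_one, hw1, map_pow] at h1
    have h2 : (e w₀ * w₀⁻¹) ^ p = 1 := by rw [mul_pow, inv_pow, h1, mul_inv_cancel]
    have h3 := h49_eq_one_of_pow p hcop _ h2
    exact mul_inv_eq_one.mp h3
  -- step 6
  have hebw₀ : e (b w₀) = b w₀ := by
    have h1 : e w₀ * e (b w₀) = w₀ * b w₀ := by rw [← map_mul, ← hwdef, hew]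
    rw [hew₀] at h1
    exact mul_left_cancel h1
  -- step 7
  obtain ⟨σ, hσdef⟩ : ∃ σ : MulAut M, σ = e * b * e⁻¹ * b⁻¹ := ⟨_, rfl⟩
  have hσZ : σ ∈ Z := hσdef ▸ hEcomm e heE b hbE
  have heb : e * b = σ * b * e := by rw [hσdef]; group
  have hkey : ∀ i : ℕ, z ^ i = σ⁻¹ → e = (a ^ i)⁻¹ ∧ z ^ i = 1 := by
    intro i hi
    obtain ⟨e', he'def⟩ : ∃ e' : MulAut M, e' = e * a ^ i := ⟨_, rfl⟩
    have he'E : e' ∈ E := he'def ▸ E.mul_mem heE (E.pow_mem haE i)
    have he'a : a * e' = e' * a := by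
      rw [he'def, ← mul_assoc, ← hea, mul_assoc, mul_assoc, ← pow_succ', ← pow_succ]
    have he'b : b * e' = e' * b := by
      have hzi : z ^ i * e = e * z ^ i := hZc (z ^ i) (Z.pow_mem hzZ i) e heE
      calc b * e' = b * (e * a ^ i) := by rw [he'def]
        _ = (z ^ i * σ) * b * e * a ^ i := by rw [hi, inv_mul_cancel, one_mul]; simp only [mul_assoc]
        _ = z ^ i * (σ * b * e) * a ^ i := by simp only [mul_assoc]
        _ = z ^ i * (e * b) * a ^ i := by rw [heb]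
        _ = e * (z ^ i * b * a ^ i) := by
            rw [← mul_assoc (z ^ i) e b, hzi]; simp only [mul_assoc]
        _ = e * (a ^ i * b) := by rw [hR3 i]
        _ = e' * b := by rw [he'def, mul_assoc]
    have he'E' : e' ∈ E' := (hE'mem e').mpr ⟨he'E, he'a, he'b⟩
    have he'w₀ : e' w₀ = w₀ := by
      have h1 : e' w₀ = e ((a ^ i) w₀) := by rw [he'def]; rfl
      rw [h1, h49_pow_fix a w₀ haw₀ i, hew₀]
    have htriv : ∀ m ∈ M₁, e' m = m := hw₀ e' he'E' he'w₀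
    have he'b_pow : ∀ j : ℕ, e' * b ^ j = b ^ j * e' := by
      intro j
      have hc : Commute e' b := he'b.symm
      exact (hc.pow_right j).eq
    have hall : h49_fixOf e' = ⊤ := by
      apply gen_rank_two' p hcop a z haz hap hzp (hfpf z hzZ hz1)
      intro j _ m hm
      have h1 : (b ^ j) m ∈ M₁ := (hM₁mem _).mpr (hclaim j m hm)
      have h2 : e' ((b ^ j) m) = (b ^ j) m := htriv _ h1
      have h3 : (e' * b ^ j) m = (b ^ j * e') m := by rw [he'b_pow j]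
      have h4 : e' ((b ^ j) m) = (b ^ j) (e' m) := h3
      rw [h4] at h2
      exact (b ^ j).injective h2
    have he'1 : e' = 1 := by
      apply MulEquiv.ext
      intro m
      have hm : m ∈ h49_fixOf e' := hall ▸ Subgroup.mem_top m
      exact hm
    have he : e = (a ^ i)⁻¹ := by
      rw [he'def] at he'1
      exact eq_inv_of_mul_eq_one_left he'1
    refine ⟨he, ?_⟩
    by_contra hzi1
    have h1 : (a ^ i)⁻¹ (b w₀) = b w₀ := by rw [← he]; exact hebw₀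
    have h2 : (a ^ i) (b w₀) = b w₀ := by
      have e0 : (a ^ i * (a ^ i)⁻¹) (b w₀) = b w₀ := by rw [mul_inv_cancel]; rfl
      have e1 : (a ^ i) ((a ^ i)⁻¹ (b w₀)) = b w₀ := e0
      rw [h1] at e1
      exact e1
    rw [haz_fix i (b w₀) hbw₀] at h2
    exact hbw₀1 (hfpf (z ^ i) (Z.pow_mem hzZ i) hzi1 (b w₀) h2)
  -- step 8
  obtain ⟨i, hi⟩ := hZpow z hzZ hz1 σ⁻¹ (Z.inv_mem hσZ)
  have hσ1 : σ⁻¹ = 1 := by rw [← hi]; exact (hkey i hi).2
  have h0 := (hkey 0 (by rw [pow_zero, hσ1])).1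
  rw [h0, pow_zero, inv_one]

end EXA

end Cfsg.Agent.Lib.helper38.RO
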