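import Mathlib

/-!
# S2272, piece L5a: a lift of a nontrivial element of `PSL_d(F)` is not a scalar matrix
-/

set_option autoImplicit false

namespace Cfsg.Agent.Lib.helper49.S2272

open Matrix

variable {F : Type*} [Field F] {d : ℕ}

/-- **Piece L5a of S2272.** -/
theorem lift_not_scalar (A : Matrix.SpecialLinearGroup (Fin d) F)
    (hA : (QuotientGroup.mk A : Matrix.ProjectiveSpecialLinearGroup (Fin d) F) ≠ 1) :
    ∀ c : F, (A : Matrix (Fin d) (Fin d) F) ≠ Matrix.scalar (Fin d) c := by
  intro c hc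
  apply hA
  rw [QuotientGroup.eq_one_iff, Matrix.SpecialLinearGroup.mem_center_iff]
  refine ⟨c, ?_, hc.symm⟩
  have h1 : (A : Matrix (Fin d) (Fin d) F).det = 1 := A.2
  rw [hc, Matrix.scalar_apply, Matrix.det_diagonal] at h1
  simpa using h1

end Cfsg.Agent.Lib.helper49.S2272
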