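import Mathlib

/-!
# S2272, piece L5b: "trace zero" is an invariant of `PSL_d(F)`-conjugacy classes of lifts
-/

set_option autoImplicit false

namespace Cfsg.Agent.Lib.helper49.S2272

open Matrix

variable {F : Type*} [Field F] {d : ℕ}

/-- **Piece L5b of S2272.** -/
theorem trace_zero_iff_of_isConj (X Y : Matrix.SpecialLinearGroup (Fin d) F)
    (h : IsConj (QuotientGroup.mk X : Matrix.ProjectiveSpecialLinearGroup (Fin d) F)
      (QuotientGroup.mk Y)) :
    (X : Matrix (Fin d) (Fin d) F).trace = 0 ↔ (Y : Matrix (Fin d) (Fin d) F).trace = 0 := by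
  rcases Nat.eq_zero_or_pos d with hd | hd
  · subst hd
    simp [Matrix.trace]
  rw [isConj_iff] at h
  obtain ⟨k, hk⟩ := h
  obtain ⟨K, rfl⟩ := QuotientGroup.mk_surjective k
  have h1 : (QuotientGroup.mk (K * X * K⁻¹) : Matrix.ProjectiveSpecialLinearGroup (Fin d) F)
      = QuotientGroup.mk Y := by
    rw [← hk]; rfl
  have h2 : (K * X * K⁻¹)⁻¹ * Y ∈ Subgroup.center (Matrix.SpecialLinearGroup (Fin d) F) :=
    QuotientGroup.eq.mp h1
  rw [Matrix.SpecialLinearGroup.mem_center_iff] at h2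
  obtain ⟨r, hr, hrs⟩ := h2
  have hr0 : r ≠ 0 := by
    rintro rfl
    rw [Fintype.card_fin, zero_pow hd.ne'] at hr
    exact zero_ne_one hr
  have hY : Y = (K * X * K⁻¹) * ((K * X * K⁻¹)⁻¹ * Y) := by group
  have hYm : (Y : Matrix (Fin d) (Fin d) F)
      = ((K * X * K⁻¹ : Matrix.SpecialLinearGroup (Fin d) F) : Matrix (Fin d) (Fin d) F)
        * Matrix.scalar (Fin d) r := by
    rw [hrs]
    conv_lhs => rw [hY]
    rfl
  have hKK : (K⁻¹ : Matrix.SpecialLinearGroup (Fin d) F).1 * K.1 = 1 := by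
    have : (K⁻¹ * K : Matrix.SpecialLinearGroup (Fin d) F).1 = 1 := by
      rw [inv_mul_cancel]; rfl
    exact this
  have htr : (Y : Matrix (Fin d) (Fin d) F).trace = r * (X : Matrix (Fin d) (Fin d) F).trace := by
    rw [hYm]
    have e1 : ((K * X * K⁻¹ : Matrix.SpecialLinearGroup (Fin d) F) : Matrix (Fin d) (Fin d) F)
        = K.1 * X.1 * (K⁻¹ : Matrix.SpecialLinearGroup (Fin d) F).1 := rfl
    rw [e1]
    have e2 : K.1 * X.1 * (K⁻¹ : Matrix.SpecialLinearGroup (Fin d) F).1 * Matrix.scalar (Fin d) r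
        = r • (K.1 * X.1 * (K⁻¹ : Matrix.SpecialLinearGroup (Fin d) F).1) := by
      rw [Matrix.scalar_apply, ← Matrix.smul_one_eq_diagonal, Matrix.mul_smul, Matrix.mul_one]
    rw [e2, Matrix.trace_smul, Matrix.trace_mul_cycle, hKK, Matrix.one_mul, smul_eq_mul]
  rw [htr]
  constructor
  · intro h0; rw [h0, mul_zero]
  · intro h0
    rcases mul_eq_zero.mp h0 with h | h
    · exact absurd h hr0
    · exact h

end Cfsg.Agent.Lib.helper49.S2272
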