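/-
S2687, piece EVEN: `PSU_n(q)` (`n ≥ 3`, odd characteristic) has even order.
-/
import Cfsg.Agent.Lib.helper48.LBRefl
import Cfsg.Agent.Lib.helper50.PSUTransfer
import Cfsg.Agent.Lib.helper50.PSUF4
import Cfsg.Agent.Lib.helper48.PSUOut
import Cfsg.Agent.S0283
import Cfsg.Agent.Lib.helper7.SUCenter

set_option autoImplicit false
set_option linter.unusedSectionVars false
set_option linter.unusedVariables false

namespace Cfsg.Agent.Lib.helper49.S2687

open Matrix Cfsg
open Cfsg.Agent.Lib.helper50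
open Cfsg.Agent.Lib.helper48.LB
open Cfsg.Agent.Lib.helper48.AbsBal (fixG)
open Cfsg.Agent.Lib.helper99 (suMat)

universe u v

variable {n q : ℕ} {F : Type u} [Field F] [Fintype F]

/-- in odd characteristic `q` is odd -/
theorem odd_q_of_two_ne (hF : Fintype.card F = q ^ 2) (h2 : (2 : F) ≠ 0) : Odd q := by
  have hchar : ringChar F ≠ 2 := by
    intro h
    have := CharP.cast_eq_zero F (ringChar F)
    rw [h] at this
    exact h2 (by exact_mod_cast this)
  have hodd : Fintype.card F % 2 = 1 := FiniteField.odd_card_of_char_ne_two hchar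
  rw [hF] at hodd
  rcases Nat.even_or_odd q with he | ho
  · exfalso
    have : Even (q ^ 2) := Nat.even_pow.mpr ⟨he, by norm_num⟩
    rw [Nat.even_iff] at this
    omega
  · exact ho

/-- an involution of `PSU_n(q)`: the image of `diag(-1, -1, 1, …, 1)` -/
theorem exists_invol_PSU (hF : Fintype.card F = q ^ 2) (hn : 3 ≤ n) (h2 : (2 : F) ≠ 0) :
    ∃ d : ↥(SU n F q), d * d = 1 ∧ orderOf (QuotientGroup.mk d : PSU n F q) = 2 := by
  classical
  have hp2 : Fact (Nat.Prime 2) := ⟨Nat.prime_two⟩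
  have hqodd := odd_q_of_two_ne hF h2
  obtain ⟨i0, hi0⟩ : ∃ i0 : Fin n, i0 = ⟨0, by omega⟩ := ⟨_, rfl⟩
  obtain ⟨i1, hi1⟩ : ∃ i1 : Fin n, i1 = ⟨1, by omega⟩ := ⟨_, rfl⟩
  obtain ⟨i2, hi2⟩ : ∃ i2 : Fin n, i2 = ⟨2, by omega⟩ := ⟨_, rfl⟩
  have h01 : i0 ≠ i1 := by
    rw [hi0, hi1]
    intro h
    have := congrArg Fin.val h
    simp at this
  have h20 : i2 ≠ i0 := by
    rw [hi0, hi2]
    intro h
    have := congrArg Fin.val h
    simp at this
  have h21 : i2 ≠ i1 := by
    rw [hi1, hi2]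
    intro h
    have := congrArg Fin.val h
    simp at this
  have hl : (-1 : F) * (-1 : F) ^ q = 1 := by
    rw [hqodd.neg_one_pow]
    ring
  have hdet := Cfsg.Agent.Lib.helper7.diag2_det n i0 i1 (-1 : F) (neg_ne_zero.mpr one_ne_zero)
  have hiso := Cfsg.Agent.Lib.helper7.diag2_isIsom (q := q) n i0 i1 (-1 : F) hl
  obtain ⟨d, hd⟩ : ∃ d : ↥(SU n F q),
      suMat d = Matrix.diagonal (Cfsg.Agent.Lib.helper7.diag2 n i0 i1 (-1 : F)) :=
    ⟨Cfsg.Agent.Lib.helper99.mkSU _ hdet hiso, rfl⟩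
  have hsq : d * d = 1 := by
    apply Cfsg.Agent.Lib.helper99.suMat_inj
    rw [Cfsg.Agent.Lib.helper99.suMat_mul, hd, Matrix.diagonal_mul_diagonal]
    have : (fun k => Cfsg.Agent.Lib.helper7.diag2 n i0 i1 (-1 : F) k
        * Cfsg.Agent.Lib.helper7.diag2 n i0 i1 (-1 : F) k) = fun _ => (1 : F) := by
      funext k
      simp only [Cfsg.Agent.Lib.helper7.diag2, Function.update_apply, Pi.one_apply]
      split_ifs <;> simp
    rw [this, Matrix.diagonal_one]
    rfl
  refine ⟨d, hsq, ?_⟩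
  apply orderOf_eq_prime
  · rw [pow_two, ← QuotientGroup.mk_mul, hsq]
    rfl
  · rw [Ne, QuotientGroup.eq_one_iff]
    intro hc
    obtain ⟨ζ, hζ⟩ := central_scalar hF i0 d hc
    have hζ' : suMat d = ζ • (1 : Matrix (Fin n) (Fin n) F) := hζ
    rw [hd] at hζ'
    have e0 := congrFun (congrFun hζ' i0) i0
    have e2 := congrFun (congrFun hζ' i2) i2
    rw [Matrix.diagonal_apply_eq, Cfsg.Agent.Lib.helper7.diag2_left n i0 i1 h01] at e0
    rw [Matrix.diagonal_apply_eq] at e2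
    have hd2 : Cfsg.Agent.Lib.helper7.diag2 n i0 i1 (-1 : F) i2 = 1 := by
      simp only [Cfsg.Agent.Lib.helper7.diag2, Function.update_apply, Pi.one_apply]
      rw [if_neg h20, if_neg h21, one_mul]
    rw [hd2] at e2
    have e0' : (-1 : F) = ζ := by
      rw [e0]
      simp [Matrix.smul_apply]
    have e2' : (1 : F) = ζ := by
      rw [e2]
      simp [Matrix.smul_apply]
    apply h2
    linear_combination e2' - e0'

/-- **Piece EVEN of S2687.** -/
theorem even_card_PSU (hF : Fintype.card F = q ^ 2) (hn : 3 ≤ n) (h2 : (2 : F) ≠ 0) :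
    2 ∣ Nat.card (PSU n F q) := by
  obtain ⟨d, -, hd⟩ := exists_invol_PSU hF hn h2
  rw [← hd]
  exact orderOf_dvd_natCard _

end Cfsg.Agent.Lib.helper49.S2687
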