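/-
S2687, piece FC-GEN: the field automorphism `fieldPSU σ` of odd prime order `p` of `PSU_n(q)`,
`q = q₀ ^ p`, `(n, q₀) ≠ (3, 2)`, has no core when `p` divides the number of its fixed points.
-/
import Cfsg.Agent.Lib.helper48.LBRefl
import Cfsg.Agent.Lib.helper50.PSUTransfer
import Cfsg.Agent.Lib.helper50.PSUF4
import Cfsg.Agent.Lib.helper48.PSUOut
import Cfsg.Agent.S0283

set_option autoImplicit false
set_option linter.unusedSectionVars false
set_option linter.unusedVariables false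

namespace Cfsg.Agent.Lib.helper49.S2687

open Matrix Cfsg
open Cfsg.Agent.Lib.helper50
open Cfsg.Agent.Lib.helper48.LB
open Cfsg.Agent.Lib.helper48.AbsBal (fixG)
open Cfsg.Agent.Lib.helper99 (suMat)

universe u v

variable {n q : ℕ} {F : Type u} [Field F] [Fintype F]

/-- an element of `SU` with scalar matrix is central -/
theorem scalar_mem_center_SU (t : ↥(SU n F q)) (c : F)
    (ht : suMat t = c • (1 : Matrix (Fin n) (Fin n) F)) : t ∈ Subgroup.center ↥(SU n F q) := by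
  rw [Subgroup.mem_center_iff]
  intro x
  apply Cfsg.Agent.Lib.helper99.suMat_inj
  rw [Cfsg.Agent.Lib.helper99.suMat_mul, Cfsg.Agent.Lib.helper99.suMat_mul, ht, Matrix.mul_smul,
    Matrix.smul_mul, Matrix.mul_one, Matrix.one_mul]

/-- `PSU_n(q)` has trivial centre, in the form: an element inducing the trivial inner automorphism
is trivial -/
theorem conj_eq_one_PSU (hF : Fintype.card F = q ^ 2) (hn : 3 ≤ n) (t : ↥(SU n F q))
    (h : MulAut.conj (QuotientGroup.mk t : PSU n F q) = 1) :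
    (QuotientGroup.mk t : PSU n F q) = 1 := by
  obtain ⟨g, hg⟩ := Cfsg.Agent.Lib.helper17.exists_gu_of_preserves hF n (suMat t)
    (Cfsg.Agent.Lib.helper99.suMat_isIsom t)
  have hconj := PSUF.conj_eq_phi' hF t g hg
  have hg1 : phiPSU g = 1 := by rw [← hconj, h]
  rw [phiPSU_eq_one_iff hF hn, Geo.mem_scalars_iff] at hg1
  obtain ⟨c, hc⟩ := hg1
  have hst : suMat t = (c : F) • (1 : Matrix (Fin n) (Fin n) F) := by
    rw [← hg]
    exact hc
  rw [QuotientGroup.eq_one_iff]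
  exact scalar_mem_center_SU t c hst

/-- FC-GEN with the pieces FC-EMB, FC-ORD and F-CENT (`field_fix_form`) as hypotheses -/
theorem field_noCore_generic_of (hF : Fintype.card F = q ^ 2) (hn : 3 ≤ n)
    {q₀ p : ℕ} [Fact p.Prime] (hp2 : p ≠ 2)
    (hq₀ : q = q₀ ^ p) (σ : F ≃+* F) (hσ : orderOf σ = p) (h32' : ¬ (n = 3 ∧ q₀ = 2))
    (hEMB : ∃ f : ↥(SU n (FixedPoints.subfield (Subgroup.zpowers σ) F) q₀) →* ↥(SU n F q),
      (∀ s, suMat (f s) = (suMat s).map (FixedPoints.subfield (Subgroup.zpowers σ) F).subtype) ∧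
      ∀ t : ↥(SU n F q), fieldSU σ t = t ↔ t ∈ f.range)
    (hORD : ∃ t : ↥(SU n F q), fieldSU σ t = t ∧ orderOf (QuotientGroup.mk t : PSU n F q) = p)
    (hFORM : ∀ a : MulAut (PSU n F q),
      (∀ s : ↥(SU n F q), fieldSU σ s = s → a (QuotientGroup.mk s) = QuotientGroup.mk s) →
      ∃ τ : F ≃+* F, a = fieldPSU τ ∧ ∀ x : F, σ x = x → τ x = x) :
    NoCore p (fieldPSU σ : MulAut (PSU n F q)) := by
  classical
  have hp : p.Prime := Fact.out
  obtain ⟨hK₀card, hpow⟩ := PSUF.fixed_data hF hp hp2 hq₀ σ hσ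
  obtain ⟨f, hf1, hf2⟩ := hEMB
  obtain ⟨φ, hφ⟩ : ∃ φ : ↥(SU n (FixedPoints.subfield (Subgroup.zpowers σ) F) q₀) →* PSU n F q,
      ∀ s, φ s = QuotientGroup.mk (f s) :=
    ⟨(QuotientGroup.mk' (Subgroup.center ↥(SU n F q))).comp f, fun s => rfl⟩
  apply noCore_of_simple (fieldPSU σ) φ.range
  · -- the range is fixed
    rintro _ ⟨s, rfl⟩
    rw [hφ, fieldPSU_mk, (hf2 (f s)).mpr ⟨s, rfl⟩]
  · -- the fixed points normalise the range
    intro k hk e he
    obtain ⟨s, rfl⟩ := he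
    obtain ⟨t, rfl⟩ := QuotientGroup.mk_surjective k
    rw [fieldPSU_mk, QuotientGroup.eq] at hk
    obtain ⟨z, hzdef⟩ : ∃ z : ↥(SU n F q), z = (fieldSU σ t)⁻¹ * t := ⟨_, rfl⟩
    rw [← hzdef] at hk
    have hz : ∀ x : ↥(SU n F q), z * x = x * z := fun x =>
      (Subgroup.mem_center_iff.mp hk x).symm
    have hτt : fieldSU σ t = t * z⁻¹ := by
      rw [hzdef]
      group
    have hfs : fieldSU σ (f s) = f s := (hf2 (f s)).mpr ⟨s, rfl⟩
    have hfix : fieldSU σ (t * f s * t⁻¹) = t * f s * t⁻¹ := by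
      calc fieldSU σ (t * f s * t⁻¹)
          = fieldSU σ t * fieldSU σ (f s) * (fieldSU σ t)⁻¹ := by
            rw [map_mul, map_mul, map_inv]
        _ = t * z⁻¹ * f s * (t * z⁻¹)⁻¹ := by rw [hτt, hfs]
        _ = t * (z⁻¹ * f s * z) * t⁻¹ := by group
        _ = t * f s * t⁻¹ := by rw [mul_assoc z⁻¹, ← hz (f s), inv_mul_cancel_left]
    obtain ⟨s', hs'⟩ := (hf2 _).mp hfix
    refine ⟨s', ?_⟩
    rw [hφ, hs', hφ]
    rfl
  · -- simplicity
    intro M hM
    let _ : Fintype ↥(FixedPoints.subfield (Subgroup.zpowers σ) F) := Fintype.ofFinite _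
    have hK₀' : Fintype.card ↥(FixedPoints.subfield (Subgroup.zpowers σ) F) = q₀ ^ 2 := by
      rw [← Nat.card_eq_fintype_card]
      exact hK₀card
    have hZ : Subgroup.center ↥(SU n (FixedPoints.subfield (Subgroup.zpowers σ) F) q₀)
        ≤ φ.ker := by
      intro z hz
      rw [MonoidHom.mem_ker, hφ, QuotientGroup.eq_one_iff]
      obtain ⟨ζ, hζ⟩ := central_scalar hK₀' ⟨0, by omega⟩ z hz
      apply scalar_mem_center_SU (f z) (ζ : F)
      rw [hf1]
      have hζ' : suMat z = ζ • (1 : Matrix (Fin n) (Fin n) _) := hζ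
      rw [hζ']
      ext i j
      simp only [Matrix.map_apply, Matrix.smul_apply, Matrix.one_apply, smul_eq_mul]
      split_ifs <;> simp
    exact range_simple φ _ hZ (Cfsg.Agent.S0283.result hK₀' n hn h32') M hM
  · -- an element of order `p`
    obtain ⟨t, ht1, ht2⟩ := hORD
    obtain ⟨s, rfl⟩ := (hf2 t).mp ht1
    exact ⟨φ s, ⟨s, rfl⟩, by rw [hφ]; exact ht2⟩
  · -- the centraliser
    intro k hk hcop hcomm
    obtain ⟨t, rfl⟩ := QuotientGroup.mk_surjective k
    obtain ⟨τ, hτ, -⟩ := hFORM (MulAut.conj (QuotientGroup.mk t)) (fun s hs => by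
      rw [MulAut.conj_apply]
      obtain ⟨s₀, rfl⟩ := (hf2 s).mp hs
      have h5 := hcomm (QuotientGroup.mk (f s₀)) ⟨s₀, hφ s₀⟩
      rw [h5, mul_inv_cancel_right])
    obtain ⟨g, hg⟩ := Cfsg.Agent.Lib.helper17.exists_gu_of_preserves hF n (suMat t)
      (Cfsg.Agent.Lib.helper99.suMat_isIsom t)
    have hconj := PSUF.conj_eq_phi' hF t g hg
    have hτ1 : τ = 1 := field_not_inner hF hn g τ (by rw [← hconj, hτ])
    apply conj_eq_one_PSU hF hn t
    rw [hτ, hτ1, fieldPSU_one]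

end Cfsg.Agent.Lib.helper49.S2687
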