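import Cfsg.Agent.Lib.helper48.LBRefl
import Cfsg.Agent.Lib.helper50.PSUTransfer
import Cfsg.Agent.Lib.helper50.PSUF4
import Cfsg.Agent.Lib.helper48.PSUOut
import Cfsg.Agent.S0283
import Cfsg.Agent.Lib.helper49.S2687FCGENa
import Cfsg.Agent.Lib.helper57.S2687FCEMB
import Cfsg.Agent.Lib.helper57.S2687FCORDa
import Cfsg.Agent.Lib.helper39.S2687FCCNT
import Cfsg.Agent.Lib.helper80.S2687FCENT

/-!
# S2687, piece FC-GEN: `NoCore` for field automorphisms of odd prime order of `PSU_n(q)`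
(generic case, the fixed points being `PSU_n(q₀)`-like with `(n, q₀) ≠ (3, 2)`)

Final wrapper: `field_noCore_generic_of` (`S2687FCGENa`) fed with the pieces FC-EMB, FC-ORD
(core + FC-CNT) and F-CENT.
-/

set_option autoImplicit false

namespace Cfsg.Agent.Lib.helper49.S2687

open Matrix Cfsg
open Cfsg.Agent.Lib.helper50
open Cfsg.Agent.Lib.helper48.LB
open Cfsg.Agent.Lib.helper48.AbsBal (fixG)
open Cfsg.Agent.Lib.helper99 (suMat)

universe u v

variable {n q : ℕ} {F : Type u} [Field F] [Fintype F]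

/-- **Piece FC-GEN of S2687.** -/
theorem field_noCore_generic (hF : Fintype.card F = q ^ 2) (hn : 3 ≤ n) (h32 : ¬ (n = 3 ∧ q = 2))
    {r f : ℕ} [Fact r.Prime] (hq : q = r ^ f) (hf : 1 ≤ f) {q₀ p : ℕ} [Fact p.Prime] (hp2 : p ≠ 2)
    (hq₀ : q = q₀ ^ p) (σ : F ≃+* F) (hσ : orderOf σ = p) (h32' : ¬ (n = 3 ∧ q₀ = 2))
    (hdvd : p ∣ Nat.card (fixG (fieldPSU σ : MulAut (PSU n F q)))) :
    NoCore p (fieldPSU σ : MulAut (PSU n F q)) :=
  field_noCore_generic_of hF hn hp2 hq₀ σ hσ h32'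
    (Cfsg.Agent.Lib.helper57.S2687.exists_subfield_emb hF Fact.out hp2 hq₀ σ hσ n)
    (Cfsg.Agent.Lib.helper57.S2687.exists_fixed_order_of hF hn hp2 hq₀ σ hσ
      (Cfsg.Agent.Lib.helper39.S2687.card_fix_dvd hF hn Fact.out hp2 hq₀ σ hσ) hdvd)
    (fun a hfix =>
      Cfsg.Agent.Lib.helper80.S2687.field_fix_form hF hn h32 hq hf Fact.out hp2 hq₀ σ hσ a hfix)

end Cfsg.Agent.Lib.helper49.S2687
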