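import Mathlib
import Cfsg.Agent.Lib.helper37.ThreeCyc

/-!
# S2930 pieces A1, A2, A3 (helper49)
-/

set_option autoImplicit false
open Equiv Equiv.Perm

namespace Cfsg.Agent.Lib.helper49.S2930

open Cfsg.Agent.Lib.helper37

/-- PIECE A1. -/
theorem full_univ_top (n : ℕ) (M : Subgroup (Perm (Fin n)))
    (h : Full M (Finset.univ : Finset (Fin n))) : alternatingGroup (Fin n) ≤ M := by
  rw [← Equiv.Perm.closure_three_cycles_eq_alternating, Subgroup.closure_le]
  intro g hg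
  obtain ⟨a, b, c, hab, hac, hbc, rfl⟩ := exists_c3_of_isThreeCycle (show IsThreeCycle g from hg)
  exact h a b c (Finset.mem_univ _) (Finset.mem_univ _) (Finset.mem_univ _) hab hac hbc

theorem h49_full_union_aux (n : ℕ) (M : Subgroup (Perm (Fin n))) (Γ₁ Γ₂ : Finset (Fin n))
    (h₁ : Full M Γ₁) (h₂ : Full M Γ₂) (c₁ : 3 ≤ Γ₁.card) (c₂ : 3 ≤ Γ₂.card)
    (x : Fin n) (hx1 : x ∈ Γ₁) (hx2 : x ∈ Γ₂) (T : Finset (Fin n)) :
    T ⊆ Γ₂ → ∃ Δ : Finset (Fin n), Full M Δ ∧ Γ₁ ⊆ Δ ∧ T ⊆ Δ ∧ Δ ⊆ Γ₁ ∪ Γ₂ := by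
  classical
  induction T using Finset.induction_on with
  | empty =>
    intro _
    exact ⟨Γ₁, h₁, Finset.Subset.refl _, Finset.empty_subset _, Finset.subset_union_left⟩
  | insert y T hy ih =>
    intro hT
    have hyΓ : y ∈ Γ₂ := hT (Finset.mem_insert_self y T)
    obtain ⟨Δ, hΔ, h1Δ, hTΔ, hΔu⟩ := ih (fun t ht => hT (Finset.mem_insert_of_mem ht))
    by_cases hyx : y = x
    · refine ⟨Δ, hΔ, h1Δ, ?_, hΔu⟩
      intro t ht
      rw [Finset.mem_insert] at ht
      rcases ht with rfl | ht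
      · rw [hyx]; exact h1Δ hx1
      · exact hTΔ ht
    · obtain ⟨w, hw, hwx⟩ : ∃ w ∈ Γ₂.erase y, w ≠ x :=
        Finset.exists_mem_ne (by rw [Finset.card_erase_of_mem hyΓ]; omega) x
      rw [Finset.mem_erase] at hw
      obtain ⟨hwy, hwΓ⟩ := hw
      have hxy : x ≠ y := fun h => hyx h.symm
      have hxw : x ≠ w := fun h => hwx h.symm
      have hyw : y ≠ w := fun h => hwy h.symm
      have ht : c3 x y w ∈ M := h₂ x y w hx2 hyΓ hwΓ hxy hxw hyw
      have hc : 3 ≤ Δ.card := le_trans c₁ (Finset.card_le_card h1Δ)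
      refine ⟨Δ ∪ {x, y, w}, full_union hΔ hc hxy hxw hyw ht (Or.inl (h1Δ hx1)),
        fun t ht => Finset.mem_union_left _ (h1Δ ht), ?_, ?_⟩
      · intro t ht
        rw [Finset.mem_insert] at ht
        rcases ht with rfl | ht
        · apply Finset.mem_union_right
          simp
        · exact Finset.mem_union_left _ (hTΔ ht)
      · intro t ht
        rw [Finset.mem_union] at ht
        rcases ht with ht | ht
        · exact hΔu ht
        · simp only [Finset.mem_insert, Finset.mem_singleton] at ht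
          rcases ht with rfl | rfl | rfl
          · exact Finset.mem_union_left _ hx1
          · exact Finset.mem_union_right _ hyΓ
          · exact Finset.mem_union_right _ hwΓ

/-- PIECE A2. -/
theorem full_union_meet (n : ℕ) (M : Subgroup (Perm (Fin n))) (Γ₁ Γ₂ : Finset (Fin n))
    (h₁ : Full M Γ₁) (h₂ : Full M Γ₂) (c₁ : 3 ≤ Γ₁.card) (c₂ : 3 ≤ Γ₂.card)
    (hmeet : (Γ₁ ∩ Γ₂).Nonempty) : Full M (Γ₁ ∪ Γ₂) := by
  classical
  obtain ⟨x, hx⟩ := hmeet
  rw [Finset.mem_inter] at hx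
  obtain ⟨Δ, hΔ, h1Δ, h2Δ, hΔu⟩ :=
    h49_full_union_aux n M Γ₁ Γ₂ h₁ h₂ c₁ c₂ x hx.1 hx.2 Γ₂ (Finset.Subset.refl _)
  have : Δ = Γ₁ ∪ Γ₂ := Finset.Subset.antisymm hΔu (Finset.union_subset h1Δ h2Δ)
  rw [← this]
  exact hΔ

/-- the setwise stabilizer of `s`, as the subgroup of permutations preserving membership. -/
def h49_setStab (n : ℕ) (s : Finset (Fin n)) : Subgroup (Perm (Fin n)) where
  carrier := {g | ∀ x, g x ∈ s ↔ x ∈ s}
  one_mem' := fun x => Iff.rfl
  mul_mem' := by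
    intro g h hg hh x
    rw [Perm.mul_apply]
    exact (hg (h x)).trans (hh x)
  inv_mem' := by
    intro g hg x
    have h := hg (g⁻¹ x)
    have h0 : g (g⁻¹ x) = x := by simp
    rw [h0] at h
    exact h.symm

theorem h49_mem_setStab (n : ℕ) (s : Finset (Fin n)) (g : Perm (Fin n)) :
    g ∈ h49_setStab n s ↔ ∀ x, g x ∈ s ↔ x ∈ s := Iff.rfl

theorem h49_c3_mem_setStab (n : ℕ) (s : Finset (Fin n)) (a b c : Fin n)
    (hab : a ≠ b) (hac : a ≠ c) (hbc : b ≠ c)
    (h : (a ∈ s ↔ b ∈ s) ∧ (b ∈ s ↔ c ∈ s)) : c3 a b c ∈ h49_setStab n s := by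
  rw [h49_mem_setStab]
  intro t
  by_cases hta : t = a
  · rw [hta, c3_apply_left hab hac]
    exact h.1.symm
  by_cases htb : t = b
  · rw [htb, c3_apply_mid hac hbc]
    exact h.2.symm
  by_cases htc : t = c
  · rw [htc, c3_apply_right]
    exact h.1.trans h.2
  rw [c3_apply_of_ne hta htb htc]

/-- PIECE A3. -/
theorem full_of_invariant (n : ℕ) (hn : 3 ≤ n) (P M : Subgroup (Perm (Fin n)))
    (hU : ∀ H : Subgroup (Perm (Fin n)), P ≤ H → ¬ alternatingGroup (Fin n) ≤ H →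
      H ⊓ alternatingGroup (Fin n) ≤ M)
    (s : Finset (Fin n)) (hs : ∀ g ∈ P, ∀ x ∈ s, g x ∈ s) (hs0 : s.Nonempty) (hs1 : sᶜ.Nonempty) :
    Full M s ∧ Full M sᶜ := by
  classical
  have hPH : P ≤ h49_setStab n s := by
    intro g hg
    rw [h49_mem_setStab]
    intro x
    constructor
    · intro hgx
      have h := hs g⁻¹ (P.inv_mem hg) (g x) hgx
      have h0 : g⁻¹ (g x) = x := by simp
      rw [h0] at h
      exact h
    · exact hs g hg x
  have hA : ¬ alternatingGroup (Fin n) ≤ h49_setStab n s := by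
    intro hle
    obtain ⟨x, hx⟩ := hs0
    obtain ⟨y, hy⟩ := hs1
    rw [Finset.mem_compl] at hy
    have hxy : x ≠ y := fun h => hy (h ▸ hx)
    obtain ⟨w, hw, hwy⟩ : ∃ w ∈ (Finset.univ : Finset (Fin n)).erase x, w ≠ y :=
      Finset.exists_mem_ne (by
        rw [Finset.card_erase_of_mem (Finset.mem_univ x), Finset.card_univ, Fintype.card_fin]
        omega) y
    rw [Finset.mem_erase] at hw
    have hxw : x ≠ w := fun h => hw.1 h.symm
    have hyw : y ≠ w := fun h => hwy h.symm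
    have h1 : c3 x y w ∈ alternatingGroup (Fin n) :=
      (isThreeCycle_c3 hxy hxw hyw).mem_alternatingGroup
    have h2 := (h49_mem_setStab n s _).mp (hle h1) x
    rw [c3_apply_left hxy hxw] at h2
    exact hy (h2.mpr hx)
  have hle := hU _ hPH hA
  constructor
  · intro a b c ha hb hc hab hac hbc
    apply hle
    refine Subgroup.mem_inf.mpr ⟨?_, (isThreeCycle_c3 hab hac hbc).mem_alternatingGroup⟩
    exact h49_c3_mem_setStab n s a b c hab hac hbc
      ⟨iff_of_true ha hb, iff_of_true hb hc⟩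
  · intro a b c ha hb hc hab hac hbc
    rw [Finset.mem_compl] at ha hb hc
    apply hle
    refine Subgroup.mem_inf.mpr ⟨?_, (isThreeCycle_c3 hab hac hbc).mem_alternatingGroup⟩
    exact h49_c3_mem_setStab n s a b c hab hac hbc
      ⟨iff_of_false ha hb, iff_of_false hb hc⟩

end Cfsg.Agent.Lib.helper49.S2930
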