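import Mathlib
import Cfsg.Agent.Lib.helper44.CubeDefs

/-!
# S3626 piece C8 (helper49): an element of order `(q + 1) / 2` in `affGrp K k`
-/

set_option autoImplicit false

namespace Cfsg.Agent.Lib.helper49.Cube

open Cfsg.Agent.Lib.helper44.Cube

variable {K : Type*} [Field K] [ExpChar K 3]

/-- the linear maps `X ↦ (g Xᵢ σ(g)⁻¹)ᵢ` -/
noncomputable def h49_lin (k : ℕ) (g : Matrix.SpecialLinearGroup (Fin 2) K) :
    Equiv.Perm (Fin k → Matrix (Fin 2) (Fin 2) K) :=
  affPerm (1 : K) (Or.inl rfl) g 0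

theorem h49_lin_apply (k : ℕ) (g : Matrix.SpecialLinearGroup (Fin 2) K)
    (X : Fin k → Matrix (Fin 2) (Fin 2) K) (i : Fin k) :
    h49_lin k g X i = twL 1 g (X i) := by
  unfold h49_lin
  rw [affPerm_apply, Pi.zero_apply, add_zero]

theorem h49_lin_mul (k : ℕ) (g g' : Matrix.SpecialLinearGroup (Fin 2) K) :
    h49_lin k (g * g') = h49_lin k g * h49_lin k g' := by
  apply Equiv.ext
  intro X
  funext i
  rw [Equiv.Perm.mul_apply, h49_lin_apply, h49_lin_apply, h49_lin_apply, twL_twL, one_mul]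

theorem h49_lin_one (k : ℕ) : h49_lin (K := K) k 1 = 1 := by
  apply Equiv.ext
  intro X
  funext i
  rw [h49_lin_apply, twL_one, Equiv.Perm.one_apply]

theorem h49_lin_pow (k : ℕ) (g : Matrix.SpecialLinearGroup (Fin 2) K) (j : ℕ) :
    h49_lin k (g ^ j) = h49_lin k g ^ j := by
  induction j with
  | zero => rw [pow_zero, pow_zero, h49_lin_one]
  | succ j ih => rw [pow_succ, pow_succ, h49_lin_mul, ih]

theorem h49_sq_of_lin_eq_one (k : ℕ) (hk : 0 < k) (h : Matrix.SpecialLinearGroup (Fin 2) K)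
    (hh : h49_lin k h = 1) : h * h = 1 := by
  have key : ∀ Y : Matrix (Fin 2) (Fin 2) K, twL 1 h Y = Y := by
    intro Y
    have h0 := h49_lin_apply k h (fun _ => Y) ⟨0, hk⟩
    rw [hh, Equiv.Perm.one_apply] at h0
    exact h0.symm
  have h1 := key 1
  rw [twL_def, one_smul, Matrix.mul_one, ← Matrix.SpecialLinearGroup.coe_mul] at h1
  have h2 : h * (frobSL K h)⁻¹ = 1 := Subtype.ext h1
  have h3 : (frobSL K h)⁻¹ = h⁻¹ := (inv_eq_of_mul_eq_one_right h2).symm
  have comm : ∀ Y : Matrix (Fin 2) (Fin 2) K,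
      (h : Matrix (Fin 2) (Fin 2) K) * Y = Y * (h : Matrix (Fin 2) (Fin 2) K) := by
    intro Y
    have h4 := key Y
    rw [twL_def, one_smul, h3] at h4
    have h5 : ((h⁻¹ : Matrix.SpecialLinearGroup (Fin 2) K) : Matrix (Fin 2) (Fin 2) K) *
        (h : Matrix (Fin 2) (Fin 2) K) = 1 := by
      rw [← Matrix.SpecialLinearGroup.coe_mul, inv_mul_cancel, Matrix.SpecialLinearGroup.coe_one]
    calc (h : Matrix (Fin 2) (Fin 2) K) * Y
        = (h : Matrix (Fin 2) (Fin 2) K) * Y *
          (((h⁻¹ : Matrix.SpecialLinearGroup (Fin 2) K) : Matrix (Fin 2) (Fin 2) K) *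
            (h : Matrix (Fin 2) (Fin 2) K)) := by rw [h5, Matrix.mul_one]
      _ = (h : Matrix (Fin 2) (Fin 2) K) * Y *
          ((h⁻¹ : Matrix.SpecialLinearGroup (Fin 2) K) : Matrix (Fin 2) (Fin 2) K) *
            (h : Matrix (Fin 2) (Fin 2) K) := by rw [Matrix.mul_assoc _ _ (h : Matrix (Fin 2) (Fin 2) K)]
      _ = Y * (h : Matrix (Fin 2) (Fin 2) K) := by rw [h4]
  have c12 := comm !![0, 1; 0, 0]
  have c21 := comm !![0, 0; 1, 0]
  have e1 := congrFun (congrFun c12 0) 0
  have e2 := congrFun (congrFun c12 0) 1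
  have e3 := congrFun (congrFun c21 0) 0
  simp [Matrix.mul_apply, Fin.sum_univ_two] at e1 e2 e3
  have hdet := h.det_coe
  rw [Matrix.det_fin_two] at hdet
  rw [e3, ← e1, ← e2] at hdet
  apply Subtype.ext
  rw [Matrix.SpecialLinearGroup.coe_mul, Matrix.SpecialLinearGroup.coe_one]
  ext i j
  fin_cases i <;> fin_cases j <;>
    simp [Matrix.mul_apply, Fin.sum_univ_two, e3, ← e1, ← e2] <;> linear_combination hdet

theorem h49_coe_of_sq (h3 : (3 : K) = 0) (h : Matrix.SpecialLinearGroup (Fin 2) K)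
    (hh : h * h = 1) :
    (h : Matrix (Fin 2) (Fin 2) K) = 1 ∨ (h : Matrix (Fin 2) (Fin 2) K) = -1 := by
  have h2 : (2 : K) ≠ 0 := by
    intro h2
    have : (1 : K) = 0 := by linear_combination h3 - h2
    exact one_ne_zero this
  have hA : (h : Matrix (Fin 2) (Fin 2) K) * (h : Matrix (Fin 2) (Fin 2) K) = 1 := by
    rw [← Matrix.SpecialLinearGroup.coe_mul, hh, Matrix.SpecialLinearGroup.coe_one]
  have e00 := congrFun (congrFun hA 0) 0
  have e01 := congrFun (congrFun hA 0) 1
  have e10 := congrFun (congrFun hA 1) 0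
  have e11 := congrFun (congrFun hA 1) 1
  simp [Matrix.mul_apply, Fin.sum_univ_two] at e00 e01 e10 e11
  have hdet := h.det_coe
  rw [Matrix.det_fin_two] at hdet
  set a := (h : Matrix (Fin 2) (Fin 2) K) 0 0 with ha
  set b := (h : Matrix (Fin 2) (Fin 2) K) 0 1 with hb
  set c := (h : Matrix (Fin 2) (Fin 2) K) 1 0 with hc
  set d := (h : Matrix (Fin 2) (Fin 2) K) 1 1 with hd
  have hsum : a + d ≠ 0 := by
    intro hs
    apply h2
    have hd' : d = -a := by linear_combination hs
    rw [hd'] at hdet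
    linear_combination -(e00 + hdet)
  have hb0 : b = 0 := by
    have : b * (a + d) = 0 := by linear_combination e01
    rcases mul_eq_zero.mp this with h | h
    · exact h
    · exact absurd h hsum
  have hc0 : c = 0 := by
    have : c * (a + d) = 0 := by linear_combination e10
    rcases mul_eq_zero.mp this with h | h
    · exact h
    · exact absurd h hsum
  rw [hb0, hc0] at hdet e00
  have haa : (a - 1) * (a + 1) = 0 := by linear_combination e00
  have ha0 : a ≠ 0 := by
    intro h0
    rw [h0] at hdet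
    simp at hdet
  have hda : d = a := by
    have : a * (d - a) = 0 := by linear_combination hdet - e00
    rcases mul_eq_zero.mp this with h | h
    · exact absurd h ha0
    · linear_combination h
  rcases mul_eq_zero.mp haa with h1 | h1
  · left
    have ha1 : a = 1 := by linear_combination h1
    ext i j
    fin_cases i <;> fin_cases j
    · simpa using ha1
    · simpa using hb0
    · simpa using hc0
    · simpa using hda.trans ha1
  · right
    have ha1 : a = -1 := by linear_combination h1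
    ext i j
    fin_cases i <;> fin_cases j
    · simpa using ha1
    · simpa using hb0
    · simpa using hc0
    · simpa using hda.trans ha1

theorem h49_lin_eq_one_of_neg (k : ℕ) (h : Matrix.SpecialLinearGroup (Fin 2) K)
    (hh : (h : Matrix (Fin 2) (Fin 2) K) = -1) : h49_lin k h = 1 := by
  have hsq : h * h = 1 := by
    apply Subtype.ext
    rw [Matrix.SpecialLinearGroup.coe_mul, Matrix.SpecialLinearGroup.coe_one, hh]
    simp
  have hinv : h⁻¹ = h := inv_eq_of_mul_eq_one_right hsq
  have hfrob : frobSL K h = h := by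
    apply Subtype.ext
    unfold frobSL
    rw [Matrix.SpecialLinearGroup.map_apply_coe, hh]
    ext i j
    fin_cases i <;> fin_cases j <;> simp [frobenius_def] <;> ring
  apply Equiv.ext
  intro X
  funext i
  rw [h49_lin_apply, twL_def, hfrob, hinv, hh, one_smul, Equiv.Perm.one_apply]
  simp

/-- PIECE C8. -/
theorem exists_order_half {K : Type*} [Field K] [ExpChar K 3] (h3 : (3 : K) = 0) (t : ℕ)
    (g₁ : Matrix.SpecialLinearGroup (Fin 2) K) (hg₁ : orderOf g₁ = 8 * t + 4) (k : ℕ) (hk : 0 < k) :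
    ∃ f ∈ affGrp K k, orderOf f = 4 * t + 2 := by
  refine ⟨h49_lin k g₁, affPerm_mem _ _ _ _, ?_⟩
  rw [orderOf_eq_iff (by omega)]
  constructor
  · rw [← h49_lin_pow]
    have hsq : g₁ ^ (4 * t + 2) * g₁ ^ (4 * t + 2) = 1 := by
      rw [← pow_add, show 4 * t + 2 + (4 * t + 2) = 8 * t + 4 by ring, ← hg₁, pow_orderOf_eq_one]
    have hne : g₁ ^ (4 * t + 2) ≠ 1 :=
      pow_ne_one_of_lt_orderOf (by omega) (by rw [hg₁]; omega)
    rcases h49_coe_of_sq h3 _ hsq with h1 | h1
    · exact absurd (Subtype.ext h1) hne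
    · exact h49_lin_eq_one_of_neg k _ h1
  · intro m hm hm0 hcon
    rw [← h49_lin_pow] at hcon
    have hsq := h49_sq_of_lin_eq_one k hk _ hcon
    rw [← pow_add] at hsq
    have hdvd := orderOf_dvd_of_pow_eq_one hsq
    rw [hg₁] at hdvd
    have := Nat.le_of_dvd (by omega) hdvd
    omega

end Cfsg.Agent.Lib.helper49.Cube
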