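import Mathlib

set_option autoImplicit false

namespace Cfsg.Agent.Lib.helper89.S60

theorem h49_two_mul_card_of_index_two {X : Type*} [Group X] [Finite X] (K : Subgroup X)
    (hK : K ≠ ⊤) (h : ∀ a b : X, a ∉ K → b ∉ K → a⁻¹ * b ∈ K) : 2 * Nat.card K = Nat.card X := by
  obtain ⟨g₀, hg₀⟩ : ∃ g₀, g₀ ∉ K := by
    by_contra hcon
    push Not at hcon
    exact hK (eq_top_iff.2 (fun x _ => hcon x))
  have hidx : K.index = 2 := by
    rw [Subgroup.index_eq_two_iff]
    refine ⟨g₀⁻¹, fun b => ?_⟩
    by_cases hb : b ∈ K
    · refine Or.inr ⟨hb, fun hbg => ?_⟩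
      have h1 : g₀⁻¹ ∈ K := by
        have h2 := K.mul_mem (K.inv_mem hb) hbg
        simpa using h2
      exact hg₀ (by simpa using K.inv_mem h1)
    · refine Or.inl ⟨?_, hb⟩
      have h2 := h b⁻¹ g₀⁻¹ (fun hh => hb (by simpa using K.inv_mem hh))
        (fun hh => hg₀ (by simpa using K.inv_mem hh))
      simpa using h2
  have h3 := K.card_mul_index
  rw [hidx] at h3
  omega

theorem h49_sum_ite {X : Type*} [Fintype X] (P : X → Prop) [DecidablePred P] :
    ∑ x : X, (if P x then 2 else 1) = Nat.card X + Nat.card {x : X // P x} := by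
  have h1 : ∀ x : X, (if P x then 2 else 1) = 1 + (if P x then 1 else 0) := by
    intro x; split_ifs <;> rfl
  simp only [h1, Finset.sum_add_distrib, Nat.card_eq_fintype_card, Fintype.card_subtype,
    Finset.card_filter]
  simp

theorem h49_comm_count {G : Type*} [Group G] [Finite G] (T : Subgroup G) (hZ : Subgroup.center G ≤ T)
    (H1 : ∀ t ∈ T, ∀ g h : G, ¬ Commute t g → ¬ Commute t h → Commute t (g⁻¹ * h))
    (H2 : ∀ g : G, ∀ s ∈ T, ∀ t ∈ T, ¬ Commute s g → ¬ Commute t g → Commute (s⁻¹ * t) g) :
    Nat.card (Subgroup.center G) * Nat.card G =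
      Nat.card (Subgroup.centralizer (T : Set G)) * Nat.card T := by
  classical
  have := Fintype.ofFinite G
  -- rows
  have hrow : ∀ t : T, 2 * Nat.card {g : G // Commute (t : G) g} =
      Nat.card G * (if (t : G) ∈ Subgroup.center G then 2 else 1) := by
    intro t
    have e : Nat.card {g : G // Commute (t : G) g} =
        Nat.card (Subgroup.centralizer ({(t : G)} : Set G)) := by
      apply Nat.card_congr
      exact Equiv.subtypeEquivRight (fun g => by
        rw [Subgroup.mem_centralizer_singleton_iff]
        exact ⟨fun h => h.eq.symm, fun h => h.symm⟩)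
    rw [e]
    split_ifs with hc
    · have htop : Subgroup.centralizer ({(t : G)} : Set G) = ⊤ := by
        rw [eq_top_iff]; intro g _
        rw [Subgroup.mem_centralizer_singleton_iff]
        exact Subgroup.mem_center_iff.1 hc g
      rw [htop, Subgroup.card_top]; ring
    · have h2 := h49_two_mul_card_of_index_two (Subgroup.centralizer ({(t : G)} : Set G)) ?_ ?_
      · rw [h2]; ring
      · intro htop
        apply hc
        rw [Subgroup.mem_center_iff]
        intro g
        have hg : g ∈ Subgroup.centralizer ({(t : G)} : Set G) := htop ▸ Subgroup.mem_top g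
        exact Subgroup.mem_centralizer_singleton_iff.1 hg
      · intro a b ha hb
        rw [Subgroup.mem_centralizer_singleton_iff] at ha hb ⊢
        exact (H1 t t.2 a b (fun h => ha h.eq.symm) (fun h => hb h.eq.symm)).eq.symm
  -- columns
  have hcol : ∀ g : G, 2 * Nat.card {t : T // Commute (t : G) g} =
      Nat.card T * (if g ∈ Subgroup.centralizer (T : Set G) then 2 else 1) := by
    intro g
    have e : Nat.card {t : T // Commute (t : G) g} =
        Nat.card ((Subgroup.centralizer ({g} : Set G)).subgroupOf T) := by
      apply Nat.card_congr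
      exact Equiv.subtypeEquivRight (fun t => by
        rw [Subgroup.mem_subgroupOf, Subgroup.mem_centralizer_singleton_iff]
        exact ⟨fun h => h.eq, fun h => h⟩)
    rw [e]
    split_ifs with hc
    · have htop : (Subgroup.centralizer ({g} : Set G)).subgroupOf T = ⊤ := by
        rw [eq_top_iff]; intro t _
        rw [Subgroup.mem_subgroupOf, Subgroup.mem_centralizer_singleton_iff]
        exact (Subgroup.mem_centralizer_iff.1 hc (t : G) t.2)
      rw [htop, Subgroup.card_top]; ring
    · have h2 := h49_two_mul_card_of_index_two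
        ((Subgroup.centralizer ({g} : Set G)).subgroupOf T) ?_ ?_
      · rw [h2]; ring
      · intro htop
        apply hc
        rw [Subgroup.mem_centralizer_iff]
        intro t ht
        have ht' : (⟨t, ht⟩ : T) ∈ (Subgroup.centralizer ({g} : Set G)).subgroupOf T :=
          htop ▸ Subgroup.mem_top _
        rw [Subgroup.mem_subgroupOf, Subgroup.mem_centralizer_singleton_iff] at ht'
        exact ht'
      · intro a b ha hb
        rw [Subgroup.mem_subgroupOf, Subgroup.mem_centralizer_singleton_iff] at ha hb ⊢
        have := H2 g (a : G) a.2 (b : G) b.2 (fun h => ha h.eq) (fun h => hb h.eq)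
        simpa using this.eq
  -- double count
  have hA : ∑ t : T, Nat.card {g : G // Commute (t : G) g} =
      ∑ g : G, Nat.card {t : T // Commute (t : G) g} := by
    simp only [Nat.card_eq_fintype_card, Fintype.card_subtype, Finset.card_filter]
    exact Finset.sum_comm
  have hL : 2 * ∑ t : T, Nat.card {g : G // Commute (t : G) g} =
      Nat.card G * (Nat.card T + Nat.card (Subgroup.center G)) := by
    rw [Finset.mul_sum]
    simp only [hrow]
    rw [← Finset.mul_sum, h49_sum_ite]
    congr 2
    exact Nat.card_congr ((Subgroup.subgroupOfEquivOfLe hZ).toEquiv)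
  have hR : 2 * ∑ g : G, Nat.card {t : T // Commute (t : G) g} =
      Nat.card T * (Nat.card G + Nat.card (Subgroup.centralizer (T : Set G))) := by
    rw [Finset.mul_sum]
    simp only [hcol]
    rw [← Finset.mul_sum, h49_sum_ite]
  rw [hA, hR] at hL
  nlinarith [hL]

end Cfsg.Agent.Lib.helper89.S60
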