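import Mathlib
import Cfsg.Agent.Lib.helper70.SUWORB
import Cfsg.Agent.Lib.helper49.SPEDefs
import Cfsg.Agent.Lib.helper30.SPEARITH
import Cfsg.Agent.Lib.helper57.SPECASEE
import Cfsg.Agent.Lib.helper22.SPECASEH1
import Cfsg.Agent.Lib.helper28.SPECASEH2
import Cfsg.Agent.Lib.helper56.SPE_CHAR2
import Cfsg.Agent.Lib.helper37.SPEESTRUCT
import Cfsg.Agent.Lib.helper77.SPEGADD
import Cfsg.Agent.Lib.helper9.SPEGAM1
import Cfsg.Agent.Lib.helper94.SPEGAM2
import Cfsg.Agent.Lib.helper77.SPEGSYM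
import Cfsg.Agent.Lib.helper53.SPEHNE
import Cfsg.Agent.Lib.helper58.SPELEVI
import Cfsg.Agent.Lib.helper98.SPENC
import Cfsg.Agent.Lib.helper46.SPENT
import Cfsg.Agent.Lib.helper62.SPEPAIR
import Cfsg.Agent.Lib.helper97.SPEQINJ
import Cfsg.Agent.Lib.helper80.SPESYMS
import Cfsg.Agent.Lib.helper94.SPETHCARD
import Cfsg.Agent.Lib.helper43.SPEUADD
import Cfsg.Agent.Lib.helper43.SPEUMEM

/-! S2333 split (architect helper49): assembly of the pieces: the orbit bound `qf_orbit` and the degree bound `sp_even_bound`. -/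

set_option autoImplicit false

namespace Cfsg.Agent.Lib.helper49.SPE

open Matrix

/-! ## Assembly -/

/-- HORB: assembled (proved here from ESTRUCT, CASEE, CASEH1, CASEH2, THCARD, ARITH) -/
theorem qf_orbit {F : Type*} [Field F] [Fintype F] {n : ℕ} (hn : 2 ≤ n) (h2 : (2 : F) = 0)
    (S : Set ((Fin n → F) → F)) (hS : ∀ Q ∈ S, IsQF Q)
    (hstab : ∀ Q ∈ S, ∀ B : Matrix (Fin n) (Fin n) F, B.det ≠ 0 → (fun x => Q (B *ᵥ x)) ∈ S)
    (hne : ∃ Q ∈ S, ∃ u v : Fin n → F, polar Q u v ≠ 0) :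
    (Fintype.card F ^ n - 1) * (Fintype.card F ^ n - Fintype.card F) /
      (2 * (Fintype.card F + 1)) ≤ Nat.card S := by
  obtain ⟨Q, hQ, u₀, v₀, h0⟩ := hne
  by_cases hE : ∀ u, Q u = 0 → ∀ v, polar Q u v = 0
  · obtain ⟨a, b, c, l, m, hb, haniso, hind, hQx⟩ := ell_struct h2 Q (hS Q hQ) hE u₀ v₀ h0
    have hfun : (fun x => bq a b c (l ⬝ᵥ x) (m ⬝ᵥ x)) = Q := funext fun x => (hQx x).symm
    exact case_e h2 S hstab a b c hb haniso l m hind (hfun ▸ hQ)
  · push Not at hE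
    obtain ⟨u, hu, v, huv⟩ := hE
    have hcnt := case_h_count hn S
      (fun a b c hb habc r s => case_h_real hn h2 S hS hstab Q hQ u v hu huv a b c hb habc r s)
    have hT := card_hyp_triples (F := F) h2
    have hq : 2 ≤ Fintype.card F := Fintype.one_lt_card
    exact (arith_h _ n _ hq hn hT).trans hcnt

/-- the assembled bound (proved here from the pieces + the landed ORB piece of S2335) -/
theorem sp_even_bound {F : Type*} [Field F] [Fintype F] [DecidableEq F] {n : ℕ} (hn : 2 ≤ n)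
    (heven : Even (Fintype.card F)) (hex : (n, Fintype.card F) ≠ (2, 2)) {k : ℕ}
    (ρ : Representation ℂ ↥(Matrix.symplecticGroup (Fin n) F) (Fin k → ℂ))
    (hρ : ρ.IsIrreducible) (hk : 2 ≤ k) :
    (Fintype.card F ^ n - 1) * (Fintype.card F ^ n - Fintype.card F) /
      (2 * (Fintype.card F + 1)) ≤ k := by
  classical
  have h2 : (2 : F) = 0 := two_eq_zero heven
  obtain ⟨ψ, hψ⟩ := (AddChar.exists_apply_ne_zero (a := (1 : F))).mpr one_ne_zero
  letI : Fintype ↥(symH F n) := Fintype.ofFinite _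
  let u : ↥(symH F n) → ↥(Matrix.symplecticGroup (Fin n) F) := fun C =>
    ⟨uS C.1, uS_mem C.1 C.2⟩
  have hu : ∀ a b : ↥(symH F n), u (a + b) = u a * u b := by
    intro a b
    apply Subtype.ext
    exact uS_add a.1 b.1
  let e : ↥(symH F n) → ↥(symH F n) → ℂ := fun y a => ψ (gam y.1 a.1)
  have he0 : ∀ y, e y 0 = 1 := by
    intro y
    simp only [e]
    rw [AddSubgroup.coe_zero, (gam_add y.1 y.1 0 0).2.2, AddChar.map_zero_eq_one]
  have he_add : ∀ y a b, e y (a + b) = e y a * e y b := by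
    intro y a b
    simp only [e]
    rw [AddSubgroup.coe_add, (gam_add y.1 y.1 a.1 b.1).1, AddChar.map_add_eq_mul]
  have he_row : ∀ y y', y ≠ y' → ∑ a, e y a * (e y' a)⁻¹ = 0 := by
    intro y y' hyy
    have h := pair_orth ψ hψ (y.1 - y'.1) (sub_mem y.2 y'.2)
      (by intro h0; exact hyy (Subtype.ext (sub_eq_zero.1 h0)))
    rw [← h]
    apply Finset.sum_congr rfl
    intro a _
    simp only [e]
    rw [← AddChar.map_neg_eq_inv, ← AddChar.map_add_eq_mul, (gam_add y.1 y'.1 a.1 a.1).2.1,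
      sub_eq_add_neg]
  have he_col : ∀ a, a ≠ 0 → ∑ y, e y a = 0 := by
    intro a ha
    have h := pair_orth ψ hψ a.1 a.2 (by intro h0; exact ha (Subtype.ext h0))
    rw [← h]
    apply Finset.sum_congr rfl
    intro y _
    simp only [e]
    rw [gam_symm]
  obtain ⟨hcard, hnt⟩ :=
    Cfsg.Agent.Lib.helper44.SUW.orb_bound e he0 he_add he_row he_col u hu ρ
  set SA : Set ↥(symH F n) :=
    {y | ∃ w : Fin k → ℂ, w ≠ 0 ∧ ∀ a, ρ (u a) w = e y a • w} with hSA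
  let S : Set ((Fin n → F) → F) := (fun y : ↥(symH F n) => qfy y.1) '' SA
  have hS : ∀ Q ∈ S, IsQF Q := by
    rintro Q ⟨y, -, rfl⟩
    exact ⟨upT y.1, fun x => rfl⟩
  have hstab : ∀ Q ∈ S, ∀ B : Matrix (Fin n) (Fin n) F, B.det ≠ 0 →
      (fun x => Q (B *ᵥ x)) ∈ S := by
    rintro Q ⟨y, ⟨w, hw0, hw⟩, rfl⟩ B hB
    have hBu : IsUnit B.det := isUnit_iff_ne_zero.mpr hB
    have h1 : B * B⁻¹ = 1 := Matrix.mul_nonsing_inv B hBu
    have h1' : B⁻¹ * B = 1 := Matrix.nonsing_inv_mul B hBu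
    obtain ⟨hgm, hgc⟩ := lS_conj B B⁻¹ h1 h1'
    let g : ↥(Matrix.symplecticGroup (Fin n) F) := ⟨lS B B⁻¹, hgm⟩
    have hmemY : conjY B y.1 ∈ symH F n := (sym_conj B y.1 y.1 y.2).1
    refine ⟨⟨_, hmemY⟩, ⟨ρ g⁻¹ w, ?_, ?_⟩, ?_⟩
    · intro h0
      apply hw0
      have h3 : ρ g (ρ g⁻¹ w) = w := by
        rw [← Module.End.mul_apply, ← map_mul, mul_inv_cancel, map_one]
        rfl
      rw [← h3, h0, map_zero]
    · intro a
      have hmemC : B * a.1 * Bᵀ ∈ symH F n := (sym_conj B y.1 a.1 a.2).2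
      have hgu : g * u a = u ⟨_, hmemC⟩ * g := by
        apply Subtype.ext
        exact hgc a.1
      have hug : u a * g⁻¹ = g⁻¹ * u ⟨_, hmemC⟩ := by
        rw [eq_inv_mul_iff_mul_eq, ← mul_assoc, hgu, mul_assoc, mul_inv_cancel, mul_one]
      have hee : e y ⟨_, hmemC⟩ = e ⟨_, hmemY⟩ a := by
        simp only [e]
        rw [gam_conj B y.1 a.1 a.2]
      calc ρ (u a) (ρ g⁻¹ w) = ρ (u a * g⁻¹) w := by
            rw [map_mul]
            rfl
        _ = ρ (g⁻¹ * u ⟨_, hmemC⟩) w := by rw [hug]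
        _ = ρ g⁻¹ (ρ (u ⟨_, hmemC⟩) w) := by
            rw [map_mul]
            rfl
        _ = ρ g⁻¹ (e y ⟨_, hmemC⟩ • w) := by rw [hw]
        _ = e y ⟨_, hmemC⟩ • ρ g⁻¹ w := by rw [map_smul]
        _ = e ⟨_, hmemY⟩ a • ρ g⁻¹ w := by rw [hee]
    · funext x
      exact qfy_conj B y.1 x
  obtain ⟨M, hM, hMne⟩ := exists_noncomm (F := F) hn
  have ha01 : a01 F n ∈ symH F n := by
    intro i j
    have hiff : ((i.1 = 0 ∧ j.1 = 1) ∨ (i.1 = 1 ∧ j.1 = 0)) ↔
        ((j.1 = 0 ∧ i.1 = 1) ∨ (j.1 = 1 ∧ i.1 = 0)) := by tauto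
    exact if_congr hiff rfl rfl
  have hncen : u ⟨a01 F n, ha01⟩ ∉ Subgroup.center ↥(Matrix.symplecticGroup (Fin n) F) := by
    intro hcen
    have h3 := congrArg Subtype.val (Subgroup.mem_center_iff.1 hcen ⟨M, hM⟩)
    exact hMne h3
  have hne1 := rep_ne_one hn hex hk ρ hρ _ hncen
  obtain ⟨y, hyS, hy1⟩ := hnt ⟨a01 F n, ha01⟩ hne1
  have hne : ∃ Q ∈ S, ∃ u v : Fin n → F, polar Q u v ≠ 0 := by
    refine ⟨qfy y.1, ⟨y, hyS, rfl⟩, polar_ne hn y.1 ?_⟩
    intro h0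
    apply hy1
    simp only [e]
    rw [h0, AddChar.map_zero_eq_one]
  have hfin := qf_orbit hn h2 S hS hstab hne
  have hinj : Function.Injective (fun y : ↥(symH F n) => qfy y.1) := by
    intro y y' h
    exact Subtype.ext (h97_qfy_inj y.1 y'.1 y.2 y'.2 (fun x => congrFun h x))
  have hcardS : Nat.card S = Nat.card SA := Nat.card_image_of_injective hinj SA
  calc (Fintype.card F ^ n - 1) * (Fintype.card F ^ n - Fintype.card F) /
        (2 * (Fintype.card F + 1)) ≤ Nat.card S := hfin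
    _ = Nat.card SA := hcardS
    _ ≤ k := hcard

end Cfsg.Agent.Lib.helper49.SPE
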