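import Mathlib
import Cfsg.Agent.Lib.helper49.SPEDefs

/-! S2333 split, piece PAIRTR (racing copy by helper49, prefixed). -/

set_option autoImplicit false

namespace Cfsg.Agent.Lib.helper49.SPE

open Matrix

/-- PAIRTR (L), racing copy -/
theorem h49_pair_trans {F : Type*} [Field F] {n : ℕ} (u v u' v' : Fin n → F) (h : Indep u v)
    (h' : Indep u' v') :
    ∃ B : Matrix (Fin n) (Fin n) F, B.det ≠ 0 ∧ B *ᵥ u = u' ∧ B *ᵥ v = v' := by
  classical
  have hli : LinearIndependent F ![u, v] := LinearIndependent.pair_iff.mpr h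
  have hli' : LinearIndependent F ![u', v'] := LinearIndependent.pair_iff.mpr h'
  let b := Module.Basis.span hli
  let b' := Module.Basis.span hli'
  let f := b.equiv b' (Equiv.refl _)
  obtain ⟨g, hg⟩ := Submodule.exists_linearEquiv_restrict_eq f
  have hb0 : ((b 0 : ↥(Submodule.span F (Set.range ![u, v]))) : Fin n → F) = u := by
    simp only [b]
    rw [Module.Basis.span_apply]
    rfl
  have hb1 : ((b 1 : ↥(Submodule.span F (Set.range ![u, v]))) : Fin n → F) = v := by
    simp only [b]
    rw [Module.Basis.span_apply]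
    rfl
  have hb0' : ((b' 0 : ↥(Submodule.span F (Set.range ![u', v']))) : Fin n → F) = u' := by
    simp only [b']
    rw [Module.Basis.span_apply]
    rfl
  have hb1' : ((b' 1 : ↥(Submodule.span F (Set.range ![u', v']))) : Fin n → F) = v' := by
    simp only [b']
    rw [Module.Basis.span_apply]
    rfl
  have hgu : g u = u' := by
    have h1 := hg (b 0)
    rw [hb0] at h1
    rw [← h1]
    simp only [f]
    rw [Module.Basis.equiv_apply]
    exact hb0'
  have hgv : g v = v' := by
    have h1 := hg (b 1)
    rw [hb1] at h1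
    rw [← h1]
    simp only [f]
    rw [Module.Basis.equiv_apply]
    exact hb1'
  refine ⟨LinearMap.toMatrix' g.toLinearMap, ?_, ?_, ?_⟩
  · intro hdet
    have h1 : LinearMap.toMatrix' g.toLinearMap * LinearMap.toMatrix' g.symm.toLinearMap = 1 := by
      rw [← LinearMap.toMatrix'_comp]
      have : g.toLinearMap ∘ₗ g.symm.toLinearMap = LinearMap.id := by
        ext x
        simp
      rw [this, LinearMap.toMatrix'_id]
    have h2 := congrArg Matrix.det h1
    rw [Matrix.det_mul, hdet, zero_mul, Matrix.det_one] at h2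
    exact zero_ne_one h2
  · rw [LinearMap.toMatrix'_mulVec]
    exact hgu
  · rw [LinearMap.toMatrix'_mulVec]
    exact hgv

end Cfsg.Agent.Lib.helper49.SPE
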