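import Mathlib
import Cfsg.Agent.Lib.helper24.SfoDefs

set_option autoImplicit false

namespace Cfsg.Agent.Lib.helper24

open Module Matrix Cfsg.Geo

/-- the pairing involution `2k ↔ 2k+1` on `Fin n`, `n` even -/
def h49_tau {n : ℕ} (hn : Even n) (i : Fin n) : Fin n :=
  ⟨if i.val % 2 = 0 then i.val + 1 else i.val - 1, by
    obtain ⟨k, hk⟩ := hn
    have := i.2
    split_ifs <;> omega⟩

theorem h49_tau_val {n : ℕ} (hn : Even n) (i : Fin n) :
    (h49_tau hn i).val = if i.val % 2 = 0 then i.val + 1 else i.val - 1 := rfl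

theorem h49_tau_tau {n : ℕ} (hn : Even n) (i : Fin n) : h49_tau hn (h49_tau hn i) = i := by
  apply Fin.ext
  rw [h49_tau_val, h49_tau_val]
  have := i.2
  split_ifs <;> omega

theorem h49_tau_par {n : ℕ} (hn : Even n) (i : Fin n) :
    ((h49_tau hn i).val % 2 = 0) ↔ ¬ (i.val % 2 = 0) := by
  rw [h49_tau_val]
  split_ifs <;> omega

/-- coordinate version: a matrix `M` with `M² = z` scaling the diagonal form `∑ dᵢ yᵢ²` by `z` -/
theorem h49_sim_coord {F : Type*} [Field F] {n : ℕ} (hn : Even n) (d : Fin n → F)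
    (hd : ∀ i, d i ≠ 0) (z : F)
    (hBR : ∀ a b t : F, a ≠ 0 → b ≠ 0 → ∃ x y : F, a * x ^ 2 + b * y ^ 2 = t) :
    ∃ M : Matrix (Fin n) (Fin n) F, M * M = z • (1 : Matrix (Fin n) (Fin n) F) ∧
      ∀ y : Fin n → F, ∑ i, d i * (M *ᵥ y) i ^ 2 = z * ∑ i, d i * y i ^ 2 := by
  classical
  obtain ⟨τ, hτ⟩ : ∃ τ : Fin n → Fin n, τ = h49_tau hn := ⟨_, rfl⟩
  have hττ : ∀ i, τ (τ i) = i := by intro i; rw [hτ]; exact h49_tau_tau hn i
  have hpar : ∀ i, ((τ i).val % 2 = 0) ↔ ¬ (i.val % 2 = 0) := by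
    intro i; rw [hτ]; exact h49_tau_par hn i
  have hch : ∀ i, ∃ p : F × F, d i * p.1 ^ 2 + d (τ i) * p.2 ^ 2 = z * d i := by
    intro i
    obtain ⟨x, y, h⟩ := hBR (d i) (d (τ i)) (z * d i) (hd i) (hd _)
    exact ⟨(x, y), h⟩
  choose p hp using hch
  obtain ⟨a, ha⟩ : ∃ a : Fin n → F, a = fun i => if i.val % 2 = 0 then (p i).1 else -(p (τ i)).1 :=
    ⟨_, rfl⟩
  obtain ⟨b, hb⟩ : ∃ b : Fin n → F,
      b = fun i => if i.val % 2 = 0 then (p i).2 else d i * (p (τ i)).2 / d (τ i) := ⟨_, rfl⟩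
  have h1 : ∀ i, a (τ i) = - a i := by
    intro i
    by_cases hi : i.val % 2 = 0
    · have hti : ¬ ((τ i).val % 2 = 0) := fun h => (hpar i).mp h hi
      simp only [ha, hi, hti, if_true, if_false, hττ]
    · have hti : (τ i).val % 2 = 0 := (hpar i).mpr hi
      simp only [ha, hi, hti, if_true, if_false, neg_neg]
  have h2' : ∀ i, d i * b (τ i) = d (τ i) * b i := by
    intro i
    have hdi := hd i
    have hdt := hd (τ i)
    by_cases hi : i.val % 2 = 0
    · have hti : ¬ ((τ i).val % 2 = 0) := fun h => (hpar i).mp h hi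
      simp only [hb, hi, hti, if_true, if_false, hττ]
      field_simp
    · have hti : (τ i).val % 2 = 0 := (hpar i).mpr hi
      simp only [hb, hi, hti, if_true, if_false]
      field_simp
  have h3 : ∀ i, d i * a i ^ 2 + d (τ i) * b i ^ 2 = z * d i := by
    intro i
    have hdi := hd i
    have hdt := hd (τ i)
    by_cases hi : i.val % 2 = 0
    · simp only [ha, hb, hi, if_true]
      exact hp i
    · have hti : (τ i).val % 2 = 0 := (hpar i).mpr hi
      simp only [ha, hb, hi, if_false]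
      have h := hp (τ i)
      rw [hττ] at h
      field_simp
      linear_combination h
  have h4 : ∀ i, a i ^ 2 + b (τ i) * b i = z := by
    intro i
    apply mul_left_cancel₀ (hd i)
    linear_combination h3 i + b i * h2' i
  obtain ⟨M, hM⟩ : ∃ M : Matrix (Fin n) (Fin n) F,
      M = Matrix.diagonal a + Matrix.of (fun i j => if j = τ i then b j else 0) := ⟨_, rfl⟩
  have hMv : ∀ (y : Fin n → F) (i : Fin n), (M *ᵥ y) i = a i * y i + b (τ i) * y (τ i) := by
    intro y i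
    rw [hM, Matrix.add_mulVec, Pi.add_apply, Matrix.mulVec_diagonal]
    congr 1
    simp only [Matrix.mulVec, dotProduct, Matrix.of_apply, ite_mul, zero_mul]
    rw [Finset.sum_ite_eq' Finset.univ (τ i) (fun j => b j * y j)]
    simp
  refine ⟨M, ?_, ?_⟩
  · apply Matrix.toLin'.injective
    apply LinearMap.ext
    intro y
    rw [Matrix.toLin'_apply, Matrix.toLin'_apply, ← Matrix.mulVec_mulVec, Matrix.smul_mulVec,
      Matrix.one_mulVec]
    funext i
    rw [hMv, hMv, hMv, hττ, h1, Pi.smul_apply, smul_eq_mul]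
    linear_combination (y i) * h4 i
  · intro y
    obtain ⟨f, hf⟩ : ∃ f : Fin n → F, f = fun i => d i * a i ^ 2 * y i ^ 2 := ⟨_, rfl⟩
    obtain ⟨g, hg⟩ : ∃ g : Fin n → F, g = fun i => d (τ i) * b i ^ 2 * y i ^ 2 := ⟨_, rfl⟩
    obtain ⟨c, hc⟩ : ∃ c : Fin n → F, c = fun i => d i * a i * b (τ i) * y i * y (τ i) := ⟨_, rfl⟩
    have key : ∀ i, d i * (M *ᵥ y) i ^ 2 = f i + g (τ i) + (c i + c i) := by
      intro i
      rw [hMv, hf, hg, hc]
      simp only [hττ]
      ring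
    have hcτ : ∀ i, c (τ i) = - c i := by
      intro i
      rw [hc]
      simp only [hττ, h1]
      linear_combination (a i * y i * y (τ i)) * h2' i
    let e : Fin n ≃ Fin n := ⟨τ, τ, hττ, hττ⟩
    have hsg : ∑ i, g (τ i) = ∑ i, g i := Equiv.sum_comp e g
    have hsc : ∑ i, c (τ i) = ∑ i, c i := Equiv.sum_comp e c
    have hsc0 : ∑ i, (c i + c i) = 0 := by
      rw [Finset.sum_add_distrib]
      nth_rewrite 2 [← hsc]
      rw [← Finset.sum_add_distrib]
      apply Finset.sum_eq_zero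
      intro i _
      rw [hcτ]; ring
    have hfg : ∀ i, f i + g i = z * (d i * y i ^ 2) := by
      intro i
      rw [hf, hg]
      linear_combination (y i ^ 2) * h3 i
    calc ∑ i, d i * (M *ᵥ y) i ^ 2 = ∑ i, (f i + g (τ i) + (c i + c i)) :=
          Finset.sum_congr rfl (fun i _ => key i)
      _ = ∑ i, f i + ∑ i, g (τ i) + ∑ i, (c i + c i) := by
          rw [Finset.sum_add_distrib, Finset.sum_add_distrib]
      _ = ∑ i, f i + ∑ i, g i := by rw [hsg, hsc0, add_zero]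
      _ = ∑ i, (f i + g i) := by rw [Finset.sum_add_distrib]
      _ = ∑ i, z * (d i * y i ^ 2) := Finset.sum_congr rfl (fun i _ => hfg i)
      _ = z * ∑ i, d i * y i ^ 2 := by rw [Finset.mul_sum]

/-- the form in the coordinates of an orthogonal family -/
theorem h49_orth_coord {F : Type*} [Field F] {n : ℕ} (Q : (Fin n → F) → F)
    (hQ : IsNondegenerateQuadraticForm Q) (e : Fin n → (Fin n → F))
    (horth : ∀ i j, i ≠ j → QuadraticMap.polar Q (e i) (e j) = 0) (w : Fin n → F) :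
    Q (∑ j, w j • e j) = ∑ j, Q (e j) * w j ^ 2 := by
  classical
  have hQ0 : Q 0 = 0 := by
    have := hQ.smul 0 0
    simpa using this
  have hB := hQ.polar_bilinear
  have hB0 : ∀ v, QuadraticMap.polar Q v 0 = 0 := by
    intro v
    have := hB.smul_right 0 v 0
    simpa using this
  have main : ∀ s : Finset (Fin n), Q (∑ j ∈ s, w j • e j) = ∑ j ∈ s, Q (e j) * w j ^ 2 ∧
      ∀ a, a ∉ s → QuadraticMap.polar Q (e a) (∑ j ∈ s, w j • e j) = 0 := by
    intro s
    induction s using Finset.induction_on with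
    | empty =>
      refine ⟨by simpa using hQ0, fun a _ => by simpa using hB0 (e a)⟩
    | insert b s hb ih =>
      obtain ⟨ih1, ih2⟩ := ih
      refine ⟨?_, ?_⟩
      · rw [Finset.sum_insert hb, Finset.sum_insert hb]
        have hpol : QuadraticMap.polar Q (w b • e b) (∑ j ∈ s, w j • e j) = 0 := by
          rw [hB.smul_left, ih2 b hb, mul_zero]
        have hexp : Q (w b • e b + ∑ j ∈ s, w j • e j) =
            Q (w b • e b) + Q (∑ j ∈ s, w j • e j) +
              QuadraticMap.polar Q (w b • e b) (∑ j ∈ s, w j • e j) := by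
          unfold QuadraticMap.polar; ring
        rw [hexp, hpol, ih1, hQ.smul]
        ring
      · intro a ha
        rw [Finset.mem_insert, not_or] at ha
        rw [Finset.sum_insert hb, hB.add_right, hB.smul_right, horth a b ha.1, ih2 a ha.2]
        ring
  exact (main Finset.univ).1

/-- OSIM2, with OB and BINREP as hypotheses -/
theorem h49_sfo_exists_sim_sq_core {F : Type*} [Field F] {n : ℕ}
    (Q : (Fin n → F) → F) (hQ : IsNondegenerateQuadraticForm Q) (hn : Even n) (z : F)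
    (hz : z ≠ 0)
    (hOB : ∃ e : Fin n → (Fin n → F), LinearIndependent F e ∧
      (∀ i j, i ≠ j → QuadraticMap.polar Q (e i) (e j) = 0) ∧ ∀ i, Q (e i) ≠ 0)
    (hBR : ∀ a b t : F, a ≠ 0 → b ≠ 0 → ∃ x y : F, a * x ^ 2 + b * y ^ 2 = t) :
    ∃ g ∈ quadSimilarityGroup Q,
      (g : Matrix (Fin n) (Fin n) F) * (g : Matrix (Fin n) (Fin n) F) =
        z • (1 : Matrix (Fin n) (Fin n) F) := by
  classical
  obtain ⟨e, hli, horth, hne⟩ := hOB
  obtain ⟨M, hMM, hMQ⟩ := h49_sim_coord hn (fun i => Q (e i)) hne z hBR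
  obtain ⟨E, hE⟩ : ∃ E : Matrix (Fin n) (Fin n) F, E = Matrix.of (fun i j => e j i) := ⟨_, rfl⟩
  have hEv : ∀ w : Fin n → F, E *ᵥ w = ∑ j, w j • e j := by
    intro w
    funext k
    rw [hE]
    simp only [Matrix.mulVec, dotProduct, Matrix.of_apply, Finset.sum_apply, Pi.smul_apply,
      smul_eq_mul]
    exact Finset.sum_congr rfl (fun j _ => mul_comm _ _)
  have hQE : ∀ w : Fin n → F, Q (E *ᵥ w) = ∑ j, Q (e j) * w j ^ 2 := by
    intro w
    rw [hEv]
    exact h49_orth_coord Q hQ e horth w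
  have hEu : IsUnit E.det := by
    rw [← Matrix.isUnit_iff_isUnit_det]
    rw [← Matrix.linearIndependent_cols_iff_isUnit]
    have : E.col = e := by
      funext j k
      rw [hE]; rfl
    rw [this]
    exact hli
  have hE1 : E⁻¹ * E = 1 := Matrix.nonsing_inv_mul E hEu
  have hE2 : E * E⁻¹ = 1 := Matrix.mul_nonsing_inv E hEu
  obtain ⟨g₀, hg₀⟩ : ∃ g₀ : Matrix (Fin n) (Fin n) F, g₀ = E * M * E⁻¹ := ⟨_, rfl⟩
  have hgg : g₀ * g₀ = z • (1 : Matrix (Fin n) (Fin n) F) := by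
    calc g₀ * g₀ = E * M * (E⁻¹ * E) * M * E⁻¹ := by rw [hg₀]; simp only [Matrix.mul_assoc]
      _ = E * (M * M) * E⁻¹ := by rw [hE1, Matrix.mul_one]; simp only [Matrix.mul_assoc]
      _ = z • (1 : Matrix (Fin n) (Fin n) F) := by
          rw [hMM, Matrix.mul_smul, Matrix.smul_mul, Matrix.mul_one, hE2]
  have hgQ : ∀ v, Q (g₀ *ᵥ v) = z * Q v := by
    intro v
    have hv : v = E *ᵥ (E⁻¹ *ᵥ v) := by
      rw [Matrix.mulVec_mulVec, hE2, Matrix.one_mulVec]
    have hgv : g₀ *ᵥ v = E *ᵥ (M *ᵥ (E⁻¹ *ᵥ v)) := by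
      rw [hg₀, Matrix.mulVec_mulVec, Matrix.mulVec_mulVec, Matrix.mul_assoc]
    rw [hgv, hQE, hMQ]
    nth_rewrite 2 [hv]
    rw [hQE]
  have hinv1 : g₀ * (z⁻¹ • g₀) = 1 := by
    rw [Matrix.mul_smul, hgg, smul_smul, inv_mul_cancel₀ hz, one_smul]
  have hinv2 : (z⁻¹ • g₀) * g₀ = 1 := by
    rw [Matrix.smul_mul, hgg, smul_smul, inv_mul_cancel₀ hz, one_smul]
  refine ⟨⟨g₀, z⁻¹ • g₀, hinv1, hinv2⟩, ⟨Units.mk0 z hz, fun v => ?_⟩, hgg⟩
  exact hgQ v

end Cfsg.Agent.Lib.helper24
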