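import Mathlib
import Cfsg.Agent.Lib.helper24.SfoDefs
import Cfsg.Agent.Lib.helper49.SfoOSIM2Core
import Cfsg.Agent.Lib.helper98.SfoOB
import Cfsg.Agent.Lib.helper53.SfoBINREP

set_option autoImplicit false

namespace Cfsg.Agent.Lib.helper24

open Module Matrix Cfsg.Geo

/-- OSIM2 -/
theorem sfo_exists_sim_sq {F : Type*} [Field F] [Fintype F] {n : ℕ} (h2 : (2 : F) ≠ 0)
    (Q : (Fin n → F) → F) (hQ : IsNondegenerateQuadraticForm Q) (hn : Even n) (z : F)
    (hz : z ≠ 0) :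
    ∃ g ∈ quadSimilarityGroup Q,
      (g : Matrix (Fin n) (Fin n) F) * (g : Matrix (Fin n) (Fin n) F) =
        z • (1 : Matrix (Fin n) (Fin n) F) :=
  h49_sfo_exists_sim_sq_core Q hQ hn z hz (sfo_orth_basis h2 Q hQ)
    (fun a b t ha hb => sfo_bin_rep h2 a b t ha hb)

end Cfsg.Agent.Lib.helper24
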