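import Mathlib
import Cfsg.Agent.Lib.helper24.SfoDefs
import Cfsg.Agent.Lib.helper24.QuadExt2
import Cfsg.Agent.Lib.helper24.SubfC
import Cfsg.Agent.Lib.helper49.SfoOSIM2
import Cfsg.Agent.Lib.helper10.SfoOSUFA

set_option autoImplicit false

namespace Cfsg.Agent.Lib.helper24

open Module Matrix Cfsg.Geo

/-- OSUF2 -/
theorem sfo_suff_two {F : Type*} [Field F] [Fintype F] {n : ℕ} (hn : 0 < n) (h2 : (2 : F) ≠ 0)
    (Q : (Fin n → F) → F) (hQ : IsNondegenerateQuadraticForm Q)
    (x : Matrix (Fin n) (Fin n) F) (hdet : x.det = 1) (z : F)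
    (hx : x ^ 2 = z • (1 : Matrix (Fin n) (Fin n) F)) : SfoConj Q x := by
  classical
  have hxx : x * x = z • (1 : Matrix (Fin n) (Fin n) F) := by rw [← pow_two]; exact hx
  have hz0 : z ≠ 0 := by
    rintro rfl
    have h := congrArg Matrix.det hxx
    haveI : Nonempty (Fin n) := Fin.pos_iff_nonempty.mp hn
    rw [Matrix.det_mul, hdet, zero_smul, Matrix.det_zero] at h
    simp at h
  by_cases hz : IsSquare z
  · obtain ⟨lam, rfl⟩ := hz
    have hlam : lam ≠ 0 := by
      rintro rfl
      exact hz0 (by simp)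
    obtain ⟨b, δ, hδ, hb⟩ := subf_basis_eigen h2 hn x lam hlam hxx
    obtain ⟨K, hK⟩ : ∃ K : Matrix (Fin n) (Fin n) F, K = Matrix.of (fun i j => b j i) := ⟨_, rfl⟩
    have hKdet : K.det ≠ 0 := by
      have hu : IsUnit K := by
        rw [← Matrix.linearIndependent_cols_iff_isUnit]
        have : K.col = (b : Fin n → (Fin n → F)) := by
          funext j k
          rw [hK]; rfl
        rw [this]
        exact b.linearIndependent
      exact ((Matrix.isUnit_iff_isUnit_det K).mp hu).ne_zero
    have hxK : x * K = K * Matrix.diagonal (fun j => lam * δ j) := by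
      ext i j
      have h := congrFun (hb j) i
      rw [Matrix.mul_diagonal]
      have h1 : (x * K) i j = (x *ᵥ b j) i := by
        rw [hK]
        simp [Matrix.mul_apply, Matrix.mulVec, dotProduct]
      rw [h1, h, hK]
      simp only [Pi.smul_apply, smul_eq_mul, Matrix.of_apply]
      ring
    refine sfo_suff_diag h2 Q hQ x K (fun j => lam * δ j) hKdet hxK (lam * lam) hz0 ?_
    intro j
    rcases hδ j with h | h <;> rw [h] <;> ring
  · obtain ⟨m, hm, -⟩ := qe_det_of_nonsquare x z hz hxx
    have hev : Even n := ⟨m, by omega⟩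
    obtain ⟨g, hg, hgg⟩ := sfo_exists_sim_sq h2 Q hQ hev z hz0
    have hodd : Fintype.card F % 2 = 1 := by
      apply FiniteField.odd_card_of_char_ne_two
      intro h
      apply h2
      have h3 := ringChar.Nat.cast_ringChar (R := F)
      rw [h] at h3
      exact_mod_cast h3
    obtain ⟨P, hP, hxP⟩ := qe_conj_of_sq hodd x (g : Matrix (Fin n) (Fin n) F) z hz hxx hgg hn
    exact ⟨P, g, hP, hg, hxP⟩

end Cfsg.Agent.Lib.helper24
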