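/-
Shared lemmas (helper49): the orthogonal subfield subgroup `O_n(q)` is a maximal subgroup of
`SU_n(q)` for odd `q` — main argument (continuation of `SuOrth.lean`).
-/
import Mathlib
import Cfsg.Prelude.Def_GeometricClasses
import Cfsg.Agent.Lib.helper49.SuOrth

set_option autoImplicit false
set_option linter.unusedSectionVars false
set_option linter.style.haveILetI false

namespace Cfsg.Agent.Lib.helper49

open Matrix Module

open Cfsg Cfsg.Geo Cfsg.Agent.Lib.helper17 Cfsg.Agent.Lib.helper95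

namespace OFData

variable {F : Type*} [Field F] [Fintype F] {n q : ℕ} (D : OFData F n q)
include D

theorem half_add_half : D.half + D.half = 1 := by
  apply Subtype.ext
  show (2 : F)⁻¹ + 2⁻¹ = 1
  have h2 := D.two_ne
  field_simp
  norm_num

theorem vec_zero_zero : D.vec 0 0 = 0 := by
  rw [vec_zero_right, rat_zero]

/-- Rational vectors independent over the subfield are independent over the big field. -/
theorem rat_indep (s s' : Fin n → ↥D.F₀)
    (h : ∀ a b : ↥D.F₀, a • s + b • s' = 0 → a = 0 ∧ b = 0) (a b : F)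
    (hab : a • D.rat s + b • D.rat s' = 0) : a = 0 ∧ b = 0 := by
  obtain ⟨a₀, a₁, rfl⟩ := subfield_decomp D.hF D.F₀ D.hcard D.ω D.ω_pow_ne a
  obtain ⟨b₀, b₁, rfl⟩ := subfield_decomp D.hF D.F₀ D.hcard D.ω D.ω_pow_ne b
  rw [coe_add_mul_smul_rat, coe_add_mul_smul_rat, vec_add, ← D.vec_zero_zero] at hab
  obtain ⟨h0, h1⟩ := D.vec_inj hab
  obtain ⟨ha0, hb0⟩ := h _ _ h0
  obtain ⟨ha1, hb1⟩ := h _ _ h1
  rw [ha0, hb0, ha1, hb1]
  simp

/-- If `l₁ r₁ + l₃ r₃` is a multiple of a rational vector, with `r₁, r₃` rational and the two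
summands independent, then `l₁ / l₃` lies in the subfield. -/
theorem ratio_mem (y₁ y₃ : Fin n → F) (l₁ l₃ μ : F) (r₁ r₃ σ : Fin n → ↥D.F₀)
    (h₁ : y₁ = l₁ • D.rat r₁) (h₃ : y₃ = l₃ • D.rat r₃) (hs : y₁ + y₃ = μ • D.rat σ)
    (hind : ∀ a b : F, a • y₁ + b • y₃ = 0 → a = 0 ∧ b = 0) : l₁ / l₃ ∈ D.F₀ := by
  have hl₁ : l₁ ≠ 0 := by
    rintro rfl
    rw [zero_smul] at h₁
    have := (hind 1 0 (by rw [h₁]; simp)).1
    exact one_ne_zero this
  have hl₃ : l₃ ≠ 0 := by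
    rintro rfl
    rw [zero_smul] at h₃
    have := (hind 0 1 (by rw [h₃]; simp)).2
    exact one_ne_zero this
  have hμ : μ ≠ 0 := by
    rintro rfl
    rw [zero_smul] at hs
    have := (hind 1 1 (by rw [one_smul, one_smul]; exact hs)).1
    exact one_ne_zero this
  have h1' : l₁ • cu D.F₀ r₁ + l₃ • cu D.F₀ r₃ = μ • cu D.F₀ σ := by
    apply glmv_inj D.P
    rw [Matrix.mulVec_add, Matrix.mulVec_smul, Matrix.mulVec_smul, Matrix.mulVec_smul]
    rw [h₁, h₃] at hs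
    exact hs
  have h2 : l₁ ^ q • cu D.F₀ r₁ + l₃ ^ q • cu D.F₀ r₃ = μ ^ q • cu D.F₀ σ := by
    funext i
    have h := congrArg (· ^ q) (congrFun h1' i)
    simp only [Pi.add_apply, Pi.smul_apply, smul_eq_mul, add_pow_q D.hF, mul_pow] at h
    have e1 : ∀ x : Fin n → ↥D.F₀, cu D.F₀ x i ^ q = cu D.F₀ x i := fun x => D.pow_coe _
    rw [e1, e1, e1] at h
    simp only [Pi.add_apply, Pi.smul_apply, smul_eq_mul]
    exact h
  have h3 : (μ ^ q * l₁ - μ * l₁ ^ q) • cu D.F₀ r₁ + (μ ^ q * l₃ - μ * l₃ ^ q) • cu D.F₀ r₃ = 0 := by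
    have ha := congrArg (fun z => μ ^ q • z) h1'
    have hb := congrArg (fun z => μ • z) h2
    simp only [smul_add, smul_smul] at ha hb
    calc (μ ^ q * l₁ - μ * l₁ ^ q) • cu D.F₀ r₁ + (μ ^ q * l₃ - μ * l₃ ^ q) • cu D.F₀ r₃
        = ((μ ^ q * l₁) • cu D.F₀ r₁ + (μ ^ q * l₃) • cu D.F₀ r₃) -
          ((μ * l₁ ^ q) • cu D.F₀ r₁ + (μ * l₃ ^ q) • cu D.F₀ r₃) := by
          rw [sub_smul, sub_smul]
          abel
      _ = 0 := by rw [ha, hb, mul_comm μ, sub_self]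
  have h4 : ((μ ^ q * l₁ - μ * l₁ ^ q) / l₁) • y₁ + ((μ ^ q * l₃ - μ * l₃ ^ q) / l₃) • y₃ = 0 := by
    rw [h₁, h₃, smul_smul, smul_smul, div_mul_cancel₀ _ hl₁, div_mul_cancel₀ _ hl₃]
    have := congrArg (fun z => (D.P : Matrix (Fin n) (Fin n) F) *ᵥ z) h3
    simp only [Matrix.mulVec_add, Matrix.mulVec_smul, Matrix.mulVec_zero] at this
    exact this
  obtain ⟨h5, h6⟩ := hind _ _ h4
  have h5' : μ ^ q * l₁ - μ * l₁ ^ q = 0 := (div_eq_zero_iff.mp h5).resolve_right hl₁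
  have h6' : μ ^ q * l₃ - μ * l₃ ^ q = 0 := (div_eq_zero_iff.mp h6).resolve_right hl₃
  have hμq : μ ^ q ≠ 0 := pow_ne_zero _ hμ
  have m1 : l₁ / μ ∈ D.F₀ := by
    rw [mem_subfield_iff_pow D.hF D.F₀ D.hcard, div_pow]
    field_simp
    linear_combination -h5'
  have m3 : l₃ / μ ∈ D.F₀ := by
    rw [mem_subfield_iff_pow D.hF D.F₀ D.hcard, div_pow]
    field_simp
    linear_combination -h6'
  have := D.F₀.div_mem m1 m3
  rwa [div_div_div_cancel_right₀ hμ] at this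

/-- An element outside the subfield subgroup maps some rational singular vector to a vector that is
not a multiple of a rational vector. -/
theorem exists_singular_nonrat (hn : 7 ≤ n) (g : GL (Fin n) F)
    (hg : g ∉ subfieldSubgroup D.F₀ D.P) :
    ∃ v, D.form v v = 0 ∧ ∀ (a : F) (v' : Fin n → ↥D.F₀),
      (g : Matrix (Fin n) (Fin n) F) *ᵥ D.rat v ≠ a • D.rat v' := by
  by_contra hcon
  push Not at hcon
  apply hg
  apply D.mem_subfieldSubgroup_of (by omega)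
  intro v
  by_cases hv : D.form v v = 0
  · exact hcon v hv
  have hv0 : v ≠ 0 := by
    rintro rfl
    exact hv (by simp)
  obtain ⟨z, hz, hzv⟩ := D.exists_singular_ne (by omega) v hv0
  have hhalf : D.half * D.form v v ≠ 0 := by
    apply mul_ne_zero _ hv
    intro h
    have := D.half_add_half
    rw [h, add_zero] at this
    exact zero_ne_one this
  obtain ⟨s₁, hs₁s, hs₁v⟩ : ∃ s₁, D.form s₁ s₁ = 0 ∧ D.form s₁ v = D.half * D.form v v := by
    refine ⟨(D.half * D.form v v / D.form z v) • z, ?_, ?_⟩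
    · simp only [map_smul, LinearMap.smul_apply, smul_eq_mul, hz, mul_zero]
    · simp only [map_smul, LinearMap.smul_apply, smul_eq_mul]
      rw [div_mul_cancel₀ _ hzv]
  obtain ⟨s₂, hs₂, hs₂s, hs₂v⟩ : ∃ s₂, v = s₁ + s₂ ∧ D.form s₂ s₂ = 0 ∧
      D.form s₂ v = D.half * D.form v v := by
    refine ⟨v - s₁, by abel, ?_, ?_⟩
    · simp only [map_sub, LinearMap.sub_apply]
      rw [hs₁s, D.form_symm v s₁, hs₁v]
      linear_combination (-(D.form v v)) * D.half_add_half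
    · simp only [map_sub, LinearMap.sub_apply]
      rw [hs₁v]
      linear_combination (-(D.form v v)) * D.half_add_half
  have hs₁0 : s₁ ≠ 0 := by
    rintro rfl
    apply hhalf
    rw [← hs₁v]
    simp
  have hs₂0 : s₂ ≠ 0 := by
    rintro rfl
    apply hhalf
    rw [← hs₂v]
    simp
  obtain ⟨l₁, r₁, e₁⟩ := hcon s₁ hs₁s
  obtain ⟨l₂, r₂, e₂⟩ := hcon s₂ hs₂s
  have hsum : (g : Matrix (Fin n) (Fin n) F) *ᵥ D.rat v = l₁ • D.rat r₁ + l₂ • D.rat r₂ := by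
    rw [hs₂, rat_add, Matrix.mulVec_add, e₁, e₂]
  obtain ⟨s₃, hs₃s, hs₃1, hs₃2, hs₃n⟩ := D.exists_singular_perp₂_notMem hn s₁ s₂
  obtain ⟨l₃, r₃, e₃⟩ := hcon s₃ hs₃s
  have hs13 : D.form (s₁ + s₃) (s₁ + s₃) = 0 := by
    simp only [map_add, LinearMap.add_apply]
    rw [hs₁s, hs₃s, hs₃1, D.form_symm s₃ s₁, hs₃1]
    simp
  have hs23 : D.form (s₂ + s₃) (s₂ + s₃) = 0 := by
    simp only [map_add, LinearMap.add_apply]
    rw [hs₂s, hs₃s, hs₃2, D.form_symm s₃ s₂, hs₃2]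
    simp
  obtain ⟨μ₁, σ₁, k₁⟩ := hcon (s₁ + s₃) hs13
  obtain ⟨μ₂, σ₂, k₂⟩ := hcon (s₂ + s₃) hs23
  have ind : ∀ s : Fin n → ↥D.F₀, s ≠ 0 →
      s ∈ Submodule.span ↥D.F₀ ({s₁, s₂} : Set (Fin n → ↥D.F₀)) → ∀ a b : F,
      a • ((g : Matrix (Fin n) (Fin n) F) *ᵥ D.rat s) +
        b • ((g : Matrix (Fin n) (Fin n) F) *ᵥ D.rat s₃) = 0 → a = 0 ∧ b = 0 := by
    intro s hs0 hsmem a b hab
    have h1 : a • D.rat s + b • D.rat s₃ = 0 := by
      apply glmv_inj g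
      rw [Matrix.mulVec_add, Matrix.mulVec_smul, Matrix.mulVec_smul, Matrix.mulVec_zero]
      exact hab
    apply D.rat_indep s s₃ _ a b h1
    intro a' b' h'
    by_cases hb : b' = 0
    · subst hb
      rw [zero_smul, add_zero] at h'
      exact ⟨(smul_eq_zero.mp h').resolve_right hs0, rfl⟩
    · exfalso
      apply hs₃n
      have h3 : s₃ = (-(a' / b')) • s := by
        have h4 : b' • s₃ = -(a' • s) := eq_neg_of_add_eq_zero_right h'
        calc s₃ = b'⁻¹ • (b' • s₃) := by rw [smul_smul, inv_mul_cancel₀ hb, one_smul]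
          _ = (-(a' / b')) • s := by
            rw [h4, smul_neg, smul_smul, neg_smul]
            congr 2
            rw [div_eq_inv_mul]
      rw [h3]
      exact Submodule.smul_mem _ _ hsmem
  have m1 : l₁ / l₃ ∈ D.F₀ := D.ratio_mem _ _ l₁ l₃ μ₁ r₁ r₃ σ₁ e₁ e₃
    (by rw [← Matrix.mulVec_add, ← rat_add]; exact k₁)
    (ind s₁ hs₁0 (Submodule.subset_span (by simp)))
  have m2 : l₂ / l₃ ∈ D.F₀ := D.ratio_mem _ _ l₂ l₃ μ₂ r₂ r₃ σ₂ e₂ e₃
    (by rw [← Matrix.mulVec_add, ← rat_add]; exact k₂)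
    (ind s₂ hs₂0 (Submodule.subset_span (by simp)))
  by_cases hl₂ : l₂ = 0
  · exact ⟨l₁, r₁, by rw [hsum, hl₂, zero_smul, add_zero]⟩
  have hl₃ : l₃ ≠ 0 := by
    rintro rfl
    rw [zero_smul] at e₃
    have h1 : D.rat s₃ = 0 := glmv_inj g (by rw [e₃, Matrix.mulVec_zero])
    have h2 : s₃ = 0 := D.rat_injective (by rw [h1, rat_zero])
    apply hs₃n
    rw [h2]
    exact Submodule.zero_mem _
  have m : l₁ / l₂ ∈ D.F₀ := by
    have := D.F₀.div_mem m1 m2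
    rwa [div_div_div_cancel_right₀ hl₃] at this
  refine ⟨l₂, (⟨l₁ / l₂, m⟩ : ↥D.F₀) • r₁ + r₂, ?_⟩
  rw [hsum, rat_add, rat_smul, smul_add, smul_smul]
  show _ = (l₂ * (l₁ / l₂)) • D.rat r₁ + l₂ • D.rat r₂
  rw [mul_div_cancel₀ _ hl₂]


theorem two_pow : (2 : F) ^ q = 2 := D.pow_coe ⟨2, D.two_mem⟩

/-- **Producing transvections.** An overgroup of the subfield subgroup not contained in it contains
all unitary transvections centred at some rational singular vector. -/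
theorem exists_rat_transv (hn : 13 ≤ n) (M : Subgroup (GL (Fin n) F))
    (hNM : subfieldSubgroup D.F₀ D.P ⊓ (GU n F q ⊓ specialLinear (Fin n) F) ≤ M)
    (hMG : M ≤ GU n F q ⊓ specialLinear (Fin n) F)
    (g : GL (Fin n) F) (hgM : g ∈ M) (hg : g ∉ subfieldSubgroup D.F₀ D.P) :
    ∃ w : Fin n → ↥D.F₀, w ≠ 0 ∧ D.form w w = 0 ∧
      ∀ τ : F, τ + τ ^ q = 0 → uE n q (D.rat w) 0 τ ∈ M := by
  have hgU : g ∈ GU n F q := (hMG hgM).1
  have hgiU : g⁻¹ ∈ GU n F q := (GU n F q).inv_mem hgU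
  obtain ⟨v, hv, hvx⟩ := D.exists_singular_nonrat (by omega) g hg
  obtain ⟨x₀, x₁, hx⟩ := D.exists_vec ((g : Matrix (Fin n) (Fin n) F) *ᵥ D.rat v)
  have hx₁ : x₁ ≠ 0 := by
    intro h0
    obtain ⟨a, v', h⟩ := D.vec_eq_smul_rat x₀ x₁ (Or.inl h0)
    exact hvx a v' (by rw [hx, h])
  have hx₀ : x₀ ∉ Submodule.span ↥D.F₀ {x₁} := by
    intro hmem
    obtain ⟨a, v', h⟩ := D.vec_eq_smul_rat x₀ x₁ (Or.inr hmem)
    exact hvx a v' (by rw [hx, h])
  have hxx : hermForm n F q (D.vec x₀ x₁) (D.vec x₀ x₁) = 0 := by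
    rw [← hx, (mem_GU_iff n q g).mp hgU]
    exact D.rat_isotropic v hv
  obtain ⟨w, hw, hw0', hw1', hwn⟩ := D.exists_singular_perp₂_notMem (by omega) x₀ x₁
  have hw0 : w ≠ 0 := by
    rintro rfl
    exact hwn (Submodule.zero_mem _)
  refine ⟨w, hw0, hw, ?_⟩
  have hww : hermForm n F q (D.rat w) (D.rat w) = 0 := D.rat_isotropic w hw
  have hxw : hermForm n F q (D.vec x₀ x₁) (D.rat w) = 0 := by
    rw [herm_vec_rat, hw0', hw1']
    simp
  have I1 : x₀ ∉ Submodule.span ↥D.F₀ ({x₁, w} : Set (Fin n → ↥D.F₀)) := by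
    intro hmem
    obtain ⟨α, β, hαβ⟩ := Submodule.mem_span_pair.mp hmem
    by_cases hβ : β = 0
    · apply hx₀
      rw [← hαβ, hβ, zero_smul, add_zero]
      exact Submodule.smul_mem _ _ (Submodule.mem_span_singleton_self _)
    · apply hwn
      have h3 : w = β⁻¹ • (x₀ - α • x₁) := by
        rw [← hαβ, add_sub_cancel_left, smul_smul, inv_mul_cancel₀ hβ, one_smul]
      rw [h3]
      exact Submodule.smul_mem _ _ (Submodule.sub_mem _ (Submodule.subset_span (by simp))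
        (Submodule.smul_mem _ _ (Submodule.subset_span (by simp))))
  have I2 : x₁ ∉ Submodule.span ↥D.F₀ ({x₀, w} : Set (Fin n → ↥D.F₀)) := by
    intro hmem
    obtain ⟨α, β, hαβ⟩ := Submodule.mem_span_pair.mp hmem
    by_cases hβ : β = 0
    · rw [hβ, zero_smul, add_zero] at hαβ
      have hα : α ≠ 0 := by
        rintro rfl
        rw [zero_smul] at hαβ
        exact hx₁ hαβ.symm
      apply hx₀
      rw [Submodule.mem_span_singleton]
      exact ⟨α⁻¹, by rw [← hαβ, smul_smul, inv_mul_cancel₀ hα, one_smul]⟩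
    · apply hwn
      have h3 : w = β⁻¹ • (x₁ - α • x₀) := by
        rw [← hαβ, add_sub_cancel_left, smul_smul, inv_mul_cancel₀ hβ, one_smul]
      rw [h3]
      exact Submodule.smul_mem _ _ (Submodule.sub_mem _ (Submodule.subset_span (by simp))
        (Submodule.smul_mem _ _ (Submodule.subset_span (by simp))))
  -- preimages under `g`
  obtain ⟨wa, wb, hwpre⟩ := D.exists_vec
    ((((g⁻¹ : GL (Fin n) F)) : Matrix (Fin n) (Fin n) F) *ᵥ D.rat w)
  obtain ⟨ua, ub, hupre⟩ := D.exists_vec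
    ((((g⁻¹ : GL (Fin n) F)) : Matrix (Fin n) (Fin n) F) *ᵥ D.rat x₁)
  have hTfin : finrank ↥D.F₀ ↥(Submodule.span ↥D.F₀ (Set.range ![v, wa, wb, ua, ub])) ≤ 5 := by
    have := finrank_range_le_card (R := ↥D.F₀) ![v, wa, wb, ua, ub]
    rw [Fintype.card_fin] at this
    exact this
  obtain ⟨y₀, hy₀v, hy₀w0, hy₀w1, hy₀T⟩ := exists_perp₃_notMem D.form v wa wb
    (Submodule.span ↥D.F₀ (Set.range ![v, wa, wb, ua, ub]))
    (by rw [Module.finrank_fin_fun]; omega)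
  have hy₀v' : D.form y₀ v = 0 := by rw [D.form_symm]; exact hy₀v
  have hyx : hermForm n F q ((g : Matrix (Fin n) (Fin n) F) *ᵥ D.rat y₀) (D.vec x₀ x₁) = 0 := by
    rw [← hx, (mem_GU_iff n q g).mp hgU]
    exact D.herm_rat_zero y₀ v hy₀v'
  have hyw : hermForm n F q ((g : Matrix (Fin n) (Fin n) F) *ᵥ D.rat y₀) (D.rat w) = 0 := by
    have h1 := hermForm_inv_left D.hF n g⁻¹ hgiU (D.rat y₀) (D.rat w)
    rw [inv_inv] at h1
    rw [h1, hwpre, herm_rat_vec, D.form_symm y₀ wa, hy₀w0, D.form_symm y₀ wb, hy₀w1]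
    simp
  obtain ⟨ya, yb, hyvec⟩ := D.exists_vec ((g : Matrix (Fin n) (Fin n) F) *ᵥ D.rat y₀)
  have hnotboth : ¬ (ya ∈ Submodule.span ↥D.F₀ ({x₀, x₁, w} : Set (Fin n → ↥D.F₀)) ∧
      yb ∈ Submodule.span ↥D.F₀ ({x₀, x₁, w} : Set (Fin n → ↥D.F₀))) := by
    rintro ⟨h0, h1⟩
    obtain ⟨a₀, a₁, a₂, ha⟩ := Submodule.mem_span_triple.mp h0
    obtain ⟨b₀, b₁, b₂, hb⟩ := Submodule.mem_span_triple.mp h1
    apply hy₀T
    have e1 : (g : Matrix (Fin n) (Fin n) F) *ᵥ D.rat y₀ =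
        ((a₀ : F) + D.ω * b₀) • D.rat x₀ + ((a₁ : F) + D.ω * b₁) • D.rat x₁ +
          ((a₂ : F) + D.ω * b₂) • D.rat w := by
      rw [hyvec, vec_eq, ← ha, ← hb, rat_add, rat_add, rat_add, rat_add, rat_smul, rat_smul,
        rat_smul, rat_smul, rat_smul, rat_smul]
      funext i
      simp only [Pi.add_apply, Pi.smul_apply, smul_eq_mul]
      ring
    have e2 : D.rat x₀ = (g : Matrix (Fin n) (Fin n) F) *ᵥ D.rat v - D.ω • D.rat x₁ := by
      rw [hx, vec_eq]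
      abel
    have e3 : D.rat y₀ = ((a₀ : F) + D.ω * b₀) • D.rat v +
        ((((a₁ - D.dω * b₀ : ↥D.F₀)) : F) + D.ω * ((b₁ - a₀ : ↥D.F₀) : F)) • D.vec ua ub +
          ((a₂ : F) + D.ω * b₂) • D.vec wa wb := by
      have h5 := congrArg (fun z => (((g⁻¹ : GL (Fin n) F)) : Matrix (Fin n) (Fin n) F) *ᵥ z) e1
      simp only [gl_inv_mulVec_mulVec, e2, Matrix.mulVec_add, Matrix.mulVec_sub,
        Matrix.mulVec_smul] at h5
      rw [← hupre, ← hwpre, h5]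
      funext i
      simp only [Pi.add_apply, Pi.sub_apply, Pi.smul_apply, smul_eq_mul, Subfield.coe_sub,
        Subfield.coe_mul, coe_dω]
      ring
    rw [coe_add_mul_smul_rat, coe_add_mul_smul_vec, coe_add_mul_smul_vec, vec_add, vec_add,
      ← vec_zero_right] at e3
    obtain ⟨h6, -⟩ := D.vec_inj e3
    rw [h6]
    have m : ∀ i : Fin 5, ![v, wa, wb, ua, ub] i ∈
        Submodule.span ↥D.F₀ (Set.range ![v, wa, wb, ua, ub]) :=
      fun i => Submodule.subset_span ⟨i, rfl⟩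
    exact Submodule.add_mem _ (Submodule.add_mem _ (Submodule.smul_mem _ _ (m 0))
      (Submodule.add_mem _ (Submodule.smul_mem _ _ (m 3)) (Submodule.smul_mem _ _ (m 4))))
      (Submodule.add_mem _ (Submodule.smul_mem _ _ (m 1)) (Submodule.smul_mem _ _ (m 2)))
  obtain ⟨y', hy'0, hy'1, hy'w, hy'ne⟩ : ∃ y', D.form x₀ y' = 0 ∧ D.form x₁ y' = 0 ∧
      D.form w y' = 0 ∧
      hermForm n F q ((g : Matrix (Fin n) (Fin n) F) *ᵥ D.rat y₀) (D.rat y') ≠ 0 := by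
    by_cases h0 : ya ∈ Submodule.span ↥D.F₀ ({x₀, x₁, w} : Set (Fin n → ↥D.F₀))
    · have h1 : yb ∉ Submodule.span ↥D.F₀ ({x₀, x₁, w} : Set (Fin n → ↥D.F₀)) :=
        fun h1 => hnotboth ⟨h0, h1⟩
      obtain ⟨z, hz, hzne⟩ := D.exists_perp_ne_sub _ yb h1
      refine ⟨z, hz x₀ (Submodule.subset_span (by simp)), hz x₁ (Submodule.subset_span (by simp)),
        hz w (Submodule.subset_span (by simp)), ?_⟩
      rw [hyvec, herm_vec_rat]
      intro h
      exact hzne (D.coe_add_mul_eq_zero _ _ h).2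
    · obtain ⟨z, hz, hzne⟩ := D.exists_perp_ne_sub _ ya h0
      refine ⟨z, hz x₀ (Submodule.subset_span (by simp)), hz x₁ (Submodule.subset_span (by simp)),
        hz w (Submodule.subset_span (by simp)), ?_⟩
      rw [hyvec, herm_vec_rat]
      intro h
      exact hzne (D.coe_add_mul_eq_zero _ _ h).1
  have hy'w' : D.form y' w = 0 := by rw [D.form_symm]; exact hy'w
  -- the elements of `M`
  have hE₁ : uE n q ((g : Matrix (Fin n) (Fin n) F) *ᵥ D.rat v)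
      ((g : Matrix (Fin n) (Fin n) F) *ᵥ D.rat y₀) (D.bet y₀ : F) ∈ M := by
    have hmem := hNM (D.ratE_mem (by omega) v y₀ hv hy₀v')
    have h1 := M.mul_mem (M.mul_mem hgM hmem) (M.inv_mem hgM)
    unfold ratE at h1
    rw [uE_conj D.hF n g hgU _ _ _ (D.rat_isotropic v hv) (D.herm_rat_zero y₀ v hy₀v')] at h1
    exact h1
  rw [hx] at hE₁
  have hE₂ : uE n q (D.rat w) (D.rat y') (D.bet y' : F) ∈ M :=
    hNM (D.ratE_mem (by omega) w y' hw hy'w')
  have hy'x : hermForm n F q (D.rat y') (D.vec x₀ x₁) = 0 := by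
    rw [herm_rat_vec, D.form_symm y' x₀, hy'0, D.form_symm y' x₁, hy'1]
    simp
  have hcomm := uE_comm_eq D.hF n (D.vec x₀ x₁) ((g : Matrix (Fin n) (Fin n) F) *ᵥ D.rat y₀)
    (D.rat w) (D.rat y') (D.bet y₀ : F) (D.bet y' : F) hxx hyx hww (D.herm_rat_zero y' w hy'w')
    hxw hyw hy'x
  set c := hermForm n F q ((g : Matrix (Fin n) (Fin n) F) *ᵥ D.rat y₀) (D.rat y') with hc
  have hc0 : c ≠ 0 := hy'ne
  have hcq0 : c ^ q ≠ 0 := pow_ne_zero _ hc0
  have hW : uE n q (D.rat w) (-c ^ q • D.vec x₀ x₁) 0 ∈ M := by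
    have h1 := M.mul_mem hE₁ hE₂
    have h2 := M.mul_mem hE₂ hE₁
    rw [hcomm] at h1
    have h3 := M.mul_mem h1 (M.inv_mem h2)
    rwa [mul_inv_cancel_right] at h3
  intro τ hτ
  have hτq : τ ^ q = -τ := by linear_combination hτ
  obtain ⟨z₀, hz₀, hz₀ne⟩ := D.exists_perp_ne_sub _ x₀ I1
  obtain ⟨z₁, hz₁, hz₁ne⟩ := D.exists_perp_ne_sub _ x₁ I2
  have hz₀1 : D.form x₁ z₀ = 0 := hz₀ x₁ (Submodule.subset_span (by simp))
  have hz₀w : D.form w z₀ = 0 := hz₀ w (Submodule.subset_span (by simp))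
  have hz₁0 : D.form x₀ z₁ = 0 := hz₁ x₀ (Submodule.subset_span (by simp))
  have hz₁w : D.form w z₁ = 0 := hz₁ w (Submodule.subset_span (by simp))
  obtain ⟨θa, θb, hθ⟩ := subfield_decomp D.hF D.F₀ D.hcard D.ω D.ω_pow_ne (-τ / (2 * c ^ q))
  set y₃ := (θa / D.form x₀ z₀) • z₀ + (θb / D.form x₁ z₁) • z₁ with hy₃
  have hy₃w : D.form y₃ w = 0 := by
    rw [D.form_symm, hy₃]
    simp only [map_add, map_smul, smul_eq_mul, hz₀w, hz₁w, mul_zero, add_zero]
  have hxy₃ : hermForm n F q (D.vec x₀ x₁) (D.rat y₃) = -τ / (2 * c ^ q) := by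
    have e0 : D.form x₀ y₃ = θa := by
      rw [hy₃]
      simp only [map_add, map_smul, smul_eq_mul, hz₁0, mul_zero, add_zero]
      rw [div_mul_cancel₀ _ hz₀ne]
    have e1 : D.form x₁ y₃ = θb := by
      rw [hy₃]
      simp only [map_add, map_smul, smul_eq_mul, hz₀1, mul_zero, zero_add]
      rw [div_mul_cancel₀ _ hz₁ne]
    rw [herm_vec_rat, e0, e1, ← hθ]
  have hE₃ : uE n q (D.rat w) (D.rat y₃) (D.bet y₃ : F) ∈ M :=
    hNM (D.ratE_mem (by omega) w y₃ hw hy₃w)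
  have haw : hermForm n F q (-c ^ q • D.vec x₀ x₁) (D.rat w) = 0 := by
    rw [hermForm_smul_left, hxw, mul_zero]
  have hbw : hermForm n F q (D.rat y₃) (D.rat w) = 0 := D.herm_rat_zero y₃ w hy₃w
  have hay : hermForm n F q (-c ^ q • D.vec x₀ x₁) (D.rat y₃) = τ / 2 := by
    rw [hermForm_smul_left, hxy₃]
    have h2 := D.two_ne
    field_simp
  have hya : hermForm n F q (D.rat y₃) (-c ^ q • D.vec x₀ x₁) = -τ / 2 := by
    rw [← hermForm_conj D.hF, hay, div_pow, D.two_pow, hτq]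
  have p1 := uE_mul D.hF n (D.rat w) (-c ^ q • D.vec x₀ x₁) (D.rat y₃) 0 (D.bet y₃ : F) hww haw hbw
  have p2 := uE_mul D.hF n (D.rat w) (D.rat y₃) (-c ^ q • D.vec x₀ x₁) (D.bet y₃ : F) 0 hww hbw haw
  have p3 := uE_mul D.hF n (D.rat w) 0 (D.rat y₃ + -c ^ q • D.vec x₀ x₁) τ
    ((D.bet y₃ : F) + 0 - hermForm n F q (-c ^ q • D.vec x₀ x₁) (D.rat y₃)) hww
    (hermForm_zero_left n q _) (by rw [hermForm_add_left, hbw, haw, add_zero])
  have key : uE n q (D.rat w) 0 τ * (uE n q (D.rat w) (D.rat y₃) (D.bet y₃ : F) *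
      uE n q (D.rat w) (-c ^ q • D.vec x₀ x₁) 0) =
      uE n q (D.rat w) (-c ^ q • D.vec x₀ x₁) 0 * uE n q (D.rat w) (D.rat y₃) (D.bet y₃ : F) := by
    rw [p1, p2, p3, zero_add, add_comm (D.rat y₃), hermForm_zero_right' D.hF, hay, hya]
    congr 1
    have h2 := D.two_ne
    field_simp
    ring
  have hfinal : uE n q (D.rat w) 0 τ =
      (uE n q (D.rat w) (-c ^ q • D.vec x₀ x₁) 0 * uE n q (D.rat w) (D.rat y₃) (D.bet y₃ : F)) *
        (uE n q (D.rat w) (D.rat y₃) (D.bet y₃ : F) *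
          uE n q (D.rat w) (-c ^ q • D.vec x₀ x₁) 0)⁻¹ := by
    rw [← key, mul_inv_cancel_right]
  rw [hfinal]
  exact M.mul_mem (M.mul_mem hW hE₃) (M.inv_mem (M.mul_mem hE₃ hW))

end OFData

end Cfsg.Agent.Lib.helper49
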