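/-
Shared lemmas (helper49): the orthogonal subfield subgroup `O_n(q)` is a maximal subgroup of
`SU_n(q)` for odd `q` — the transvection-set argument and the maximality theorem
(continuation of `SuOrth2.lean`).
-/
import Mathlib
import Cfsg.Prelude.Def_GeometricClasses
import Cfsg.Agent.Lib.helper49.SuOrth2

set_option autoImplicit false
set_option linter.unusedSectionVars false
set_option linter.style.haveILetI false

namespace Cfsg.Agent.Lib.helper49

open Matrix Module

open Cfsg Cfsg.Geo Cfsg.Agent.Lib.helper17 Cfsg.Agent.Lib.helper95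

namespace OFData

/-- The set of isotropic vectors all of whose unitary transvections lie in `M`. -/
def tset {F : Type*} [Field F] [Fintype F] {n q : ℕ} (_D : OFData F n q)
    (M : Subgroup (GL (Fin n) F)) : Set (Fin n → F) :=
  {x | hermForm n F q x x = 0 ∧ ∀ c, c + c ^ q = 0 → uE n q x 0 c ∈ M}

variable {F : Type*} [Field F] [Fintype F] {n q : ℕ} (D : OFData F n q)
include D

theorem dω_ne : D.dω ≠ 0 := by
  intro h
  have h1 : (D.dω : F) = 0 := by rw [h]; rfl
  rw [coe_dω] at h1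
  exact D.hω0 ((pow_eq_zero_iff (by norm_num)).mp h1)

theorem tset_smul (M : Subgroup (GL (Fin n) F)) (a : F) (x : Fin n → F) (hx : x ∈ D.tset M) :
    a • x ∈ D.tset M := by
  obtain ⟨hx, hxM⟩ := hx
  refine ⟨by rw [hermForm_smul_left, hermForm_smul_right, hx, mul_zero, mul_zero], fun c hc => ?_⟩
  rw [uT_smul D.hF n a x c hx]
  apply hxM
  rw [mul_pow, mul_pow, pow_q_pow_q D.hF]
  have hcq : c ^ q = -c := by linear_combination hc
  rw [hcq]
  ring

theorem tset_mulVec (M : Subgroup (GL (Fin n) F))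
    (hMG : M ≤ GU n F q ⊓ specialLinear (Fin n) F) (k : GL (Fin n) F) (hk : k ∈ M)
    (x : Fin n → F) (hx : x ∈ D.tset M) :
    (k : Matrix (Fin n) (Fin n) F) *ᵥ x ∈ D.tset M := by
  obtain ⟨hx, hxM⟩ := hx
  have hkU : k ∈ GU n F q := (hMG hk).1
  refine ⟨by rw [(mem_GU_iff n q k).mp hkU, hx], fun c hc => ?_⟩
  rw [← uT_conj D.hF n k hkU x c hx]
  exact M.mul_mem (M.mul_mem hk (hxM c hc)) (M.inv_mem hk)

/-- All rational singular vectors lie in the transvection set as soon as one non-zero one does. -/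
theorem rat_mem_tset (hn : 5 ≤ n) (M : Subgroup (GL (Fin n) F))
    (hNM : subfieldSubgroup D.F₀ D.P ⊓ (GU n F q ⊓ specialLinear (Fin n) F) ≤ M)
    (hMG : M ≤ GU n F q ⊓ specialLinear (Fin n) F)
    (w : Fin n → ↥D.F₀) (hw0 : w ≠ 0) (hw : D.form w w = 0) (hwS : D.rat w ∈ D.tset M)
    (w' : Fin n → ↥D.F₀) (hw' : D.form w' w' = 0) : D.rat w' ∈ D.tset M := by
  by_cases h0 : w' = 0
  · rw [h0, rat_zero, ← zero_smul F (D.rat w)]
    exact D.tset_smul M 0 _ hwS
  by_cases hsp : w ∈ Submodule.span ↥D.F₀ ({w'} : Set (Fin n → ↥D.F₀))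
  · obtain ⟨a, ha⟩ := Submodule.mem_span_singleton.mp hsp
    have ha0 : a ≠ 0 := by
      rintro rfl
      rw [zero_smul] at ha
      exact hw0 ha.symm
    have h1 : D.rat w' = ((a⁻¹ : ↥D.F₀) : F) • D.rat w := by
      rw [← rat_smul, ← ha, smul_smul, inv_mul_cancel₀ ha0, one_smul]
    rw [h1]
    exact D.tset_smul M _ _ hwS
  have hsp' : w ∉ Submodule.span ↥D.F₀ ({w - w'} : Set (Fin n → ↥D.F₀)) := by
    intro hmem
    obtain ⟨a, ha⟩ := Submodule.mem_span_singleton.mp hmem
    by_cases ha1 : a = 1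
    · rw [ha1, one_smul] at ha
      exact h0 (sub_eq_self.mp ha)
    · apply hsp
      rw [Submodule.mem_span_singleton]
      have h1 : (a - 1) • w = a • w' := by
        calc (a - 1) • w = a • w - w := by rw [sub_smul, one_smul]
          _ = a • w - a • (w - w') := by rw [ha]
          _ = a • w' := by rw [smul_sub]; abel
      exact ⟨(a - 1)⁻¹ * a, by
        rw [mul_smul, ← h1, smul_smul, inv_mul_cancel₀ (sub_ne_zero.mpr ha1), one_smul]⟩
  obtain ⟨z, hz, hzu, hzw⟩ := D.exists_singular_perp₁_ne hn (w - w') w hsp'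
  have ht0 : D.form w z ≠ 0 := by rw [D.form_symm]; exact hzw
  have hw'z : D.form w' z = D.form w z := by
    have h1 := hzu
    rw [map_sub, LinearMap.sub_apply, sub_eq_zero] at h1
    exact h1.symm
  have hyz : D.form ((D.form w z)⁻¹ • (w' - w)) z = 0 := by
    rw [map_smul, LinearMap.smul_apply, map_sub, LinearMap.sub_apply, hw'z, sub_self, smul_zero]
  have hE : D.ratE z ((D.form w z)⁻¹ • (w' - w)) ∈ M := hNM (D.ratE_mem (by omega) z _ hz hyz)
  have key : ((D.ratE z ((D.form w z)⁻¹ • (w' - w)) : GL (Fin n) F) :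
      Matrix (Fin n) (Fin n) F) *ᵥ D.rat w = D.rat w' := by
    rw [D.ratE_rat z _ hz hyz w]
    congr 1
    have e1 : D.form w z • ((D.form w z)⁻¹ • (w' - w)) = w' - w := by
      rw [smul_smul, mul_inv_cancel₀ ht0, one_smul]
    have e2 : D.bet ((D.form w z)⁻¹ • (w' - w)) * D.form w z =
        D.form w ((D.form w z)⁻¹ • (w' - w)) := by
      unfold bet
      simp only [map_smul, map_sub, LinearMap.smul_apply, LinearMap.sub_apply, smul_eq_mul, hw, hw',
        D.form_symm w' w]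
      have h2 := D.half_add_half
      field_simp
      linear_combination (D.form w w') * h2
    rw [e1, e2]
    abel
  rw [← key]
  exact D.tset_mulVec M hMG _ hE _ hwS

/-- A pair of non-orthogonal rational singular vectors. -/
theorem vec_mem_tset_of_sing_pair (M : Subgroup (GL (Fin n) F))
    (hMG : M ≤ GU n F q ⊓ specialLinear (Fin n) F)
    (hrat : ∀ v, D.form v v = 0 → D.rat v ∈ D.tset M)
    (a b : Fin n → ↥D.F₀) (ha : D.form a a = 0) (hb : D.form b b = 0) (hab : D.form a b ≠ 0) :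
    D.vec a b ∈ D.tset M := by
  have ht0 : ((D.form a b : ↥D.F₀) : F) ≠ 0 := fun h => hab (Subtype.ext h)
  have htr : D.ω / (D.form a b : F) + (D.ω / (D.form a b : F)) ^ q = 0 := by
    rw [div_pow, D.pow_coe, D.ω_pow]
    ring
  have hT := (hrat b hb).2 _ htr
  have key : ((uE n q (D.rat b) 0 (D.ω / (D.form a b : F)) : GL (Fin n) F) :
      Matrix (Fin n) (Fin n) F) *ᵥ D.rat a = D.vec a b := by
    rw [uT_mulVec D.hF n _ _ (D.rat_isotropic b hb), herm_rat, vec_eq, div_mul_cancel₀ _ ht0]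
  rw [← key]
  exact D.tset_mulVec M hMG _ hT _ (hrat a ha)

/-- Isotropic vectors with singular `ω`-component. -/
theorem vec_mem_tset_of_sing (hn : 5 ≤ n) (M : Subgroup (GL (Fin n) F))
    (hMG : M ≤ GU n F q ⊓ specialLinear (Fin n) F)
    (hrat : ∀ v, D.form v v = 0 → D.rat v ∈ D.tset M)
    (x₀ x₁ : Fin n → ↥D.F₀) (h1 : D.form x₁ x₁ = 0)
    (hx : hermForm n F q (D.vec x₀ x₁) (D.vec x₀ x₁) = 0) : D.vec x₀ x₁ ∈ D.tset M := by
  have h0 : D.form x₀ x₀ = 0 := by
    rw [herm_vec_self, h1] at hx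
    apply Subtype.ext
    simpa using hx
  by_cases hx₁ : x₁ = 0
  · rw [hx₁, vec_zero_right]
    exact hrat x₀ h0
  by_cases hsp : x₀ ∈ Submodule.span ↥D.F₀ ({x₁} : Set (Fin n → ↥D.F₀))
  · obtain ⟨a, ha⟩ := Submodule.mem_span_singleton.mp hsp
    have h2 := D.coe_add_mul_smul_rat a 1 x₁
    rw [one_smul, ha] at h2
    rw [← h2]
    exact D.tset_smul M _ _ (hrat x₁ h1)
  by_cases ht : D.form x₀ x₁ = 0
  · have hsp' : x₁ ∉ Submodule.span ↥D.F₀ ({x₀} : Set (Fin n → ↥D.F₀)) := by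
      intro hmem
      obtain ⟨a, ha⟩ := Submodule.mem_span_singleton.mp hmem
      have ha0 : a ≠ 0 := by
        rintro rfl
        rw [zero_smul] at ha
        exact hx₁ ha.symm
      apply hsp
      rw [Submodule.mem_span_singleton]
      exact ⟨a⁻¹, by rw [← ha, smul_smul, inv_mul_cancel₀ ha0, one_smul]⟩
    obtain ⟨y, hy, hy0, hy1⟩ := D.exists_singular_perp₁_ne hn x₀ x₁ hsp'
    have hx' : D.vec (x₀ + y) x₁ ∈ D.tset M := by
      apply D.vec_mem_tset_of_sing_pair M hMG hrat _ _ _ h1 _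
      · simp only [map_add, LinearMap.add_apply]
        rw [h0, hy, hy0, D.form_symm y x₀, hy0]
        simp
      · simp only [map_add, LinearMap.add_apply]
        rw [ht, zero_add]
        exact hy1
    have hr0 : D.form x₁ y ≠ 0 := by rw [D.form_symm]; exact hy1
    have hs0 : D.dω * D.form x₁ y ≠ 0 := mul_ne_zero D.dω_ne hr0
    have key : ((uE n q (D.rat y) 0 (((-(D.dω * D.form x₁ y)⁻¹ : ↥D.F₀) : F) * D.ω) :
        GL (Fin n) F) : Matrix (Fin n) (Fin n) F) *ᵥ D.vec (x₀ + y) x₁ = D.vec x₀ x₁ := by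
      rw [uT_mulVec D.hF n _ _ (D.rat_isotropic y hy), herm_vec_rat, map_add, LinearMap.add_apply,
        hy0, hy]
      have e : ((-(D.dω * D.form x₁ y)⁻¹ : ↥D.F₀) : F) * D.ω *
          (((0 + 0 : ↥D.F₀) : F) + D.ω * (D.form x₁ y : F)) = -1 := by
        have e' : (-(D.dω * D.form x₁ y)⁻¹ : ↥D.F₀) * (D.dω * D.form x₁ y) = -1 := by
          rw [neg_mul, inv_mul_cancel₀ hs0]
        have e'' := congrArg (fun t : ↥D.F₀ => (t : F)) e'
        simp only [Subfield.coe_mul, coe_dω, Subfield.coe_neg, Subfield.coe_one] at e''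
        simp only [Subfield.coe_neg, ZeroMemClass.coe_zero, add_zero, zero_add]
        linear_combination e''
      rw [e, vec_eq, vec_eq, rat_add, neg_one_smul]
      abel
    rw [← key]
    exact D.tset_mulVec M hMG _ ((hrat y hy).2 _ (D.trace_zero_mul _)) _ hx'
  · exact D.vec_mem_tset_of_sing_pair M hMG hrat x₀ x₁ h0 h1 ht

/-- All isotropic vectors lie in the transvection set. -/
theorem vec_mem_tset (hn : 5 ≤ n) (M : Subgroup (GL (Fin n) F))
    (hMG : M ≤ GU n F q ⊓ specialLinear (Fin n) F)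
    (hrat : ∀ v, D.form v v = 0 → D.rat v ∈ D.tset M)
    (x₀ x₁ : Fin n → ↥D.F₀)
    (hx : hermForm n F q (D.vec x₀ x₁) (D.vec x₀ x₁) = 0) : D.vec x₀ x₁ ∈ D.tset M := by
  by_cases hβ : D.form x₁ x₁ = 0
  · exact D.vec_mem_tset_of_sing hn M hMG hrat x₀ x₁ hβ hx
  have hα : D.form x₀ x₀ = D.dω * D.form x₁ x₁ := by
    rw [herm_vec_self] at hx
    apply Subtype.ext
    rw [Subfield.coe_mul, coe_dω]
    linear_combination hx
  have hα0 : D.form x₀ x₀ ≠ 0 := by
    rw [hα]
    exact mul_ne_zero D.dω_ne hβ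
  have hx₁ : x₁ ≠ 0 := by
    rintro rfl
    exact hβ (by simp)
  obtain ⟨y, hy, hp, hr⟩ : ∃ y, D.form y y = 0 ∧ D.form x₀ y ≠ 0 ∧ D.form x₁ y ≠ 0 := by
    obtain ⟨s, hs, hs1⟩ := D.exists_singular_ne (by omega) x₁ hx₁
    by_cases hs0 : D.form s x₀ = 0
    · have hsp : x₀ ∉ Submodule.span ↥D.F₀ ({s} : Set (Fin n → ↥D.F₀)) := by
        intro hmem
        obtain ⟨a, rfl⟩ := Submodule.mem_span_singleton.mp hmem
        apply hα0
        simp only [map_smul, LinearMap.smul_apply, smul_eq_mul, hs, mul_zero]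
      obtain ⟨p', hp', hsp', hp'0⟩ := D.exists_singular_perp₁_ne hn s x₀ hsp
      by_cases hc : D.form s x₁ + D.form p' x₁ = 0
      · refine ⟨s - p', ?_, ?_, ?_⟩
        · simp only [map_sub, LinearMap.sub_apply]
          rw [hs, hp', hsp', D.form_symm p' s, hsp']
          simp
        · rw [D.form_symm, map_sub, LinearMap.sub_apply, hs0, zero_sub]
          exact neg_ne_zero.mpr hp'0
        · rw [D.form_symm, map_sub, LinearMap.sub_apply]
          have h3 : D.form p' x₁ = -D.form s x₁ := by linear_combination hc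
          rw [h3, sub_neg_eq_add, ← two_mul]
          exact mul_ne_zero D.two_ne₀ hs1
      · refine ⟨s + p', ?_, ?_, ?_⟩
        · simp only [map_add, LinearMap.add_apply]
          rw [hs, hp', hsp', D.form_symm p' s, hsp']
          simp
        · rw [D.form_symm, map_add, LinearMap.add_apply, hs0, zero_add]
          exact hp'0
        · rw [D.form_symm, map_add, LinearMap.add_apply]
          exact hc
    · exact ⟨s, hs, by rw [D.form_symm]; exact hs0, by rw [D.form_symm]; exact hs1⟩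
  obtain ⟨σ, hσ⟩ : ∃ σ : ↥D.F₀, D.form x₁ x₁ + 2 * σ * D.form x₀ y * D.form x₁ y = 0 := by
    refine ⟨-(D.form x₁ x₁ * D.half) / (D.form x₀ y * D.form x₁ y), ?_⟩
    have h2 := D.half_add_half
    field_simp
    linear_combination (-(D.form x₁ x₁)) * h2
  have hT : uE n q (D.rat y) 0 ((σ : F) * D.ω) ∈ M := (hrat y hy).2 _ (D.trace_zero_mul σ)
  have key : ((uE n q (D.rat y) 0 ((σ : F) * D.ω) : GL (Fin n) F) :
      Matrix (Fin n) (Fin n) F) *ᵥ D.vec x₀ x₁ =
      D.vec (x₀ + (σ * D.dω * D.form x₁ y) • y) (x₁ + (σ * D.form x₀ y) • y) := by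
    rw [uT_mulVec D.hF n _ _ (D.rat_isotropic y hy), herm_vec_rat]
    have e : (σ : F) * D.ω * ((D.form x₀ y : F) + D.ω * (D.form x₁ y : F)) =
        ((σ * D.dω * D.form x₁ y : ↥D.F₀) : F) + D.ω * ((σ * D.form x₀ y : ↥D.F₀) : F) := by
      simp only [Subfield.coe_mul, coe_dω]
      ring
    rw [e, coe_add_mul_smul_rat, vec_add]
  have hmem : D.vec (x₀ + (σ * D.dω * D.form x₁ y) • y) (x₁ + (σ * D.form x₀ y) • y) ∈
      D.tset M := by
    apply D.vec_mem_tset_of_sing hn M hMG hrat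
    · simp only [map_add, map_smul, LinearMap.add_apply, LinearMap.smul_apply, smul_eq_mul]
      rw [hy, D.form_symm y x₁]
      linear_combination hσ
    · rw [← key, (mem_GU_iff n q _).mp (hMG hT).1]
      exact hx
  have hback : D.vec x₀ x₁ = (((uE n q (D.rat y) 0 ((σ : F) * D.ω))⁻¹ : GL (Fin n) F) :
      Matrix (Fin n) (Fin n) F) *ᵥ
        D.vec (x₀ + (σ * D.dω * D.form x₁ y) • y) (x₁ + (σ * D.form x₀ y) • y) := by
    rw [← key, gl_inv_mulVec_mulVec]
  rw [hback]
  exact D.tset_mulVec M hMG _ (M.inv_mem hT) _ hmem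

/-- The transvection-set argument: an overgroup of the subfield subgroup not contained in it contains
all unitary transvections. -/
theorem all_transv (hn : 13 ≤ n) (M : Subgroup (GL (Fin n) F))
    (hNM : subfieldSubgroup D.F₀ D.P ⊓ (GU n F q ⊓ specialLinear (Fin n) F) ≤ M)
    (hMG : M ≤ GU n F q ⊓ specialLinear (Fin n) F)
    (g : GL (Fin n) F) (hgM : g ∈ M) (hg : g ∉ subfieldSubgroup D.F₀ D.P)
    (y : Fin n → F) (c : F) (hyy : hermForm n F q y y = 0) (hc : c + c ^ q = 0) :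
    uE n q y 0 c ∈ M := by
  obtain ⟨w, hw0, hw, hwM⟩ := D.exists_rat_transv hn M hNM hMG g hgM hg
  have hwS : D.rat w ∈ D.tset M := ⟨D.rat_isotropic w hw, hwM⟩
  have hrat : ∀ v, D.form v v = 0 → D.rat v ∈ D.tset M := fun v hv =>
    D.rat_mem_tset (by omega) M hNM hMG w hw0 hw hwS v hv
  obtain ⟨y₀, y₁, rfl⟩ := D.exists_vec y
  exact (D.vec_mem_tset (by omega) M hMG hrat y₀ y₁ hyy).2 c hc

/-- The special unitary group is not contained in the subfield subgroup. -/
theorem exists_not_mem (hn : 3 ≤ n) :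
    ∃ g ∈ GU n F q ⊓ specialLinear (Fin n) F, g ∉ subfieldSubgroup D.F₀ D.P := by
  classical
  let j₀ : Fin n := ⟨0, by omega⟩
  let a : Fin n → ↥D.F₀ := Pi.single j₀ 1
  have ha : a ≠ 0 := by
    intro h
    have := congrFun h j₀
    simp [a] at this
  obtain ⟨w, hw, hwa⟩ := D.exists_singular_ne hn a ha
  have hw0 : w ≠ 0 := by
    rintro rfl
    apply hwa
    simp
  have hww := D.rat_isotropic w hw
  refine ⟨uE n q (D.rat w) 0 D.ω, uT_mem D.hF n _ _ hww D.hω, fun hmem => ?_⟩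
  obtain ⟨c, hc⟩ := D.of_mem_subfieldSubgroup _ hmem
  obtain ⟨c₀, c₁, rfl⟩ := subfield_decomp D.hF D.F₀ D.hcard D.ω D.ω_pow_ne c
  obtain ⟨v₁, hv₁⟩ := hc w
  rw [uT_mulVec D.hF n _ _ hww, hww, mul_zero, zero_smul, add_zero, coe_add_mul_smul_rat,
    ← vec_zero_right] at hv₁
  obtain ⟨e0, e1⟩ := D.vec_inj hv₁
  have hv₁0 : v₁ ≠ 0 := by
    rintro rfl
    rw [smul_zero] at e0
    exact hw0 e0
  have hc₁ : c₁ = 0 := (smul_eq_zero.mp e1.symm).resolve_right hv₁0
  obtain ⟨v₂, hv₂⟩ := hc a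
  rw [uT_mulVec D.hF n _ _ hww, herm_rat, coe_add_mul_smul_rat, hc₁, zero_smul] at hv₂
  have e : D.rat a + (D.ω * (D.form a w : F)) • D.rat w = D.vec a (D.form a w • w) := by
    rw [vec_eq, rat_smul, smul_smul]
  rw [e] at hv₂
  obtain ⟨-, e3⟩ := D.vec_inj hv₂
  rcases smul_eq_zero.mp e3 with h | h
  · exact hwa (by rw [D.form_symm]; exact h)
  · exact hw0 h

/-- **Maximality of the orthogonal subfield subgroup** in the special unitary group (`q` odd), given
that `SU` is generated by the unitary transvections. -/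
theorem su_orth_maximal (hn : 13 ≤ n)
    (hgen : Subgroup.closure {A : ↥(Cfsg.SU n F q) | ∃ (v : Fin n → F) (c : F),
      Cfsg.hermForm n F q v v = 0 ∧
      ((A : Matrix.SpecialLinearGroup (Fin n) F) : Matrix (Fin n) (Fin n) F) =
        Cfsg.unitaryTransvection n q v c} = ⊤) :
    IsMaximalIn (GU n F q ⊓ specialLinear (Fin n) F)
      (subfieldSubgroup D.F₀ D.P ⊓ (GU n F q ⊓ specialLinear (Fin n) F)) := by
  refine ⟨?_, ?_⟩
  · refine lt_of_le_of_ne inf_le_right ?_
    intro heq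
    obtain ⟨g, hgG, hg⟩ := D.exists_not_mem (by omega)
    rw [← heq] at hgG
    exact hg hgG.1
  · intro M hPM hMG
    by_cases hM : M ≤ subfieldSubgroup D.F₀ D.P
    · left
      exact le_antisymm (le_inf hM hMG) hPM
    · right
      obtain ⟨g, hgM, hg⟩ := SetLike.not_le_iff_exists.mp hM
      exact le_antisymm hMG (suGL_le_of_transv D.hF n hgen M (fun v c hvv hc =>
        D.all_transv hn M hPM hMG g hgM hg v c hvv hc))

end OFData

end Cfsg.Agent.Lib.helper49
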