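import Mathlib
import Cfsg.Prelude.Def_OddOrderLocal
import Cfsg.Agent.Lib.helper40.Cores

set_option autoImplicit false

/-!
# S1383 split, piece N (`nil_split`)

A nilpotent subgroup `H` is the commuting product of `O_p(H)` and `O_{p'}(H)`.
-/

namespace Cfsg.Agent.Lib.helper49.TV

open Cfsg Subgroup

variable {G : Type*} [Group G]

/-- Intrinsic form: in a finite nilpotent group `X`, `O_p(X) O_{p'}(X) = X`, the two cores
commute, `O_p(X)` is the set of `p`-elements and `O_{p'}(X)` the set of `p'`-elements. -/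
theorem h49_nil_aux {X : Type*} [Group X] [Finite X] (hX : Group.IsNilpotent X) (p : ℕ)
    [hp : Fact p.Prime] :
    pCore p X ⊔ pPrimeCore p X = ⊤ ∧
    (∀ a ∈ pCore p X, ∀ b ∈ pPrimeCore p X, a * b = b * a) ∧
    (∀ x : X, x ∈ pCore p X ↔ ∃ k : ℕ, orderOf x = p ^ k) ∧
    (∀ x : X, x ∈ pPrimeCore p X ↔ (orderOf x).Coprime p) := by
  have hSyl : ∀ (q : ℕ) (hq : Fact q.Prime) (Q : Sylow q X), (Q : Subgroup X).Normal :=
    (Group.isNilpotent_of_finite_tfae.out 0 3).mp hX
  have hpc := Cfsg.Agent.Lib.helper40.pCore_isPGroup p X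
  have hKc := Cfsg.Agent.Lib.helper40.pPrimeCore_card_coprime p X
  have hpn := Cfsg.Agent.Lib.helper40.pCore_normal' p X
  have hKn := Cfsg.Agent.Lib.helper40.pPrimeCore_normal' p X
  have hsup : pCore p X ⊔ pPrimeCore p X = ⊤ := by
    apply Subgroup.eq_top_of_card_eq
    apply Nat.dvd_antisymm (Subgroup.card_subgroup_dvd_card _)
    rw [Nat.dvd_iff_prime_pow_dvd_dvd]
    intro q k hq hqk
    haveI : Fact q.Prime := ⟨hq⟩
    obtain ⟨Q⟩ : Nonempty (Sylow q X) := inferInstance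
    have h1 : q ^ k ∣ Nat.card Q := Q.pow_dvd_card_of_pow_dvd_card hqk
    have h2 : (Q : Subgroup X) ≤ pCore p X ⊔ pPrimeCore p X := by
      by_cases hqp : q = p
      · subst hqp
        exact le_trans (Cfsg.Agent.Lib.helper40.le_pCore _ (hSyl q inferInstance Q) Q.isPGroup')
          le_sup_left
      · refine le_trans (Cfsg.Agent.Lib.helper40.le_pPrimeCore _ (hSyl q inferInstance Q) ?_)
          le_sup_right
        rw [Q.card_eq_multiplicity]
        exact Nat.Coprime.pow_left _ ((Nat.coprime_primes hq hp.out).mpr hqp)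
    exact h1.trans (Subgroup.card_dvd_of_le h2)
  have hdisj : Disjoint (pCore p X) (pPrimeCore p X) := by
    obtain ⟨n, hn⟩ := IsPGroup.iff_card.mp hpc
    apply Subgroup.disjoint_of_coprime_natCard
    rw [hn]; exact Nat.Coprime.pow_left n hKc.symm
  have hcomm : ∀ a ∈ pCore p X, ∀ b ∈ pPrimeCore p X, a * b = b * a := fun a ha b hb =>
    (Subgroup.commute_of_normal_of_disjoint _ _ hpn hKn hdisj a b ha hb).eq
  have hA : ∀ x : X, x ∈ pCore p X ↔ ∃ k : ℕ, orderOf x = p ^ k := by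
    intro x
    constructor
    · intro hx
      obtain ⟨e, he⟩ := hpc ⟨x, hx⟩
      have he' : x ^ p ^ e = 1 := by simpa using congrArg Subtype.val he
      obtain ⟨j, -, hj⟩ := (Nat.dvd_prime_pow hp.out).mp (orderOf_dvd_of_pow_eq_one he')
      exact ⟨j, hj⟩
    · rintro ⟨e, he⟩
      have hz : IsPGroup p ↥(Subgroup.zpowers x) :=
        IsPGroup.of_card (n := e) (by rw [Nat.card_zpowers, he])
      obtain ⟨Q, hQ⟩ := hz.exists_le_sylow
      exact Cfsg.Agent.Lib.helper40.le_pCore _ (hSyl p inferInstance Q) Q.isPGroup'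
        (hQ (Subgroup.mem_zpowers x))
  have hB : ∀ x : X, x ∈ pPrimeCore p X ↔ (orderOf x).Coprime p := by
    intro x
    constructor
    · exact Cfsg.Agent.Lib.helper40.orderOf_coprime_of_mem_pPrimeCore
    · intro hx
      have hxs : x ∈ pCore p X ⊔ pPrimeCore p X := by rw [hsup]; trivial
      obtain ⟨a, ha, b, hb, rfl⟩ :=
        Cfsg.Agent.Lib.helper40.exists_mul_of_mem_sup_of_commute hcomm hxs
      have hab : Commute a b := hcomm a ha b hb
      have hbc : (orderOf b).Coprime p :=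
        Cfsg.Agent.Lib.helper40.orderOf_coprime_of_mem_pPrimeCore hb
      have h1 : Commute (a * b) b⁻¹ := (hab.mul_left (Commute.refl b)).inv_right
      have h2 : orderOf a ∣ Nat.lcm (orderOf (a * b)) (orderOf b⁻¹) := by
        have := h1.orderOf_mul_dvd_lcm
        simpa using this
      have h3 : (orderOf a).Coprime p :=
        Nat.Coprime.coprime_dvd_left (h2.trans (Nat.lcm_dvd_mul _ _))
          (Nat.Coprime.mul_left hx (by rw [orderOf_inv]; exact hbc))
      obtain ⟨e, he⟩ := (hA a).mp ha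
      have h4 : a = 1 :=
        Cfsg.Agent.Lib.helper40.eq_one_of_pow_eq_one_of_coprime (k := e)
          (by rw [← he]; exact pow_orderOf_eq_one a) h3
      rw [h4, one_mul]; exact hb
  exact ⟨hsup, hcomm, hA, hB⟩

/-- **N** (pure). A nilpotent subgroup `H` is the commuting product of `O_p(H)` and `O_{p'}(H)`
(both taken inside the group `↥H` and mapped to `G`). -/
theorem nil_split [Finite G] (H : Subgroup G) (hH : Group.IsNilpotent ↥H) (p : ℕ) [Fact p.Prime] :
    IsPGroup p ↥((pCore p ↥H).map H.subtype) ∧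
    (Nat.card ↥((pPrimeCore p ↥H).map H.subtype)).Coprime p ∧
    (pCore p ↥H).map H.subtype ⊔ (pPrimeCore p ↥H).map H.subtype = H ∧
    (∀ a ∈ (pCore p ↥H).map H.subtype, ∀ b ∈ (pPrimeCore p ↥H).map H.subtype, a * b = b * a) ∧
    (∀ x ∈ H, orderOf x = p → x ∈ (pCore p ↥H).map H.subtype) ∧
    normalizer (H : Set G) ≤ normalizer (((pCore p ↥H).map H.subtype : Subgroup G) : Set G) ∧
    normalizer (H : Set G) ≤ normalizer (((pPrimeCore p ↥H).map H.subtype : Subgroup G) : Set G) := by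
  obtain ⟨hsup, hcomm, hA, hB⟩ := h49_nil_aux hH p
  have hA' : ∀ x : G, x ∈ (pCore p ↥H).map H.subtype ↔ x ∈ H ∧ ∃ k : ℕ, orderOf x = p ^ k := by
    intro x
    constructor
    · rintro ⟨y, hy, rfl⟩
      refine ⟨y.2, ?_⟩
      obtain ⟨e, he⟩ := (hA y).mp hy
      exact ⟨e, by rw [← he]; exact Subgroup.orderOf_coe y⟩
    · rintro ⟨hx, e, he⟩
      exact ⟨⟨x, hx⟩, (hA _).mpr ⟨e, by rw [← he]; exact (Subgroup.orderOf_coe ⟨x, hx⟩).symm⟩, rfl⟩
  have hB' : ∀ x : G, x ∈ (pPrimeCore p ↥H).map H.subtype ↔ x ∈ H ∧ (orderOf x).Coprime p := by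
    intro x
    constructor
    · rintro ⟨y, hy, rfl⟩
      refine ⟨y.2, ?_⟩
      have := (hB y).mp hy
      rwa [← Subgroup.orderOf_coe y] at this
    · rintro ⟨hx, hc⟩
      refine ⟨⟨x, hx⟩, (hB _).mpr ?_, rfl⟩
      rwa [← Subgroup.orderOf_coe]
  have hconj : ∀ (n x : G), orderOf (n * x * n⁻¹) = orderOf x :=
    fun n x => (MulAut.conj n).orderOf_eq x
  refine ⟨?_, ?_, ?_, ?_, ?_, ?_, ?_⟩
  · exact (Cfsg.Agent.Lib.helper40.pCore_isPGroup p ↥H).map H.subtype
  · rw [Subgroup.card_map_of_injective H.subtype_injective]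
    exact Cfsg.Agent.Lib.helper40.pPrimeCore_card_coprime p ↥H
  · rw [← Subgroup.map_sup, hsup, ← MonoidHom.range_eq_map, Subgroup.range_subtype]
  · rintro a ⟨a', ha', rfl⟩ b ⟨b', hb', rfl⟩
    exact congrArg Subtype.val (hcomm a' ha' b' hb')
  · intro x hx hxo
    exact (hA' x).mpr ⟨hx, 1, by rw [hxo, pow_one]⟩
  · intro n hn
    rw [mem_normalizer_iff] at hn ⊢
    intro x
    rw [hA', hA', hconj, ← hn x]
  · intro n hn
    rw [mem_normalizer_iff] at hn ⊢
    intro x
    rw [hB', hB', hconj, ← hn x]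

end Cfsg.Agent.Lib.helper49.TV
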