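import Mathlib
import Cfsg.Prelude.Def_OddOrderLocal

set_option autoImplicit false

/-!
# S1383 split, piece X2 (`p3_stab`)

A `p'`-element `k` normalizing the chain `P > A > Z(P)` of a non-abelian group `P` of order
`p ^ 3` and centralizing `Z(P)`: `k ^ (p - 1)` centralizes `P`.
-/

namespace Cfsg.Agent.Lib.helper49.TV

open Cfsg Subgroup

variable {G : Type*} [Group G]

/-- In a group of prime order `p`, an endomorphism with trivial kernel has `(p - 1)`-st iterate
the identity. -/
theorem h49_prime_card_iter {T : Type*} [Group T] {p : ℕ} [hp : Fact p.Prime]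
    (hT : Nat.card T = p) (ψ : T →* T) (hψ : ∀ t, ψ t = 1 → t = 1) (t : T) :
    ψ^[p - 1] t = t := by
  by_cases ht : ∀ s : T, s = 1
  · rw [ht t, ht (ψ^[p - 1] 1)]
  push Not at ht
  obtain ⟨t₀, ht₀⟩ := ht
  have hfin : Finite T := Nat.finite_of_card_ne_zero (by rw [hT]; exact hp.out.ne_zero)
  have hpow : t₀ ^ p = 1 := by rw [← hT]; exact pow_card_eq_one'
  have hord : orderOf t₀ = p := orderOf_eq_prime hpow ht₀
  obtain ⟨m, hm⟩ : ∃ m : ℕ, t₀ ^ m = ψ t₀ := mem_powers_of_prime_card hT ht₀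
  have hpm : ¬ p ∣ m := by
    intro hd
    obtain ⟨s, rfl⟩ := hd
    apply ht₀
    apply hψ
    rw [← hm, pow_mul, hpow, one_pow]
  have hiter : ∀ j : ℕ, ψ^[j] t₀ = t₀ ^ (m ^ j) := by
    intro j
    induction j with
    | zero => simp
    | succ j ih =>
      rw [Function.iterate_succ_apply', ih, map_pow, ← hm, ← pow_mul, pow_succ, mul_comm]
  have hfer : m ^ (p - 1) ≡ 1 [MOD p] := by
    have := Nat.ModEq.pow_totient ((Nat.Prime.coprime_iff_not_dvd hp.out).mpr hpm).symm
    rwa [Nat.totient_prime hp.out] at this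
  have h1 : ψ^[p - 1] t₀ = t₀ := by
    rw [hiter]
    have : t₀ ^ m ^ (p - 1) = t₀ ^ 1 := by
      rw [pow_eq_pow_iff_modEq, hord]; exact hfer
    rw [this, pow_one]
  obtain ⟨i, rfl⟩ : ∃ i : ℕ, t₀ ^ i = t := mem_powers_of_prime_card hT ht₀
  rw [iterate_map_pow, h1]

/-- Stability step: a `p'`-element `c` centralizing a `p`-group `N`, with `[x, c] ∈ N`, centralizes
`x`. -/
theorem h49_stab_step {p : ℕ} [Fact p.Prime] (N : Subgroup G)
    (hN : IsPGroup p ↥N) (c x : G) (hc : ∀ n ∈ N, c * n = n * c) (hcop : (orderOf c).Coprime p)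
    (hx : x⁻¹ * (c * x * c⁻¹) ∈ N) : c * x = x * c := by
  obtain ⟨n, hn⟩ : ∃ n, n = x⁻¹ * (c * x * c⁻¹) := ⟨_, rfl⟩
  rw [← hn] at hx
  have h1 : c * x * c⁻¹ = x * n := by rw [hn]; group
  have hcn : ∀ j : ℕ, c * n ^ j = n ^ j * c := fun j => hc _ (pow_mem hx j)
  have h2 : ∀ j : ℕ, c ^ j * x * (c ^ j)⁻¹ = x * n ^ j := by
    intro j
    induction j with
    | zero => simp
    | succ j ih =>
      have e1 : c ^ (j + 1) * x * (c ^ (j + 1))⁻¹ = c * (c ^ j * x * (c ^ j)⁻¹) * c⁻¹ := by
        rw [pow_succ']; group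
      rw [e1, ih]
      calc c * (x * n ^ j) * c⁻¹ = (c * x * c⁻¹) * (c * n ^ j) * c⁻¹ := by group
        _ = x * n * (n ^ j * c) * c⁻¹ := by rw [h1, hcn j]
        _ = x * n ^ (j + 1) := by rw [pow_succ']; group
  have h3 : n ^ orderOf c = 1 := by
    have := h2 (orderOf c)
    rw [pow_orderOf_eq_one] at this
    simpa using this.symm
  obtain ⟨e, he⟩ := hN ⟨n, hx⟩
  have he' : n ^ p ^ e = 1 := by
    have := congrArg Subtype.val he
    simpa using this
  have h4 : orderOf n ∣ orderOf c := orderOf_dvd_of_pow_eq_one h3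
  have h5 : orderOf n ∣ p ^ e := orderOf_dvd_of_pow_eq_one he'
  have h6 : orderOf n = 1 :=
    Nat.Coprime.eq_one_of_dvd (Nat.Coprime.coprime_dvd_left h4 (Nat.Coprime.pow_right e hcop)) h5
  have h7 : n = 1 := orderOf_eq_one_iff.mp h6
  rw [h7, mul_one] at h1
  calc c * x = c * x * c⁻¹ * c := by group
    _ = x * c := by rw [h1]

/-- Index-`p` step: if `Q` is normal of index `p` in `R` and `k` normalizes both, then
`k ^ (p - 1)` acts trivially on `R / Q`. -/
theorem h49_index_p_step {p : ℕ} [hp : Fact p.Prime] (Q R : Subgroup G)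
    (hn : (Q.subgroupOf R).Normal) (hidx : Q.relIndex R = p) (k : G)
    (hkR : k ∈ normalizer (R : Set G)) (hkQ : k ∈ normalizer (Q : Set G)) :
    ∀ x ∈ R, x⁻¹ * (k ^ (p - 1) * x * (k ^ (p - 1))⁻¹) ∈ Q := by
  intro x hx
  haveI := hn
  have hkR' : ∀ y, y ∈ R ↔ k * y * k⁻¹ ∈ R := fun y => mem_normalizer_iff.mp hkR y
  have hkQ' : ∀ y, y ∈ Q ↔ k * y * k⁻¹ ∈ Q := fun y => mem_normalizer_iff.mp hkQ y
  let κ : ↥R →* ↥R := MonoidHom.mk' (fun y => ⟨k * y * k⁻¹, (hkR' y).mp y.2⟩) (by
    intro a b; apply Subtype.ext; simp [mul_assoc])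
  have hκ : ∀ y : ↥R, ((κ y : ↥R) : G) = k * y * k⁻¹ := fun y => rfl
  have hκQ : Q.subgroupOf R ≤ (Q.subgroupOf R).comap κ := by
    intro y hy
    rw [Subgroup.mem_comap, Subgroup.mem_subgroupOf, hκ]
    exact (hkQ' _).mp (Subgroup.mem_subgroupOf.mp hy)
  let ψ := QuotientGroup.map (Q.subgroupOf R) (Q.subgroupOf R) κ hκQ
  have hT : Nat.card (↥R ⧸ Q.subgroupOf R) = p := by
    rw [← Subgroup.index_eq_card]; exact hidx
  have hψ : ∀ t, ψ t = 1 → t = 1 := by
    intro t
    induction t using QuotientGroup.induction_on with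
    | H y =>
      intro h
      rw [QuotientGroup.map_mk, QuotientGroup.eq_one_iff, Subgroup.mem_subgroupOf, hκ] at h
      rw [QuotientGroup.eq_one_iff, Subgroup.mem_subgroupOf]
      exact (hkQ' _).mpr h
  have hit := h49_prime_card_iter hT ψ hψ ((⟨x, hx⟩ : ↥R) : ↥R ⧸ Q.subgroupOf R)
  have hsem : ∀ (j : ℕ) (y : ↥R),
      ψ^[j] (y : ↥R ⧸ Q.subgroupOf R) = ((κ^[j] y : ↥R) : ↥R ⧸ Q.subgroupOf R) := by
    intro j
    induction j with
    | zero => intro y; rfl
    | succ j ih =>
      intro y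
      rw [Function.iterate_succ_apply', Function.iterate_succ_apply', ih]
      rfl
  have hκj : ∀ (j : ℕ) (y : ↥R), ((κ^[j] y : ↥R) : G) = k ^ j * y * (k ^ j)⁻¹ := by
    intro j
    induction j with
    | zero => intro y; simp
    | succ j ih =>
      intro y
      rw [Function.iterate_succ_apply', hκ, ih, pow_succ']; group
  rw [hsem] at hit
  have h9 := QuotientGroup.eq.mp hit.symm
  rw [Subgroup.mem_subgroupOf] at h9
  simpa [hκj] using h9

/-- **X2** (pure). `P` non-abelian of order `p ^ 3`, `Z = Z(P) ≤ A ≤ P` with `|A| = p ^ 2`.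
A `p'`-element `k` normalizing `P` and `A` and centralizing `Z`: `k ^ (p - 1)` centralizes `P`. -/
theorem p3_stab [Finite G] (p : ℕ) [Fact p.Prime] (P A : Subgroup G) (hP : Nat.card P = p ^ 3)
    (hPna : ¬ IsMulCommutative ↥P) (hZA : P ⊓ centralizer (P : Set G) ≤ A) (hAP : A ≤ P)
    (hA : Nat.card A = p ^ 2) (k : G) (hkP : k ∈ normalizer (P : Set G))
    (hkA : k ∈ normalizer (A : Set G)) (hkZ : ∀ z ∈ P ⊓ centralizer (P : Set G), k * z = z * k)
    (hcop : (orderOf k).Coprime p) : ∀ x ∈ P, k ^ (p - 1) * x = x * k ^ (p - 1) := by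
  have hp : p.Prime := Fact.out
  have hPp : IsPGroup p ↥P := IsPGroup.of_card hP
  have hAp : IsPGroup p ↥A := IsPGroup.of_card hA
  have hccop : (orderOf (k ^ (p - 1))).Coprime p :=
    Nat.Coprime.coprime_dvd_left (orderOf_pow_dvd _) hcop
  have hcZ : ∀ z ∈ P ⊓ centralizer (P : Set G), k ^ (p - 1) * z = z * k ^ (p - 1) := by
    intro z hz
    have : Commute k z := hkZ z hz
    exact (this.pow_left (p - 1)).eq
  -- `A` is normal of index `p` in `P`
  have hAidx : A.relIndex P = p := by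
    have h1 := Subgroup.relIndex_mul_relIndex (⊥ : Subgroup G) A P bot_le hAP
    rw [Subgroup.relIndex_bot_left, Subgroup.relIndex_bot_left, hA, hP] at h1
    have h2 : p ^ 2 * A.relIndex P = p ^ 2 * p := by rw [h1]; ring
    exact Nat.eq_of_mul_eq_mul_left (pow_pos hp.pos 2) h2
  have hAn : (A.subgroupOf P).Normal := by
    apply Subgroup.normal_of_index_eq_minFac_card
    rw [hP, Nat.Prime.pow_minFac hp (by norm_num)]
    exact hAidx
  -- `k ^ (p - 1)` centralizes `A`
  have hcA : ∀ a ∈ A, k ^ (p - 1) * a = a * k ^ (p - 1) := by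
    have hZne : P ⊓ centralizer (P : Set G) ≠ ⊥ := by
      haveI : Nontrivial ↥P := by
        rw [← Finite.one_lt_card_iff_nontrivial, hP]
        exact Nat.one_lt_pow (by norm_num) hp.one_lt
      haveI : Nontrivial ↥(Subgroup.center ↥P) := hPp.center_nontrivial
      obtain ⟨z, hz⟩ := exists_ne (1 : ↥(Subgroup.center ↥P))
      intro hbot
      apply hz
      have hzmem : ((z : ↥P) : G) ∈ P ⊓ centralizer (P : Set G) := by
        refine Subgroup.mem_inf.mpr ⟨(z : ↥P).2, ?_⟩
        rw [Subgroup.mem_centralizer_iff]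
        intro g hg
        have := Subgroup.mem_center_iff.mp z.2 ⟨g, hg⟩
        exact congrArg Subtype.val this
      rw [hbot, Subgroup.mem_bot] at hzmem
      apply Subtype.ext; apply Subtype.ext
      simpa using hzmem
    have hZcard : Nat.card ↥(P ⊓ centralizer (P : Set G)) ∣ p ^ 2 := by
      rw [← hA]; exact Subgroup.card_dvd_of_le hZA
    obtain ⟨i, hi, hZi⟩ := (Nat.dvd_prime_pow hp).mp hZcard
    have hkZn : k ∈ normalizer ((P ⊓ centralizer (P : Set G) : Subgroup G) : Set G) := by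
      rw [mem_normalizer_iff]
      intro z
      constructor
      · intro hz
        have : k * z * k⁻¹ = z := by rw [hkZ z hz]; group
        rw [this]; exact hz
      · intro hz
        have e1 := hkZ _ hz
        have e0 : k * z * k⁻¹ * k = k * z := by group
        rw [e0] at e1
        have e2 : k * z * k⁻¹ = z := mul_left_cancel e1
        rw [← e2]; exact hz
    have hZn : ((P ⊓ centralizer (P : Set G)).subgroupOf A).Normal := by
      constructor
      intro n hn g
      rw [Subgroup.mem_subgroupOf] at hn ⊢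
      have h1 := (Subgroup.mem_centralizer_iff.mp hn.2) (g : G) (hAP g.2)
      have : ((g * n * g⁻¹ : ↥A) : G) = n := by
        push_cast
        rw [h1]; group
      rw [this]; exact hn
    interval_cases i
    · exfalso
      apply hZne
      rw [pow_zero] at hZi
      exact Subgroup.card_eq_one.mp hZi
    · -- `|Z| = p`
      rw [pow_one] at hZi
      have hZidx : (P ⊓ centralizer (P : Set G)).relIndex A = p := by
        have h1 := Subgroup.relIndex_mul_relIndex (⊥ : Subgroup G) _ A bot_le hZA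
        rw [Subgroup.relIndex_bot_left, Subgroup.relIndex_bot_left, hA, hZi] at h1
        have h2 : p * (P ⊓ centralizer (P : Set G)).relIndex A = p * p := by rw [h1]; ring
        exact Nat.eq_of_mul_eq_mul_left hp.pos h2
      intro a ha
      exact h49_stab_step (P ⊓ centralizer (P : Set G)) (hPp.to_le inf_le_left) _ a hcZ hccop
        (h49_index_p_step _ A hZn hZidx k hkA hkZn a ha)
    · -- `Z = A`
      have hZA' : P ⊓ centralizer (P : Set G) = A :=
        Subgroup.eq_of_le_of_card_ge hZA (by rw [hZi, hA])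
      intro a ha
      exact hcZ a (hZA' ▸ ha)
  intro x hx
  exact h49_stab_step A hAp _ x hcA hccop (h49_index_p_step A P hAn hAidx k hkP hkA x hx)

end Cfsg.Agent.Lib.helper49.TV
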