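/-
Shared lemmas (helper49): restriction of scalars from a finite field `K` with `q²` elements to a field
`F` with `q` elements; transport of matrix groups over `K` to matrix groups over `F` along an additive
bijection `(ι → F) ≃+ (Fin m → K)` that is semilinear for the embedding `F → K`.
-/
import Mathlib
import Cfsg.Prelude.Def_Classical
import Cfsg.Prelude.Def_LieClassical
import Cfsg.Agent.Lib.helper50.FiniteFieldEmb
import Cfsg.Agent.Lib.helper17.Herm

set_option autoImplicit false

namespace Cfsg.Agent.Lib.helper49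

open Matrix

section FieldData

variable {K F : Type*} [Field K] [Fintype K] [Field F] [Fintype F] {q : ℕ}

/-- The embedding `F → K`, the involutory automorphism `σ = (· ^ q)` of `K`, an element `β` not fixed
by `σ`; the fixed field of `σ` is the image of `F`. -/
theorem exists_field_data (hK : Fintype.card K = q ^ 2) (hF : Fintype.card F = q) :
    ∃ (i : F →+* K) (σ : K →+* K) (β : K), (∀ x, σ x = x ^ q) ∧ (∀ x, σ (σ x) = x) ∧
      (∀ a, σ (i a) = i a) ∧ σ β ≠ β ∧ (∀ z, σ z = z → ∃ a, i a = z) := by
  classical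
  obtain ⟨i⟩ := Cfsg.Agent.Lib.helper50.exists_ringHom_of_card_sq hF hK
  obtain ⟨σ, hσ⟩ := Cfsg.Agent.Lib.helper17.exists_frob hK
  have hq2 : 2 ≤ q := Cfsg.Agent.Lib.helper17.two_le_of_card_eq_sq hK
  have hσσ : ∀ x, σ (σ x) = x := fun x => by
    rw [hσ, hσ]
    exact Cfsg.Agent.Lib.helper17.pow_q_pow_q hK x
  have hσi : ∀ a, σ (i a) = i a := fun a => by
    rw [hσ, ← map_pow, ← hF, FiniteField.pow_card]
  let S : Finset K := Finset.univ.filter (fun z => σ z = z)
  have hS_le : S.card ≤ q := by
    have hp : (Polynomial.X ^ q - Polynomial.X : Polynomial K) ≠ 0 :=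
      FiniteField.X_pow_card_sub_X_ne_zero K (by omega)
    have hsub : S ⊆ (Polynomial.X ^ q - Polynomial.X : Polynomial K).roots.toFinset := by
      intro z hz
      rw [Multiset.mem_toFinset, Polynomial.mem_roots hp]
      simp only [S, Finset.mem_filter, Finset.mem_univ, true_and] at hz
      simp [Polynomial.IsRoot, ← hσ, hz]
    calc S.card ≤ (Polynomial.X ^ q - Polynomial.X : Polynomial K).roots.toFinset.card :=
          Finset.card_le_card hsub
      _ ≤ Multiset.card (Polynomial.X ^ q - Polynomial.X : Polynomial K).roots :=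
          Multiset.toFinset_card_le _
      _ ≤ (Polynomial.X ^ q - Polynomial.X : Polynomial K).natDegree := Polynomial.card_roots' _
      _ = q := FiniteField.X_pow_card_sub_X_natDegree_eq K (by omega)
  have hI : (Finset.univ.image i) ⊆ S := by
    intro z hz
    obtain ⟨a, -, rfl⟩ := Finset.mem_image.mp hz
    simp [S, hσi]
  have hIcard : (Finset.univ.image i).card = q := by
    rw [Finset.card_image_of_injective _ i.injective, Finset.card_univ, hF]
  have hSeq : Finset.univ.image i = S :=
    Finset.eq_of_subset_of_card_le hI (by rw [hIcard]; exact hS_le)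
  obtain ⟨β, hβ⟩ : ∃ β : K, β ∉ S := by
    by_contra hcon
    have hall : ∀ β : K, β ∈ S := fun β => by_contra (fun h => hcon ⟨β, h⟩)
    have hSu : S = Finset.univ := Finset.eq_univ_iff_forall.mpr hall
    have h1 : S.card = q ^ 2 := by rw [hSu, Finset.card_univ, hK]
    have : q < q ^ 2 := by nlinarith
    omega
  refine ⟨i, σ, β, hσ, hσσ, hσi, ?_, ?_⟩
  · intro h
    exact hβ (by simp [S, h])
  · intro z hz
    have hzS : z ∈ S := by simp [S, hz]
    rw [← hSeq] at hzS
    obtain ⟨a, -, ha⟩ := Finset.mem_image.mp hzS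
    exact ⟨a, ha⟩

end FieldData


section Transport

set_option linter.unusedSectionVars false

variable {K F : Type*} [Field K] [Field F] {n ι : Type*} [Fintype n] [DecidableEq n] [Fintype ι]
  [DecidableEq ι] (i : F →+* K) (Ψ : (ι → F) ≃+ (n → K))
  (hΨ : ∀ (c : F) (x : ι → F), Ψ (c • x) = i c • Ψ x)

/-- The `F`-linear map on `ι → F` corresponding to the matrix `M` over `K` under the identification `Ψ`. -/
def resLin (M : Matrix n n K) : (ι → F) →ₗ[F] (ι → F) where
  toFun x := Ψ.symm (M *ᵥ Ψ x)
  map_add' x y := by rw [map_add, Matrix.mulVec_add, map_add]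
  map_smul' c x := by
    apply Ψ.injective
    show Ψ (Ψ.symm (M *ᵥ Ψ (c • x))) = Ψ (c • Ψ.symm (M *ᵥ Ψ x))
    rw [AddEquiv.apply_symm_apply, hΨ, hΨ, AddEquiv.apply_symm_apply, Matrix.mulVec_smul]

theorem resLin_apply (M : Matrix n n K) (x : ι → F) : resLin i Ψ hΨ M x = Ψ.symm (M *ᵥ Ψ x) := rfl

/-- Restriction of scalars of matrices along `Ψ`, as a monoid homomorphism. -/
def resHom : Matrix n n K →* Matrix ι ι F where
  toFun M := LinearMap.toMatrix' (resLin i Ψ hΨ M)
  map_one' := by
    have h : resLin i Ψ hΨ 1 = LinearMap.id := by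
      apply LinearMap.ext
      intro x
      rw [resLin_apply, Matrix.one_mulVec, AddEquiv.symm_apply_apply, LinearMap.id_apply]
    rw [h, LinearMap.toMatrix'_id]
  map_mul' M N := by
    have h : resLin i Ψ hΨ (M * N) = (resLin i Ψ hΨ M).comp (resLin i Ψ hΨ N) := by
      apply LinearMap.ext
      intro x
      rw [LinearMap.comp_apply, resLin_apply, resLin_apply, resLin_apply, AddEquiv.apply_symm_apply,
        Matrix.mulVec_mulVec]
    rw [h, LinearMap.toMatrix'_comp]

theorem resHom_mulVec (M : Matrix n n K) (x : ι → F) : Ψ (resHom i Ψ hΨ M *ᵥ x) = M *ᵥ Ψ x := by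
  show Ψ (LinearMap.toMatrix' (resLin i Ψ hΨ M) *ᵥ x) = _
  rw [← Matrix.toLin'_apply, Matrix.toLin'_toMatrix', resLin_apply, AddEquiv.apply_symm_apply]

theorem resHom_injective : Function.Injective (resHom i Ψ hΨ) := by
  intro M N h
  apply Matrix.toLin'.injective
  apply LinearMap.ext
  intro v
  obtain ⟨x, rfl⟩ := Ψ.surjective v
  rw [Matrix.toLin'_apply, Matrix.toLin'_apply, ← resHom_mulVec i Ψ hΨ, ← resHom_mulVec i Ψ hΨ, h]

end Transport

section Pair

variable {K F : Type*} [Field K] [Fintype K] [Field F] [Fintype F] {q : ℕ}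

/-- For `ρ ∈ K` not fixed by `σ`, the map `(a, b) ↦ i a + i b * ρ` is a bijection `F × F → K`. -/
theorem pair_bijective (hK : Fintype.card K = q ^ 2) (hF : Fintype.card F = q) (i : F →+* K)
    (σ : K →+* K) (hσi : ∀ a, σ (i a) = i a) (ρ : K) (hρ : σ ρ ≠ ρ) :
    Function.Bijective (fun p : F × F => i p.1 + i p.2 * ρ) := by
  rw [Fintype.bijective_iff_injective_and_card]
  refine ⟨?_, by rw [Fintype.card_prod, hF, hK, sq]⟩
  rintro ⟨a, b⟩ ⟨a', b'⟩ h
  simp only at h
  have hb : b = b' := by
    by_contra hb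
    have hne : i (b - b') ≠ 0 := (map_ne_zero i).mpr (sub_ne_zero.mpr hb)
    have h1 : ρ = i ((a' - a) / (b - b')) := by
      rw [map_div₀, eq_div_iff hne, map_sub, map_sub]
      linear_combination h
    exact hρ (by rw [h1, hσi])
  subst hb
  have h1 : i a = i a' := add_right_cancel h
  rw [i.injective h1]

/-- The additive bijection `(a, b) ↦ i a + i b * ρ`. -/
noncomputable def pairEquiv (hK : Fintype.card K = q ^ 2) (hF : Fintype.card F = q) (i : F →+* K)
    (σ : K →+* K) (hσi : ∀ a, σ (i a) = i a) (ρ : K) (hρ : σ ρ ≠ ρ) : (F × F) ≃+ K :=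
  AddEquiv.ofBijective
    ({ toFun := fun p => i p.1 + i p.2 * ρ
       map_zero' := by simp
       map_add' := fun p p' => by
        simp only [Prod.fst_add, Prod.snd_add, map_add]
        ring } : F × F →+ K)
    (pair_bijective hK hF i σ hσi ρ hρ)

theorem pairEquiv_apply (hK : Fintype.card K = q ^ 2) (hF : Fintype.card F = q) (i : F →+* K)
    (σ : K →+* K) (hσi : ∀ a, σ (i a) = i a) (ρ : K) (hρ : σ ρ ≠ ρ) (p : F × F) :
    pairEquiv hK hF i σ hσi ρ hρ p = i p.1 + i p.2 * ρ := rfl

end Pair

section PsiOne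

variable {K F : Type*} [Field K] [Field F] {n : Type*}

/-- Coordinatewise application of an additive bijection `F × F ≃+ K`. -/
def psiOne (e : (F × F) ≃+ K) (n : Type*) : (n ⊕ n → F) ≃+ (n → K) where
  toFun x := fun j => e (x (Sum.inl j), x (Sum.inr j))
  invFun v := Sum.elim (fun j => (e.symm (v j)).1) (fun j => (e.symm (v j)).2)
  left_inv x := by
    funext k
    rcases k with j | j <;> simp
  right_inv v := by
    funext j
    simp
  map_add' x y := by
    funext j
    simp only [Pi.add_apply]
    rw [← map_add]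
    rfl

theorem psiOne_apply (e : (F × F) ≃+ K) (x : n ⊕ n → F) (j : n) :
    psiOne e n x j = e (x (Sum.inl j), x (Sum.inr j)) := rfl

theorem psiOne_smul (i : F →+* K) (e : (F × F) ≃+ K) (he : ∀ (c : F) (p : F × F), e (c • p) = i c * e p)
    (c : F) (x : n ⊕ n → F) : psiOne e n (c • x) = i c • psiOne e n x := by
  funext j
  rw [Pi.smul_apply, psiOne_apply, psiOne_apply, smul_eq_mul, ← he]
  rfl

end PsiOne


section GUHom

variable {K F : Type*} [Field K] [Field F] {m q : ℕ} {ι : Type} [Fintype ι] [DecidableEq ι]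

/-- If the Hermitian norm `h(v, v)` corresponds to the function `Q₀` under a semilinear identification
`Ψ : F^ι ≃ K^m`, then `GU_m(q)` embeds in the isometry group of `Q₀`. -/
theorem exists_gu_hom_isometry (i : F →+* K) (Ψ : (ι → F) ≃+ (Fin m → K))
    (hΨ : ∀ (c : F) (x : ι → F), Ψ (c • x) = i c • Ψ x) (Q₀ : (ι → F) → F)
    (hQ : ∀ x, Cfsg.hermForm m K q (Ψ x) (Ψ x) = i (Q₀ x)) :
    ∃ φ : ↥(Cfsg.GU m K q) →* ↥(Cfsg.isometryGroup F Q₀), Function.Injective φ := by
  have hmem : ∀ g : ↥(Cfsg.GU m K q),
      ((Units.map (resHom i Ψ hΨ)).comp (Cfsg.GU m K q).subtype) g ∈ Cfsg.isometryGroup F Q₀ := by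
    intro g u v
    show Q₀ (resHom i Ψ hΨ g.1.1 *ᵥ u) = Q₀ u
    apply i.injective
    rw [← hQ, ← hQ, resHom_mulVec]
    exact g.2 (Ψ u) (Ψ u)
  refine ⟨((Units.map (resHom i Ψ hΨ)).comp (Cfsg.GU m K q).subtype).codRestrict _ hmem, ?_⟩
  intro g g' h
  have h1 : Units.map (resHom i Ψ hΨ) g.1 = Units.map (resHom i Ψ hΨ) g'.1 := congrArg Subtype.val h
  have h2 : resHom i Ψ hΨ g.1.1 = resHom i Ψ hΨ g'.1.1 := congrArg Units.val h1
  apply Subtype.ext
  apply Units.ext
  exact resHom_injective i Ψ hΨ h2

end GUHom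

section BasisForm

variable {F : Type*} [Field F] {V : Type*} [AddCommGroup V] [Module F V] {κ : Type*} [Fintype κ]
  [DecidableEq κ]

/-- A quadratic form is determined by its values and its polar values on a basis. -/
theorem quad_eq_of_basis (Q : QuadraticForm F V) (b : Module.Basis κ F V)
    (Q₂ : QuadraticForm F (κ → F)) (h1 : ∀ k, Q (b k) = Q₂ (Pi.single k 1))
    (h2 : ∀ k l, QuadraticMap.polar Q (b k) (b l)
      = QuadraticMap.polar Q₂ (Pi.single k 1) (Pi.single l 1))
    (c : κ → F) : Q (b.equivFun.symm c) = Q₂ c := by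
  have hB : LinearMap.BilinForm.comp (QuadraticMap.polarBilin Q) (b.equivFun.symm : (κ → F) →ₗ[F] V)
      (b.equivFun.symm : (κ → F) →ₗ[F] V) = QuadraticMap.polarBilin Q₂ := by
    apply LinearMap.BilinForm.ext_basis (Pi.basisFun F κ)
    intro k l
    rw [LinearMap.BilinForm.comp_apply, Pi.basisFun_apply, Pi.basisFun_apply]
    simp only [LinearEquiv.coe_coe, Basis.equivFun_symm_single,
      QuadraticMap.polarBilin_apply_apply]
    exact h2 k l
  have hpol : ∀ x y : κ → F, QuadraticMap.polar Q (b.equivFun.symm x) (b.equivFun.symm y)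
      = QuadraticMap.polar Q₂ x y := by
    intro x y
    have := congrArg (fun B : LinearMap.BilinForm F (κ → F) => B x y) hB
    exact this
  have key : ∀ s : Finset κ, Q (b.equivFun.symm (∑ k ∈ s, Pi.single k (c k)))
      = Q₂ (∑ k ∈ s, Pi.single k (c k)) := by
    intro s
    induction s using Finset.induction_on with
    | empty => simp
    | insert k s hk ih =>
      rw [Finset.sum_insert hk, map_add, QuadraticMap.map_add Q, QuadraticMap.map_add Q₂, ih, hpol]
      congr 2
      have e : (Pi.single k (c k) : κ → F) = c k • Pi.single k 1 := by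
        rw [← Pi.single_smul, smul_eq_mul, mul_one]
      rw [e, map_smul, QuadraticMap.map_smul, QuadraticMap.map_smul, Basis.equivFun_symm_single,
        h1]
  have hc : ∑ k, Pi.single k (c k) = c := Finset.univ_sum_single c
  rw [← hc]
  exact key Finset.univ

end BasisForm

section NormForm

variable {F : Type*} [Field F] (m : ℕ) (t n : F)

/-- The quadratic form `Σ_j (x_j² + t x_j y_j + n y_j²)` on `F^(2m)`. -/
def normForm : QuadraticForm F (Fin m ⊕ Fin m → F) :=
  ∑ j : Fin m, (QuadraticMap.linMulLin (LinearMap.proj (Sum.inl j)) (LinearMap.proj (Sum.inl j))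
    + t • QuadraticMap.linMulLin (LinearMap.proj (Sum.inl j)) (LinearMap.proj (Sum.inr j))
    + n • QuadraticMap.linMulLin (LinearMap.proj (Sum.inr j)) (LinearMap.proj (Sum.inr j)))

theorem normForm_apply (x : Fin m ⊕ Fin m → F) : normForm m t n x
    = ∑ j, (x (Sum.inl j) * x (Sum.inl j) + t * (x (Sum.inl j) * x (Sum.inr j))
        + n * (x (Sum.inr j) * x (Sum.inr j))) := by
  simp [normForm]

theorem polar_normForm (x y : Fin m ⊕ Fin m → F) : QuadraticMap.polar (normForm m t n) x y
    = ∑ j, (2 * (x (Sum.inl j) * y (Sum.inl j))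
        + t * (x (Sum.inl j) * y (Sum.inr j) + x (Sum.inr j) * y (Sum.inl j))
        + 2 * n * (x (Sum.inr j) * y (Sum.inr j))) := by
  simp only [QuadraticMap.polar, normForm_apply, Pi.add_apply, ← Finset.sum_sub_distrib]
  refine Finset.sum_congr rfl (fun j _ => ?_)
  ring

theorem nondegenerate_normForm (h : t * t - 4 * n ≠ 0) :
    (QuadraticMap.polarBilin (normForm m t n)).Nondegenerate := by
  classical
  have key : ∀ x : Fin m ⊕ Fin m → F,
      (∀ y, QuadraticMap.polar (normForm m t n) x y = 0) → x = 0 := by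
    intro x hx
    have h1 : ∀ j, 2 * x (Sum.inl j) + t * x (Sum.inr j) = 0 := by
      intro j
      have := hx (Pi.single (Sum.inl j) 1)
      rw [polar_normForm, Finset.sum_eq_single j] at this
      · simpa using this
      · intro j' _ hj'
        simp [hj']
      · simp
    have h2 : ∀ j, t * x (Sum.inl j) + 2 * n * x (Sum.inr j) = 0 := by
      intro j
      have := hx (Pi.single (Sum.inr j) 1)
      rw [polar_normForm, Finset.sum_eq_single j] at this
      · simpa using this
      · intro j' _ hj'
        simp [hj']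
      · simp
    funext k
    rcases k with j | j
    · have h3 : (t * t - 4 * n) * x (Sum.inl j) = 0 := by
        linear_combination (-2 * n) * h1 j + t * h2 j
      exact (mul_eq_zero.mp h3).resolve_left h
    · have h3 : (t * t - 4 * n) * x (Sum.inr j) = 0 := by
        linear_combination t * h1 j - 2 * h2 j
      exact (mul_eq_zero.mp h3).resolve_left h
  constructor
  · intro x hx
    exact key x (fun y => by simpa using hx y)
  · intro y hy
    exact key y (fun x => by
      have := hy x
      rw [QuadraticMap.polarBilin_apply_apply, QuadraticMap.polar_comm] at this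
      exact this)

end NormForm


section FieldDataHom

variable {K F : Type*} [Field K] [Fintype K] [Field F] [Fintype F] {q : ℕ}

/-- Version of `exists_field_data` for a given embedding `i : F → K`. -/
theorem exists_field_data_of_hom (hK : Fintype.card K = q ^ 2) (hF : Fintype.card F = q)
    (i : F →+* K) :
    ∃ (σ : K →+* K) (β : K), (∀ x, σ x = x ^ q) ∧ (∀ x, σ (σ x) = x) ∧
      (∀ a, σ (i a) = i a) ∧ σ β ≠ β ∧ (∀ z, σ z = z → ∃ a, i a = z) := by
  classical
  obtain ⟨σ, hσ⟩ := Cfsg.Agent.Lib.helper17.exists_frob hK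
  have hq2 : 2 ≤ q := Cfsg.Agent.Lib.helper17.two_le_of_card_eq_sq hK
  have hσσ : ∀ x, σ (σ x) = x := fun x => by
    rw [hσ, hσ]
    exact Cfsg.Agent.Lib.helper17.pow_q_pow_q hK x
  have hσi : ∀ a, σ (i a) = i a := fun a => by
    rw [hσ, ← map_pow, ← hF, FiniteField.pow_card]
  let S : Finset K := Finset.univ.filter (fun z => σ z = z)
  have hS_le : S.card ≤ q := by
    have hp : (Polynomial.X ^ q - Polynomial.X : Polynomial K) ≠ 0 :=
      FiniteField.X_pow_card_sub_X_ne_zero K (by omega)
    have hsub : S ⊆ (Polynomial.X ^ q - Polynomial.X : Polynomial K).roots.toFinset := by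
      intro z hz
      rw [Multiset.mem_toFinset, Polynomial.mem_roots hp]
      simp only [S, Finset.mem_filter, Finset.mem_univ, true_and] at hz
      simp [Polynomial.IsRoot, ← hσ, hz]
    calc S.card ≤ (Polynomial.X ^ q - Polynomial.X : Polynomial K).roots.toFinset.card :=
          Finset.card_le_card hsub
      _ ≤ Multiset.card (Polynomial.X ^ q - Polynomial.X : Polynomial K).roots :=
          Multiset.toFinset_card_le _
      _ ≤ (Polynomial.X ^ q - Polynomial.X : Polynomial K).natDegree := Polynomial.card_roots' _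
      _ = q := FiniteField.X_pow_card_sub_X_natDegree_eq K (by omega)
  have hI : (Finset.univ.image i) ⊆ S := by
    intro z hz
    obtain ⟨a, -, rfl⟩ := Finset.mem_image.mp hz
    simp [S, hσi]
  have hIcard : (Finset.univ.image i).card = q := by
    rw [Finset.card_image_of_injective _ i.injective, Finset.card_univ, hF]
  have hSeq : Finset.univ.image i = S :=
    Finset.eq_of_subset_of_card_le hI (by rw [hIcard]; exact hS_le)
  obtain ⟨β, hβ⟩ : ∃ β : K, β ∉ S := by
    by_contra hcon
    have hall : ∀ β : K, β ∈ S := fun β => by_contra (fun h => hcon ⟨β, h⟩)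
    have hSu : S = Finset.univ := Finset.eq_univ_iff_forall.mpr hall
    have h1 : S.card = q ^ 2 := by rw [hSu, Finset.card_univ, hK]
    have : q < q ^ 2 := by nlinarith
    omega
  refine ⟨σ, β, hσ, hσσ, hσi, ?_, ?_⟩
  · intro h
    exact hβ (by simp [S, h])
  · intro z hz
    have hzS : z ∈ S := by simp [S, hz]
    rw [← hSeq] at hzS
    obtain ⟨a, -, ha⟩ := Finset.mem_image.mp hzS
    exact ⟨a, ha⟩

end FieldDataHom

end Cfsg.Agent.Lib.helper49
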