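import Cfsg.Agent.Lib.helper81.WTDefs

set_option autoImplicit false

namespace Cfsg.Agent.Lib.helper81.WT

open scoped TensorProduct

universe u v w

/-- [CNT1] an orbit of a 2-group has 2-power size -/
theorem card_orb {S : Type u} [Group S] [Finite S] {F : Type w} [Field F] [Finite F]
    (Y : Subgroup S) [Y.Normal]
    (T : Subgroup S) (hT : IsPGroup 2 ↥T) (μ : ↥Y →* Fˣ) :
    ∃ c : ℕ, Nat.card ↥(orb Y T μ) = 2 ^ c := by
  classical
  have : Fact (Nat.Prime 2) := ⟨Nat.prime_two⟩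
  letI act : MulAction ↥T (↥Y →* Fˣ) :=
    { smul := fun t ν => cj Y (t : S) ν
      one_smul := fun ν => cj_one Y ν
      mul_smul := fun a b ν => cj_mul Y (a : S) (b : S) ν }
  have hset : orb Y T μ = MulAction.orbit ↥T μ := by
    ext ν
    constructor
    · rintro ⟨t, ht, rfl⟩
      exact ⟨⟨t, ht⟩, rfl⟩
    · rintro ⟨t, rfl⟩
      exact ⟨t, t.2, rfl⟩
  rw [hset]
  haveI : Finite ↥(MulAction.orbit ↥T μ) := Set.finite_range _
  exact hT.card_orbit μ

end Cfsg.Agent.Lib.helper81.WT
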