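import Cfsg.Agent.Lib.helper81.WTDefs

set_option autoImplicit false

namespace Cfsg.Agent.Lib.helper81.WT

open scoped TensorProduct

universe u v w

/-- [E2] a finite field of characteristic 2 with enough n-th roots of unity (n odd) -/
theorem exists_field (n : ℕ) (hn : Odd n) :
    ∃ (F : Type) (_ : Field F) (_ : Algebra (ZMod 2) F),
      Finite F ∧ CharP F 2 ∧ HasEnoughRootsOfUnity F n := by
  have : Fact (Nat.Prime 2) := ⟨Nat.prime_two⟩
  have hn0 : n ≠ 0 := by rintro rfl; exact absurd hn (by decide)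
  have hk0 : Nat.totient n ≠ 0 := by
    have := Nat.totient_pos.mpr (Nat.pos_of_ne_zero hn0); omega
  set k := Nat.totient n with hk
  refine ⟨GaloisField 2 k, inferInstance, inferInstance, inferInstance, inferInstance, ?_⟩
  have hcard : Nat.card (GaloisField 2 k) = 2 ^ k := GaloisField.card 2 k hk0
  haveI : Fintype (GaloisField 2 k) := Fintype.ofFinite _
  have hcard' : Fintype.card (GaloisField 2 k) = 2 ^ k := by
    rw [← Nat.card_eq_fintype_card]; exact hcard
  have hN1 : 1 ≤ 2 ^ k - 1 := by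
    have : 2 ^ 1 ≤ 2 ^ k := Nat.pow_le_pow_right (by norm_num) (Nat.pos_of_ne_zero hk0)
    omega
  have : NeZero (2 ^ k - 1) := ⟨by omega⟩
  have hdvd : n ∣ 2 ^ k - 1 := by
    have hcop : Nat.Coprime 2 n := (Nat.Prime.coprime_iff_not_dvd Nat.prime_two).mpr (by
      intro h2; exact (Nat.not_even_iff_odd.mpr hn) (even_iff_two_dvd.mpr h2))
    have h := Nat.ModEq.pow_totient hcop
    exact (Nat.modEq_iff_dvd' (Nat.one_le_two_pow)).mp h.symm
  have htop : rootsOfUnity (2 ^ k - 1) (GaloisField 2 k) = ⊤ := by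
    ext x
    simp only [mem_rootsOfUnity, Subgroup.mem_top, iff_true]
    have h1 := FiniteField.pow_card_sub_one_eq_one (x : GaloisField 2 k) (Units.ne_zero x)
    rw [hcard'] at h1
    apply Units.ext
    rw [Units.val_pow_eq_pow_val, Units.val_one]
    exact h1
  have : HasEnoughRootsOfUnity (GaloisField 2 k) (2 ^ k - 1) := by
    refine HasEnoughRootsOfUnity.of_card_le ?_
    have h2 := Nat.card_congr (MulEquiv.subgroupCongr htop).toEquiv
    rw [h2]
    have h3 : Nat.card (⊤ : Subgroup (GaloisField 2 k)ˣ) = Nat.card (GaloisField 2 k)ˣ :=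
      Nat.card_congr Subgroup.topEquiv.toEquiv
    rw [h3, Nat.card_units, hcard]
  exact HasEnoughRootsOfUnity.of_dvd (GaloisField 2 k) hdvd

end Cfsg.Agent.Lib.helper81.WT
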